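import Cfsg.Agent.Lib.Helper4.Suz9

set_option autoImplicit false

namespace Cfsg.Agent.Lib.Helper4
namespace Suz

open Matrix
open scoped Pointwise
open scoped commutatorElement

theorem transfer_props {A B : Type*} [Group A] [Group B] (e : A ≃* B) (q : ℕ)
    (h : Nat.card B = q ^ 2 ∧ Monoid.exponent B = 4 ∧ Subgroup.center B = commutator B ∧
      Nat.card (Subgroup.center B) = q) :
    Nat.card A = q ^ 2 ∧ Monoid.exponent A = 4 ∧ Subgroup.center A = commutator A ∧
      Nat.card (Subgroup.center A) = q := by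
  obtain ⟨h1, h2, h3, h4⟩ := h
  refine ⟨by rw [Nat.card_congr e.toEquiv, h1], by rw [Monoid.exponent_eq_of_mulEquiv e, h2], ?_,
    by rw [Nat.card_congr (Subgroup.centerCongr e).toEquiv, h4]⟩
  have hmapc : Subgroup.map e.toMonoidHom (commutator A) = commutator B := by
    rw [commutator_def, commutator_def, Subgroup.map_commutator, ← MonoidHom.range_eq_map,
      MonoidHom.range_eq_top.2 e.surjective]
  ext x
  constructor
  · intro hx
    have h5 : e x ∈ Subgroup.center B := by
      rw [Subgroup.mem_center_iff] at hx ⊢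
      intro g
      obtain ⟨g', rfl⟩ := e.surjective g
      rw [← map_mul, ← map_mul, hx g']
    rw [h3, ← hmapc] at h5
    obtain ⟨y, hy, hyx⟩ := h5
    have hyx' : y = x := e.injective hyx
    rw [← hyx']
    exact hy
  · intro hx
    have h5 : e x ∈ commutator B := by
      rw [← hmapc]
      exact ⟨x, hx, rfl⟩
    rw [← h3, Subgroup.mem_center_iff] at h5
    rw [Subgroup.mem_center_iff]
    intro g
    apply e.injective
    rw [map_mul, map_mul, h5 (e g)]

variable {F : Type*} [Field F] (D : Dat F)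

theorem Dat.sylow2 [Fintype F] (hI : D.Indep) (k0 : F) (hk0 : k0 ≠ 0) (hk1 : k0 ≠ 1) (n : ℕ)
    (hq : Fintype.card F = 2 ^ (n + 1)) (P : Sylow 2 D.G) :
    Nat.card P = Fintype.card F ^ 2 ∧ Monoid.exponent P = 4 ∧
      Subgroup.center P = commutator P ∧ Nat.card (Subgroup.center P) = Fintype.card F := by
  classical
  have hU : Nat.card (D.U hI) = Fintype.card F ^ 2 ∧ Monoid.exponent (D.U hI) = 4 ∧
      Subgroup.center (D.U hI) = commutator (D.U hI) ∧
      Nat.card (Subgroup.center (D.U hI)) = Fintype.card F :=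
    ⟨D.card_U hI, D.exponent_U hI, D.center_eq_comm_U hI k0 hk0 hk1,
      D.card_center_U hI k0 hk0 hk1⟩
  have hUG := transfer_props (Subgroup.subgroupOfEquivOfLe (D.U_le_G hI)) _ hU
  have hp : IsPGroup 2 ((D.U hI).subgroupOf D.G) := by
    apply IsPGroup.of_card (n := 2 * (n + 1))
    rw [hUG.1, hq, ← pow_mul]
    congr 1
    ring
  obtain ⟨Q, hQ⟩ := hp.exists_le_sylow
  have hQc : Nat.card (Q : Subgroup D.G) ≤ Fintype.card F ^ 2 := by
    obtain ⟨j, hj⟩ := IsPGroup.iff_card.1 Q.isPGroup'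
    have hdvd : Nat.card (Q : Subgroup D.G) ∣ Nat.card D.G := Subgroup.card_subgroup_dvd_card _
    rw [hj, D.card_G hI, hq] at hdvd
    have hodd1 : Odd ((2 ^ (n + 1)) ^ 2 + 1) := ⟨2 * (2 ^ n) ^ 2, by ring⟩
    have hodd2 : Odd (2 ^ (n + 1) - 1) := by
      have h1 : 1 ≤ 2 ^ n := Nat.one_le_two_pow
      refine ⟨2 ^ n - 1, ?_⟩
      rw [pow_succ]
      omega
    have c1 : Nat.Coprime (2 ^ j) ((2 ^ (n + 1)) ^ 2 + 1) :=
      Nat.Coprime.pow_left j (Nat.coprime_two_left.2 hodd1)
    have c2 : Nat.Coprime (2 ^ j) (2 ^ (n + 1) - 1) :=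
      Nat.Coprime.pow_left j (Nat.coprime_two_left.2 hodd2)
    have d1 := c1.dvd_of_dvd_mul_left hdvd
    have d2 := c2.dvd_of_dvd_mul_right d1
    rw [hj, hq]
    exact Nat.le_of_dvd (by positivity) d2
  have hQeq : (D.U hI).subgroupOf D.G = (Q : Subgroup D.G) :=
    Subgroup.eq_of_le_of_card_ge hQ (by rw [hUG.1]; exact hQc)
  exact transfer_props ((Sylow.equiv P Q).trans (MulEquiv.subgroupCongr hQeq.symm)) _ hUG

end Suz
end Cfsg.Agent.Lib.Helper4
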