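import Cfsg.Agent.Lib.Helper4.Suz2

set_option autoImplicit false

namespace Cfsg.Agent.Lib.Helper4
namespace Suz

open Matrix
open scoped Pointwise

variable {F : Type*} [Field F] (D : Dat F)

theorem Dat.h_mul (k k' : Fˣ) : D.h (k * k') = D.h k * D.h k' := by
  have h1 := D.τ_ne k
  have h2 := D.τ_ne k'
  have h3 := k.ne_zero
  have h4 := k'.ne_zero
  apply Subtype.ext
  show D.hMat (k * k') = D.hMat k * D.hMat k'
  ext i j
  fin_cases i <;> fin_cases j <;>
    simp [Dat.hMat, Matrix.mul_apply, Fin.sum_univ_four] <;> ring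

theorem Dat.h_inj {k k' : Fˣ} (h : D.h k = D.h k') : k = k' := by
  have e := congrFun (congrFun (congrArg Subtype.val h) 1) 1
  simp [Dat.h, Dat.hMat] at e
  exact Units.ext (D.τ.injective e)

theorem Dat.h_zero (k : Fˣ) : D.h k • D.pt 0 0 = D.pt 0 0 := by
  rw [D.h_pt]
  simp

theorem Dat.stab_inf [Finite F] (hI : D.Indep) {g : SpecialLinearGroup (Fin 4) F} (hg : g ∈ D.G)
    (h1 : g • inf F = inf F) : ∃ a b k, g = D.u a b * D.h k := by
  rcases D.smul_mem hg (D.pt_mem 0 0) with e | ⟨a, b, e⟩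
  · exfalso
    rw [← h1] at e
    exact D.pt_ne_inf 0 0 (MulAction.injective g e)
  · obtain ⟨k, hk⟩ := D.stab2 hI (g := (D.u a b)⁻¹ * g)
      (D.G.mul_mem (D.G.inv_mem (D.u_mem a b)) hg)
      (by rw [mul_smul, h1, inv_smul_eq_iff, D.u_inf])
      (by rw [mul_smul, e, inv_smul_eq_iff, D.u_zero])
    exact ⟨a, b, k, by rw [← hk]; group⟩

theorem Dat.cases [Finite F] (hI : D.Indep) {g : SpecialLinearGroup (Fin 4) F} (hg : g ∈ D.G) :
    (∃ a b k, g = D.u a b * D.h k) ∨ (∃ a b c d k, g = D.u a b * w F * D.u c d * D.h k) := by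
  rcases D.smul_mem hg D.inf_mem with e | ⟨a, b, e⟩
  · exact Or.inl (D.stab_inf hI hg e)
  · right
    obtain ⟨c, d, k, hk⟩ := D.stab_inf hI (g := (D.u a b * w F)⁻¹ * g)
      (D.G.mul_mem (D.G.inv_mem (D.G.mul_mem (D.u_mem a b) D.w_mem)) hg)
      (by rw [mul_smul, e, inv_smul_eq_iff, mul_smul, D.w_inf, D.u_zero])
    refine ⟨a, b, c, d, k, ?_⟩
    rw [mul_assoc (D.u a b * w F), ← hk]
    group

theorem Dat.uh_inf (a b : F) (k : Fˣ) : (D.u a b * D.h k) • inf F = inf F := by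
  rw [mul_smul, D.h_inf, D.u_inf]

theorem Dat.uh_mem [Finite F] (a b : F) (k : Fˣ) : D.u a b * D.h k ∈ D.G :=
  D.G.mul_mem (D.u_mem a b) (D.h_mem k)

theorem Dat.uh_inj {a b a' b' : F} {k k' : Fˣ} (h : D.u a b * D.h k = D.u a' b' * D.h k') :
    a = a' ∧ b = b' ∧ k = k' := by
  have e := congrArg (fun g => g • D.pt 0 0) h
  simp only [mul_smul, D.h_zero, D.u_zero] at e
  obtain ⟨rfl, rfl⟩ := D.pt_inj e
  exact ⟨rfl, rfl, D.h_inj (mul_left_cancel h)⟩

theorem Dat.card_stab_inf [Fintype F] (hI : D.Indep) :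
    Nat.card (MulAction.stabilizer D.G (inf F)) =
      Fintype.card F ^ 2 * (Fintype.card F - 1) := by
  classical
  have hbij : Function.Bijective (fun p : (F × F) × Fˣ =>
      (⟨⟨D.u p.1.1 p.1.2 * D.h p.2, D.uh_mem _ _ _⟩, D.uh_inf _ _ _⟩ :
        MulAction.stabilizer D.G (inf F))) := by
    constructor
    · rintro ⟨⟨a, b⟩, k⟩ ⟨⟨a', b'⟩, k'⟩ e
      have e' : D.u a b * D.h k = D.u a' b' * D.h k' :=
        congrArg (fun x : MulAction.stabilizer D.G (inf F) => (x.1.1 :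
          SpecialLinearGroup (Fin 4) F)) e
      obtain ⟨rfl, rfl, rfl⟩ := D.uh_inj e'
      rfl
    · rintro ⟨⟨g, hg⟩, hfix⟩
      obtain ⟨a, b, k, rfl⟩ := D.stab_inf hI hg hfix
      exact ⟨⟨⟨a, b⟩, k⟩, rfl⟩
  rw [← Nat.card_congr (Equiv.ofBijective _ hbij), Nat.card_prod, Nat.card_prod,
    Nat.card_eq_fintype_card, Nat.card_eq_fintype_card, Fintype.card_units]
  ring

theorem Dat.card_ovoid [Fintype F] : D.ovoid.ncard = Fintype.card F ^ 2 + 1 := by
  classical
  let g : Option (F × F) → Projectivization F (Fin 4 → F) := fun o => match o with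
    | none => inf F
    | some p => D.pt p.1 p.2
  have hg : Function.Injective g := by
    rintro (_ | p) (_ | q) h
    · rfl
    · exact absurd h.symm (D.pt_ne_inf _ _)
    · exact absurd h (D.pt_ne_inf _ _)
    · obtain ⟨h1, h2⟩ := D.pt_inj h
      exact congrArg some (Prod.ext h1 h2)
  have hr : Set.range g = D.ovoid := by
    ext P
    constructor
    · rintro ⟨(_ | p), rfl⟩
      · exact D.inf_mem
      · exact D.pt_mem _ _
    · rintro (rfl | ⟨x, y, rfl⟩)
      · exact ⟨none, rfl⟩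
      · exact ⟨some (x, y), rfl⟩
  rw [← Nat.card_coe_set_eq, ← hr, Nat.card_range_of_injective hg, Nat.card_eq_fintype_card,
    Fintype.card_option, Fintype.card_prod]
  ring

theorem Dat.orbit_inf [Finite F] : MulAction.orbit D.G (inf F) = D.ovoid := by
  ext p
  constructor
  · rintro ⟨g, rfl⟩
    exact D.smul_mem g.2 D.inf_mem
  · intro hp
    obtain ⟨g, hg, e⟩ := D.exists_to_inf hp
    refine ⟨⟨g⁻¹, D.G.inv_mem hg⟩, ?_⟩
    show g⁻¹ • inf F = p
    rw [inv_smul_eq_iff, e]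

/-- Orbit-stabiliser, with cardinalities as natural numbers. -/
theorem card_orbit_mul_stab' {G α : Type*} [Group G] [MulAction G α] (p : α) :
    Nat.card G = (MulAction.orbit G p).ncard * Nat.card (MulAction.stabilizer G p) := by
  rw [Subgroup.card_eq_card_quotient_mul_card_subgroup (MulAction.stabilizer G p),
    ← Nat.card_congr (MulAction.orbitEquivQuotientStabilizer G p), Nat.card_coe_set_eq]

theorem Dat.card_G [Fintype F] (hI : D.Indep) :
    Nat.card D.G = (Fintype.card F ^ 2 + 1) * (Fintype.card F ^ 2 * (Fintype.card F - 1)) := by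
  rw [card_orbit_mul_stab' (G := D.G) (inf F), D.orbit_inf, D.card_ovoid, D.card_stab_inf hI]

end Suz
end Cfsg.Agent.Lib.Helper4
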