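import Cfsg.Agent.Lib.Helper4.SuzC
import Cfsg.Agent.Lib.Helper4.Suz3

set_option autoImplicit false

namespace Cfsg.Agent.Lib.Helper4
namespace Suz

open Matrix
open scoped Pointwise

theorem dat_indep {F : Type*} [Field F] [Fintype F] {m : ℕ} (hm : 1 ≤ m)
    (hF : Fintype.card F = 2 ^ (2 * m + 1)) : (dat hF).Indep := by
  classical
  intro A B C E h
  obtain ⟨s, hs⟩ : ∃ s, s = 2 ^ (m + 1) := ⟨_, rfl⟩
  have hs4 : 4 ≤ s := by
    rw [hs]
    calc 4 = 2 ^ 2 := by norm_num
      _ ≤ 2 ^ (m + 1) := Nat.pow_le_pow_right (by norm_num) (by omega)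
  have hq : s + 2 < 2 ^ (2 * m + 1) := by
    have h1 : 2 ^ (2 * m + 1) = s * 2 ^ m := by
      rw [hs, ← pow_add]
      congr 1
      omega
    have h2 : 2 ≤ 2 ^ m := by
      calc 2 = 2 ^ 1 := by norm_num
        _ ≤ 2 ^ m := Nat.pow_le_pow_right (by norm_num) hm
    rw [h1]
    nlinarith
  have hp0 : (Polynomial.C A * Polynomial.X + Polynomial.C B * Polynomial.X ^ 2 +
      Polynomial.C C * Polynomial.X ^ s + Polynomial.C E * Polynomial.X ^ (s + 2) :
      Polynomial F) = 0 := by
    apply Polynomial.eq_zero_of_natDegree_lt_card_of_eval_eq_zero' _ Finset.univ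
    · intro x _
      have := h x
      rw [dat_σ, ← hs] at this
      simp only [Polynomial.eval_add, Polynomial.eval_mul, Polynomial.eval_C, Polynomial.eval_X,
        Polynomial.eval_pow]
      rw [pow_add]
      linear_combination this
    · rw [Finset.card_univ, hF]
      refine lt_of_le_of_lt ?_ hq
      compute_degree
  have cA := congrArg (fun p => Polynomial.coeff p 1) hp0
  have cB := congrArg (fun p => Polynomial.coeff p 2) hp0
  have cC := congrArg (fun p => Polynomial.coeff p s) hp0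
  have cE := congrArg (fun p => Polynomial.coeff p (s + 2)) hp0
  have h12 : (1 : ℕ) ≠ 2 := by omega
  have h1s : (1 : ℕ) ≠ s := by omega
  have h1s2 : (1 : ℕ) ≠ s + 2 := by omega
  have h2s : (2 : ℕ) ≠ s := by omega
  have h2s2 : (2 : ℕ) ≠ s + 2 := by omega
  have hs2 : s ≠ 2 := by omega
  have hss2 : s ≠ s + 2 := by omega
  have hs22 : s + 2 ≠ 2 := by omega
  have hs2s : s + 2 ≠ s := by omega
  simp only [Polynomial.coeff_add, Polynomial.coeff_C_mul, Polynomial.coeff_X,
    Polynomial.coeff_X_pow, Polynomial.coeff_zero] at cA cB cC cE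
  simp only [h12, h1s, h1s2, h2s, h2s2, hs2, hss2, hs22, hs2s, if_true, if_false, mul_one,
    mul_zero, add_zero, zero_add] at cA cB cC cE
  exact ⟨cA, cB, cC, cE⟩

theorem exists_ne01 {F : Type*} [Field F] [Fintype F] {m : ℕ} (hm : 1 ≤ m)
    (hF : Fintype.card F = 2 ^ (2 * m + 1)) : ∃ k : F, k ≠ 0 ∧ k ≠ 1 := by
  classical
  have hcard : ({0, 1} : Finset F).card < (Finset.univ : Finset F).card := by
    rw [Finset.card_univ, hF]
    calc ({0, 1} : Finset F).card ≤ 2 := Finset.card_le_two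
      _ < 2 ^ 3 := by norm_num
      _ ≤ 2 ^ (2 * m + 1) := Nat.pow_le_pow_right (by norm_num) (by omega)
  obtain ⟨k, -, hk⟩ := Finset.exists_mem_notMem_of_card_lt_card hcard
  simp only [Finset.mem_insert, Finset.mem_singleton, not_or] at hk
  exact ⟨k, hk.1, hk.2⟩

end Suz
end Cfsg.Agent.Lib.Helper4
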