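import Cfsg.Agent.Lib.Helper4.GolayOct
import Cfsg.Agent.Lib.Helper4.GolayStab
import Cfsg.Agent.Lib.Helper4.GolayM21
import Cfsg.Prelude.Def_Spor_Mathieu

set_option autoImplicit false

namespace Cfsg.Agent.Lib.Helper4
namespace AutA

open Pointwise Golay

/-- Fixed points of an element of prime order on an invariant set. -/
theorem card_modEq_fixed {α : Type*} [Fintype α] [DecidableEq α] (σ : Equiv.Perm α) (p : ℕ)
    [hp : Fact p.Prime] (hσ : σ ^ p = 1) (X : Finset α) (hX : ∀ x, σ x ∈ X ↔ x ∈ X) :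
    (X.filter (fun x => σ x = x)).card ≡ X.card [MOD p] := by
  have hτ : (σ.subtypePerm hX) ^ p ^ 1 = 1 := by
    rw [pow_one]
    apply Equiv.ext
    intro x
    apply Subtype.ext
    rw [Equiv.Perm.subtypePerm_pow, Equiv.Perm.subtypePerm_apply]
    show (σ ^ p) x.1 = x.1
    rw [hσ]
    rfl
  have h := Equiv.Perm.card_compl_support_modEq (p := p) (n := 1) hτ
  rw [Fintype.card_coe] at h
  have e : (σ.subtypePerm hX).supportᶜ.card = (X.filter (fun x => σ x = x)).card := by
    have : (σ.subtypePerm hX).supportᶜ = X.attach.filter (fun y => σ y.1 = y.1) := by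
      ext y
      simp
    rw [this, Finset.filter_attach (fun x => σ x = x) X, Finset.card_map, Finset.card_attach]
  rw [← e]
  exact h

theorem pt5_inj : Function.Injective (fun i : Fin 5 => pt i.val) := by
  intro i j h
  exact Fin.ext (pt_inj (by omega) (by omega) h)

/-- An element of the group fixing five points has order dividing 48. -/
theorem pow48_of_five_fixed {σ : Equiv.Perm GolayPt} (hσ : σ ∈ M24)
    (h5 : 5 ≤ (Finset.univ.filter (fun x => σ x = x)).card) : σ ^ 48 = 1 := by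
  obtain ⟨t, ht, htc⟩ := Finset.exists_subset_card_eq h5
  let e := (t.equivFinOfCardEq htc).symm
  let x : Fin 5 ↪ GolayPt := e.toEmbedding.trans (Function.Embedding.subtype _)
  have hx : ∀ i, σ (x i) = x i := fun i => (Finset.mem_filter.1 (ht (e i).2)).2
  obtain ⟨h, hh, hmap⟩ := exists_map x ⟨fun i : Fin 5 => pt i.val, pt5_inj⟩
  have hmem : h * σ * h⁻¹ ∈ KK [4, 3, 2, 1, 0] := by
    rw [mem_KK]
    refine ⟨Subgroup.mul_mem _ (Subgroup.mul_mem _ hh hσ) (Subgroup.inv_mem _ hh), ?_⟩
    intro f hf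
    have hf5 : f < 5 := by
      simp only [List.mem_cons, List.not_mem_nil, or_false] at hf
      omega
    have h1 : h (x ⟨f, hf5⟩) = pt f := hmap ⟨f, hf5⟩
    rw [Equiv.Perm.mul_apply, Equiv.Perm.mul_apply, ← h1]
    simp [hx]
  have h48 : (⟨h * σ * h⁻¹, hmem⟩ : KK [4, 3, 2, 1, 0]) ^ 48 = 1 := by
    rw [← card_KK5]
    exact pow_card_eq_one'
  have h48' : (h * σ * h⁻¹) ^ 48 = 1 := congrArg Subtype.val h48
  rw [conj_pow] at h48'
  have : σ ^ 48 = h⁻¹ * (h * σ ^ 48 * h⁻¹) * h := by group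
  rw [this, h48']
  group

theorem fixed_card {σ : Equiv.Perm GolayPt} (hσ : σ ∈ M24) (r : ℕ) [Fact r.Prime]
    (hr : σ ^ r = 1) (h1 : σ ≠ 1) (hr48 : Nat.gcd 48 r = 1) :
    (Finset.univ.filter (fun x => σ x = x)).card < 5 ∧
      (Finset.univ.filter (fun x => σ x = x)).card ≡ 24 [MOD r] := by
  constructor
  · by_contra hlt
    have h48 := pow48_of_five_fixed hσ (not_lt.1 hlt)
    have := pow_gcd_eq_one.2 ⟨h48, hr⟩
    rw [hr48, pow_one] at this
    exact h1 this
  · have := card_modEq_fixed σ r hr Finset.univ (fun x => by simp)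
    rw [Finset.card_univ, card_pts] at this
    exact this

/-- A subgroup of index 23 of the point stabiliser fixes a further point. -/
theorem fix_of_card (K : Subgroup (Equiv.Perm GolayPt)) (hK : K ≤ Cfsg.Spor.M23)
    (hc : Nat.card K = 443520) : ∃ c : GolayPt, c ≠ none ∧ ∀ k ∈ K, k c = c := by
  classical
  have hM : ∀ k ∈ K, k ∈ M24 ∧ k none = none := fun k hk => hK hk
  have : Fact (Nat.Prime 11) := ⟨by norm_num⟩
  have : Fact (Nat.Prime 7) := ⟨by norm_num⟩
  obtain ⟨s, hs⟩ := exists_prime_orderOf_dvd_card' (G := ↥K) 11 (by rw [hc]; norm_num)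
  obtain ⟨u, hu⟩ := exists_prime_orderOf_dvd_card' (G := ↥K) 7 (by rw [hc]; norm_num)
  have hs11 : s.1 ^ 11 = 1 := by
    have := pow_orderOf_eq_one s
    rw [hs] at this
    exact congrArg Subtype.val this
  have hu7 : u.1 ^ 7 = 1 := by
    have := pow_orderOf_eq_one u
    rw [hu] at this
    exact congrArg Subtype.val this
  have hs1 : s.1 ≠ 1 := by
    intro h
    have : s = 1 := Subtype.ext h
    rw [this, orderOf_one] at hs
    omega
  have hu1 : u.1 ≠ 1 := by
    intro h
    have : u = 1 := Subtype.ext h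
    rw [this, orderOf_one] at hu
    omega
  obtain ⟨hsl, hsm⟩ := fixed_card (hM s.1 s.2).1 11 hs11 hs1 (by norm_num)
  obtain ⟨hul, hum⟩ := fixed_card (hM u.1 u.2).1 7 hu7 hu1 (by norm_num)
  have hsc : (Finset.univ.filter (fun x => s.1 x = x)).card = 2 := by
    unfold Nat.ModEq at hsm
    omega
  have huc : (Finset.univ.filter (fun x => u.1 x = x)).card = 3 := by
    unfold Nat.ModEq at hum
    omega
  have hsn : none ∈ Finset.univ.filter (fun x => s.1 x = x) :=
    Finset.mem_filter.2 ⟨Finset.mem_univ _, (hM s.1 s.2).2⟩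
  have hun : none ∈ Finset.univ.filter (fun x => u.1 x = x) :=
    Finset.mem_filter.2 ⟨Finset.mem_univ _, (hM u.1 u.2).2⟩
  have hse : ((Finset.univ.filter (fun x => s.1 x = x)).erase none).card = 1 := by
    rw [Finset.card_erase_of_mem hsn, hsc]
  have hue : ((Finset.univ.filter (fun x => u.1 x = x)).erase none).card = 2 := by
    rw [Finset.card_erase_of_mem hun, huc]
  obtain ⟨c, hcs⟩ := Finset.card_eq_one.1 hse
  have hcmem : c ∈ (Finset.univ.filter (fun x => s.1 x = x)).erase none := by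
    rw [hcs]
    exact Finset.mem_singleton_self c
  have hcn : c ≠ none := (Finset.mem_erase.1 hcmem).1
  have hcfix : s.1 c = c := (Finset.mem_filter.1 (Finset.mem_erase.1 hcmem).2).2
  refine ⟨c, hcn, ?_⟩
  -- the orbit of c
  let X : Finset GolayPt := Finset.univ.filter (fun q => ∃ k ∈ K, k c = q)
  have hXmem : ∀ q, q ∈ X ↔ ∃ k ∈ K, k c = q := fun q => by simp [X]
  have hXinv : ∀ k ∈ K, ∀ x, k x ∈ X ↔ x ∈ X := by
    intro k hk x
    rw [hXmem, hXmem]
    constructor
    · rintro ⟨m, hm, e⟩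
      refine ⟨k⁻¹ * m, Subgroup.mul_mem _ (Subgroup.inv_mem _ hk) hm, ?_⟩
      rw [Equiv.Perm.mul_apply, e]
      simp
    · rintro ⟨m, hm, e⟩
      exact ⟨k * m, Subgroup.mul_mem _ hk hm, by rw [Equiv.Perm.mul_apply, e]⟩
  have hcX : c ∈ X := (hXmem c).2 ⟨1, Subgroup.one_mem _, rfl⟩
  have hnX : none ∉ X := by
    intro h
    obtain ⟨k, hk, e⟩ := (hXmem none).1 h
    have h2 : k none = none := (hM k hk).2
    exact hcn (k.injective (e.trans h2.symm))
  have hXle : X.card ≤ 23 := by
    have h1 : X ⊆ Finset.univ.erase none := fun q hq =>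
      Finset.mem_erase.2 ⟨fun e => hnX (e ▸ hq), Finset.mem_univ _⟩
    have h2 := Finset.card_le_card h1
    rw [Finset.card_erase_of_mem (Finset.mem_univ _), Finset.card_univ, card_pts] at h2
    exact h2
  have hXdvd : X.card ∣ 443520 := by
    have h1 := card_eq_orbit_mul K c
    have h2 : MulAction.orbit K c = {q | ∃ k ∈ K, k c = q} := by
      ext q
      constructor
      · rintro ⟨g, rfl⟩
        exact ⟨g.1, g.2, rfl⟩
      · rintro ⟨g, hg, rfl⟩
        exact ⟨⟨g, hg⟩, rfl⟩
    rw [h2, ncard_pts, hc] at h1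
    exact Dvd.intro _ h1.symm
  have h11 := card_modEq_fixed s.1 11 hs11 X (hXinv s.1 s.2)
  have h7 := card_modEq_fixed u.1 7 hu7 X (hXinv u.1 u.2)
  have hf11 : X.filter (fun x => s.1 x = x) = {c} := by
    ext q
    rw [Finset.mem_filter, Finset.mem_singleton]
    constructor
    · rintro ⟨hq, hfix⟩
      have : q ∈ (Finset.univ.filter (fun x => s.1 x = x)).erase none :=
        Finset.mem_erase.2 ⟨fun e => hnX (e ▸ hq), Finset.mem_filter.2 ⟨Finset.mem_univ _, hfix⟩⟩
      rw [hcs] at this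
      exact Finset.mem_singleton.1 this
    · rintro rfl
      exact ⟨hcX, hcfix⟩
  have hf7 : (X.filter (fun x => u.1 x = x)).card ≤ 2 := by
    rw [← hue]
    apply Finset.card_le_card
    intro q hq
    rw [Finset.mem_filter] at hq
    exact Finset.mem_erase.2 ⟨fun e => hnX (e ▸ hq.1),
      Finset.mem_filter.2 ⟨Finset.mem_univ _, hq.2⟩⟩
  rw [hf11, Finset.card_singleton] at h11
  have hX1 : X.card = 1 := by
    unfold Nat.ModEq at h11 h7
    have hpos : 0 < X.card := Finset.card_pos.2 ⟨c, hcX⟩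
    generalize (X.filter (fun x => u.1 x = x)).card = a at h7 hf7
    generalize X.card = n at *
    interval_cases n <;> omega
  obtain ⟨c', hc'⟩ := Finset.card_eq_one.1 hX1
  have hcc : c = c' := by
    rw [hc'] at hcX
    exact Finset.mem_singleton.1 hcX
  intro k hk
  have : k c ∈ X := (hXinv k hk c).2 hcX
  rw [hc', ← hcc] at this
  exact Finset.mem_singleton.1 this

end AutA
end Cfsg.Agent.Lib.Helper4
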