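import Cfsg.Agent.Lib.Helper4.AutA

set_option autoImplicit false

namespace Cfsg.Agent.Lib.Helper4
namespace AutA

open Pointwise Golay

/-- The pointwise stabiliser of the standard octad. -/
abbrev E0 : Subgroup (Equiv.Perm GolayPt) :=
  M24 ⊓ fixingSubgroup (Equiv.Perm GolayPt) (O0s : Set GolayPt)

theorem E0_le : E0 ≤ KK [4, 3, 2, 1, 0] := by
  intro g hg
  rw [Subgroup.mem_inf, mem_fixO0] at hg
  rw [mem_KK]
  refine ⟨hg.1, ?_⟩
  intro f hf
  have : ∀ f ∈ [4, 3, 2, 1, 0], f ∈ [0, 1, 2, 3, 4, 7, 10, 12] := by decide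
  exact hg.2 f (this f hf)

theorem KK5_maps {g : Equiv.Perm GolayPt} (hg : g ∈ KK [4, 3, 2, 1, 0]) {y : GolayPt}
    (hy : y ∈ (O0s : Set GolayPt)) : g⁻¹ y ∈ (O0s : Set GolayPt) := by
  rw [mem_KK] at hg
  have hF : Fixes g⁻¹ 31 := fixes_inv (fixes31 hg.2)
  exact Finset.mem_coe.2 (oct_pres (Subgroup.inv_mem _ hg.1) hF oct5 (Finset.mem_coe.1 hy))

theorem E0_normal {g x : Equiv.Perm GolayPt} (hg : g ∈ KK [4, 3, 2, 1, 0]) (hx : x ∈ E0) :
    g * x * g⁻¹ ∈ E0 :=
  fixing_conj M24 (mem_KK.1 hg).1 _ _ (fun _ hy => KK5_maps hg hy) hx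

instance E0_sub_normal : (E0.subgroupOf (KK [4, 3, 2, 1, 0])).Normal := by
  constructor
  intro n hn g
  rw [Subgroup.mem_subgroupOf] at hn ⊢
  exact E0_normal g.2 hn

/-- An involution of the five point stabiliser fixes the octad pointwise. -/
theorem mem_E0_of_sq {w : Equiv.Perm GolayPt} (hw : w ∈ KK [4, 3, 2, 1, 0]) (h2 : w * w = 1) :
    w ∈ E0 := by
  have hcardN : Nat.card ↥(E0.subgroupOf (KK [4, 3, 2, 1, 0])) = 16 := by
    rw [Nat.card_congr (Subgroup.subgroupOfEquivOfLe E0_le).toEquiv]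
    exact card_fixO0
  have hq : Nat.card (↥(KK [4, 3, 2, 1, 0]) ⧸ E0.subgroupOf (KK [4, 3, 2, 1, 0])) = 3 := by
    have := Subgroup.card_eq_card_quotient_mul_card_subgroup (E0.subgroupOf (KK [4, 3, 2, 1, 0]))
    rw [card_KK5, hcardN] at this
    omega
  have h3 := pow_card_eq_one' (x := (QuotientGroup.mk (⟨w, hw⟩ : ↥(KK [4, 3, 2, 1, 0])) :
      ↥(KK [4, 3, 2, 1, 0]) ⧸ E0.subgroupOf (KK [4, 3, 2, 1, 0])))
  rw [hq] at h3
  have h2' : (QuotientGroup.mk (⟨w, hw⟩ : ↥(KK [4, 3, 2, 1, 0])) :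
      ↥(KK [4, 3, 2, 1, 0]) ⧸ E0.subgroupOf (KK [4, 3, 2, 1, 0])) ^ 2 = 1 := by
    rw [← QuotientGroup.mk_pow, pow_two]
    have : (⟨w, hw⟩ : ↥(KK [4, 3, 2, 1, 0])) * ⟨w, hw⟩ = 1 := Subtype.ext h2
    rw [this]
    rfl
  have h1 : (QuotientGroup.mk (⟨w, hw⟩ : ↥(KK [4, 3, 2, 1, 0])) :
      ↥(KK [4, 3, 2, 1, 0]) ⧸ E0.subgroupOf (KK [4, 3, 2, 1, 0])) = 1 := by
    have := pow_gcd_eq_one.2 ⟨h3, h2'⟩
    simpa using this
  rw [QuotientGroup.eq_one_iff] at h1
  exact Subgroup.mem_subgroupOf.1 h1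

/-- Some element of the pointwise stabiliser of the standard octad moves a given outside point. -/
theorem E0_moves {q : GolayPt} (hq : q ∉ O0s) : ∃ r ∈ E0, r q ≠ q := by
  have hj : code q ∈ [5, 6, 8, 9, 11, 13, 14, 15, 16, 17, 18, 19, 20, 21, 22, 23] := by
    have h : ∀ j < 24, j ∉ [0, 1, 2, 3, 4, 7, 10, 12] →
        j ∈ [5, 6, 8, 9, 11, 13, 14, 15, 16, 17, 18, 19, 20, 21, 22, 23] := by decide
    exact h _ (code_lt q) (fun hmem => hq (mem_O0s.2 hmem))
  by_cases h5 : code q = 5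
  · obtain ⟨r, hr, hfix, hmove, -⟩ := octA 6 (by decide)
    refine ⟨r, Subgroup.mem_inf.2 ⟨hr, mem_fixO0.2 hfix⟩, ?_⟩
    have : q = pt 5 := by rw [← h5, pt_code]
    rw [this, hmove]
    exact pt_ne_pt (by norm_num) (by norm_num) (by norm_num)
  · obtain ⟨r, hr, hfix, hmove, hsq⟩ := octA _ hj
    refine ⟨r, Subgroup.mem_inf.2 ⟨hr, mem_fixO0.2 hfix⟩, ?_⟩
    rw [pt_code] at hmove
    have h1 : r q = pt 5 := by
      have : r (r (pt 5)) = pt 5 := by
        rw [← Equiv.Perm.mul_apply, hsq]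
        rfl
      rw [hmove] at this
      exact this
    rw [h1]
    intro e
    apply h5
    rw [← e, code_pt 5 (by norm_num)]

/-- If conjugation by a permutation carries the pointwise stabiliser of an octad into the group,
then the permutation maps that octad to an octad. -/
theorem octad_of_conj (ρ : Equiv.Perm GolayPt) {o : Finset GolayPt} (ho : o ∈ octads)
    (h : ∀ z ∈ M24 ⊓ fixingSubgroup (Equiv.Perm GolayPt) (o : Set GolayPt), ρ * z * ρ⁻¹ ∈ M24) :
    ρ • o ∈ octads := by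
  have h5 : 5 ≤ o.card := by rw [ho.2]; norm_num
  obtain ⟨t, ht, htc⟩ := Finset.exists_subset_card_eq h5
  let e := (t.equivFinOfCardEq htc).symm
  let x0 : Fin 5 ↪ GolayPt := e.toEmbedding.trans (Function.Embedding.subtype _)
  have hx0 : ∀ i, x0 i ∈ o := fun i => ht (e i).2
  obtain ⟨h', hh', hmap⟩ := exists_map (x0.trans ρ.toEmbedding) ⟨fun i : Fin 5 => pt i.val, pt5_inj⟩
  have hmap' : ∀ i : Fin 5, h' (ρ (x0 i)) = pt i.val := hmap
  obtain ⟨hcard, hsq⟩ := fix_octad ho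
  -- conjugation into E0
  have key : ∀ z ∈ M24 ⊓ fixingSubgroup (Equiv.Perm GolayPt) (o : Set GolayPt),
      (h' * ρ) * z * (h' * ρ)⁻¹ ∈ E0 := by
    intro z hz
    have hzfix : ∀ y ∈ o, z y = y := fun y hy =>
      (mem_fixingSubgroup_iff _).1 (Subgroup.mem_inf.1 hz).2 y (Finset.mem_coe.2 hy)
    have e1 : (h' * ρ) * z * (h' * ρ)⁻¹ = h' * (ρ * z * ρ⁻¹) * h'⁻¹ := by group
    apply mem_E0_of_sq
    · rw [mem_KK]
      refine ⟨?_, ?_⟩
      · rw [e1]
        exact Subgroup.mul_mem _ (Subgroup.mul_mem _ hh' (h z hz)) (Subgroup.inv_mem _ hh')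
      · intro f hf
        have hf5 : f < 5 := by
          simp only [List.mem_cons, List.not_mem_nil, or_false] at hf
          omega
        have h1 := hmap' ⟨f, hf5⟩
        have h2 : (h' * ρ)⁻¹ (pt f) = x0 ⟨f, hf5⟩ := by
          rw [Equiv.Perm.inv_eq_iff_eq, Equiv.Perm.mul_apply]
          exact h1.symm
        rw [Equiv.Perm.mul_apply, Equiv.Perm.mul_apply, h2, hzfix _ (hx0 _),
          Equiv.Perm.mul_apply]
        exact h1
    · have : (h' * ρ) * z * (h' * ρ)⁻¹ * ((h' * ρ) * z * (h' * ρ)⁻¹)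
          = (h' * ρ) * (z * z) * (h' * ρ)⁻¹ := by group
      rw [this, hsq z hz]
      group
  -- the conjugation map is a bijection
  let φ : ↥(M24 ⊓ fixingSubgroup (Equiv.Perm GolayPt) (o : Set GolayPt)) → ↥E0 :=
    fun z => ⟨(h' * ρ) * z.1 * (h' * ρ)⁻¹, key z.1 z.2⟩
  have hφinj : Function.Injective φ := by
    intro z1 z2 e12
    have : (h' * ρ) * z1.1 * (h' * ρ)⁻¹ = (h' * ρ) * z2.1 * (h' * ρ)⁻¹ := congrArg Subtype.val e12
    apply Subtype.ext
    have h3 : z1.1 = (h' * ρ)⁻¹ * ((h' * ρ) * z1.1 * (h' * ρ)⁻¹) * (h' * ρ) := by group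
    rw [h3, this]
    group
  have hfin : Finite ↥E0 := Nat.finite_of_card_ne_zero (by rw [card_fixO0]; norm_num)
  have hφsurj : Function.Surjective φ :=
    (Function.Injective.bijective_of_nat_card_le hφinj (by rw [card_fixO0, hcard])).2
  -- the image of the octad lies in the standard octad
  have hsub : (h' * ρ) • o ⊆ O0s := by
    intro q hq
    obtain ⟨y, hy, rfl⟩ := Finset.mem_smul_finset.1 hq
    by_contra hnot
    obtain ⟨r, hr, hmove⟩ := E0_moves hnot
    obtain ⟨z, hz⟩ := hφsurj ⟨r, hr⟩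
    have hz' : (h' * ρ) * z.1 * (h' * ρ)⁻¹ = r := congrArg Subtype.val hz
    apply hmove
    rw [← hz']
    have hzfix : z.1 y = y :=
      (mem_fixingSubgroup_iff _).1 (Subgroup.mem_inf.1 z.2).2 y (Finset.mem_coe.2 hy)
    show ((h' * ρ) * z.1 * (h' * ρ)⁻¹) ((h' * ρ) y) = (h' * ρ) y
    have e3 : (h' * ρ)⁻¹ ((h' * ρ) y) = y := by simp
    rw [Equiv.Perm.mul_apply, Equiv.Perm.mul_apply, e3, hzfix]
  have heq : (h' * ρ) • o = O0s := by
    apply Finset.eq_of_subset_of_card_le hsub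
    rw [Finset.card_smul_finset, ho.2, O0s_octad.2]
  have : ρ • o = h'⁻¹ • O0s := by
    rw [← heq, mul_smul, inv_smul_smul]
  rw [this]
  exact smul_mem_weight (Subgroup.inv_mem _ hh') O0s_octad

/-- Twelve octads through the extra point spanning the code. -/
def basisN : List ℕ := [8391797, 8394986, 8398155, 8407702, 8421811, 8455014, 8521420, 8654232,
  8919856, 9440193, 10486557, 12584506]

/-- The old basis in terms of the new octads. -/
def combosN : List (List ℕ) := [[0, 7], [1, 8], [0, 9], [0, 10], [0, 11], [0, 4], [0, 5], [0, 6],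
  [0, 1], [0, 2], [0, 3], [0]]

theorem basisN_ok : basisN.all (fun b => and (Nat.beq (pc b) 8)
    (and (Nat.beq (red basisP b) 0) (b.testBit 23))) = true := by decide +kernel

theorem basis_eqN : basis = combosN.map (fun T => xorL (T.map (fun t => basisN.getD t 0))) := by
  decide +kernel

theorem combosN_lt : ∀ T ∈ combosN, ∀ t ∈ T, basisN.getD t 0 ∈ basisN := by decide +kernel

theorem basisN_octad {b : ℕ} (hb : b ∈ basisN) :
    support₂ (word b) ∈ octads ∧ none ∈ support₂ (word b) := by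
  have h := basisN_ok
  rw [List.all_eq_true] at h
  have hb' := h b hb
  simp only [Bool.and_eq_true, Nat.beq_eq] at hb'
  refine ⟨⟨⟨word b, ?_, rfl⟩, ?_⟩, ?_⟩
  · rw [SetLike.mem_coe, golay_eq]
    apply red_sound basisP _ _ basisP_mem
    rw [hb'.2.1, word_zero]
    exact Submodule.zero_mem _
  · rw [card_support, hammingNorm_word]
    exact hb'.1
  · rw [mem_support_word]
    exact hb'.2.2

theorem mem_M24_of_octads' (g : Equiv.Perm GolayPt)
    (h : ∀ o ∈ octads, none ∈ o → g⁻¹ • o ∈ octads) : g ∈ M24 := by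
  apply mem_M24_basis
  have hN : ∀ b ∈ basisN, word b ∈
      golayCode.comap (LinearMap.funLeft (ZMod 2) (ZMod 2) g) := by
    intro b hb
    obtain ⟨h1, h2⟩ := basisN_octad hb
    obtain ⟨⟨w', hw', e⟩, -⟩ := h _ h1 h2
    have e' : support₂ w' = support₂ (word b ∘ g) := by
      rw [support_comp]
      exact e
    have := support_injective e'
    show word b ∘ g ∈ golayCode
    rw [← this]
    exact hw'
  intro b hb
  rw [basis_eqN, List.mem_map] at hb
  obtain ⟨T, hT, rfl⟩ := hb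
  have : word (xorL (T.map (fun t => basisN.getD t 0))) ∈
      golayCode.comap (LinearMap.funLeft (ZMod 2) (ZMod 2) g) := by
    apply xorL_mem
    intro a ha
    rw [List.mem_map] at ha
    obtain ⟨t, ht, rfl⟩ := ha
    exact hN _ (combosN_lt T hT t ht)
  exact this

/-- A permutation mapping the octads through the extra point to octads preserves the code. -/
theorem mem_M24_of_octads (ρ : Equiv.Perm GolayPt)
    (h : ∀ o ∈ octads, none ∈ o → ρ • o ∈ octads) : ρ ∈ M24 := by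
  rw [← Subgroup.inv_mem_iff]
  apply mem_M24_of_octads'
  intro o ho hn
  rw [inv_inv]
  exact h o ho hn

end AutA
end Cfsg.Agent.Lib.Helper4
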