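import Cfsg.Agent.Lib.Helper4.AutB

set_option autoImplicit false

namespace Cfsg.Agent.Lib.Helper4
namespace AutA

open Pointwise Golay

/-- The point stabiliser as a type. -/
abbrev G23 : Type := ↥Cfsg.Spor.M23

theorem G23_fix (g : G23) : g.1 none = none := g.2.2

theorem G23_mem (g : G23) : g.1 ∈ M24 := g.2.1

theorem sep {b b' : GolayPt} (hb : b ≠ none) (hb' : b' ≠ none) (h : b ≠ b') :
    ∃ k : G23, k.1 b = b ∧ k.1 b' ≠ b' := by
  classical
  have hex : ∃ q : GolayPt, q ≠ none ∧ q ≠ b ∧ q ≠ b' := by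
    by_contra hno
    have hsub : (Finset.univ : Finset GolayPt) ⊆ {none, b, b'} := by
      intro q _
      by_contra hq
      simp only [Finset.mem_insert, Finset.mem_singleton, not_or] at hq
      exact hno ⟨q, hq.1, hq.2.1, hq.2.2⟩
    have h1 := Finset.card_le_card hsub
    rw [Finset.card_univ, card_pts] at h1
    have h2 : ({none, b, b'} : Finset GolayPt).card ≤ 3 := Finset.card_le_three
    omega
  obtain ⟨q, hq0, hq1, hq2⟩ := hex
  obtain ⟨x, hx0, hx1, hx2⟩ := emb3 (none : GolayPt) b b' (Ne.symm hb) (Ne.symm hb') h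
  obtain ⟨y, hy0, hy1, hy2⟩ := emb3 (none : GolayPt) b q (Ne.symm hb) (Ne.symm hq0)
    (Ne.symm hq1)
  obtain ⟨k, hk, hmap⟩ := exists_mapN (by norm_num : 3 ≤ 5) x y
  have e0 := hmap 0
  have e1 := hmap 1
  have e2 := hmap 2
  rw [hx0, hy0] at e0
  rw [hx1, hy1] at e1
  rw [hx2, hy2] at e2
  exact ⟨⟨k, hk, e0⟩, e1, by show k b' ≠ b'; rw [e2]; exact hq2⟩

theorem card_stab23 {a : GolayPt} (ha : a ≠ none) :
    Nat.card ↥(MulAction.stabilizer G23 a) = 443520 := by
  rw [Nat.card_congr (stabEquiv Cfsg.Spor.M23 a)]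
  exact card_stab2 none a (Ne.symm ha)

theorem mem_stab23 {a : GolayPt} {k : G23} : k ∈ MulAction.stabilizer G23 a ↔ k.1 a = a :=
  Iff.rfl

/-- The image of a point stabiliser under an automorphism fixes the point `c`. -/
def Q (α : MulAut G23) (a c : GolayPt) : Prop :=
  c ≠ none ∧ ∀ k : G23, k.1 a = a → (α k).1 c = c

theorem exQ (α : MulAut G23) {a : GolayPt} (ha : a ≠ none) : ∃ c, Q α a c := by
  have hcard : Nat.card ↥(((MulAction.stabilizer G23 a).map α.toMonoidHom).map
      Cfsg.Spor.M23.subtype) = 443520 := by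
    rw [Subgroup.card_map_of_injective (Subgroup.subtype_injective _),
      Subgroup.card_map_of_injective α.injective]
    exact card_stab23 ha
  have hle : ((MulAction.stabilizer G23 a).map α.toMonoidHom).map Cfsg.Spor.M23.subtype
      ≤ Cfsg.Spor.M23 := by
    rintro x ⟨y, -, rfl⟩
    exact y.2
  obtain ⟨c, hc, hfix⟩ := fix_of_card _ hle hcard
  refine ⟨c, hc, ?_⟩
  intro k hk
  exact hfix _ ⟨α k, ⟨k, mem_stab23.2 hk, rfl⟩, rfl⟩

theorem Q_iff {α : MulAut G23} {a c : GolayPt} (ha : a ≠ none) (h : Q α a c) (k : G23) :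
    k.1 a = a ↔ (α k).1 c = c := by
  refine ⟨h.2 k, ?_⟩
  intro hk
  have hle : (MulAction.stabilizer G23 a).map α.toMonoidHom ≤ MulAction.stabilizer G23 c := by
    rintro x ⟨y, hy, rfl⟩
    exact mem_stab23.2 (h.2 y (mem_stab23.1 hy))
  have heq := Subgroup.eq_of_le_of_card_ge hle (by
    rw [Subgroup.card_map_of_injective α.injective, card_stab23 ha, card_stab23 h.1])
  have hmem : α k ∈ (MulAction.stabilizer G23 a).map α.toMonoidHom := by
    rw [heq]
    exact mem_stab23.2 hk
  obtain ⟨y, hy, e⟩ := hmem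
  have : y = k := α.injective e
  rw [← this]
  exact mem_stab23.1 hy

theorem Q_unique {α : MulAut G23} {a c c' : GolayPt} (ha : a ≠ none) (h : Q α a c)
    (h' : Q α a c') : c = c' := by
  by_contra hne
  obtain ⟨m, hm1, hm2⟩ := sep h.1 h'.1 hne
  have e : α (α.symm m) = m := α.apply_symm_apply m
  have h1 : (α.symm m).1 a = a := (Q_iff ha h _).2 (by rw [e]; exact hm1)
  have h2 := h'.2 _ h1
  rw [e] at h2
  exact hm2 h2

theorem Q_inj {α : MulAut G23} {a a' c : GolayPt} (ha : a ≠ none) (ha' : a' ≠ none)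
    (h : Q α a c) (h' : Q α a' c) : a = a' := by
  by_contra hne
  obtain ⟨m, hm1, hm2⟩ := sep ha ha' hne
  exact hm2 ((Q_iff ha' h' m).2 (h.2 m hm1))

theorem Q_equiv {α : MulAut G23} {a c : GolayPt} (h : Q α a c) (g : G23) :
    Q α (g.1 a) ((α g).1 c) := by
  refine ⟨?_, ?_⟩
  · intro e
    have := G23_fix (α g)
    exact h.1 ((α g).1.injective (e.trans this.symm))
  · intro k hk
    have h1 : (g⁻¹ * k * g).1 a = a := by
      show g.1⁻¹ (k.1 (g.1 a)) = a
      rw [hk]
      simp
    have h2 := h.2 _ h1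
    rw [map_mul, map_mul, map_inv] at h2
    have h3 : (α g).1⁻¹ ((α k).1 ((α g).1 c)) = c := h2
    rw [Equiv.Perm.inv_eq_iff_eq] at h3
    exact h3

/-- The permutation of the points induced by an automorphism. -/
noncomputable def piFun (α : MulAut G23) : GolayPt → GolayPt := fun a =>
  if h : a = none then none else Classical.choose (exQ α h)

theorem piFun_none (α : MulAut G23) : piFun α none = none := by
  simp [piFun]

theorem piFun_spec (α : MulAut G23) {a : GolayPt} (ha : a ≠ none) : Q α a (piFun α a) := by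
  rw [piFun, dif_neg ha]
  exact Classical.choose_spec (exQ α ha)

theorem piFun_inj (α : MulAut G23) : Function.Injective (piFun α) := by
  intro a a' e
  by_cases ha : a = none
  · by_cases ha' : a' = none
    · rw [ha, ha']
    · exfalso
      rw [ha, piFun_none] at e
      exact (piFun_spec α ha').1 e.symm
  · by_cases ha' : a' = none
    · exfalso
      rw [ha', piFun_none] at e
      exact (piFun_spec α ha).1 e
    · have h1 := piFun_spec α ha
      have h2 := piFun_spec α ha'
      rw [e] at h1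
      exact Q_inj ha ha' h1 h2

theorem piFun_rel (α : MulAut G23) (g : G23) (a : GolayPt) :
    (α g).1 (piFun α a) = piFun α (g.1 a) := by
  by_cases ha : a = none
  · rw [ha, piFun_none, G23_fix, G23_fix, piFun_none]
  · have hga : g.1 a ≠ none := by
      intro e
      exact ha (g.1.injective (e.trans (G23_fix g).symm))
    exact Q_unique hga (Q_equiv (piFun_spec α ha) g) (piFun_spec α hga)

/-- Every automorphism of the point stabiliser is inner. -/
theorem inner (α : MulAut G23) : ∃ m : G23, α = MulAut.conj m := by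
  have hbij : Function.Bijective (piFun α) := (Finite.injective_iff_bijective).1 (piFun_inj α)
  let ρ : Equiv.Perm GolayPt := Equiv.ofBijective _ hbij
  have hρ : ∀ a, ρ a = piFun α a := fun a => rfl
  have hrel : ∀ g : G23, (α g).1 = ρ * g.1 * ρ⁻¹ := by
    intro g
    apply Equiv.ext
    intro b
    have h1 := piFun_rel α g (ρ⁻¹ b)
    rw [← hρ, ← hρ] at h1
    rw [Equiv.Perm.mul_apply, Equiv.Perm.mul_apply, ← h1]
    simp
  have hρM : ρ ∈ M24 := by
    apply mem_M24_of_octads
    intro o ho hno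
    apply octad_of_conj ρ ho
    intro z hz
    have hzM : z ∈ Cfsg.Spor.M23 := by
      refine ⟨(Subgroup.mem_inf.1 hz).1, ?_⟩
      exact (mem_fixingSubgroup_iff _).1 (Subgroup.mem_inf.1 hz).2 none (Finset.mem_coe.2 hno)
    have := hrel ⟨z, hzM⟩
    rw [← this]
    exact G23_mem _
  have hρ23 : ρ ∈ Cfsg.Spor.M23 := ⟨hρM, by show ρ none = none; rw [hρ, piFun_none]⟩
  refine ⟨⟨ρ, hρ23⟩, ?_⟩
  apply MulEquiv.ext
  intro g
  apply Subtype.ext
  rw [hrel g]
  rfl

end AutA
end Cfsg.Agent.Lib.Helper4
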