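import Cfsg.Agent.Lib.Helper4.AutB

set_option autoImplicit false

namespace Cfsg.Agent.Lib.Helper4
namespace AutA

open Pointwise Golay

/-- A permutation acts on the indices through the function `l`. -/
def IsL (g : Equiv.Perm GolayPt) (l : ℕ → ℕ) : Prop :=
  ∀ i < 24, l i < 24 ∧ g (pt i) = pt (l i)

theorem isL_mk (l l' : List ℕ) (h : chk l l' = true) : IsL (mkPerm l l' h) (nth l) := by
  intro i hi
  exact ⟨((chk_spec h).2 i hi).1, mkPerm_pt _ _ _ i hi⟩

theorem isL_mul {g1 g2 : Equiv.Perm GolayPt} {l1 l2 : ℕ → ℕ} (h1 : IsL g1 l1) (h2 : IsL g2 l2) :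
    IsL (g1 * g2) (fun i => l1 (l2 i)) := by
  intro i hi
  have a := h2 i hi
  have b := h1 (l2 i) a.1
  exact ⟨b.1, by rw [Equiv.Perm.mul_apply, a.2, b.2]⟩

theorem lvl_entry (fx : List ℕ) (src : ℕ) (T : List (ℕ × List ℕ × List ℕ)) (targets : List ℕ)
    (h : lvlChk fx src T targets = true) (hsrc : src < 24) (hfx : ∀ f ∈ fx, f < 24) :
    ∀ j ∈ targets, ∃ e ∈ T, ∃ hc : chk e.2.1 e.2.2 = true, mkPerm e.2.1 e.2.2 hc ∈ M24 ∧
      (∀ f ∈ fx, mkPerm e.2.1 e.2.2 hc (pt f) = pt f) ∧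
      mkPerm e.2.1 e.2.2 hc (pt src) = pt j := by
  simp only [lvlChk, Bool.and_eq_true, List.all_eq_true, List.any_eq_true, Nat.beq_eq] at h
  intro j hj
  obtain ⟨e, he, rfl⟩ := h.2 j hj
  have h1 := h.1 e he
  simp only [entryChk, Bool.and_eq_true, List.all_eq_true, Nat.beq_eq] at h1
  refine ⟨e, he, h1.1.1, mkPerm_mem _ _ _ h1.1.2, ?_, ?_⟩
  · intro f hf
    rw [mkPerm_pt _ _ _ f (hfx f hf), h1.2.2 f hf]
  · rw [mkPerm_pt _ _ _ src hsrc, h1.2.1]

theorem step_mem {L : List ℕ} {b : ℕ} {r g : Equiv.Perm GolayPt} (hr : r ∈ KK L) (hg : g ∈ KK L)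
    (e : r (pt b) = g (pt b)) : r⁻¹ * g ∈ KK (b :: L) := by
  rw [KK_cons, Subgroup.mem_inf, MulAction.mem_stabilizer_iff]
  refine ⟨Subgroup.mul_mem _ (Subgroup.inv_mem _ hr) hg, ?_⟩
  show (r⁻¹ * g) (pt b) = pt b
  rw [Equiv.Perm.mul_apply, ← e]
  simp

/-- Every element of the four point stabiliser is a product of three table entries. -/
theorem dec4 {g : Equiv.Perm GolayPt} (hg : g ∈ KK [3, 2, 1, 0]) :
    ∃ e4 ∈ tbl4, ∃ e5 ∈ tbl5, ∃ e6 ∈ tbl6,
      IsL g (fun i => nth e4.2.1 (nth e5.2.1 (nth e6.2.1 i))) := by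
  -- level 4
  have hq4 : g (pt 4) ∈ MulAction.orbit (KK [3, 2, 1, 0]) (pt 4) := mem_orbit_KK.2 ⟨g, hg, rfl⟩
  rw [orbit_lt5 4 (by norm_num) _ (by intro f; simp; omega)] at hq4
  have hq4' : 4 ≤ code (g (pt 4)) := hq4
  obtain ⟨e4, he4, hc4, hm4, hfix4, hmove4⟩ := lvl_entry (List.range 4) 4 tbl4 _ lvl4
    (by norm_num) (by intro f hf; rw [List.mem_range] at hf; omega) (code (g (pt 4)))
    (by
      rw [List.mem_filter, List.mem_range]
      exact ⟨code_lt _, by rw [Nat.ble_eq]; exact hq4'⟩)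
  rw [pt_code] at hmove4
  have hr4 : mkPerm e4.2.1 e4.2.2 hc4 ∈ KK [3, 2, 1, 0] :=
    mem_KK.2 ⟨hm4, fun f hf => hfix4 f (by
      have : ∀ f ∈ [3, 2, 1, 0], f ∈ List.range 4 := by decide
      exact this f hf)⟩
  have hg1 := step_mem hr4 hg hmove4
  -- level 5
  have hq5 : ((mkPerm e4.2.1 e4.2.2 hc4)⁻¹ * g) (pt 5) ∈
      MulAction.orbit (KK [4, 3, 2, 1, 0]) (pt 5) := mem_orbit_KK.2 ⟨_, hg1, rfl⟩
  rw [orbit6] at hq5
  have hq5' : Nat.testBit 5279 (code (((mkPerm e4.2.1 e4.2.2 hc4)⁻¹ * g) (pt 5))) = false := hq5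
  have hmem5 : code (((mkPerm e4.2.1 e4.2.2 hc4)⁻¹ * g) (pt 5)) ∈
      [5, 6, 8, 9, 11, 13, 14, 15, 16, 17, 18, 19, 20, 21, 22, 23] := by
    have : ∀ j < 24, Nat.testBit 5279 j = false →
        j ∈ [5, 6, 8, 9, 11, 13, 14, 15, 16, 17, 18, 19, 20, 21, 22, 23] := by decide
    exact this _ (code_lt _) hq5'
  obtain ⟨e5, he5, hc5, hm5, hfix5, hmove5⟩ := lvl_entry [0, 1, 2, 3, 4] 5 tbl5 _ lvl5
    (by norm_num) (by decide) _ hmem5
  rw [pt_code] at hmove5
  have hr5 : mkPerm e5.2.1 e5.2.2 hc5 ∈ KK [4, 3, 2, 1, 0] :=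
    mem_KK.2 ⟨hm5, fun f hf => hfix5 f (by
      have : ∀ f ∈ [4, 3, 2, 1, 0], f ∈ [0, 1, 2, 3, 4] := by decide
      exact this f hf)⟩
  have hg2 := step_mem hr5 hg1 hmove5
  -- level 6
  have hq6 : ((mkPerm e5.2.1 e5.2.2 hc5)⁻¹ * ((mkPerm e4.2.1 e4.2.2 hc4)⁻¹ * g)) (pt 7) ∈
      MulAction.orbit (KK [5, 4, 3, 2, 1, 0]) (pt 7) := mem_orbit_KK.2 ⟨_, hg2, rfl⟩
  rw [orbit7] at hq6
  obtain ⟨hq61, hq62⟩ := hq6
  have hmem6 : code (((mkPerm e5.2.1 e5.2.2 hc5)⁻¹ * ((mkPerm e4.2.1 e4.2.2 hc4)⁻¹ * g)) (pt 7))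
      ∈ [7, 10, 12] := by
    have : ∀ j < 24, Nat.testBit 5279 j = true → 5 ≤ j → j ∈ [7, 10, 12] := by decide
    exact this _ (code_lt _) hq61 hq62
  obtain ⟨e6, he6, hc6, hm6, hfix6, hmove6⟩ := lvl_entry [0, 1, 2, 3, 4, 5] 7 tbl6 _ lvl6
    (by norm_num) (by decide) _ hmem6
  rw [pt_code] at hmove6
  have hr6 : mkPerm e6.2.1 e6.2.2 hc6 ∈ KK [5, 4, 3, 2, 1, 0] :=
    mem_KK.2 ⟨hm6, fun f hf => hfix6 f (by
      have : ∀ f ∈ [5, 4, 3, 2, 1, 0], f ∈ [0, 1, 2, 3, 4, 5] := by decide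
      exact this f hf)⟩
  have hg3 := step_mem hr6 hg2 hmove6
  rw [KK7, Subgroup.mem_bot] at hg3
  have hgeq : g = mkPerm e4.2.1 e4.2.2 hc4 * (mkPerm e5.2.1 e5.2.2 hc5 * mkPerm e6.2.1 e6.2.2 hc6) := by
    have h1 : (mkPerm e5.2.1 e5.2.2 hc5)⁻¹ * ((mkPerm e4.2.1 e4.2.2 hc4)⁻¹ * g)
        = mkPerm e6.2.1 e6.2.2 hc6 := by
      rw [← mul_one (mkPerm e6.2.1 e6.2.2 hc6), ← hg3]
      group
    rw [← h1]
    group
  refine ⟨e4, he4, e5, he5, e6, he6, ?_⟩
  rw [hgeq]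
  exact isL_mul (isL_mk _ _ hc4) (isL_mul (isL_mk _ _ hc5) (isL_mk _ _ hc6))

/-- Every involution among the products of table entries has exactly eight fixed points. -/
def invChk : Bool := tbl4.all (fun e4 => tbl5.all (fun e5 => tbl6.all (fun e6 =>
  or (not ((List.range 24).all (fun i =>
      Nat.beq (nth e4.2.1 (nth e5.2.1 (nth e6.2.1
        (nth e4.2.1 (nth e5.2.1 (nth e6.2.1 i)))))) i)))
    (or ((List.range 24).all (fun i => Nat.beq (nth e4.2.1 (nth e5.2.1 (nth e6.2.1 i))) i))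
      (Nat.beq (((List.range 24).map (fun i =>
        if Nat.beq (nth e4.2.1 (nth e5.2.1 (nth e6.2.1 i))) i = true then 1 else 0)).sum) 8)))))

set_option maxRecDepth 100000 in
theorem invChk_ok : invChk = true := by decide +kernel

theorem card_fix_eq {g : Equiv.Perm GolayPt} {l : ℕ → ℕ} (hl : IsL g l) :
    (Finset.univ.filter (fun p => g p = p)).card =
      ((List.range 24).map (fun i => if Nat.beq (l i) i = true then 1 else 0)).sum := by
  rw [Finset.card_filter]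
  have h1 : ∀ p : GolayPt, (if g p = p then 1 else 0) =
      (fun i => if Nat.beq (l i) i = true then 1 else 0) (code p) := by
    intro p
    have h := hl (code p) (code_lt p)
    rw [pt_code] at h
    by_cases hp : g p = p
    · have : l (code p) = code p := by
        apply pt_inj h.1 (code_lt p)
        rw [← h.2, hp, pt_code]
      simp [hp, this]
    · have : l (code p) ≠ code p := by
        intro e
        apply hp
        rw [h.2, e, pt_code]
      simp [hp, this]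
  rw [Finset.sum_congr rfl (fun p _ => h1 p)]
  exact (sum_pts (fun i => if Nat.beq (l i) i = true then 1 else 0)).trans rfl

theorem inv_KK4 {t : Equiv.Perm GolayPt} (ht : t ∈ KK [3, 2, 1, 0]) (h2 : t * t = 1)
    (h1 : t ≠ 1) : (Finset.univ.filter (fun p => t p = p)).card = 8 := by
  obtain ⟨e4, he4, e5, he5, e6, he6, hl⟩ := dec4 ht
  have h := invChk_ok
  simp only [invChk, List.all_eq_true] at h
  have h' := h e4 he4 e5 he5 e6 he6
  rw [Bool.or_eq_true, Bool.or_eq_true] at h'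
  rcases h' with h' | h' | h'
  · exfalso
    rw [Bool.not_eq_true', ← Bool.not_eq_true] at h'
    apply h'
    rw [List.all_eq_true]
    intro i hi
    rw [List.mem_range] at hi
    rw [Nat.beq_eq]
    have a := hl i hi
    have b := hl _ a.1
    apply pt_inj b.1 hi
    rw [← b.2, ← a.2, ← Equiv.Perm.mul_apply, h2]
    rfl
  · exfalso
    apply h1
    rw [List.all_eq_true] at h'
    apply Equiv.ext
    intro p
    have a := hl (code p) (code_lt p)
    have b := h' (code p) (List.mem_range.2 (code_lt p))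
    rw [Nat.beq_eq] at b
    rw [pt_code] at a
    have a' : t p = pt (nth e4.2.1 (nth e5.2.1 (nth e6.2.1 (code p)))) := a.2
    rw [a', b, pt_code]
    rfl
  · rw [Nat.beq_eq] at h'
    rw [card_fix_eq hl]
    exact h'

theorem pt4_inj : Function.Injective (fun i : Fin 4 => pt i.val) := by
  intro i j h
  exact Fin.ext (pt_inj (by omega) (by omega) h)

/-- An involution of the group fixing four points has exactly eight fixed points. -/
theorem inv_fix8 {t : Equiv.Perm GolayPt} (ht : t ∈ M24) (h2 : t * t = 1) (h1 : t ≠ 1)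
    (A : Finset GolayPt) (hA : A.card = 4) (hfix : ∀ a ∈ A, t a = a) :
    (Finset.univ.filter (fun p => t p = p)).card = 8 := by
  let e := (A.equivFinOfCardEq hA).symm
  let x : Fin 4 ↪ GolayPt := e.toEmbedding.trans (Function.Embedding.subtype _)
  have hx : ∀ i, t (x i) = x i := fun i => hfix _ (e i).2
  obtain ⟨h, hh, hmap⟩ := exists_mapN (by norm_num : 4 ≤ 5) x ⟨fun i : Fin 4 => pt i.val, pt4_inj⟩
  have hmem : h * t * h⁻¹ ∈ KK [3, 2, 1, 0] := by
    rw [mem_KK]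
    refine ⟨Subgroup.mul_mem _ (Subgroup.mul_mem _ hh ht) (Subgroup.inv_mem _ hh), ?_⟩
    intro f hf
    have hf4 : f < 4 := by
      simp only [List.mem_cons, List.not_mem_nil, or_false] at hf
      omega
    have h1 : h (x ⟨f, hf4⟩) = pt f := hmap ⟨f, hf4⟩
    rw [Equiv.Perm.mul_apply, Equiv.Perm.mul_apply, ← h1]
    simp [hx]
  have hsq : h * t * h⁻¹ * (h * t * h⁻¹) = 1 := by
    have : h * t * h⁻¹ * (h * t * h⁻¹) = h * (t * t) * h⁻¹ := by group
    rw [this, h2]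
    group
  have hne : h * t * h⁻¹ ≠ 1 := by
    intro e1
    apply h1
    have : t = h⁻¹ * (h * t * h⁻¹) * h := by group
    rw [this, e1]
    group
  rw [← inv_KK4 hmem hsq hne]
  apply Finset.card_equiv h
  intro p
  rw [Finset.mem_filter, Finset.mem_filter]
  simp only [Finset.mem_univ, true_and]
  have hinv : h⁻¹ (h p) = p := by simp
  constructor
  · intro hp
    show (h * t * h⁻¹) (h p) = h p
    rw [Equiv.Perm.mul_apply, Equiv.Perm.mul_apply, hinv, hp]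
  · intro hp
    have hp' : (h * t * h⁻¹) (h p) = h p := hp
    rw [Equiv.Perm.mul_apply, Equiv.Perm.mul_apply, hinv] at hp'
    exact h.injective hp'

end AutA
end Cfsg.Agent.Lib.Helper4
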