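import Cfsg.Agent.Lib.Helper4.AutD

set_option autoImplicit false

namespace Cfsg.Agent.Lib.Helper4
namespace AutA

open Pointwise Golay

/-- In a group of order 40 every element of order 5 commutes with an involution. -/
theorem syl40 {G : Type*} [Group G] [Finite G] (hG : Nat.card G = 40) (φ : G) (h5 : φ ^ 5 = 1)
    (h1 : φ ≠ 1) : ∃ t : G, t * t = 1 ∧ t ≠ 1 ∧ t * φ = φ * t := by
  classical
  have : Fact (Nat.Prime 5) := ⟨by norm_num⟩
  have : Fact (Nat.Prime 2) := ⟨by norm_num⟩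
  have ho : orderOf φ = 5 := orderOf_eq_prime h5 h1
  have hcz : Nat.card (Subgroup.zpowers φ) = 5 := by rw [Nat.card_zpowers, ho]
  have hpg : IsPGroup 5 (Subgroup.zpowers φ) := IsPGroup.of_card (n := 1) (by rw [hcz]; norm_num)
  obtain ⟨P, hP⟩ := hpg.exists_le_sylow
  obtain ⟨n, hn⟩ := IsPGroup.iff_card.1 P.isPGroup'
  have hdvd : Nat.card (P : Subgroup G) ∣ 40 := hG ▸ Subgroup.card_subgroup_dvd_card _
  have hle : 5 ≤ Nat.card (P : Subgroup G) := by
    have := Subgroup.card_le_of_le hP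
    omega
  have hn1 : n = 1 := by
    rw [hn] at hdvd hle
    rcases n with _ | _ | n
    · norm_num at hle
    · rfl
    · exfalso
      have : (5 : ℕ) ^ 2 ∣ 40 := Dvd.dvd.trans (pow_dvd_pow 5 (by omega)) hdvd
      norm_num at this
  have hcP : Nat.card (P : Subgroup G) = 5 := by rw [hn, hn1]; norm_num
  have hPeq : Subgroup.zpowers φ = (P : Subgroup G) :=
    Subgroup.eq_of_le_of_card_ge hP (by rw [hcP, hcz])
  have hidx : (P : Subgroup G).index = 8 := by
    have := Subgroup.card_mul_index (P : Subgroup G)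
    rw [hcP, hG] at this
    omega
  have hn5 : Nat.card (Sylow 5 G) = 1 := by
    have h1 := card_sylow_modEq_one 5 G
    have h2 := Sylow.card_dvd_index P
    rw [hidx] at h2
    have h3 : Nat.card (Sylow 5 G) ≤ 8 := Nat.le_of_dvd (by norm_num) h2
    have h4 : 0 < Nat.card (Sylow 5 G) := Nat.pos_of_dvd_of_pos h2 (by norm_num)
    unfold Nat.ModEq at h1
    generalize Nat.card (Sylow 5 G) = k at h1 h2 h3 h4
    interval_cases k <;> omega
  have : Subsingleton (Sylow 5 G) := (Nat.card_eq_one_iff_unique.1 hn5).1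
  have hnorm : (P : Subgroup G).Normal := Sylow.normal_of_subsingleton P
  have hconj : ∀ s : G, s * φ * s⁻¹ ∈ Subgroup.zpowers φ := by
    intro s
    rw [hPeq]
    exact hnorm.conj_mem φ (hPeq ▸ Subgroup.mem_zpowers φ) s
  obtain ⟨Q⟩ : Nonempty (Sylow 2 G) := inferInstance
  obtain ⟨m, hm⟩ := IsPGroup.iff_card.1 Q.isPGroup'
  have hQd : Nat.card (Q : Subgroup G) ∣ 40 := hG ▸ Subgroup.card_subgroup_dvd_card _
  have hQi := Q.not_dvd_index
  have hcQ : Nat.card (Q : Subgroup G) = 8 := by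
    have hmul := Subgroup.card_mul_index (Q : Subgroup G)
    rw [hG] at hmul
    rw [hm] at hmul hQd
    rcases m with _ | _ | _ | _ | m
    · exfalso
      apply hQi
      have : (Q : Subgroup G).index = 40 := by omega
      rw [this]
      norm_num
    · exfalso
      apply hQi
      have : (Q : Subgroup G).index = 20 := by omega
      rw [this]
      norm_num
    · exfalso
      apply hQi
      have : (Q : Subgroup G).index = 10 := by omega
      rw [this]
      norm_num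
    · rw [hm]
      norm_num
    · exfalso
      have : (2 : ℕ) ^ 4 ∣ 40 := Dvd.dvd.trans (pow_dvd_pow 2 (by omega)) hQd
      norm_num at this
  let _ : Fintype ↥(Q : Subgroup G) := Fintype.ofFinite _
  let _ : Fintype ↥(Subgroup.zpowers φ) := Fintype.ofFinite _
  obtain ⟨s1, s2, hne, heq⟩ := Fintype.exists_ne_map_eq_of_card_lt
    (fun s : ↥(Q : Subgroup G) => (⟨s.1 * φ * s.1⁻¹, hconj s.1⟩ : ↥(Subgroup.zpowers φ)))
    (by rw [← Nat.card_eq_fintype_card, ← Nat.card_eq_fintype_card, hcz, hcQ]; norm_num)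
  have heq' : s1.1 * φ * s1.1⁻¹ = s2.1 * φ * s2.1⁻¹ := congrArg Subtype.val heq
  have hv1 : (s2⁻¹ * s1 : ↥(Q : Subgroup G)) ≠ 1 := by
    intro e
    apply hne
    have : s1 = s2 * (s2⁻¹ * s1) := by group
    rw [this, e, mul_one]
  have hv8 : (s2⁻¹ * s1 : ↥(Q : Subgroup G)) ^ 8 = 1 := by
    rw [← hcQ]
    exact pow_card_eq_one'
  have hv1' : s2.1⁻¹ * s1.1 ≠ 1 := fun e => hv1 (Subtype.ext e)
  have hv8' : (s2.1⁻¹ * s1.1) ^ 8 = 1 := congrArg Subtype.val hv8
  have hcomm : Commute (s2.1⁻¹ * s1.1) φ := by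
    show s2.1⁻¹ * s1.1 * φ = φ * (s2.1⁻¹ * s1.1)
    have : s2.1⁻¹ * s1.1 * φ = s2.1⁻¹ * (s1.1 * φ * s1.1⁻¹) * s1.1 := by group
    rw [this, heq']
    group
  by_cases h2 : (s2.1⁻¹ * s1.1) ^ 2 = 1
  · exact ⟨s2.1⁻¹ * s1.1, by rw [← pow_two]; exact h2, hv1', hcomm.eq⟩
  · by_cases h4 : (s2.1⁻¹ * s1.1) ^ 4 = 1
    · refine ⟨(s2.1⁻¹ * s1.1) ^ 2, ?_, h2, (hcomm.pow_left 2).eq⟩
      rw [← pow_add]
      exact h4
    · refine ⟨(s2.1⁻¹ * s1.1) ^ 4, ?_, h4, (hcomm.pow_left 4).eq⟩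
      rw [← pow_add]
      exact hv8'

open Classical in
/-- The orbit of a point under a subgroup, as a finset. -/
noncomputable def orb (H : Subgroup (Equiv.Perm GolayPt)) (p : GolayPt) : Finset GolayPt :=
  Finset.univ.filter (fun q => ∃ k ∈ H, k p = q)

theorem mem_orb {H : Subgroup (Equiv.Perm GolayPt)} {p q : GolayPt} :
    q ∈ orb H p ↔ ∃ k ∈ H, k p = q := by
  classical
  simp [orb]

theorem self_mem_orb (H : Subgroup (Equiv.Perm GolayPt)) (p : GolayPt) : p ∈ orb H p :=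
  mem_orb.2 ⟨1, H.one_mem, rfl⟩

theorem orb_inv {H : Subgroup (Equiv.Perm GolayPt)} {p : GolayPt} {k : Equiv.Perm GolayPt}
    (hk : k ∈ H) (x : GolayPt) : k x ∈ orb H p ↔ x ∈ orb H p := by
  rw [mem_orb, mem_orb]
  constructor
  · rintro ⟨m, hm, e⟩
    refine ⟨k⁻¹ * m, Subgroup.mul_mem _ (Subgroup.inv_mem _ hk) hm, ?_⟩
    rw [Equiv.Perm.mul_apply, e]
    simp
  · rintro ⟨m, hm, e⟩
    exact ⟨k * m, Subgroup.mul_mem _ hk hm, by rw [Equiv.Perm.mul_apply, e]⟩

theorem card_orb (H : Subgroup (Equiv.Perm GolayPt)) (p : GolayPt) :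
    Nat.card H = (orb H p).card *
      Nat.card ↥(H ⊓ MulAction.stabilizer (Equiv.Perm GolayPt) p) := by
  classical
  have h1 := card_eq_orbit_mul H p
  have h2 : MulAction.orbit H p = {q | ∃ k ∈ H, k p = q} := by
    ext q
    constructor
    · rintro ⟨g, rfl⟩
      exact ⟨g.1, g.2, rfl⟩
    · rintro ⟨g, hg, rfl⟩
      exact ⟨⟨g, hg⟩, rfl⟩
  rw [h2, ncard_pts] at h1
  rw [h1]
  congr 2

theorem orb_disj {H : Subgroup (Equiv.Perm GolayPt)} {p : GolayPt} {A : Finset GolayPt}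
    (hfix : ∀ k ∈ H, ∀ a ∈ A, k a = a) (hp : p ∉ A) : ∀ a ∈ A, a ∉ orb H p := by
  intro a ha h
  obtain ⟨k, hk, e⟩ := mem_orb.1 h
  have h2 := hfix k hk a ha
  have : p = a := k.injective (e.trans h2.symm)
  exact hp (this ▸ ha)

theorem orb_card_le {H : Subgroup (Equiv.Perm GolayPt)} {p : GolayPt} {A : Finset GolayPt}
    (hfix : ∀ k ∈ H, ∀ a ∈ A, k a = a) (hp : p ∉ A) : (orb H p).card + A.card ≤ 24 := by
  have hd : Disjoint (orb H p) A := by
    rw [Finset.disjoint_left]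
    intro a h1 h2
    exact orb_disj hfix hp a h2 h1
  rw [← Finset.card_union_of_disjoint hd, ← card_pts, ← Finset.card_univ]
  exact Finset.card_le_card (Finset.subset_univ _)

theorem orb_mod0 {H : Subgroup (Equiv.Perm GolayPt)} {p : GolayPt} {A : Finset GolayPt}
    (hfix : ∀ k ∈ H, ∀ a ∈ A, k a = a) (hp : p ∉ A) {ψ : Equiv.Perm GolayPt} (hψ : ψ ∈ H)
    (r : ℕ) [Fact r.Prime] (hr : ψ ^ r = 1) (hF : ∀ x, ψ x = x → x ∈ A) :
    (orb H p).card % r = 0 := by
  have h := card_modEq_fixed ψ r hr (orb H p) (orb_inv hψ)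
  have he : (orb H p).filter (fun x => ψ x = x) = ∅ := by
    rw [Finset.filter_eq_empty_iff]
    intro x hx hfx
    exact orb_disj hfix hp x (hF x hfx) hx
  rw [he, Finset.card_empty] at h
  unfold Nat.ModEq at h
  rw [← h]
  exact Nat.zero_mod r

theorem orb_mod1 {H : Subgroup (Equiv.Perm GolayPt)} {p : GolayPt} {A : Finset GolayPt}
    (hfix : ∀ k ∈ H, ∀ a ∈ A, k a = a) (hp : p ∉ A) {ψ : Equiv.Perm GolayPt} (hψ : ψ ∈ H)
    (r : ℕ) [Fact r.Prime] (hr : ψ ^ r = 1) (hpf : ψ p = p)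
    (hF : ∀ x, ψ x = x → x ∈ A ∨ x = p) : (orb H p).card % r = 1 % r := by
  have h := card_modEq_fixed ψ r hr (orb H p) (orb_inv hψ)
  have he : (orb H p).filter (fun x => ψ x = x) = {p} := by
    ext x
    rw [Finset.mem_filter, Finset.mem_singleton]
    constructor
    · rintro ⟨hx, hfx⟩
      rcases hF x hfx with h1 | h1
      · exact absurd hx (orb_disj hfix hp x h1)
      · exact h1
    · rintro rfl
      exact ⟨self_mem_orb H x, hpf⟩
  rw [he, Finset.card_singleton] at h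
  unfold Nat.ModEq at h
  exact h.symm

theorem prime_elt (H : Subgroup (Equiv.Perm GolayPt)) (hH : H ≤ M24) (r : ℕ) [Fact r.Prime]
    (hr : r ∣ Nat.card H) (h48 : Nat.gcd 48 r = 1) :
    ∃ ψ ∈ H, ψ ^ r = 1 ∧ ψ ≠ 1 ∧ (Finset.univ.filter (fun x => ψ x = x)).card < 5 ∧
      (Finset.univ.filter (fun x => ψ x = x)).card % r = 24 % r := by
  obtain ⟨s, hs⟩ := exists_prime_orderOf_dvd_card' (G := ↥H) r hr
  have hsr : s.1 ^ r = 1 := by
    have := pow_orderOf_eq_one s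
    rw [hs] at this
    exact congrArg Subtype.val this
  have hs1 : s.1 ≠ 1 := by
    intro h
    have : s = 1 := Subtype.ext h
    rw [this, orderOf_one] at hs
    exact (Fact.out : r.Prime).one_lt.ne hs
  obtain ⟨h1, h2⟩ := fixed_card (hH s.2) r hsr hs1 h48
  exact ⟨s.1, s.2, hsr, hs1, h1, h2⟩

theorem fixset0 {ψ : Equiv.Perm GolayPt} {A : Finset GolayPt} (hA : ∀ a ∈ A, ψ a = a)
    (hc : (Finset.univ.filter (fun x => ψ x = x)).card = A.card) : ∀ x, ψ x = x → x ∈ A := by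
  have hsub : A ⊆ Finset.univ.filter (fun x => ψ x = x) := fun a ha =>
    Finset.mem_filter.2 ⟨Finset.mem_univ _, hA a ha⟩
  have := Finset.eq_of_subset_of_card_le hsub hc.le
  intro x hx
  rw [this]
  exact Finset.mem_filter.2 ⟨Finset.mem_univ _, hx⟩

theorem fixset1 {ψ : Equiv.Perm GolayPt} {A : Finset GolayPt} (hA : ∀ a ∈ A, ψ a = a)
    (hc : (Finset.univ.filter (fun x => ψ x = x)).card = A.card + 1) :
    ∃ p, p ∉ A ∧ ψ p = p ∧ ∀ x, ψ x = x → x ∈ A ∨ x = p := by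
  have hsub : A ⊆ Finset.univ.filter (fun x => ψ x = x) := fun a ha =>
    Finset.mem_filter.2 ⟨Finset.mem_univ _, hA a ha⟩
  have h1 : ((Finset.univ.filter (fun x => ψ x = x)) \ A).card = 1 := by
    rw [Finset.card_sdiff_of_subset hsub, hc]
    omega
  obtain ⟨p, hp⟩ := Finset.card_eq_one.1 h1
  have hpm : p ∈ (Finset.univ.filter (fun x => ψ x = x)) \ A := by
    rw [hp]
    exact Finset.mem_singleton_self p
  rw [Finset.mem_sdiff, Finset.mem_filter] at hpm
  refine ⟨p, hpm.2, hpm.1.2, ?_⟩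
  intro x hx
  by_cases hxA : x ∈ A
  · exact Or.inl hxA
  · right
    have : x ∈ (Finset.univ.filter (fun x => ψ x = x)) \ A :=
      Finset.mem_sdiff.2 ⟨Finset.mem_filter.2 ⟨Finset.mem_univ _, hx⟩, hxA⟩
    rw [hp] at this
    exact Finset.mem_singleton.1 this

theorem stab_fix {H : Subgroup (Equiv.Perm GolayPt)} {A : Finset GolayPt} {p : GolayPt}
    (hfix : ∀ k ∈ H, ∀ a ∈ A, k a = a) :
    ∀ k ∈ H ⊓ MulAction.stabilizer (Equiv.Perm GolayPt) p, ∀ a ∈ insert p A, k a = a := by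
  intro k hk a ha
  rw [Subgroup.mem_inf] at hk
  rcases Finset.mem_insert.1 ha with rfl | ha
  · exact hk.2
  · exact hfix k hk.1 a ha

end AutA
end Cfsg.Agent.Lib.Helper4
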