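import Cfsg.Agent.Lib.Helper4.AutE

set_option autoImplicit false

namespace Cfsg.Agent.Lib.Helper4
namespace AutA

open Pointwise Golay

theorem exists_notMem_of_card {A : Finset GolayPt} (h : A.card < 24) : ∃ d, d ∉ A := by
  by_contra hno
  have : A = Finset.univ :=
    Finset.eq_univ_iff_forall.2 (fun x => by by_contra hx; exact hno ⟨x, hx⟩)
  rw [this, Finset.card_univ, card_pts] at h
  omega

/-- A subgroup of index 24 of the group of the code fixes a point. -/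
theorem fix24 (K : Subgroup (Equiv.Perm GolayPt)) (hK : K ≤ M24) (hc : Nat.card K = 10200960) :
    ∃ c : GolayPt, ∀ k ∈ K, k c = c := by
  have p23 : Fact (Nat.Prime 23) := ⟨by norm_num⟩
  have p11 : Fact (Nat.Prime 11) := ⟨by norm_num⟩
  have p7 : Fact (Nat.Prime 7) := ⟨by norm_num⟩
  have p5 : Fact (Nat.Prime 5) := ⟨by norm_num⟩
  -- stage 0
  obtain ⟨ψ0, hψ0, hψ0r, -, hψ0a, hψ0b⟩ := prime_elt K hK 23 (by rw [hc]; norm_num) (by norm_num)
  have hF0 : (Finset.univ.filter (fun x => ψ0 x = x)).card = (∅ : Finset GolayPt).card + 1 := by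
    rw [Finset.card_empty]
    omega
  obtain ⟨c, -, hc0, hcF⟩ := fixset1 (A := ∅) (by simp) hF0
  have hfix0 : ∀ k ∈ K, ∀ a ∈ (∅ : Finset GolayPt), k a = a := by simp
  have hm0 := orb_mod1 hfix0 (Finset.notMem_empty c) hψ0 23 hψ0r hc0 hcF
  have hle0 := orb_card_le hfix0 (Finset.notMem_empty c)
  have hcard0 := card_orb K c
  have hpos0 : 0 < (orb K c).card := Finset.card_pos.2 ⟨c, self_mem_orb K c⟩
  by_cases hone : (orb K c).card = 1
  · refine ⟨c, ?_⟩
    intro k hk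
    obtain ⟨c', hc'⟩ := Finset.card_eq_one.1 hone
    have h1 : c ∈ orb K c := self_mem_orb K c
    have h2 : k c ∈ orb K c := (orb_inv hk c).2 h1
    rw [hc'] at h1 h2
    rw [Finset.mem_singleton.1 h2, Finset.mem_singleton.1 h1]
  exfalso
  have hn0 : (orb K c).card = 24 := by
    rw [Finset.card_empty] at hle0
    omega
  rw [hn0, hc] at hcard0
  -- stage 1
  obtain ⟨K1, hK1⟩ : ∃ K1, K1 = K ⊓ MulAction.stabilizer (Equiv.Perm GolayPt) c := ⟨_, rfl⟩
  rw [← hK1] at hcard0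
  have hcK1 : Nat.card K1 = 425040 := by omega
  have hK1le : K1 ≤ M24 := fun k hk => hK (Subgroup.mem_inf.1 (hK1 ▸ hk)).1
  have hfix1 : ∀ k ∈ K1, ∀ a ∈ insert c (∅ : Finset GolayPt), k a = a := by
    rw [hK1]
    exact stab_fix hfix0
  have hA1 : (insert c (∅ : Finset GolayPt)).card = 1 := by simp
  obtain ⟨ψ1, hψ1, hψ1r, -, hψ1a, hψ1b⟩ :=
    prime_elt K1 hK1le 23 (by rw [hcK1]; norm_num) (by norm_num)
  have hF1 := fixset0 (fun a ha => hfix1 ψ1 hψ1 a ha) (by rw [hA1]; omega)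
  obtain ⟨d, hd⟩ := exists_notMem_of_card (A := insert c (∅ : Finset GolayPt)) (by rw [hA1]; norm_num)
  have hm1 := orb_mod0 hfix1 hd hψ1 23 hψ1r hF1
  have hle1 := orb_card_le hfix1 hd
  have hcard1 := card_orb K1 d
  have hpos1 : 0 < (orb K1 d).card := Finset.card_pos.2 ⟨d, self_mem_orb K1 d⟩
  have hn1 : (orb K1 d).card = 23 := by
    rw [hA1] at hle1
    omega
  rw [hn1, hcK1] at hcard1
  -- stage 2
  obtain ⟨K2, hK2⟩ : ∃ K2, K2 = K1 ⊓ MulAction.stabilizer (Equiv.Perm GolayPt) d := ⟨_, rfl⟩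
  rw [← hK2] at hcard1
  have hcK2 : Nat.card K2 = 18480 := by omega
  have hK2le : K2 ≤ M24 := fun k hk => hK1le (Subgroup.mem_inf.1 (hK2 ▸ hk)).1
  have hfix2 : ∀ k ∈ K2, ∀ a ∈ insert d (insert c (∅ : Finset GolayPt)), k a = a := by
    rw [hK2]
    exact stab_fix hfix1
  have hA2 : (insert d (insert c (∅ : Finset GolayPt))).card = 2 := by
    rw [Finset.card_insert_of_notMem hd, hA1]
  obtain ⟨τ, hτ, hτr, -, hτa, hτb⟩ :=
    prime_elt K2 hK2le 11 (by rw [hcK2]; norm_num) (by norm_num)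
  obtain ⟨υ, hυ, hυr, -, hυa, hυb⟩ :=
    prime_elt K2 hK2le 7 (by rw [hcK2]; norm_num) (by norm_num)
  have hFτ := fixset0 (fun a ha => hfix2 τ hτ a ha) (by rw [hA2]; omega)
  obtain ⟨e, he, hυe, hFυ⟩ := fixset1 (fun a ha => hfix2 υ hυ a ha) (by rw [hA2]; omega)
  have hm2 := orb_mod0 hfix2 he hτ 11 hτr hFτ
  have hm2' := orb_mod1 hfix2 he hυ 7 hυr hυe hFυ
  have hle2 := orb_card_le hfix2 he
  have hcard2 := card_orb K2 e
  have hn2 : (orb K2 e).card = 22 := by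
    rw [hA2] at hle2
    omega
  rw [hn2, hcK2] at hcard2
  -- stage 3
  obtain ⟨K3, hK3⟩ : ∃ K3, K3 = K2 ⊓ MulAction.stabilizer (Equiv.Perm GolayPt) e := ⟨_, rfl⟩
  rw [← hK3] at hcard2
  have hcK3 : Nat.card K3 = 840 := by omega
  have hK3le : K3 ≤ M24 := fun k hk => hK2le (Subgroup.mem_inf.1 (hK3 ▸ hk)).1
  have hfix3 : ∀ k ∈ K3, ∀ a ∈ insert e (insert d (insert c (∅ : Finset GolayPt))), k a = a := by
    rw [hK3]
    exact stab_fix hfix2
  have hA3 : (insert e (insert d (insert c (∅ : Finset GolayPt)))).card = 3 := by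
    rw [Finset.card_insert_of_notMem he, hA2]
  obtain ⟨υ', hυ', hυ'r, -, hυ'a, hυ'b⟩ :=
    prime_elt K3 hK3le 7 (by rw [hcK3]; norm_num) (by norm_num)
  obtain ⟨φ, hφ, hφr, -, hφa, hφb⟩ :=
    prime_elt K3 hK3le 5 (by rw [hcK3]; norm_num) (by norm_num)
  have hFυ' := fixset0 (fun a ha => hfix3 υ' hυ' a ha) (by rw [hA3]; omega)
  obtain ⟨f, hf, hφf, hFφ⟩ := fixset1 (fun a ha => hfix3 φ hφ a ha) (by rw [hA3]; omega)
  have hm3 := orb_mod0 hfix3 hf hυ' 7 hυ'r hFυ'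
  have hm3' := orb_mod1 hfix3 hf hφ 5 hφr hφf hFφ
  have hle3 := orb_card_le hfix3 hf
  have hcard3 := card_orb K3 f
  have hn3 : (orb K3 f).card = 21 := by
    rw [hA3] at hle3
    omega
  rw [hn3, hcK3] at hcard3
  -- stage 4
  obtain ⟨K4, hK4⟩ : ∃ K4, K4 = K3 ⊓ MulAction.stabilizer (Equiv.Perm GolayPt) f := ⟨_, rfl⟩
  rw [← hK4] at hcard3
  have hcK4 : Nat.card K4 = 40 := by omega
  have hK4le : K4 ≤ M24 := fun k hk => hK3le (Subgroup.mem_inf.1 (hK4 ▸ hk)).1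
  have hfix4 : ∀ k ∈ K4,
      ∀ a ∈ insert f (insert e (insert d (insert c (∅ : Finset GolayPt)))), k a = a := by
    rw [hK4]
    exact stab_fix hfix3
  have hA4 : (insert f (insert e (insert d (insert c (∅ : Finset GolayPt))))).card = 4 := by
    rw [Finset.card_insert_of_notMem hf, hA3]
  obtain ⟨φ', hφ', hφ'r, hφ'1, hφ'a, hφ'b⟩ :=
    prime_elt K4 hK4le 5 (by rw [hcK4]; norm_num) (by norm_num)
  have hFφ' := fixset0 (fun a ha => hfix4 φ' hφ' a ha) (by rw [hA4]; omega)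
  obtain ⟨t, ht2, ht1, htc⟩ := syl40 (G := ↥K4) hcK4 ⟨φ', hφ'⟩ (Subtype.ext hφ'r)
    (fun h => hφ'1 (congrArg Subtype.val h))
  have ht2' : t.1 * t.1 = 1 := congrArg Subtype.val ht2
  have ht1' : t.1 ≠ 1 := fun h => ht1 (Subtype.ext h)
  have htc' : t.1 * φ' = φ' * t.1 := congrArg Subtype.val htc
  have h8 := inv_fix8 (hK4le t.2) ht2' ht1' _ hA4 (fun a ha => hfix4 t.1 t.2 a ha)
  have hinv : ∀ x, φ' x ∈ Finset.univ.filter (fun p => t.1 p = p) ↔
      x ∈ Finset.univ.filter (fun p => t.1 p = p) := by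
    intro x
    rw [Finset.mem_filter, Finset.mem_filter]
    simp only [Finset.mem_univ, true_and]
    have e1 : t.1 (φ' x) = φ' (t.1 x) := by
      rw [← Equiv.Perm.mul_apply, htc', Equiv.Perm.mul_apply]
    rw [e1]
    exact φ'.injective.eq_iff
  have hmod := card_modEq_fixed φ' 5 hφ'r _ hinv
  have hfil : (Finset.univ.filter (fun p => t.1 p = p)).filter (fun x => φ' x = x)
      = insert f (insert e (insert d (insert c (∅ : Finset GolayPt)))) := by
    ext x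
    rw [Finset.mem_filter, Finset.mem_filter]
    constructor
    · rintro ⟨-, hx⟩
      exact hFφ' x hx
    · intro hx
      exact ⟨⟨Finset.mem_univ _, hfix4 t.1 t.2 x hx⟩, hfix4 φ' hφ' x hx⟩
  rw [hfil, hA4, h8] at hmod
  exact absurd hmod (by decide)

end AutA
end Cfsg.Agent.Lib.Helper4
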