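import Cfsg.Agent.Lib.Helper4.AutF

set_option autoImplicit false

namespace Cfsg.Agent.Lib.Helper4
namespace AutA

open Pointwise Golay

/-- The group of the code as a type. -/
abbrev G24 : Type := ↥M24

theorem sep24 {b b' : GolayPt} (h : b ≠ b') : ∃ k : G24, k.1 b = b ∧ k.1 b' ≠ b' := by
  obtain ⟨q, hq⟩ := exists_notMem_of_card (A := insert b (insert b' (∅ : Finset GolayPt))) (by
    have := Finset.card_insert_le b (insert b' (∅ : Finset GolayPt))
    have := Finset.card_insert_le b' (∅ : Finset GolayPt)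
    rw [Finset.card_empty] at this
    omega)
  rw [Finset.mem_insert, Finset.mem_insert, not_or, not_or] at hq
  obtain ⟨k, hk, e1, e2⟩ := exists_map2 h (Ne.symm hq.1)
  exact ⟨⟨k, hk⟩, e1, by show k b' ≠ b'; rw [e2]; exact hq.2.1⟩

theorem card_stab24 (a : GolayPt) : Nat.card ↥(MulAction.stabilizer G24 a) = 10200960 :=
  card_stab_pt a

theorem mem_stab24 {a : GolayPt} {k : G24} : k ∈ MulAction.stabilizer G24 a ↔ k.1 a = a :=
  Iff.rfl

/-- The image of a point stabiliser under an automorphism fixes the point `c`. -/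
def Q24 (α : MulAut G24) (a c : GolayPt) : Prop :=
  ∀ k : G24, k.1 a = a → (α k).1 c = c

theorem exQ24 (α : MulAut G24) (a : GolayPt) : ∃ c, Q24 α a c := by
  have hcard : Nat.card ↥(((MulAction.stabilizer G24 a).map α.toMonoidHom).map
      M24.subtype) = 10200960 := by
    rw [Subgroup.card_map_of_injective (Subgroup.subtype_injective _),
      Subgroup.card_map_of_injective α.injective]
    exact card_stab24 a
  have hle : ((MulAction.stabilizer G24 a).map α.toMonoidHom).map M24.subtype ≤ M24 := by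
    rintro x ⟨y, -, rfl⟩
    exact y.2
  obtain ⟨c, hfix⟩ := fix24 _ hle hcard
  refine ⟨c, ?_⟩
  intro k hk
  exact hfix _ ⟨α k, ⟨k, mem_stab24.2 hk, rfl⟩, rfl⟩

theorem Q24_iff {α : MulAut G24} {a c : GolayPt} (h : Q24 α a c) (k : G24) :
    k.1 a = a ↔ (α k).1 c = c := by
  refine ⟨h k, ?_⟩
  intro hk
  have hle : (MulAction.stabilizer G24 a).map α.toMonoidHom ≤ MulAction.stabilizer G24 c := by
    rintro x ⟨y, hy, rfl⟩
    exact mem_stab24.2 (h y (mem_stab24.1 hy))
  have heq := Subgroup.eq_of_le_of_card_ge hle (by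
    rw [Subgroup.card_map_of_injective α.injective, card_stab24 a, card_stab24 c])
  have hmem : α k ∈ (MulAction.stabilizer G24 a).map α.toMonoidHom := by
    rw [heq]
    exact mem_stab24.2 hk
  obtain ⟨y, hy, e⟩ := hmem
  have : y = k := α.injective e
  rw [← this]
  exact mem_stab24.1 hy

theorem Q24_unique {α : MulAut G24} {a c c' : GolayPt} (h : Q24 α a c) (h' : Q24 α a c') :
    c = c' := by
  by_contra hne
  obtain ⟨m, hm1, hm2⟩ := sep24 hne
  have e : α (α.symm m) = m := α.apply_symm_apply m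
  have h1 : (α.symm m).1 a = a := (Q24_iff h _).2 (by rw [e]; exact hm1)
  have h2 := h' _ h1
  rw [e] at h2
  exact hm2 h2

theorem Q24_inj {α : MulAut G24} {a a' c : GolayPt} (h : Q24 α a c) (h' : Q24 α a' c) :
    a = a' := by
  by_contra hne
  obtain ⟨m, hm1, hm2⟩ := sep24 hne
  exact hm2 ((Q24_iff h' m).2 (h m hm1))

theorem Q24_equiv {α : MulAut G24} {a c : GolayPt} (h : Q24 α a c) (g : G24) :
    Q24 α (g.1 a) ((α g).1 c) := by
  intro k hk
  have h1 : (g⁻¹ * k * g).1 a = a := by
    show g.1⁻¹ (k.1 (g.1 a)) = a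
    rw [hk]
    simp
  have h2 := h _ h1
  rw [map_mul, map_mul, map_inv] at h2
  have h3 : (α g).1⁻¹ ((α k).1 ((α g).1 c)) = c := h2
  rw [Equiv.Perm.inv_eq_iff_eq] at h3
  exact h3

/-- The permutation of the points induced by an automorphism. -/
noncomputable def piFun24 (α : MulAut G24) : GolayPt → GolayPt := fun a =>
  Classical.choose (exQ24 α a)

theorem piFun24_spec (α : MulAut G24) (a : GolayPt) : Q24 α a (piFun24 α a) :=
  Classical.choose_spec (exQ24 α a)

theorem piFun24_inj (α : MulAut G24) : Function.Injective (piFun24 α) := by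
  intro a a' e
  have h1 := piFun24_spec α a
  have h2 := piFun24_spec α a'
  rw [e] at h1
  exact Q24_inj h1 h2

theorem piFun24_rel (α : MulAut G24) (g : G24) (a : GolayPt) :
    (α g).1 (piFun24 α a) = piFun24 α (g.1 a) :=
  Q24_unique (Q24_equiv (piFun24_spec α a) g) (piFun24_spec α (g.1 a))

/-- Every automorphism of the group of the code is inner. -/
theorem inner24 (α : MulAut G24) : ∃ m : G24, α = MulAut.conj m := by
  have hbij : Function.Bijective (piFun24 α) :=
    (Finite.injective_iff_bijective).1 (piFun24_inj α)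
  let ρ : Equiv.Perm GolayPt := Equiv.ofBijective _ hbij
  have hρ : ∀ a, ρ a = piFun24 α a := fun a => rfl
  have hrel : ∀ g : G24, (α g).1 = ρ * g.1 * ρ⁻¹ := by
    intro g
    apply Equiv.ext
    intro b
    have h1 := piFun24_rel α g (ρ⁻¹ b)
    rw [← hρ, ← hρ] at h1
    rw [Equiv.Perm.mul_apply, Equiv.Perm.mul_apply, ← h1]
    simp
  have hρM : ρ ∈ M24 := by
    apply mem_M24_of_octads
    intro o ho _
    apply octad_of_conj ρ ho
    intro z hz
    have := hrel ⟨z, (Subgroup.mem_inf.1 hz).1⟩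
    rw [← this]
    exact (α _).2
  refine ⟨⟨ρ, hρM⟩, ?_⟩
  apply MulEquiv.ext
  intro g
  apply Subtype.ext
  rw [hrel g]
  rfl

end AutA
end Cfsg.Agent.Lib.Helper4
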