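import Cfsg.Agent.Lib.Helper4.Rk5

set_option autoImplicit false
set_option linter.unnecessarySeqFocus false

namespace Cfsg.Agent.Lib.Helper4
namespace Rk

open Pointwise Golay

/-- Entry check with a general class function. -/
def rkChkG (cls : ℕ → ℕ) (Om : ℕ) (fx : List ℕ) (rep : ℕ → ℕ) (e : ℕ × List ℕ × List ℕ) : Bool :=
  and (and (chk e.2.1 e.2.2) (memChk e.2.1))
    (and (and (Nat.beq (pmL e.2.1 Om) Om) (Nat.beq (pmL e.2.1 e.1) (rep (cls e.1))))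
      (fx.all (fun f => Nat.beq (nth e.2.1 f) f)))

theorem rk_specG (cls : ℕ → ℕ) (Om : ℕ) (fx : List ℕ) (hfx : ∀ f ∈ fx, f < 24) (rep : ℕ → ℕ)
    (T : List (ℕ × List ℕ × List ℕ)) (hT : T.all (rkChkG cls Om fx rep) = true)
    (e : ℕ × List ℕ × List ℕ) (he : e ∈ T) :
    ∃ g ∈ M24, (∀ f ∈ fx, g (pt f) = pt f) ∧ g • support₂ (word Om) = support₂ (word Om) ∧
      g • support₂ (word (rep (cls e.1))) = support₂ (word e.1) := by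
  rw [List.all_eq_true] at hT
  have h1 := hT e he
  simp only [rkChkG, Bool.and_eq_true, List.all_eq_true, Nat.beq_eq] at h1
  obtain ⟨⟨hc, hm⟩, ⟨hO, hr⟩, hfix⟩ := h1
  refine ⟨mkPerm e.2.1 e.2.2 hc, mkPerm_mem _ _ _ hm, ?_, smul_support_word hc hO,
    smul_support_word hc hr⟩
  intro f hf
  rw [mkPerm_pt _ _ _ f (hfx f hf), hfix f hf]

/-- The masks of the pairs of points. -/
def pairMasks : List ℕ :=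
  (List.range 24).flatMap (fun i => (List.range i).map (fun j => 2 ^ i + 2 ^ j))

set_option maxRecDepth 100000 in
theorem pair_bits : ∀ i < 24, ∀ j < i, ∀ c < 24,
    Nat.testBit (2 ^ i + 2 ^ j) c = (Nat.beq c i || Nat.beq c j) := by decide +kernel

theorem support_pair (i j : ℕ) (hi : i < 24) (hj : j < i) :
    support₂ (word (2 ^ i + 2 ^ j)) = {pt i, pt j} := by
  ext p
  rw [mem_support_word, pair_bits i hi j hj (code p) (code_lt p), Finset.mem_insert,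
    Finset.mem_singleton]
  simp only [Bool.or_eq_true, Nat.beq_eq]
  constructor
  · rintro (h | h)
    · left; rw [← h, pt_code]
    · right; rw [← h, pt_code]
  · rintro (h | h)
    · left; rw [h, code_pt i hi]
    · right; rw [h, code_pt j (by omega)]

theorem exists_pair_mask (t : Finset GolayPt) (ht : t.card = 2) :
    ∃ m ∈ pairMasks, t = support₂ (word m) := by
  obtain ⟨a, b, hab, rfl⟩ := Finset.card_eq_two.1 ht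
  have hne : code a ≠ code b := fun h => hab (by rw [← pt_code a, ← pt_code b, h])
  rcases Nat.lt_or_gt_of_ne hne with h | h
  · refine ⟨2 ^ code b + 2 ^ code a, ?_, ?_⟩
    · simp only [pairMasks, List.mem_flatMap, List.mem_range, List.mem_map]
      exact ⟨code b, code_lt b, code a, h, rfl⟩
    · rw [support_pair _ _ (code_lt b) h, pt_code, pt_code, Finset.pair_comm]
  · refine ⟨2 ^ code a + 2 ^ code b, ?_, ?_⟩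
    · simp only [pairMasks, List.mem_flatMap, List.mem_range, List.mem_map]
      exact ⟨code a, code_lt a, code b, h, rfl⟩
    · rw [support_pair _ _ (code_lt a) h, pt_code, pt_code]

set_option maxRecDepth 100000 in
theorem pairMasks_nodup : pairMasks.Nodup := by decide +kernel

set_option maxRecDepth 100000 in
theorem pairMasks_spec : ∀ m ∈ pairMasks, m < 16777216 ∧ pc m = 2 := by decide +kernel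

/-- The octads through the first four points. -/
def oct5 : List ℕ := [4196943, 622863, 5279, 3416079, 8536111]

/-- Containment of masks. -/
def subB (t o : ℕ) : Bool := (List.range 24).all (fun c => or (not (t.testBit c)) (o.testBit c))

/-- A mask lies in an octad through the first four points. -/
def octf (t : ℕ) : Bool := oct5.any (fun o => subB t o)

theorem subB_iff (t o : ℕ) : subB t o = true ↔ support₂ (word t) ⊆ support₂ (word o) := by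
  simp only [subB, List.all_eq_true, List.mem_range, Bool.or_eq_true, Bool.not_eq_true']
  constructor
  · intro h p hp
    rw [mem_support_word] at hp ⊢
    rcases h (code p) (code_lt p) with h1 | h1
    · rw [h1] at hp
      exact absurd hp (by simp)
    · exact h1
  · intro h c hc
    by_cases hb : t.testBit c = true
    · right
      have := h (mem_support_word.2 (by rw [code_pt c hc]; exact hb) : pt c ∈ support₂ (word t))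
      rwa [mem_support_word, code_pt c hc] at this
    · left
      simpa using hb

/-- A mask of weight eight with the first four bits is one of the five. -/
def oct5P (a : ℕ) : Bool :=
  or (not (and (Nat.beq (pc a) 8) (and (and (a.testBit 0) (a.testBit 1))
    (and (a.testBit 2) (a.testBit 3))))) (oct5.any (fun o => Nat.beq o a))

set_option maxRecDepth 100000 in
theorem oct5P_ok : allComb oct5P basis 0 = true := by decide +kernel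

set_option maxRecDepth 100000 in
theorem oct5_spec : ∀ o ∈ oct5, red basisP o = 0 ∧ pc o = 8 ∧ o.testBit 0 = true ∧
    o.testBit 1 = true ∧ subB 12 o = true := by decide +kernel

theorem s0_eq : support₂ (word 12) = {pt 3, pt 2} := support_pair 3 2 (by norm_num) (by norm_num)

theorem oct_iff (m : ℕ) : (∃ o ∈ octads, pt 0 ∈ o ∧ pt 1 ∈ o ∧
    support₂ (word 12) ∪ support₂ (word m) ⊆ o) ↔ octf m = true := by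
  constructor
  · rintro ⟨o, ⟨⟨v, hv, rfl⟩, h8⟩, h0, h1, hsub⟩
    obtain ⟨a, ha, rfl⟩ := exists_word hv oct5P oct5P_ok
    rw [card_support, hammingNorm_word] at h8
    rw [mem_support_word, code_pt 0 (by norm_num)] at h0
    rw [mem_support_word, code_pt 1 (by norm_num)] at h1
    have h2 : pt 2 ∈ support₂ (word a) := hsub (Finset.mem_union_left _ (by rw [s0_eq]; simp))
    have h3 : pt 3 ∈ support₂ (word a) := hsub (Finset.mem_union_left _ (by rw [s0_eq]; simp))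
    rw [mem_support_word, code_pt 2 (by norm_num)] at h2
    rw [mem_support_word, code_pt 3 (by norm_num)] at h3
    simp only [oct5P, h8, h0, h1, h2, h3, Nat.beq_refl, Bool.and_self, Bool.not_true,
      Bool.false_or, List.any_eq_true, Nat.beq_eq] at ha
    obtain ⟨o, ho, rfl⟩ := ha
    rw [octf, List.any_eq_true]
    exact ⟨o, ho, (subB_iff m o).2 (fun p hp => hsub (Finset.mem_union_right _ hp))⟩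
  · intro h
    rw [octf, List.any_eq_true] at h
    obtain ⟨o, ho, hs⟩ := h
    obtain ⟨hr, h8, h0, h1, h12⟩ := oct5_spec o ho
    refine ⟨support₂ (word o), Stv.mask_octad o hr h8, ?_, ?_, ?_⟩
    · rw [mem_support_word, code_pt 0 (by norm_num)]
      exact h0
    · rw [mem_support_word, code_pt 1 (by norm_num)]
      exact h1
    · exact Finset.union_subset ((subB_iff 12 o).1 h12) ((subB_iff m o).1 hs)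

/-- Selection of the pairs avoiding the first four points with a given octad flag. -/
def selP (oc : Bool) (m : ℕ) : Bool :=
  and (and (and (not (m.testBit 0)) (not (m.testBit 1)))
    (and (not (m.testBit 2)) (not (m.testBit 3)))) (cond oc (octf m) (not (octf m)))

set_option maxRecDepth 100000 in
theorem cnt30 : (pairMasks.filter (selP true)).length = 30 := by decide +kernel

set_option maxRecDepth 100000 in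
theorem cnt160 : (pairMasks.filter (selP false)).length = 160 := by decide +kernel

theorem word_injOn : Set.InjOn (fun m => support₂ (word m)) {m | m ∈ pairMasks} := by
  intro a ha b hb h
  exact word_inj (pairMasks_spec a ha).1 (pairMasks_spec b hb).1 h

/-- The count of pairs for the standard configuration. -/
theorem std_count (oc : Bool) :
    {t : Finset GolayPt | (t.card = 2 ∧ pt 0 ∉ t ∧ pt 1 ∉ t) ∧ Disjoint (support₂ (word 12)) t ∧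
      ((∃ o ∈ octads, pt 0 ∈ o ∧ pt 1 ∈ o ∧ support₂ (word 12) ∪ t ⊆ o) ↔ oc = true)}.ncard
      = (pairMasks.filter (selP oc)).length := by
  have hmem : ∀ m : ℕ, ((pt 0 ∉ support₂ (word m) ∧ pt 1 ∉ support₂ (word m)) ∧
      Disjoint (support₂ (word 12)) (support₂ (word m)) ∧
      ((∃ o ∈ octads, pt 0 ∈ o ∧ pt 1 ∈ o ∧ support₂ (word 12) ∪ support₂ (word m) ⊆ o)
        ↔ oc = true)) ↔ selP oc m = true := by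
    intro m
    rw [oct_iff, s0_eq, Finset.disjoint_insert_left, Finset.disjoint_singleton_left,
      mem_support_word, mem_support_word, mem_support_word, mem_support_word,
      code_pt 0 (by norm_num), code_pt 1 (by norm_num), code_pt 2 (by norm_num),
      code_pt 3 (by norm_num)]
    simp only [selP, Bool.and_eq_true, Bool.not_eq_true', Bool.not_eq_true]
    constructor
    · rintro ⟨⟨h0, h1⟩, ⟨h3, h2⟩, ho⟩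
      refine ⟨⟨⟨h0, h1⟩, h2, h3⟩, ?_⟩
      cases hoc : oc <;> cases hf : octf m <;> simp_all
    · rintro ⟨⟨⟨h0, h1⟩, h2, h3⟩, ho⟩
      refine ⟨⟨h0, h1⟩, ⟨h3, h2⟩, ?_⟩
      cases hoc : oc <;> cases hf : octf m <;> simp_all
  have hset : {t : Finset GolayPt | (t.card = 2 ∧ pt 0 ∉ t ∧ pt 1 ∉ t) ∧
      Disjoint (support₂ (word 12)) t ∧
      ((∃ o ∈ octads, pt 0 ∈ o ∧ pt 1 ∈ o ∧ support₂ (word 12) ∪ t ⊆ o) ↔ oc = true)}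
      = (fun m => support₂ (word m)) '' {m | m ∈ pairMasks ∧ selP oc m = true} := by
    ext t
    simp only [Set.mem_ofPred_eq, Set.mem_image]
    constructor
    · rintro ⟨⟨h2, h0, h1⟩, hd, ho⟩
      obtain ⟨m, hm, rfl⟩ := exists_pair_mask t h2
      exact ⟨m, ⟨hm, (hmem m).1 ⟨⟨h0, h1⟩, hd, ho⟩⟩, rfl⟩
    · rintro ⟨m, ⟨hm, hs⟩, rfl⟩
      obtain ⟨⟨h0, h1⟩, hd, ho⟩ := (hmem m).2 hs
      refine ⟨⟨?_, h0, h1⟩, hd, ho⟩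
      rw [card_support, hammingNorm_word]
      exact (pairMasks_spec m hm).2
  rw [hset, Set.InjOn.ncard_image (word_injOn.mono (fun m hm => hm.1))]
  have h2 : {m | m ∈ pairMasks ∧ selP oc m = true}
      = ((pairMasks.filter (selP oc)).toFinset : Set ℕ) := by
    ext m
    simp only [Set.mem_ofPred_eq, Finset.mem_coe, List.mem_toFinset, List.mem_filter]
  rw [h2, Set.ncard_coe_finset, List.toFinset_card_of_nodup (pairMasks_nodup.filter _)]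

/-- Class of a pair: twice the intersection with the fixed pair, plus the octad flag. -/
def clsG (m : ℕ) : ℕ := 2 * pc (m &&& 12) + cond (octf m) 1 0

/-- Class representatives. -/
def repG : ℕ → ℕ := fun k => cond (Nat.beq k 3) 20 (cond (Nat.beq k 1) 144 48)

set_option maxRecDepth 100000 in
/-- Table of elements fixing the first two points and the fixed pair, carrying class
representatives to the pairs. -/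
def tblG : List (ℕ × List ℕ × List ℕ) := [
  (20, [0, 1, 2, 3, 4, 5, 6, 7, 8, 9, 10, 11, 12, 13, 14, 15, 16, 17, 18, 19, 20, 21, 22, 23], [0, 1, 2, 3, 4, 5, 6, 7, 8, 9, 10, 11, 12, 13, 14, 15, 16, 17, 18, 19, 20, 21, 22, 23]),
  (24, [0, 1, 3, 2, 4, 15, 21, 10, 6, 13, 7, 18, 12, 23, 16, 22, 11, 8, 14, 9, 5, 17, 20, 19], [0, 1, 3, 2, 4, 20, 8, 10, 17, 19, 7, 16, 12, 9, 18, 5, 14, 21, 11, 23, 22, 6, 15, 13]),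
  (36, [0, 1, 2, 3, 5, 19, 7, 14, 20, 4, 17, 10, 23, 6, 16, 21, 13, 8, 9, 18, 11, 22, 12, 15], [0, 1, 2, 3, 9, 4, 13, 6, 17, 18, 11, 20, 22, 16, 7, 23, 14, 10, 19, 5, 8, 15, 21, 12]),
  (40, [0, 1, 3, 2, 5, 10, 22, 23, 19, 11, 17, 6, 14, 20, 7, 16, 8, 4, 18, 15, 13, 21, 9, 12], [0, 1, 3, 2, 17, 4, 11, 14, 16, 22, 5, 9, 23, 20, 12, 19, 15, 10, 18, 8, 13, 21, 6, 7]),
  (48, [0, 1, 2, 3, 4, 5, 6, 7, 8, 9, 10, 11, 12, 13, 14, 15, 16, 17, 18, 19, 20, 21, 22, 23], [0, 1, 2, 3, 4, 5, 6, 7, 8, 9, 10, 11, 12, 13, 14, 15, 16, 17, 18, 19, 20, 21, 22, 23]),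
  (68, [0, 1, 2, 3, 6, 12, 19, 11, 21, 15, 9, 8, 22, 17, 7, 20, 18, 4, 5, 13, 23, 14, 16, 10], [0, 1, 2, 3, 17, 18, 4, 14, 11, 10, 23, 7, 5, 19, 21, 9, 22, 13, 16, 6, 15, 8, 12, 20]),
  (72, [0, 1, 3, 2, 6, 10, 17, 11, 20, 23, 22, 5, 9, 19, 7, 21, 18, 4, 8, 13, 15, 16, 14, 12], [0, 1, 3, 2, 17, 11, 4, 14, 18, 12, 5, 7, 23, 19, 22, 20, 21, 6, 16, 13, 8, 15, 10, 9]),
  (80, [0, 1, 2, 3, 4, 6, 21, 10, 15, 20, 12, 18, 7, 23, 11, 19, 16, 9, 14, 8, 17, 5, 13, 22], [0, 1, 2, 3, 4, 21, 5, 12, 19, 17, 7, 14, 10, 22, 18, 8, 16, 20, 11, 15, 9, 6, 23, 13]),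
  (96, [0, 1, 2, 3, 5, 6, 21, 14, 10, 13, 17, 20, 23, 19, 22, 7, 4, 11, 15, 12, 8, 16, 18, 9], [0, 1, 2, 3, 16, 4, 5, 15, 20, 23, 8, 17, 19, 9, 7, 18, 21, 10, 22, 13, 11, 6, 14, 12]),
  (132, [0, 1, 2, 3, 7, 21, 11, 12, 5, 6, 10, 9, 4, 15, 20, 17, 14, 13, 19, 23, 16, 8, 22, 18], [0, 1, 2, 3, 12, 8, 9, 4, 21, 11, 10, 6, 7, 17, 16, 13, 20, 15, 23, 18, 14, 5, 22, 19]),
  (136, [0, 1, 3, 2, 7, 23, 6, 12, 20, 9, 4, 22, 10, 8, 17, 13, 21, 5, 16, 18, 15, 19, 11, 14], [0, 1, 3, 2, 10, 17, 6, 4, 13, 9, 12, 22, 7, 15, 23, 20, 18, 14, 19, 21, 8, 16, 11, 5]),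
  (144, [0, 1, 2, 3, 4, 5, 6, 7, 8, 9, 10, 11, 12, 13, 14, 15, 16, 17, 18, 19, 20, 21, 22, 23], [0, 1, 2, 3, 4, 5, 6, 7, 8, 9, 10, 11, 12, 13, 14, 15, 16, 17, 18, 19, 20, 21, 22, 23]),
  (160, [0, 1, 2, 3, 5, 7, 22, 17, 21, 11, 23, 9, 14, 15, 10, 18, 13, 4, 16, 20, 8, 19, 6, 12], [0, 1, 2, 3, 17, 4, 22, 5, 20, 11, 14, 9, 23, 16, 12, 13, 18, 7, 15, 21, 19, 8, 6, 10]),
  (192, [0, 1, 2, 3, 7, 6, 17, 4, 13, 23, 12, 14, 10, 16, 9, 18, 20, 22, 19, 21, 8, 15, 5, 11], [0, 1, 2, 3, 7, 22, 5, 4, 20, 14, 12, 23, 10, 8, 11, 21, 13, 6, 15, 18, 16, 19, 17, 9]),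
  (260, [0, 1, 2, 3, 8, 5, 9, 16, 13, 22, 15, 11, 19, 4, 17, 18, 20, 23, 10, 21, 7, 12, 6, 14], [0, 1, 2, 3, 13, 5, 22, 20, 4, 6, 18, 11, 21, 8, 23, 10, 7, 14, 15, 12, 16, 19, 9, 17]),
  (264, [0, 1, 3, 2, 8, 6, 4, 19, 17, 10, 15, 12, 16, 21, 22, 5, 14, 9, 13, 23, 18, 20, 7, 11], [0, 1, 3, 2, 6, 15, 5, 22, 4, 17, 9, 23, 11, 18, 16, 10, 12, 8, 20, 7, 21, 13, 14, 19]),
  (272, [0, 1, 2, 3, 4, 8, 22, 12, 13, 6, 7, 11, 10, 5, 16, 21, 18, 15, 14, 20, 23, 17, 9, 19], [0, 1, 2, 3, 4, 13, 9, 10, 5, 22, 12, 11, 7, 8, 18, 17, 14, 21, 16, 23, 19, 15, 6, 20]),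
  (288, [0, 1, 2, 3, 8, 5, 9, 16, 13, 22, 15, 11, 19, 4, 17, 18, 20, 23, 10, 21, 7, 12, 6, 14], [0, 1, 2, 3, 13, 5, 22, 20, 4, 6, 18, 11, 21, 8, 23, 10, 7, 14, 15, 12, 16, 19, 9, 17]),
  (320, [0, 1, 3, 2, 8, 6, 4, 19, 17, 10, 15, 12, 16, 21, 22, 5, 14, 9, 13, 23, 18, 20, 7, 11], [0, 1, 3, 2, 6, 15, 5, 22, 4, 17, 9, 23, 11, 18, 16, 10, 12, 8, 20, 7, 21, 13, 14, 19]),
  (384, [0, 1, 3, 2, 7, 8, 13, 12, 22, 21, 4, 20, 10, 23, 19, 6, 9, 15, 14, 11, 5, 17, 18, 16], [0, 1, 3, 2, 10, 20, 15, 4, 5, 16, 12, 19, 7, 6, 18, 17, 23, 21, 22, 14, 11, 9, 8, 13]),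
  (516, [0, 1, 2, 3, 9, 23, 18, 22, 19, 20, 6, 13, 11, 12, 5, 8, 16, 17, 10, 15, 4, 7, 21, 14], [0, 1, 2, 3, 20, 14, 10, 21, 15, 4, 18, 12, 13, 11, 23, 19, 16, 17, 6, 8, 9, 22, 7, 5]),
  (520, [0, 1, 3, 2, 9, 23, 10, 22, 19, 7, 11, 12, 6, 13, 17, 8, 15, 5, 18, 16, 21, 20, 4, 14], [0, 1, 3, 2, 22, 17, 12, 9, 15, 4, 6, 10, 11, 13, 23, 16, 19, 14, 18, 8, 21, 20, 7, 5]),
  (528, [0, 1, 2, 3, 4, 9, 15, 12, 17, 19, 7, 16, 10, 20, 11, 23, 14, 22, 18, 5, 21, 13, 8, 6], [0, 1, 2, 3, 4, 19, 23, 10, 22, 5, 12, 14, 7, 21, 16, 6, 11, 8, 18, 9, 13, 20, 17, 15]),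
  (544, [0, 1, 2, 3, 9, 5, 20, 22, 15, 18, 6, 21, 11, 7, 23, 16, 8, 14, 4, 19, 10, 12, 13, 17], [0, 1, 2, 3, 18, 5, 10, 13, 16, 4, 20, 12, 21, 22, 17, 8, 15, 23, 9, 19, 6, 11, 7, 14]),
  (576, [0, 1, 2, 3, 6, 19, 14, 9, 20, 23, 22, 5, 11, 10, 8, 13, 18, 15, 7, 21, 4, 12, 17, 16], [0, 1, 2, 3, 20, 11, 4, 18, 14, 7, 13, 12, 21, 15, 6, 17, 23, 22, 16, 5, 8, 19, 10, 9]),
  (640, [0, 1, 2, 3, 7, 9, 23, 4, 21, 17, 12, 5, 10, 15, 6, 20, 18, 11, 8, 13, 19, 16, 14, 22], [0, 1, 2, 3, 7, 11, 14, 4, 18, 5, 12, 17, 10, 19, 22, 13, 21, 9, 16, 20, 15, 8, 23, 6]),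
  (768, [0, 1, 2, 3, 8, 9, 12, 15, 18, 7, 19, 10, 16, 14, 11, 21, 20, 22, 17, 13, 23, 5, 4, 6], [0, 1, 2, 3, 22, 21, 23, 9, 4, 5, 11, 14, 6, 19, 13, 7, 12, 18, 8, 10, 16, 15, 17, 20]),
  (1028, [0, 1, 2, 3, 10, 6, 8, 7, 5, 16, 12, 19, 4, 20, 22, 14, 23, 11, 18, 17, 21, 13, 15, 9], [0, 1, 2, 3, 12, 8, 5, 7, 6, 23, 4, 17, 10, 21, 15, 22, 9, 19, 18, 11, 13, 20, 14, 16]),
  (1032, [0, 1, 3, 2, 10, 15, 20, 4, 22, 18, 12, 13, 7, 17, 16, 6, 9, 8, 5, 11, 14, 23, 21, 19], [0, 1, 3, 2, 7, 18, 15, 12, 17, 16, 4, 19, 10, 11, 20, 5, 14, 13, 9, 23, 6, 22, 8, 21]),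
  (1040, [0, 1, 2, 3, 4, 6, 21, 10, 15, 20, 12, 18, 7, 23, 11, 19, 16, 9, 14, 8, 17, 5, 13, 22], [0, 1, 2, 3, 4, 21, 5, 12, 19, 17, 7, 14, 10, 22, 18, 8, 16, 20, 11, 15, 9, 6, 23, 13]),
  (1056, [0, 1, 3, 2, 10, 5, 8, 7, 6, 15, 4, 19, 12, 20, 23, 9, 22, 17, 18, 11, 13, 21, 16, 14], [0, 1, 3, 2, 10, 5, 8, 7, 6, 15, 4, 19, 12, 20, 23, 9, 22, 17, 18, 11, 13, 21, 16, 14]),
  (1088, [0, 1, 2, 3, 10, 6, 8, 7, 5, 16, 12, 19, 4, 20, 22, 14, 23, 11, 18, 17, 21, 13, 15, 9], [0, 1, 2, 3, 12, 8, 5, 7, 6, 23, 4, 17, 10, 21, 15, 22, 9, 19, 18, 11, 13, 20, 14, 16]),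
  (1152, [0, 1, 2, 3, 10, 6, 8, 7, 5, 16, 12, 19, 4, 20, 22, 14, 23, 11, 18, 17, 21, 13, 15, 9], [0, 1, 2, 3, 12, 8, 5, 7, 6, 23, 4, 17, 10, 21, 15, 22, 9, 19, 18, 11, 13, 20, 14, 16]),
  (1280, [0, 1, 3, 2, 10, 8, 5, 7, 18, 23, 4, 14, 12, 9, 15, 20, 21, 16, 6, 13, 11, 22, 17, 19], [0, 1, 3, 2, 10, 6, 18, 7, 5, 13, 4, 20, 12, 19, 11, 14, 17, 22, 8, 23, 15, 16, 21, 9]),
  (1536, [0, 1, 3, 2, 9, 10, 20, 11, 8, 21, 6, 18, 22, 14, 12, 16, 15, 7, 17, 19, 5, 23, 13, 4], [0, 1, 3, 2, 23, 20, 10, 17, 8, 4, 5, 7, 14, 22, 13, 16, 15, 18, 11, 19, 6, 9, 12, 21]),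
  (2052, [0, 1, 2, 3, 11, 18, 5, 6, 7, 23, 22, 17, 9, 19, 20, 4, 10, 21, 8, 12, 16, 15, 14, 13], [0, 1, 2, 3, 15, 6, 7, 8, 18, 12, 16, 4, 19, 23, 22, 21, 20, 11, 5, 13, 14, 17, 10, 9]),
  (2056, [0, 1, 3, 2, 11, 16, 5, 9, 10, 17, 22, 23, 6, 21, 15, 4, 7, 19, 13, 12, 18, 20, 14, 8], [0, 1, 3, 2, 15, 6, 12, 16, 23, 7, 8, 4, 19, 18, 22, 14, 5, 9, 20, 17, 21, 13, 10, 11]),
  (2064, [0, 1, 2, 3, 11, 4, 23, 9, 8, 17, 6, 5, 22, 13, 12, 16, 19, 7, 21, 15, 18, 20, 14, 10], [0, 1, 2, 3, 5, 11, 10, 17, 8, 7, 23, 4, 14, 13, 22, 19, 15, 9, 20, 16, 21, 18, 12, 6]),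
  (2080, [0, 1, 3, 2, 11, 5, 20, 22, 4, 18, 6, 13, 9, 8, 23, 12, 7, 17, 15, 10, 19, 16, 21, 14], [0, 1, 3, 2, 8, 5, 10, 16, 13, 12, 19, 4, 15, 11, 23, 18, 21, 17, 9, 20, 6, 22, 7, 14]),
  (2112, [0, 1, 2, 3, 11, 18, 5, 6, 7, 23, 22, 17, 9, 19, 20, 4, 10, 21, 8, 12, 16, 15, 14, 13], [0, 1, 2, 3, 15, 6, 7, 8, 18, 12, 16, 4, 19, 23, 22, 21, 20, 11, 5, 13, 14, 17, 10, 9]),
  (2176, [0, 1, 2, 3, 7, 11, 8, 10, 17, 16, 4, 19, 12, 18, 9, 23, 14, 6, 20, 5, 13, 21, 15, 22], [0, 1, 2, 3, 10, 19, 17, 4, 6, 14, 7, 5, 12, 20, 16, 22, 9, 8, 13, 11, 18, 21, 23, 15]),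
  (2304, [0, 1, 2, 3, 11, 8, 21, 9, 4, 18, 6, 13, 22, 5, 15, 10, 7, 19, 23, 12, 17, 14, 20, 16], [0, 1, 2, 3, 8, 13, 10, 16, 5, 7, 15, 4, 19, 11, 21, 14, 23, 20, 9, 17, 22, 6, 12, 18]),
  (2560, [0, 1, 3, 2, 11, 16, 5, 9, 10, 17, 22, 23, 6, 21, 15, 4, 7, 19, 13, 12, 18, 20, 14, 8], [0, 1, 3, 2, 15, 6, 12, 16, 23, 7, 8, 4, 19, 18, 22, 14, 5, 9, 20, 17, 21, 13, 10, 11]),
  (3072, [0, 1, 3, 2, 11, 10, 14, 6, 21, 5, 9, 23, 22, 16, 7, 20, 13, 4, 15, 18, 8, 19, 17, 12], [0, 1, 3, 2, 17, 9, 7, 14, 20, 10, 5, 4, 23, 16, 6, 18, 13, 22, 19, 21, 15, 8, 12, 11]),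
  (4100, [0, 1, 2, 3, 12, 5, 20, 4, 22, 13, 10, 18, 7, 16, 17, 11, 9, 23, 15, 6, 19, 8, 21, 14], [0, 1, 2, 3, 7, 5, 19, 12, 21, 16, 10, 15, 4, 9, 23, 18, 13, 14, 11, 20, 6, 22, 8, 17]),
  (4104, [0, 1, 3, 2, 12, 13, 5, 10, 9, 17, 4, 23, 7, 19, 20, 22, 6, 21, 16, 11, 8, 15, 14, 18], [0, 1, 3, 2, 10, 6, 16, 12, 20, 8, 7, 19, 4, 5, 22, 21, 18, 9, 23, 13, 14, 17, 15, 11]),
  (4112, [0, 1, 2, 3, 4, 8, 22, 12, 13, 6, 7, 11, 10, 5, 16, 21, 18, 15, 14, 20, 23, 17, 9, 19], [0, 1, 2, 3, 4, 13, 9, 10, 5, 22, 12, 11, 7, 8, 18, 17, 14, 21, 16, 23, 19, 15, 6, 20]),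
  (4128, [0, 1, 2, 3, 12, 5, 20, 4, 22, 13, 10, 18, 7, 16, 17, 11, 9, 23, 15, 6, 19, 8, 21, 14], [0, 1, 2, 3, 7, 5, 19, 12, 21, 16, 10, 15, 4, 9, 23, 18, 13, 14, 11, 20, 6, 22, 8, 17]),
  (4160, [0, 1, 2, 3, 6, 12, 19, 11, 21, 15, 9, 8, 22, 17, 7, 20, 18, 4, 5, 13, 23, 14, 16, 10], [0, 1, 2, 3, 17, 18, 4, 14, 11, 10, 23, 7, 5, 19, 21, 9, 22, 13, 16, 6, 15, 8, 12, 20]),
  (4224, [0, 1, 2, 3, 7, 21, 11, 12, 5, 6, 10, 9, 4, 15, 20, 17, 14, 13, 19, 23, 16, 8, 22, 18], [0, 1, 2, 3, 12, 8, 9, 4, 21, 11, 10, 6, 7, 17, 16, 13, 20, 15, 23, 18, 14, 5, 22, 19]),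
  (4352, [0, 1, 3, 2, 12, 8, 18, 7, 6, 20, 10, 21, 4, 17, 19, 22, 11, 15, 5, 9, 14, 23, 13, 16], [0, 1, 3, 2, 12, 18, 8, 7, 5, 19, 10, 16, 4, 22, 20, 17, 23, 13, 6, 14, 9, 11, 15, 21]),
  (4608, [0, 1, 2, 3, 12, 9, 8, 4, 23, 16, 10, 19, 7, 13, 11, 17, 5, 22, 21, 14, 18, 20, 15, 6], [0, 1, 2, 3, 7, 16, 23, 12, 6, 5, 10, 14, 4, 13, 19, 22, 9, 15, 20, 11, 21, 18, 17, 8]),
  (5120, [0, 1, 3, 2, 12, 13, 5, 10, 9, 17, 4, 23, 7, 19, 20, 22, 6, 21, 16, 11, 8, 15, 14, 18], [0, 1, 3, 2, 10, 6, 16, 12, 20, 8, 7, 19, 4, 5, 22, 21, 18, 9, 23, 13, 14, 17, 15, 11]),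
  (6144, [0, 1, 2, 3, 12, 11, 16, 4, 14, 8, 10, 15, 7, 20, 9, 5, 17, 6, 18, 23, 21, 13, 19, 22], [0, 1, 2, 3, 7, 15, 17, 12, 9, 14, 10, 5, 4, 21, 8, 11, 6, 16, 18, 22, 13, 20, 23, 19]),
  (8196, [0, 1, 2, 3, 13, 15, 14, 21, 10, 5, 20, 17, 18, 22, 19, 7, 4, 8, 6, 12, 11, 9, 23, 16], [0, 1, 2, 3, 16, 9, 18, 15, 17, 21, 8, 20, 19, 4, 6, 5, 23, 11, 12, 14, 10, 7, 13, 22]),
  (8200, [0, 1, 3, 2, 13, 5, 12, 21, 11, 7, 18, 4, 20, 8, 17, 9, 6, 14, 19, 22, 16, 15, 10, 23], [0, 1, 3, 2, 11, 5, 16, 9, 13, 15, 22, 8, 6, 4, 17, 21, 20, 14, 10, 18, 12, 7, 19, 23]),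
  (8208, [0, 1, 2, 3, 4, 13, 9, 10, 5, 22, 12, 11, 7, 8, 18, 17, 14, 21, 16, 23, 19, 15, 6, 20], [0, 1, 2, 3, 4, 8, 22, 12, 13, 6, 7, 11, 10, 5, 16, 21, 18, 15, 14, 20, 23, 17, 9, 19]),
  (8224, [0, 1, 3, 2, 13, 5, 12, 21, 11, 7, 18, 4, 20, 8, 17, 9, 6, 14, 19, 22, 16, 15, 10, 23], [0, 1, 3, 2, 11, 5, 16, 9, 13, 15, 22, 8, 6, 4, 17, 21, 20, 14, 10, 18, 12, 7, 19, 23]),
  (8256, [0, 1, 2, 3, 6, 13, 23, 11, 7, 5, 9, 14, 22, 16, 21, 4, 10, 20, 15, 12, 19, 8, 17, 18], [0, 1, 2, 3, 15, 9, 4, 8, 21, 10, 16, 7, 19, 5, 11, 18, 13, 22, 23, 20, 17, 14, 12, 6]),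
  (8320, [0, 1, 2, 3, 7, 13, 19, 4, 6, 8, 12, 16, 10, 14, 21, 11, 22, 20, 17, 9, 23, 5, 15, 18], [0, 1, 2, 3, 7, 21, 8, 4, 9, 19, 12, 15, 10, 5, 13, 22, 11, 18, 23, 6, 17, 14, 16, 20]),
  (8448, [0, 1, 2, 3, 13, 8, 6, 18, 5, 9, 21, 11, 20, 4, 15, 14, 23, 19, 7, 17, 12, 10, 22, 16], [0, 1, 2, 3, 13, 8, 6, 18, 5, 9, 21, 11, 20, 4, 15, 14, 23, 19, 7, 17, 12, 10, 22, 16]),
  (8704, [0, 1, 2, 3, 9, 13, 4, 6, 19, 7, 11, 12, 22, 23, 18, 16, 15, 21, 17, 8, 5, 14, 10, 20], [0, 1, 2, 3, 6, 20, 7, 9, 19, 4, 22, 10, 11, 5, 21, 16, 15, 18, 14, 8, 23, 17, 12, 13]),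
  (9216, [0, 1, 3, 2, 10, 13, 19, 4, 17, 8, 12, 15, 7, 22, 21, 5, 14, 18, 6, 23, 9, 11, 16, 20], [0, 1, 3, 2, 7, 15, 18, 12, 9, 20, 4, 21, 10, 5, 16, 11, 22, 8, 17, 6, 23, 14, 13, 19]),
  (10240, [0, 1, 3, 2, 13, 11, 19, 21, 5, 16, 18, 8, 20, 4, 22, 23, 14, 6, 12, 17, 7, 10, 15, 9], [0, 1, 3, 2, 13, 8, 17, 20, 11, 23, 21, 5, 18, 4, 16, 22, 9, 19, 10, 6, 12, 7, 14, 15]),
  (12288, [0, 1, 3, 2, 12, 13, 5, 10, 9, 17, 4, 23, 7, 19, 20, 22, 6, 21, 16, 11, 8, 15, 14, 18], [0, 1, 3, 2, 10, 6, 16, 12, 20, 8, 7, 19, 4, 5, 22, 21, 18, 9, 23, 13, 14, 17, 15, 11]),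
  (16388, [0, 1, 2, 3, 14, 15, 9, 17, 12, 22, 5, 11, 23, 20, 16, 10, 4, 19, 18, 7, 21, 13, 6, 8], [0, 1, 2, 3, 16, 10, 22, 19, 23, 6, 15, 11, 8, 21, 4, 5, 14, 7, 18, 17, 13, 20, 9, 12]),
  (16392, [0, 1, 3, 2, 14, 13, 10, 5, 16, 4, 17, 7, 23, 6, 20, 8, 19, 21, 9, 15, 22, 11, 12, 18], [0, 1, 3, 2, 9, 7, 13, 11, 15, 18, 6, 21, 22, 5, 4, 19, 8, 10, 23, 16, 14, 17, 20, 12]),
  (16400, [0, 1, 2, 3, 14, 4, 15, 5, 22, 8, 23, 19, 17, 21, 7, 11, 9, 10, 20, 6, 18, 13, 16, 12], [0, 1, 2, 3, 5, 7, 19, 14, 9, 16, 17, 15, 23, 21, 4, 6, 22, 12, 20, 11, 18, 13, 8, 10]),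
  (16416, [0, 1, 2, 3, 5, 19, 7, 14, 20, 4, 17, 10, 23, 6, 16, 21, 13, 8, 9, 18, 11, 22, 12, 15], [0, 1, 2, 3, 9, 4, 13, 6, 17, 18, 11, 20, 22, 16, 7, 23, 14, 10, 19, 5, 8, 15, 21, 12]),
  (16448, [0, 1, 3, 2, 14, 6, 20, 23, 16, 18, 5, 13, 17, 7, 22, 15, 8, 9, 12, 19, 10, 4, 21, 11], [0, 1, 3, 2, 21, 10, 5, 13, 16, 17, 20, 23, 18, 11, 4, 15, 8, 12, 9, 19, 6, 22, 14, 7]),
  (16512, [0, 1, 3, 2, 14, 7, 15, 23, 13, 8, 5, 16, 17, 6, 4, 20, 18, 10, 11, 21, 9, 22, 19, 12], [0, 1, 3, 2, 14, 10, 13, 5, 9, 20, 17, 18, 23, 8, 4, 6, 11, 12, 16, 22, 15, 19, 21, 7]),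
  (16640, [0, 1, 2, 3, 8, 14, 11, 16, 18, 6, 15, 9, 19, 10, 23, 13, 21, 17, 4, 20, 12, 7, 22, 5], [0, 1, 2, 3, 18, 23, 9, 21, 4, 11, 13, 6, 20, 15, 5, 10, 7, 17, 8, 12, 19, 16, 22, 14]),
  (16896, [0, 1, 2, 3, 9, 14, 13, 22, 8, 21, 6, 18, 11, 10, 17, 19, 15, 5, 12, 16, 7, 4, 20, 23], [0, 1, 2, 3, 21, 17, 10, 20, 8, 4, 13, 12, 18, 6, 5, 16, 19, 14, 11, 15, 22, 9, 7, 23]),
  (17408, [0, 1, 2, 3, 14, 10, 20, 17, 8, 13, 5, 18, 23, 9, 4, 15, 16, 7, 11, 19, 6, 22, 21, 12], [0, 1, 2, 3, 14, 10, 20, 17, 8, 13, 5, 18, 23, 9, 4, 15, 16, 7, 11, 19, 6, 22, 21, 12]),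
  (18432, [0, 1, 2, 3, 11, 14, 8, 22, 12, 19, 9, 15, 6, 20, 23, 4, 7, 17, 13, 10, 18, 21, 16, 5], [0, 1, 2, 3, 15, 23, 12, 16, 6, 10, 19, 4, 8, 18, 5, 11, 22, 17, 20, 9, 13, 21, 7, 14]),
  (20480, [0, 1, 3, 2, 14, 12, 9, 17, 15, 6, 23, 11, 5, 20, 4, 8, 16, 7, 18, 19, 13, 21, 22, 10], [0, 1, 3, 2, 14, 12, 9, 17, 15, 6, 23, 11, 5, 20, 4, 8, 16, 7, 18, 19, 13, 21, 22, 10]),
  (24576, [0, 1, 3, 2, 14, 13, 10, 5, 16, 4, 17, 7, 23, 6, 20, 8, 19, 21, 9, 15, 22, 11, 12, 18], [0, 1, 3, 2, 9, 7, 13, 11, 15, 18, 6, 21, 22, 5, 4, 19, 8, 10, 23, 16, 14, 17, 20, 12]),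
  (32772, [0, 1, 2, 3, 15, 20, 17, 8, 11, 23, 16, 14, 19, 12, 21, 22, 6, 18, 10, 9, 4, 7, 5, 13], [0, 1, 2, 3, 20, 22, 16, 21, 7, 19, 18, 8, 13, 23, 11, 4, 10, 6, 17, 12, 5, 14, 15, 9]),
  (32776, [0, 1, 3, 2, 15, 18, 7, 8, 6, 10, 19, 4, 16, 23, 20, 9, 22, 13, 5, 11, 17, 14, 12, 21], [0, 1, 3, 2, 11, 18, 8, 6, 7, 15, 9, 19, 22, 17, 21, 4, 12, 20, 5, 10, 14, 23, 16, 13]),
  (32784, [0, 1, 3, 2, 4, 15, 21, 10, 6, 13, 7, 18, 12, 23, 16, 22, 11, 8, 14, 9, 5, 17, 20, 19], [0, 1, 3, 2, 4, 20, 8, 10, 17, 19, 7, 16, 12, 9, 18, 5, 14, 21, 11, 23, 22, 6, 15, 13]),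
  (32800, [0, 1, 2, 3, 15, 5, 10, 16, 9, 12, 19, 7, 8, 21, 23, 22, 11, 14, 13, 6, 20, 18, 4, 17], [0, 1, 2, 3, 22, 5, 19, 11, 12, 8, 6, 16, 9, 18, 17, 4, 7, 23, 21, 10, 20, 13, 15, 14]),
  (32832, [0, 1, 2, 3, 15, 6, 17, 19, 4, 5, 8, 23, 16, 18, 11, 10, 7, 9, 13, 12, 21, 20, 14, 22], [0, 1, 2, 3, 8, 9, 5, 16, 10, 17, 15, 14, 19, 18, 22, 4, 12, 6, 13, 7, 21, 20, 23, 11]),
  (32896, [0, 1, 2, 3, 7, 15, 6, 10, 21, 22, 4, 9, 12, 5, 19, 13, 20, 8, 14, 18, 23, 17, 11, 16], [0, 1, 2, 3, 10, 13, 6, 4, 17, 11, 7, 22, 12, 15, 18, 5, 23, 21, 19, 14, 16, 8, 9, 20]),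
  (33024, [0, 1, 2, 3, 15, 20, 17, 8, 11, 23, 16, 14, 19, 12, 21, 22, 6, 18, 10, 9, 4, 7, 5, 13], [0, 1, 2, 3, 20, 22, 16, 21, 7, 19, 18, 8, 13, 23, 11, 4, 10, 6, 17, 12, 5, 14, 15, 9]),
  (33280, [0, 1, 2, 3, 15, 9, 13, 16, 5, 20, 19, 21, 8, 7, 6, 17, 14, 11, 10, 23, 12, 4, 18, 22], [0, 1, 2, 3, 21, 8, 14, 13, 12, 5, 18, 17, 20, 6, 16, 4, 7, 15, 22, 10, 9, 11, 23, 19]),
  (33792, [0, 1, 3, 2, 10, 15, 20, 4, 22, 18, 12, 13, 7, 17, 16, 6, 9, 8, 5, 11, 14, 23, 21, 19], [0, 1, 3, 2, 7, 18, 15, 12, 17, 16, 4, 19, 10, 11, 20, 5, 14, 13, 9, 23, 6, 22, 8, 21]),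
  (34816, [0, 1, 2, 3, 11, 15, 10, 6, 14, 4, 22, 12, 9, 20, 19, 23, 5, 8, 21, 17, 13, 18, 7, 16], [0, 1, 2, 3, 9, 16, 7, 22, 17, 12, 6, 4, 11, 20, 8, 5, 23, 19, 21, 14, 13, 18, 10, 15]),
  (36864, [0, 1, 2, 3, 15, 12, 22, 8, 14, 6, 16, 11, 19, 20, 7, 17, 23, 4, 13, 5, 18, 21, 9, 10], [0, 1, 2, 3, 17, 19, 9, 14, 7, 22, 23, 11, 5, 18, 8, 4, 10, 15, 20, 12, 13, 21, 6, 16]),
  (40960, [0, 1, 2, 3, 13, 15, 14, 21, 10, 5, 20, 17, 18, 22, 19, 7, 4, 8, 6, 12, 11, 9, 23, 16], [0, 1, 2, 3, 16, 9, 18, 15, 17, 21, 8, 20, 19, 4, 6, 5, 23, 11, 12, 14, 10, 7, 13, 22]),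
  (49152, [0, 1, 2, 3, 14, 15, 9, 17, 12, 22, 5, 11, 23, 20, 16, 10, 4, 19, 18, 7, 21, 13, 6, 8], [0, 1, 2, 3, 16, 10, 22, 19, 23, 6, 15, 11, 8, 21, 4, 5, 14, 7, 18, 17, 13, 20, 9, 12]),
  (65540, [0, 1, 2, 3, 16, 21, 6, 15, 10, 9, 8, 11, 19, 23, 18, 7, 4, 20, 14, 12, 17, 5, 22, 13], [0, 1, 2, 3, 16, 21, 6, 15, 10, 9, 8, 11, 19, 23, 18, 7, 4, 20, 14, 12, 17, 5, 22, 13]),
  (65544, [0, 1, 3, 2, 16, 5, 11, 19, 12, 6, 8, 22, 15, 18, 17, 10, 7, 14, 21, 4, 13, 20, 9, 23], [0, 1, 3, 2, 19, 5, 9, 16, 10, 22, 15, 6, 8, 20, 17, 12, 4, 14, 13, 7, 21, 18, 11, 23]),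
  (65552, [0, 1, 2, 3, 16, 4, 5, 15, 20, 23, 8, 17, 19, 9, 7, 18, 21, 10, 22, 13, 11, 6, 14, 12], [0, 1, 2, 3, 5, 6, 21, 14, 10, 13, 17, 20, 23, 19, 22, 7, 4, 11, 15, 12, 8, 16, 18, 9]),
  (65568, [0, 1, 3, 2, 16, 5, 11, 19, 12, 6, 8, 22, 15, 18, 17, 10, 7, 14, 21, 4, 13, 20, 9, 23], [0, 1, 3, 2, 19, 5, 9, 16, 10, 22, 15, 6, 8, 20, 17, 12, 4, 14, 13, 7, 21, 18, 11, 23]),
  (65600, [0, 1, 3, 2, 16, 6, 18, 8, 7, 21, 15, 13, 19, 14, 9, 12, 10, 11, 5, 4, 23, 17, 20, 22], [0, 1, 3, 2, 19, 18, 5, 8, 7, 14, 16, 17, 15, 11, 13, 10, 4, 21, 6, 12, 22, 9, 23, 20]),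
  (65664, [0, 1, 3, 2, 7, 16, 5, 10, 13, 23, 12, 14, 4, 6, 19, 21, 20, 8, 9, 18, 22, 11, 17, 15], [0, 1, 3, 2, 12, 6, 13, 4, 17, 18, 7, 21, 10, 8, 11, 23, 5, 22, 19, 14, 16, 15, 20, 9]),
  (65792, [0, 1, 2, 3, 8, 5, 9, 16, 13, 22, 15, 11, 19, 4, 17, 18, 20, 23, 10, 21, 7, 12, 6, 14], [0, 1, 2, 3, 13, 5, 22, 20, 4, 6, 18, 11, 21, 8, 23, 10, 7, 14, 15, 12, 16, 19, 9, 17]),
  (66048, [0, 1, 3, 2, 16, 9, 14, 19, 20, 23, 8, 17, 15, 4, 22, 13, 21, 11, 7, 18, 10, 12, 5, 6], [0, 1, 3, 2, 13, 22, 23, 18, 10, 5, 20, 17, 21, 15, 6, 12, 4, 11, 19, 7, 8, 16, 14, 9]),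
  (66560, [0, 1, 3, 2, 10, 16, 18, 4, 11, 20, 12, 21, 7, 23, 15, 9, 6, 19, 14, 22, 5, 17, 13, 8], [0, 1, 3, 2, 7, 20, 16, 12, 23, 15, 4, 8, 10, 22, 18, 14, 5, 21, 6, 17, 9, 11, 19, 13]),
  (67584, [0, 1, 3, 2, 11, 16, 5, 9, 10, 17, 22, 23, 6, 21, 15, 4, 7, 19, 13, 12, 18, 20, 14, 8], [0, 1, 3, 2, 15, 6, 12, 16, 23, 7, 8, 4, 19, 18, 22, 14, 5, 9, 20, 17, 21, 13, 10, 11]),
  (69632, [0, 1, 2, 3, 12, 16, 13, 10, 5, 21, 7, 18, 4, 22, 15, 23, 17, 8, 9, 14, 6, 11, 20, 19], [0, 1, 2, 3, 12, 8, 20, 10, 17, 18, 7, 21, 4, 6, 19, 14, 5, 16, 11, 23, 22, 9, 13, 15]),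
  (73728, [0, 1, 2, 3, 16, 13, 11, 15, 7, 22, 8, 6, 19, 14, 20, 10, 12, 18, 23, 4, 5, 17, 9, 21], [0, 1, 2, 3, 19, 20, 11, 8, 10, 22, 15, 6, 16, 5, 13, 7, 4, 21, 17, 12, 14, 23, 9, 18]),
  (81920, [0, 1, 3, 2, 16, 14, 12, 8, 13, 10, 15, 7, 19, 6, 17, 18, 21, 23, 22, 20, 11, 9, 4, 5], [0, 1, 3, 2, 22, 23, 13, 11, 7, 21, 9, 20, 6, 8, 5, 10, 4, 14, 15, 12, 19, 16, 18, 17]),
  (98304, [0, 1, 2, 3, 16, 21, 6, 15, 10, 9, 8, 11, 19, 23, 18, 7, 4, 20, 14, 12, 17, 5, 22, 13], [0, 1, 2, 3, 16, 21, 6, 15, 10, 9, 8, 11, 19, 23, 18, 7, 4, 20, 14, 12, 17, 5, 22, 13]),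
  (131076, [0, 1, 2, 3, 17, 18, 8, 5, 7, 16, 14, 19, 23, 11, 13, 12, 4, 20, 6, 10, 9, 22, 15, 21], [0, 1, 2, 3, 16, 7, 18, 8, 6, 20, 19, 13, 15, 14, 10, 22, 9, 4, 5, 11, 17, 23, 21, 12]),
  (131080, [0, 1, 3, 2, 17, 13, 8, 14, 22, 16, 5, 15, 23, 10, 18, 6, 9, 20, 12, 11, 4, 7, 19, 21], [0, 1, 3, 2, 20, 10, 15, 21, 6, 16, 13, 19, 18, 5, 7, 11, 9, 4, 14, 22, 17, 23, 8, 12]),
  (131088, [0, 1, 2, 3, 4, 17, 8, 10, 20, 15, 12, 16, 7, 9, 14, 13, 18, 23, 11, 21, 6, 22, 19, 5], [0, 1, 2, 3, 4, 23, 20, 12, 6, 13, 7, 18, 10, 15, 14, 9, 11, 5, 16, 22, 8, 19, 21, 17]),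
  (131104, [0, 1, 2, 3, 17, 18, 8, 5, 7, 16, 14, 19, 23, 11, 13, 12, 4, 20, 6, 10, 9, 22, 15, 21], [0, 1, 2, 3, 16, 7, 18, 8, 6, 20, 19, 13, 15, 14, 10, 22, 9, 4, 5, 11, 17, 23, 21, 12]),
  (131136, [0, 1, 2, 3, 6, 17, 7, 22, 21, 10, 11, 12, 9, 8, 23, 13, 20, 5, 16, 18, 19, 15, 4, 14], [0, 1, 2, 3, 22, 17, 4, 6, 13, 12, 9, 10, 11, 15, 23, 21, 18, 5, 19, 20, 16, 8, 7, 14]),
  (131200, [0, 1, 2, 3, 7, 17, 15, 12, 18, 8, 10, 19, 4, 11, 14, 21, 20, 23, 9, 13, 22, 6, 16, 5], [0, 1, 2, 3, 12, 23, 21, 4, 9, 18, 10, 13, 7, 19, 14, 6, 22, 5, 8, 11, 16, 15, 20, 17]),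
  (131328, [0, 1, 2, 3, 17, 8, 22, 14, 12, 9, 23, 6, 5, 21, 19, 10, 4, 16, 13, 7, 20, 18, 11, 15], [0, 1, 2, 3, 16, 12, 11, 19, 5, 9, 15, 22, 8, 18, 7, 23, 17, 4, 21, 14, 20, 13, 6, 10]),
  (131584, [0, 1, 2, 3, 9, 17, 10, 11, 20, 7, 22, 4, 6, 16, 23, 18, 21, 5, 8, 13, 15, 19, 12, 14], [0, 1, 2, 3, 11, 17, 12, 9, 18, 4, 6, 7, 22, 19, 23, 20, 13, 5, 15, 21, 8, 16, 10, 14]),
  (132096, [0, 1, 2, 3, 17, 10, 19, 23, 22, 16, 5, 15, 14, 13, 12, 11, 9, 4, 18, 6, 20, 21, 8, 7], [0, 1, 2, 3, 17, 10, 19, 23, 22, 16, 5, 15, 14, 13, 12, 11, 9, 4, 18, 6, 20, 21, 8, 7]),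
  (133120, [0, 1, 2, 3, 17, 11, 16, 14, 18, 15, 23, 19, 5, 7, 6, 20, 13, 22, 4, 21, 10, 12, 8, 9], [0, 1, 2, 3, 18, 12, 14, 13, 22, 23, 20, 5, 21, 16, 7, 9, 6, 4, 8, 11, 15, 19, 17, 10]),
  (135168, [0, 1, 3, 2, 12, 17, 22, 7, 21, 11, 10, 6, 4, 8, 23, 18, 20, 14, 16, 13, 15, 19, 9, 5], [0, 1, 3, 2, 12, 23, 11, 7, 13, 22, 10, 9, 4, 19, 17, 20, 18, 5, 15, 21, 16, 8, 6, 14]),
  (139264, [0, 1, 3, 2, 17, 13, 8, 14, 22, 16, 5, 15, 23, 10, 18, 6, 9, 20, 12, 11, 4, 7, 19, 21], [0, 1, 3, 2, 20, 10, 15, 21, 6, 16, 13, 19, 18, 5, 7, 11, 9, 4, 14, 22, 17, 23, 8, 12]),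
  (147456, [0, 1, 3, 2, 17, 13, 8, 14, 22, 16, 5, 15, 23, 10, 18, 6, 9, 20, 12, 11, 4, 7, 19, 21], [0, 1, 3, 2, 20, 10, 15, 21, 6, 16, 13, 19, 18, 5, 7, 11, 9, 4, 14, 22, 17, 23, 8, 12]),
  (163840, [0, 1, 2, 3, 15, 17, 7, 16, 22, 4, 19, 10, 8, 13, 14, 9, 6, 23, 21, 11, 18, 20, 12, 5], [0, 1, 2, 3, 9, 23, 16, 6, 12, 15, 11, 19, 22, 13, 14, 4, 7, 5, 20, 10, 21, 18, 8, 17]),
  (196608, [0, 1, 3, 2, 17, 16, 6, 23, 20, 11, 14, 9, 5, 4, 15, 21, 18, 19, 12, 13, 7, 10, 22, 8], [0, 1, 3, 2, 13, 12, 6, 20, 23, 11, 21, 9, 18, 19, 10, 14, 5, 4, 16, 17, 8, 15, 22, 7]),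
  (262148, [0, 1, 2, 3, 18, 4, 8, 21, 23, 19, 13, 15, 20, 6, 12, 14, 17, 7, 9, 5, 11, 22, 16, 10], [0, 1, 2, 3, 5, 19, 13, 17, 6, 18, 23, 20, 14, 10, 15, 11, 22, 16, 4, 9, 12, 7, 21, 8]),
  (262152, [0, 1, 3, 2, 18, 6, 10, 21, 15, 12, 20, 4, 13, 23, 11, 8, 16, 22, 14, 19, 5, 17, 7, 9], [0, 1, 3, 2, 11, 20, 5, 22, 15, 23, 6, 14, 9, 12, 18, 8, 16, 21, 4, 19, 10, 7, 17, 13]),
  (262160, [0, 1, 2, 3, 18, 4, 8, 21, 23, 19, 13, 15, 20, 6, 12, 14, 17, 7, 9, 5, 11, 22, 16, 10], [0, 1, 2, 3, 5, 19, 13, 17, 6, 18, 23, 20, 14, 10, 15, 11, 22, 16, 4, 9, 12, 7, 21, 8]),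
  (262176, [0, 1, 3, 2, 5, 18, 19, 23, 22, 15, 17, 16, 14, 12, 13, 6, 9, 21, 10, 11, 7, 4, 8, 20], [0, 1, 3, 2, 21, 4, 15, 20, 22, 16, 18, 19, 13, 14, 12, 9, 11, 10, 5, 6, 23, 17, 8, 7]),
  (262208, [0, 1, 3, 2, 18, 6, 10, 21, 15, 12, 20, 4, 13, 23, 11, 8, 16, 22, 14, 19, 5, 17, 7, 9], [0, 1, 3, 2, 11, 20, 5, 22, 15, 23, 6, 14, 9, 12, 18, 8, 16, 21, 4, 19, 10, 7, 17, 13]),
  (262272, [0, 1, 3, 2, 7, 18, 14, 4, 11, 23, 10, 17, 12, 19, 21, 6, 22, 20, 16, 9, 8, 15, 5, 13], [0, 1, 3, 2, 7, 22, 15, 4, 20, 19, 10, 8, 12, 23, 6, 21, 18, 11, 5, 13, 17, 14, 16, 9]),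
  (262400, [0, 1, 2, 3, 18, 8, 22, 13, 14, 11, 20, 9, 21, 10, 15, 5, 17, 19, 12, 23, 7, 4, 6, 16], [0, 1, 2, 3, 21, 15, 22, 20, 5, 11, 13, 9, 18, 7, 8, 14, 23, 16, 4, 17, 10, 12, 6, 19]),
  (262656, [0, 1, 3, 2, 9, 18, 4, 11, 14, 7, 6, 10, 22, 8, 13, 17, 5, 21, 16, 23, 15, 19, 12, 20], [0, 1, 3, 2, 6, 16, 10, 9, 13, 4, 11, 7, 22, 14, 8, 20, 18, 15, 5, 21, 23, 17, 12, 19]),
  (263168, [0, 1, 2, 3, 18, 10, 11, 20, 8, 6, 21, 9, 13, 14, 12, 19, 15, 4, 17, 16, 23, 5, 22, 7], [0, 1, 2, 3, 17, 21, 9, 23, 8, 11, 5, 6, 14, 12, 13, 16, 19, 18, 4, 15, 7, 10, 22, 20]),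
  (264192, [0, 1, 2, 3, 11, 18, 5, 6, 7, 23, 22, 17, 9, 19, 20, 4, 10, 21, 8, 12, 16, 15, 14, 13], [0, 1, 2, 3, 15, 6, 7, 8, 18, 12, 16, 4, 19, 23, 22, 21, 20, 11, 5, 13, 14, 17, 10, 9]),
  (266240, [0, 1, 3, 2, 12, 18, 11, 4, 16, 6, 7, 22, 10, 5, 13, 15, 8, 21, 14, 19, 17, 23, 9, 20], [0, 1, 3, 2, 7, 13, 9, 10, 16, 22, 12, 6, 4, 14, 18, 15, 8, 20, 5, 19, 23, 17, 11, 21]),
  (270336, [0, 1, 2, 3, 13, 8, 6, 18, 5, 9, 21, 11, 20, 4, 15, 14, 23, 19, 7, 17, 12, 10, 22, 16], [0, 1, 2, 3, 13, 8, 6, 18, 5, 9, 21, 11, 20, 4, 15, 14, 23, 19, 7, 17, 12, 10, 22, 16]),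
  (278528, [0, 1, 3, 2, 14, 18, 15, 17, 9, 19, 23, 8, 5, 10, 13, 11, 22, 21, 12, 6, 4, 7, 16, 20], [0, 1, 3, 2, 20, 12, 19, 21, 11, 8, 13, 15, 18, 14, 4, 6, 22, 7, 5, 9, 23, 17, 16, 10]),
  (294912, [0, 1, 2, 3, 15, 18, 5, 8, 6, 14, 16, 23, 19, 4, 13, 9, 11, 20, 7, 22, 12, 10, 17, 21], [0, 1, 2, 3, 13, 6, 8, 18, 7, 15, 21, 16, 20, 14, 9, 4, 10, 22, 5, 12, 17, 23, 19, 11]),
  (327680, [0, 1, 3, 2, 18, 16, 10, 13, 5, 7, 21, 12, 20, 22, 15, 14, 17, 19, 9, 23, 11, 6, 4, 8], [0, 1, 3, 2, 22, 8, 21, 9, 23, 18, 6, 20, 11, 7, 15, 14, 5, 16, 4, 17, 12, 10, 13, 19]),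
  (393216, [0, 1, 2, 3, 17, 18, 8, 5, 7, 16, 14, 19, 23, 11, 13, 12, 4, 20, 6, 10, 9, 22, 15, 21], [0, 1, 2, 3, 16, 7, 18, 8, 6, 20, 19, 13, 15, 14, 10, 22, 9, 4, 5, 11, 17, 23, 21, 12]),
  (524292, [0, 1, 2, 3, 19, 7, 5, 8, 18, 23, 15, 17, 16, 11, 4, 20, 13, 12, 6, 21, 9, 22, 14, 10], [0, 1, 2, 3, 14, 6, 18, 5, 7, 20, 23, 13, 17, 16, 22, 10, 12, 11, 8, 4, 15, 19, 21, 9]),
  (524296, [0, 1, 3, 2, 19, 13, 10, 16, 9, 7, 15, 12, 8, 23, 21, 6, 11, 18, 5, 22, 17, 14, 4, 20], [0, 1, 3, 2, 22, 18, 15, 9, 12, 8, 6, 16, 11, 5, 21, 10, 7, 20, 17, 4, 23, 14, 19, 13]),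
  (524304, [0, 1, 3, 2, 19, 4, 5, 15, 22, 23, 8, 14, 16, 21, 7, 6, 9, 12, 20, 11, 13, 18, 17, 10], [0, 1, 3, 2, 5, 6, 15, 14, 10, 16, 23, 19, 17, 20, 11, 7, 12, 22, 21, 4, 18, 13, 8, 9]),
  (524320, [0, 1, 2, 3, 5, 19, 7, 14, 20, 4, 17, 10, 23, 6, 16, 21, 13, 8, 9, 18, 11, 22, 12, 15], [0, 1, 2, 3, 9, 4, 13, 6, 17, 18, 11, 20, 22, 16, 7, 23, 14, 10, 19, 5, 8, 15, 21, 12]),
  (524352, [0, 1, 2, 3, 6, 19, 14, 9, 20, 23, 22, 5, 11, 10, 8, 13, 18, 15, 7, 21, 4, 12, 17, 16], [0, 1, 2, 3, 20, 11, 4, 18, 14, 7, 13, 12, 21, 15, 6, 17, 23, 22, 16, 5, 8, 19, 10, 9]),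
  (524416, [0, 1, 2, 3, 7, 19, 13, 4, 17, 21, 12, 18, 10, 11, 8, 14, 5, 15, 6, 23, 9, 22, 20, 16], [0, 1, 2, 3, 7, 16, 18, 4, 14, 20, 12, 13, 10, 6, 15, 17, 23, 8, 11, 5, 22, 9, 21, 19]),
  (524544, [0, 1, 3, 2, 8, 6, 4, 19, 17, 10, 15, 12, 16, 21, 22, 5, 14, 9, 13, 23, 18, 20, 7, 11], [0, 1, 3, 2, 6, 15, 5, 22, 4, 17, 9, 23, 11, 18, 16, 10, 12, 8, 20, 7, 21, 13, 14, 19]),
  (524800, [0, 1, 3, 2, 9, 19, 18, 22, 23, 21, 11, 13, 6, 12, 16, 14, 5, 15, 10, 17, 7, 4, 20, 8], [0, 1, 3, 2, 21, 16, 12, 20, 23, 4, 18, 10, 13, 11, 15, 17, 14, 19, 6, 5, 22, 9, 7, 8]),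
  (525312, [0, 1, 3, 2, 19, 10, 14, 15, 6, 17, 8, 5, 16, 20, 12, 22, 11, 7, 21, 9, 18, 13, 23, 4], [0, 1, 3, 2, 23, 11, 8, 17, 10, 19, 5, 16, 14, 21, 6, 7, 12, 9, 20, 4, 13, 18, 15, 22]),
  (526336, [0, 1, 3, 2, 11, 19, 10, 22, 18, 4, 6, 7, 9, 17, 15, 21, 13, 8, 23, 20, 5, 14, 12, 16], [0, 1, 3, 2, 9, 20, 10, 11, 17, 12, 6, 4, 22, 16, 21, 14, 23, 13, 8, 5, 19, 15, 7, 18]),
  (528384, [0, 1, 3, 2, 19, 12, 20, 16, 23, 18, 15, 13, 8, 9, 4, 5, 17, 7, 6, 14, 11, 22, 21, 10], [0, 1, 3, 2, 14, 15, 18, 17, 12, 13, 23, 20, 5, 11, 19, 10, 7, 16, 9, 4, 6, 22, 21, 8]),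
  (532480, [0, 1, 3, 2, 19, 13, 10, 16, 9, 7, 15, 12, 8, 23, 21, 6, 11, 18, 5, 22, 17, 14, 4, 20], [0, 1, 3, 2, 22, 18, 15, 9, 12, 8, 6, 16, 11, 5, 21, 10, 7, 20, 17, 4, 23, 14, 19, 13]),
  (540672, [0, 1, 3, 2, 14, 19, 10, 23, 22, 12, 5, 4, 17, 21, 16, 9, 11, 15, 18, 6, 20, 13, 7, 8], [0, 1, 3, 2, 11, 10, 19, 22, 23, 15, 6, 16, 9, 21, 4, 17, 14, 12, 18, 5, 20, 13, 8, 7]),
  (557056, [0, 1, 3, 2, 19, 4, 5, 15, 22, 23, 8, 14, 16, 21, 7, 6, 9, 12, 20, 11, 13, 18, 17, 10], [0, 1, 3, 2, 5, 6, 15, 14, 10, 16, 23, 19, 17, 20, 11, 7, 12, 22, 21, 4, 18, 13, 8, 9]),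
  (589824, [0, 1, 3, 2, 16, 5, 11, 19, 12, 6, 8, 22, 15, 18, 17, 10, 7, 14, 21, 4, 13, 20, 9, 23], [0, 1, 3, 2, 19, 5, 9, 16, 10, 22, 15, 6, 8, 20, 17, 12, 4, 14, 13, 7, 21, 18, 11, 23]),
  (655360, [0, 1, 2, 3, 17, 19, 21, 5, 11, 20, 14, 18, 23, 7, 15, 6, 9, 16, 12, 22, 4, 10, 13, 8], [0, 1, 2, 3, 20, 7, 15, 13, 23, 16, 21, 8, 18, 22, 10, 14, 17, 4, 11, 5, 9, 6, 19, 12]),
  (786432, [0, 1, 3, 2, 19, 18, 4, 16, 11, 12, 15, 7, 8, 17, 20, 22, 9, 13, 14, 6, 23, 5, 10, 21], [0, 1, 3, 2, 6, 21, 19, 11, 12, 16, 22, 8, 9, 17, 18, 10, 7, 13, 5, 4, 14, 23, 15, 20]),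
  (1048580, [0, 1, 2, 3, 20, 8, 5, 18, 7, 14, 13, 23, 21, 22, 16, 10, 12, 15, 6, 4, 11, 9, 17, 19], [0, 1, 2, 3, 19, 6, 18, 8, 5, 21, 15, 20, 16, 10, 9, 17, 14, 22, 7, 23, 4, 12, 13, 11]),
  (1048584, [0, 1, 3, 2, 20, 6, 4, 13, 19, 7, 18, 10, 21, 5, 11, 16, 8, 22, 17, 15, 23, 14, 12, 9], [0, 1, 3, 2, 6, 13, 5, 9, 16, 23, 11, 14, 22, 7, 21, 19, 15, 18, 10, 8, 4, 12, 17, 20]),
  (1048592, [0, 1, 3, 2, 4, 20, 6, 12, 16, 11, 10, 9, 7, 17, 21, 15, 8, 13, 23, 19, 5, 14, 22, 18], [0, 1, 3, 2, 4, 20, 6, 12, 16, 11, 10, 9, 7, 17, 21, 15, 8, 13, 23, 19, 5, 14, 22, 18]),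
  (1048608, [0, 1, 2, 3, 20, 5, 9, 13, 10, 11, 21, 6, 18, 19, 23, 4, 12, 14, 16, 7, 15, 8, 22, 17], [0, 1, 2, 3, 15, 5, 11, 19, 21, 6, 8, 9, 16, 7, 17, 20, 18, 23, 12, 13, 4, 10, 22, 14]),
  (1048640, [0, 1, 3, 2, 20, 6, 4, 13, 19, 7, 18, 10, 21, 5, 11, 16, 8, 22, 17, 15, 23, 14, 12, 9], [0, 1, 3, 2, 6, 13, 5, 9, 16, 23, 11, 14, 22, 7, 21, 19, 15, 18, 10, 8, 4, 12, 17, 20]),
  (1048704, [0, 1, 3, 2, 7, 20, 11, 10, 8, 6, 12, 22, 4, 23, 21, 19, 16, 13, 17, 15, 14, 5, 9, 18], [0, 1, 3, 2, 12, 21, 9, 4, 8, 22, 7, 6, 10, 17, 20, 19, 16, 18, 23, 15, 5, 14, 11, 13]),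
  (1048832, [0, 1, 2, 3, 20, 8, 5, 18, 7, 14, 13, 23, 21, 22, 16, 10, 12, 15, 6, 4, 11, 9, 17, 19], [0, 1, 2, 3, 19, 6, 18, 8, 5, 21, 15, 20, 16, 10, 9, 17, 14, 22, 7, 23, 4, 12, 13, 11]),
  (1049088, [0, 1, 3, 2, 9, 20, 23, 6, 16, 5, 22, 17, 11, 4, 18, 19, 15, 21, 12, 8, 7, 10, 14, 13], [0, 1, 3, 2, 13, 9, 7, 20, 19, 4, 21, 12, 18, 23, 22, 16, 8, 11, 14, 15, 5, 17, 10, 6]),
  (1049600, [0, 1, 3, 2, 10, 20, 23, 12, 6, 14, 7, 5, 4, 19, 13, 11, 9, 18, 16, 22, 8, 15, 17, 21], [0, 1, 3, 2, 12, 11, 8, 10, 20, 16, 4, 15, 7, 14, 9, 21, 18, 22, 17, 13, 5, 23, 19, 6]),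
  (1050624, [0, 1, 3, 2, 11, 20, 5, 22, 15, 23, 6, 14, 9, 12, 18, 8, 16, 21, 4, 19, 10, 7, 17, 13], [0, 1, 3, 2, 18, 6, 10, 21, 15, 12, 20, 4, 13, 23, 11, 8, 16, 22, 14, 19, 5, 17, 7, 9]),
  (1052672, [0, 1, 2, 3, 12, 20, 8, 10, 11, 19, 7, 15, 4, 14, 18, 6, 9, 13, 17, 22, 23, 5, 16, 21], [0, 1, 2, 3, 12, 21, 15, 10, 6, 16, 7, 8, 4, 17, 13, 11, 22, 18, 14, 9, 5, 23, 19, 20]),
  (1056768, [0, 1, 3, 2, 20, 6, 4, 13, 19, 7, 18, 10, 21, 5, 11, 16, 8, 22, 17, 15, 23, 14, 12, 9], [0, 1, 3, 2, 6, 13, 5, 9, 16, 23, 11, 14, 22, 7, 21, 19, 15, 18, 10, 8, 4, 12, 17, 20]),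
  (1064960, [0, 1, 2, 3, 14, 20, 22, 5, 15, 6, 23, 11, 17, 12, 18, 19, 16, 13, 4, 8, 7, 10, 9, 21], [0, 1, 2, 3, 18, 7, 9, 20, 19, 22, 21, 11, 13, 17, 4, 8, 16, 12, 14, 15, 5, 23, 6, 10]),
  (1081344, [0, 1, 2, 3, 15, 20, 17, 8, 11, 23, 16, 14, 19, 12, 21, 22, 6, 18, 10, 9, 4, 7, 5, 13], [0, 1, 2, 3, 20, 22, 16, 21, 7, 19, 18, 8, 13, 23, 11, 4, 10, 6, 17, 12, 5, 14, 15, 9]),
  (1114112, [0, 1, 2, 3, 20, 16, 10, 13, 9, 7, 21, 4, 18, 17, 15, 6, 22, 8, 5, 11, 23, 14, 12, 19], [0, 1, 2, 3, 11, 18, 15, 9, 17, 8, 6, 19, 22, 7, 21, 14, 5, 13, 12, 23, 4, 10, 16, 20]),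
  (1179648, [0, 1, 2, 3, 17, 20, 7, 14, 9, 12, 23, 4, 5, 16, 13, 11, 6, 21, 19, 22, 8, 15, 10, 18], [0, 1, 2, 3, 11, 12, 16, 6, 20, 8, 22, 15, 9, 14, 7, 21, 13, 4, 23, 18, 5, 17, 19, 10]),
  (1310720, [0, 1, 2, 3, 18, 10, 11, 20, 8, 6, 21, 9, 13, 14, 12, 19, 15, 4, 17, 16, 23, 5, 22, 7], [0, 1, 2, 3, 17, 21, 9, 23, 8, 11, 5, 6, 14, 12, 13, 16, 19, 18, 4, 15, 7, 10, 22, 20]),
  (1572864, [0, 1, 3, 2, 20, 19, 17, 13, 6, 23, 18, 5, 21, 10, 15, 9, 22, 8, 4, 11, 7, 12, 14, 16], [0, 1, 3, 2, 18, 11, 8, 20, 17, 15, 13, 19, 21, 7, 22, 14, 23, 6, 10, 5, 4, 12, 16, 9]),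
  (2097156, [0, 1, 2, 3, 21, 22, 15, 20, 4, 8, 13, 19, 18, 14, 11, 7, 12, 6, 5, 10, 17, 23, 16, 9], [0, 1, 2, 3, 8, 18, 17, 15, 9, 23, 19, 14, 16, 10, 13, 6, 22, 20, 12, 11, 7, 4, 5, 21]),
  (2097160, [0, 1, 3, 2, 21, 6, 23, 20, 12, 5, 18, 17, 13, 8, 22, 10, 7, 9, 16, 4, 15, 19, 14, 11], [0, 1, 3, 2, 19, 9, 5, 16, 13, 17, 15, 23, 8, 12, 22, 20, 18, 11, 10, 21, 7, 4, 14, 6]),
  (2097168, [0, 1, 2, 3, 4, 21, 5, 12, 19, 17, 7, 14, 10, 22, 18, 8, 16, 20, 11, 15, 9, 6, 23, 13], [0, 1, 2, 3, 4, 6, 21, 10, 15, 20, 12, 18, 7, 23, 11, 19, 16, 9, 14, 8, 17, 5, 13, 22]),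
  (2097184, [0, 1, 2, 3, 5, 21, 16, 17, 7, 8, 23, 15, 14, 9, 20, 12, 4, 13, 22, 10, 11, 6, 19, 18], [0, 1, 2, 3, 16, 4, 21, 8, 9, 13, 19, 20, 15, 17, 12, 11, 6, 7, 23, 22, 14, 5, 18, 10]),
  (2097216, [0, 1, 3, 2, 21, 6, 23, 20, 12, 5, 18, 17, 13, 8, 22, 10, 7, 9, 16, 4, 15, 19, 14, 11], [0, 1, 3, 2, 19, 9, 5, 16, 13, 17, 15, 23, 8, 12, 22, 20, 18, 11, 10, 21, 7, 4, 14, 6]),
  (2097280, [0, 1, 2, 3, 7, 21, 11, 12, 5, 6, 10, 9, 4, 15, 20, 17, 14, 13, 19, 23, 16, 8, 22, 18], [0, 1, 2, 3, 12, 8, 9, 4, 21, 11, 10, 6, 7, 17, 16, 13, 20, 15, 23, 18, 14, 5, 22, 19]),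
  (2097408, [0, 1, 3, 2, 21, 8, 5, 18, 6, 14, 13, 17, 20, 12, 16, 9, 22, 19, 7, 11, 4, 10, 23, 15], [0, 1, 3, 2, 20, 6, 8, 18, 5, 15, 21, 19, 13, 10, 9, 23, 14, 11, 7, 17, 12, 4, 16, 22]),
  (2097664, [0, 1, 2, 3, 21, 9, 17, 18, 15, 14, 20, 5, 13, 7, 11, 8, 19, 22, 12, 16, 4, 10, 23, 6], [0, 1, 2, 3, 20, 11, 23, 13, 15, 5, 21, 14, 18, 12, 9, 8, 19, 6, 7, 16, 10, 4, 17, 22]),
  (2098176, [0, 1, 3, 2, 21, 10, 8, 20, 11, 19, 18, 16, 13, 23, 7, 6, 22, 4, 17, 9, 14, 5, 15, 12], [0, 1, 3, 2, 17, 21, 15, 14, 6, 19, 5, 8, 23, 12, 20, 22, 11, 18, 10, 9, 7, 4, 16, 13]),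
  (2099200, [0, 1, 2, 3, 11, 21, 14, 6, 10, 17, 22, 23, 9, 16, 13, 12, 7, 18, 15, 4, 19, 8, 5, 20], [0, 1, 2, 3, 19, 22, 7, 16, 21, 12, 8, 4, 15, 14, 6, 18, 13, 9, 17, 20, 23, 5, 10, 11]),
  (2101248, [0, 1, 3, 2, 21, 12, 14, 13, 8, 23, 20, 17, 18, 6, 7, 19, 16, 10, 22, 15, 11, 9, 5, 4], [0, 1, 3, 2, 23, 22, 13, 14, 8, 21, 17, 20, 5, 7, 6, 19, 16, 11, 12, 15, 10, 4, 18, 9]),
  (2105344, [0, 1, 2, 3, 13, 15, 14, 21, 10, 5, 20, 17, 18, 22, 19, 7, 4, 8, 6, 12, 11, 9, 23, 16], [0, 1, 2, 3, 16, 9, 18, 15, 17, 21, 8, 20, 19, 4, 6, 5, 23, 11, 12, 14, 10, 7, 13, 22]),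
  (2113536, [0, 1, 3, 2, 14, 21, 16, 17, 22, 8, 23, 19, 5, 4, 20, 6, 9, 18, 7, 11, 10, 12, 15, 13], [0, 1, 3, 2, 13, 12, 15, 18, 9, 16, 20, 19, 21, 23, 4, 22, 6, 7, 17, 11, 14, 5, 8, 10]),
  (2129920, [0, 1, 2, 3, 15, 21, 23, 8, 9, 17, 16, 5, 19, 7, 20, 6, 22, 13, 4, 11, 10, 12, 14, 18], [0, 1, 2, 3, 18, 11, 15, 13, 7, 8, 20, 19, 21, 17, 22, 4, 10, 9, 23, 12, 14, 5, 16, 6]),
  (2162688, [0, 1, 2, 3, 16, 21, 6, 15, 10, 9, 8, 11, 19, 23, 18, 7, 4, 20, 14, 12, 17, 5, 22, 13], [0, 1, 2, 3, 16, 21, 6, 15, 10, 9, 8, 11, 19, 23, 18, 7, 4, 20, 14, 12, 17, 5, 22, 13]),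
  (2228224, [0, 1, 3, 2, 17, 21, 11, 5, 12, 9, 23, 6, 14, 8, 13, 7, 4, 20, 19, 10, 16, 15, 22, 18], [0, 1, 3, 2, 16, 7, 11, 15, 13, 9, 19, 6, 8, 14, 12, 21, 20, 4, 23, 18, 17, 5, 22, 10]),
  (2359296, [0, 1, 2, 3, 18, 4, 8, 21, 23, 19, 13, 15, 20, 6, 12, 14, 17, 7, 9, 5, 11, 22, 16, 10], [0, 1, 2, 3, 5, 19, 13, 17, 6, 18, 23, 20, 14, 10, 15, 11, 22, 16, 4, 9, 12, 7, 21, 8]),
  (2621440, [0, 1, 3, 2, 21, 19, 23, 18, 22, 17, 13, 14, 20, 4, 15, 11, 6, 8, 10, 9, 12, 7, 5, 16], [0, 1, 3, 2, 13, 22, 16, 21, 17, 19, 18, 15, 20, 10, 11, 14, 23, 9, 7, 5, 12, 4, 8, 6]),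
  (3145728, [0, 1, 3, 2, 21, 6, 23, 20, 12, 5, 18, 17, 13, 8, 22, 10, 7, 9, 16, 4, 15, 19, 14, 11], [0, 1, 3, 2, 19, 9, 5, 16, 13, 17, 15, 23, 8, 12, 22, 20, 18, 11, 10, 21, 7, 4, 14, 6]),
  (4194308, [0, 1, 2, 3, 22, 8, 18, 6, 7, 21, 9, 20, 11, 23, 15, 12, 4, 19, 5, 10, 14, 17, 13, 16], [0, 1, 2, 3, 16, 18, 7, 8, 5, 10, 19, 12, 15, 22, 20, 14, 23, 21, 6, 17, 11, 9, 4, 13]),
  (4194312, [0, 1, 3, 2, 22, 5, 8, 6, 18, 19, 11, 16, 9, 12, 17, 20, 21, 14, 7, 13, 4, 10, 15, 23], [0, 1, 3, 2, 20, 5, 7, 18, 6, 12, 21, 10, 13, 19, 17, 22, 11, 14, 8, 9, 15, 16, 4, 23]),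
  (4194320, [0, 1, 2, 3, 4, 22, 17, 7, 21, 23, 10, 14, 12, 19, 11, 20, 18, 6, 16, 13, 15, 8, 5, 9], [0, 1, 2, 3, 4, 22, 17, 7, 21, 23, 10, 14, 12, 19, 11, 20, 18, 6, 16, 13, 15, 8, 5, 9]),
  (4194336, [0, 1, 3, 2, 22, 5, 8, 6, 18, 19, 11, 16, 9, 12, 17, 20, 21, 14, 7, 13, 4, 10, 15, 23], [0, 1, 3, 2, 20, 5, 7, 18, 6, 12, 21, 10, 13, 19, 17, 22, 11, 14, 8, 9, 15, 16, 4, 23]),
  (4194368, [0, 1, 2, 3, 6, 21, 16, 22, 17, 19, 11, 8, 9, 12, 18, 14, 5, 20, 7, 23, 10, 4, 15, 13], [0, 1, 2, 3, 21, 16, 4, 18, 11, 12, 20, 10, 13, 23, 15, 22, 6, 8, 14, 9, 17, 5, 7, 19]),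
  (4194432, [0, 1, 3, 2, 7, 22, 15, 4, 20, 19, 10, 8, 12, 23, 6, 21, 18, 11, 5, 13, 17, 14, 16, 9], [0, 1, 3, 2, 7, 18, 14, 4, 11, 23, 10, 17, 12, 19, 21, 6, 22, 20, 16, 9, 8, 15, 5, 13]),
  (4194560, [0, 1, 2, 3, 22, 8, 18, 6, 7, 21, 9, 20, 11, 23, 15, 12, 4, 19, 5, 10, 14, 17, 13, 16], [0, 1, 2, 3, 16, 18, 7, 8, 5, 10, 19, 12, 15, 22, 20, 14, 23, 21, 6, 17, 11, 9, 4, 13]),
  (4194816, [0, 1, 3, 2, 9, 23, 10, 22, 19, 7, 11, 12, 6, 13, 17, 8, 15, 5, 18, 16, 21, 20, 4, 14], [0, 1, 3, 2, 22, 17, 12, 9, 15, 4, 6, 10, 11, 13, 23, 16, 19, 14, 18, 8, 21, 20, 7, 5]),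
  (4195328, [0, 1, 2, 3, 10, 22, 14, 12, 13, 5, 4, 17, 7, 15, 11, 18, 20, 6, 8, 21, 19, 16, 23, 9], [0, 1, 2, 3, 10, 9, 17, 12, 18, 23, 4, 14, 7, 8, 6, 13, 21, 11, 15, 20, 16, 19, 5, 22]),
  (4196352, [0, 1, 3, 2, 11, 5, 20, 22, 4, 18, 6, 13, 9, 8, 23, 12, 7, 17, 15, 10, 19, 16, 21, 14], [0, 1, 3, 2, 8, 5, 10, 16, 13, 12, 19, 4, 15, 11, 23, 18, 21, 17, 9, 20, 6, 22, 7, 14]),
  (4198400, [0, 1, 3, 2, 22, 12, 19, 11, 5, 15, 9, 16, 6, 18, 7, 14, 17, 10, 21, 23, 13, 20, 8, 4], [0, 1, 3, 2, 23, 8, 12, 14, 22, 10, 17, 7, 5, 20, 15, 9, 11, 16, 13, 6, 21, 18, 4, 19]),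
  (4202496, [0, 1, 2, 3, 13, 22, 5, 20, 15, 23, 18, 17, 21, 10, 6, 8, 19, 9, 4, 16, 12, 7, 14, 11], [0, 1, 2, 3, 18, 6, 14, 21, 15, 17, 13, 23, 20, 4, 22, 8, 19, 11, 10, 16, 7, 12, 5, 9]),
  (4210688, [0, 1, 2, 3, 14, 22, 10, 23, 19, 7, 17, 4, 5, 21, 11, 8, 16, 6, 18, 15, 13, 20, 12, 9], [0, 1, 2, 3, 11, 12, 17, 9, 15, 23, 6, 14, 22, 20, 4, 19, 16, 10, 18, 8, 21, 13, 5, 7]),
  (4227072, [0, 1, 3, 2, 22, 15, 18, 9, 17, 21, 6, 13, 11, 10, 8, 5, 14, 19, 12, 23, 4, 7, 20, 16], [0, 1, 3, 2, 20, 15, 10, 21, 14, 7, 13, 12, 18, 11, 16, 5, 23, 8, 6, 17, 22, 9, 4, 19]),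
  (4259840, [0, 1, 3, 2, 16, 22, 13, 8, 12, 20, 15, 18, 19, 5, 11, 7, 4, 9, 14, 10, 17, 23, 21, 6], [0, 1, 3, 2, 16, 13, 23, 15, 7, 17, 19, 14, 8, 6, 18, 10, 4, 20, 11, 12, 9, 22, 5, 21]),
  (4325376, [0, 1, 3, 2, 22, 17, 12, 9, 15, 4, 6, 10, 11, 13, 23, 16, 19, 14, 18, 8, 21, 20, 7, 5], [0, 1, 3, 2, 9, 23, 10, 22, 19, 7, 11, 12, 6, 13, 17, 8, 15, 5, 18, 16, 21, 20, 4, 14]),
  (4456448, [0, 1, 3, 2, 18, 22, 15, 20, 5, 8, 13, 16, 21, 12, 11, 23, 14, 9, 4, 17, 10, 7, 19, 6], [0, 1, 3, 2, 18, 8, 23, 21, 9, 17, 20, 14, 13, 10, 16, 6, 11, 19, 4, 22, 7, 12, 5, 15]),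
  (4718592, [0, 1, 3, 2, 19, 22, 20, 15, 4, 13, 8, 21, 16, 14, 11, 10, 12, 9, 5, 7, 23, 17, 18, 6], [0, 1, 3, 2, 8, 18, 23, 19, 10, 17, 15, 14, 16, 9, 13, 7, 12, 21, 22, 4, 6, 11, 5, 20]),
  (5242880, [0, 1, 3, 2, 22, 20, 12, 6, 23, 10, 11, 7, 9, 8, 21, 5, 17, 13, 16, 14, 15, 19, 4, 18], [0, 1, 3, 2, 22, 15, 7, 11, 13, 12, 9, 10, 6, 17, 19, 20, 18, 16, 23, 21, 5, 14, 4, 8]),
  (6291456, [0, 1, 2, 3, 21, 22, 15, 20, 4, 8, 13, 19, 18, 14, 11, 7, 12, 6, 5, 10, 17, 23, 16, 9], [0, 1, 2, 3, 8, 18, 17, 15, 9, 23, 19, 14, 16, 10, 13, 6, 22, 20, 12, 11, 7, 4, 5, 21]),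
  (8388612, [0, 1, 2, 3, 23, 10, 13, 5, 16, 20, 17, 21, 14, 11, 4, 19, 8, 7, 9, 15, 22, 6, 18, 12], [0, 1, 2, 3, 14, 7, 21, 17, 16, 18, 5, 13, 23, 6, 12, 19, 8, 10, 22, 15, 9, 11, 20, 4]),
  (8388616, [0, 1, 3, 2, 23, 11, 18, 14, 16, 20, 17, 21, 5, 10, 9, 15, 8, 22, 4, 19, 7, 12, 13, 6], [0, 1, 3, 2, 18, 12, 23, 20, 16, 14, 13, 5, 21, 22, 7, 15, 8, 10, 6, 19, 9, 11, 17, 4]),
  (8388624, [0, 1, 3, 2, 4, 23, 13, 7, 15, 20, 12, 18, 10, 6, 14, 8, 16, 17, 11, 19, 9, 22, 21, 5], [0, 1, 3, 2, 4, 23, 13, 7, 15, 20, 12, 18, 10, 6, 14, 8, 16, 17, 11, 19, 9, 22, 21, 5]),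
  (8388640, [0, 1, 2, 3, 23, 10, 13, 5, 16, 20, 17, 21, 14, 11, 4, 19, 8, 7, 9, 15, 22, 6, 18, 12], [0, 1, 2, 3, 14, 7, 21, 17, 16, 18, 5, 13, 23, 6, 12, 19, 8, 10, 22, 15, 9, 11, 20, 4]),
  (8388672, [0, 1, 3, 2, 23, 6, 19, 17, 4, 8, 5, 15, 14, 18, 11, 12, 7, 22, 13, 10, 20, 21, 16, 9], [0, 1, 3, 2, 8, 10, 5, 16, 9, 23, 19, 14, 15, 18, 12, 11, 22, 7, 13, 6, 20, 21, 17, 4]),
  (8388736, [0, 1, 3, 2, 7, 23, 6, 12, 20, 9, 4, 22, 10, 8, 17, 13, 21, 5, 16, 18, 15, 19, 11, 14], [0, 1, 3, 2, 10, 17, 6, 4, 13, 9, 12, 22, 7, 15, 23, 20, 18, 14, 19, 21, 8, 16, 11, 5]),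
  (8388864, [0, 1, 2, 3, 8, 23, 13, 15, 7, 18, 19, 20, 16, 22, 17, 4, 10, 14, 11, 12, 9, 6, 21, 5], [0, 1, 2, 3, 15, 23, 21, 8, 4, 20, 16, 18, 19, 6, 17, 7, 12, 14, 9, 10, 11, 22, 13, 5]),
  (8389120, [0, 1, 3, 2, 9, 23, 10, 22, 19, 7, 11, 12, 6, 13, 17, 8, 15, 5, 18, 16, 21, 20, 4, 14], [0, 1, 3, 2, 22, 17, 12, 9, 15, 4, 6, 10, 11, 13, 23, 16, 19, 14, 18, 8, 21, 20, 7, 5]),
  (8389632, [0, 1, 2, 3, 23, 10, 13, 5, 16, 20, 17, 21, 14, 11, 4, 19, 8, 7, 9, 15, 22, 6, 18, 12], [0, 1, 2, 3, 14, 7, 21, 17, 16, 18, 5, 13, 23, 6, 12, 19, 8, 10, 22, 15, 9, 11, 20, 4]),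
  (8390656, [0, 1, 3, 2, 23, 11, 18, 14, 16, 20, 17, 21, 5, 10, 9, 15, 8, 22, 4, 19, 7, 12, 13, 6], [0, 1, 3, 2, 18, 12, 23, 20, 16, 14, 13, 5, 21, 22, 7, 15, 8, 10, 6, 19, 9, 11, 17, 4]),
  (8392704, [0, 1, 3, 2, 12, 23, 18, 10, 19, 21, 4, 13, 7, 9, 14, 16, 8, 17, 22, 15, 6, 11, 20, 5], [0, 1, 3, 2, 10, 23, 20, 12, 16, 13, 7, 21, 4, 11, 14, 19, 15, 17, 6, 8, 22, 9, 18, 5]),
  (8396800, [0, 1, 2, 3, 13, 23, 6, 20, 12, 22, 18, 9, 21, 19, 5, 7, 10, 17, 16, 4, 15, 8, 11, 14], [0, 1, 2, 3, 19, 14, 6, 15, 21, 11, 16, 22, 8, 4, 23, 20, 18, 17, 10, 13, 7, 12, 9, 5]),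
  (8404992, [0, 1, 3, 2, 23, 11, 18, 14, 16, 20, 17, 21, 5, 10, 9, 15, 8, 22, 4, 19, 7, 12, 13, 6], [0, 1, 3, 2, 18, 12, 23, 20, 16, 14, 13, 5, 21, 22, 7, 15, 8, 10, 6, 19, 9, 11, 17, 4]),
  (8421376, [0, 1, 2, 3, 23, 15, 22, 5, 4, 9, 17, 6, 14, 18, 16, 7, 12, 19, 20, 10, 13, 21, 11, 8], [0, 1, 2, 3, 8, 7, 11, 15, 23, 9, 19, 22, 16, 20, 12, 5, 14, 10, 13, 17, 18, 21, 6, 4]),
  (8454144, [0, 1, 3, 2, 16, 23, 22, 19, 10, 9, 8, 11, 15, 21, 14, 12, 4, 17, 18, 7, 20, 13, 6, 5], [0, 1, 3, 2, 16, 23, 22, 19, 10, 9, 8, 11, 15, 21, 14, 12, 4, 17, 18, 7, 20, 13, 6, 5]),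
  (8519680, [0, 1, 2, 3, 17, 10, 19, 23, 22, 16, 5, 15, 14, 13, 12, 11, 9, 4, 18, 6, 20, 21, 8, 7], [0, 1, 2, 3, 17, 10, 19, 23, 22, 16, 5, 15, 14, 13, 12, 11, 9, 4, 18, 6, 20, 21, 8, 7]),
  (8650752, [0, 1, 2, 3, 18, 23, 7, 13, 15, 12, 20, 4, 21, 6, 14, 19, 16, 5, 11, 8, 22, 9, 10, 17], [0, 1, 2, 3, 11, 17, 13, 6, 19, 21, 22, 18, 9, 7, 14, 8, 16, 23, 4, 15, 10, 12, 20, 5]),
  (8912896, [0, 1, 3, 2, 23, 19, 6, 17, 13, 11, 5, 9, 14, 12, 8, 18, 21, 16, 4, 20, 10, 7, 22, 15], [0, 1, 3, 2, 18, 10, 6, 21, 14, 11, 20, 9, 13, 8, 12, 23, 17, 7, 15, 5, 19, 16, 22, 4]),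
  (9437184, [0, 1, 3, 2, 23, 20, 15, 5, 22, 19, 14, 8, 17, 7, 21, 6, 9, 13, 4, 11, 12, 10, 16, 18], [0, 1, 3, 2, 18, 7, 15, 13, 11, 16, 21, 19, 20, 17, 10, 6, 22, 12, 23, 9, 5, 14, 8, 4]),
  (10485760, [0, 1, 3, 2, 21, 23, 19, 18, 10, 15, 13, 16, 20, 11, 17, 4, 7, 5, 22, 12, 9, 6, 8, 14], [0, 1, 3, 2, 15, 17, 21, 16, 22, 20, 8, 13, 19, 10, 23, 9, 11, 14, 7, 6, 12, 4, 18, 5]),
  (12582912, [0, 1, 2, 3, 22, 23, 15, 11, 7, 16, 6, 8, 9, 20, 14, 10, 12, 5, 13, 4, 18, 21, 19, 17], [0, 1, 2, 3, 19, 17, 10, 8, 11, 12, 15, 7, 16, 18, 14, 6, 9, 23, 20, 22, 13, 21, 4, 5])]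

set_option maxRecDepth 100000 in
theorem tblG_ok : tblG.all (rkChkG clsG 12 [0, 1] repG) = true := by decide +kernel

set_option maxRecDepth 100000 in
theorem tblG_complete : pairMasks.all (fun m => or (or (or (m.testBit 0) (m.testBit 1))
    (Nat.beq m 12)) (tblG.any (fun e => Nat.beq e.1 m))) = true := by decide +kernel

/-- Transitivity for the standard configuration. -/
theorem std_trans (t t' : Finset GolayPt) (ht : t.card = 2 ∧ pt 0 ∉ t ∧ pt 1 ∉ t)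
    (ht' : t'.card = 2 ∧ pt 0 ∉ t' ∧ pt 1 ∉ t') (hne : t ≠ support₂ (word 12))
    (hne' : t' ≠ support₂ (word 12))
    (hk : (support₂ (word 12) ∩ t).card = (support₂ (word 12) ∩ t').card)
    (ho : (∃ o ∈ octads, pt 0 ∈ o ∧ pt 1 ∈ o ∧ support₂ (word 12) ∪ t ⊆ o) ↔
      (∃ o ∈ octads, pt 0 ∈ o ∧ pt 1 ∈ o ∧ support₂ (word 12) ∪ t' ⊆ o)) :
    ∃ g ∈ M24, g (pt 0) = pt 0 ∧ g (pt 1) = pt 1 ∧
      g • support₂ (word 12) = support₂ (word 12) ∧ g • t = t' := by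
  have key : ∀ t : Finset GolayPt, (t.card = 2 ∧ pt 0 ∉ t ∧ pt 1 ∉ t) →
      t ≠ support₂ (word 12) → ∃ e ∈ tblG, t = support₂ (word e.1) := by
    intro t ht hne
    obtain ⟨m, hm, rfl⟩ := exists_pair_mask t ht.1
    have h := tblG_complete
    rw [List.all_eq_true] at h
    have h1 := h m hm
    have h0 := ht.2.1
    have h1' := ht.2.2
    rw [mem_support_word, code_pt 0 (by norm_num), Bool.not_eq_true] at h0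
    rw [mem_support_word, code_pt 1 (by norm_num), Bool.not_eq_true] at h1'
    have h12 : Nat.beq m 12 = false := by
      cases hb : Nat.beq m 12
      · rfl
      · rw [Nat.beq_eq] at hb
        rw [hb] at hne
        exact absurd rfl hne
    simp only [h0, h1', h12, Bool.or_self, Bool.false_or, List.any_eq_true, Nat.beq_eq] at h1
    obtain ⟨e, he, rfl⟩ := h1
    exact ⟨e, he, rfl⟩
  obtain ⟨ea, hea, rfl⟩ := key t ht hne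
  obtain ⟨eb, heb, rfl⟩ := key t' ht' hne'
  obtain ⟨ga, hga, fa, Oa, ra⟩ := rk_specG clsG 12 [0, 1] (by decide) repG tblG tblG_ok ea hea
  obtain ⟨gb, hgb, fb, Ob, rb⟩ := rk_specG clsG 12 [0, 1] (by decide) repG tblG tblG_ok eb heb
  rw [card_inter_word, card_inter_word, Nat.land_comm 12, Nat.land_comm 12] at hk
  rw [oct_iff, oct_iff] at ho
  have hcls : clsG ea.1 = clsG eb.1 := by
    rw [clsG, clsG, hk]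
    cases h1 : octf ea.1 <;> cases h2 : octf eb.1 <;> simp_all
  rw [hcls] at ra
  refine ⟨gb * ga⁻¹, M24.mul_mem hgb (M24.inv_mem hga), ?_, ?_, ?_, ?_⟩
  · rw [Equiv.Perm.mul_apply, Equiv.Perm.inv_eq_iff_eq.2 (fa 0 (by simp)).symm, fb 0 (by simp)]
  · rw [Equiv.Perm.mul_apply, Equiv.Perm.inv_eq_iff_eq.2 (fa 1 (by simp)).symm, fb 1 (by simp)]
  · rw [mul_smul, inv_smul_eq_iff.2 Oa.symm, Ob]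
  · rw [mul_smul, inv_smul_eq_iff.2 ra.symm, rb]

end Rk
end Cfsg.Agent.Lib.Helper4
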