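import Cfsg.Agent.Lib.Helper4.Punct2
import Cfsg.Agent.Lib.Helper4.Rk7

set_option autoImplicit false

namespace Cfsg.Agent.Lib.Helper4
namespace Punct

open Pointwise Golay

theorem sub_eq_add' (v d : GolayPt → ZMod 2) : v - d = v + d := by
  funext p
  have : ∀ x y : ZMod 2, x - y = x + y := by decide
  exact this _ _

/-- The covering radius of the code is at most four. -/
theorem exists_leader (w : GolayPt → ZMod 2) :
    ∃ v, hammingNorm v ≤ 4 ∧ w - v ∈ golayCode := by
  obtain ⟨c', ⟨hc', hd⟩, -⟩ := perfect (rho w)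
  rw [P_eq] at hc'
  obtain ⟨c, hc, rfl⟩ := hc'
  refine ⟨w - c, ?_, by rw [sub_sub_cancel]; exact hc⟩
  have h1 := norm_rho (w - c)
  have h2 : hammingNorm (rho (w - c)) ≤ 3 := by
    rw [rho_sub, ← neg_add_eq_sub, ← hammingDist_eq_hammingNorm, hammingDist_comm]
    exact hd
  rw [h1]
  split_ifs <;> omega

theorem leader_unique {w v v' : GolayPt → ZMod 2} (hv : hammingNorm v ≤ 3)
    (hvC : w - v ∈ golayCode) (hv' : hammingNorm v' ≤ 4) (hvC' : w - v' ∈ golayCode) :
    v' = v := by
  have hd : v - v' ∈ golayCode := by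
    have := golayCode.sub_mem hvC' hvC
    rwa [sub_sub_sub_cancel_left] at this
  have h1 := inter_card v v'
  rw [← sub_eq_add'] at h1
  rcases weights _ hd with h | h | h | h | h
  · exact (sub_eq_zero.1 (hammingNorm_eq_zero.1 h)).symm
  all_goals omega

set_option maxRecDepth 100000 in
theorem cnt5 : countComb (fun a => and (Nat.beq (pc a) 8) (Rk.subB 15 a)) basis 0 = 5 := by
  decide +kernel

/-- Four points lie in exactly five octads. -/
theorem ncard_through (t : Finset GolayPt) (ht : t.card = 4) :
    {o | o ∈ octads ∧ t ⊆ o}.ncard = 5 := by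
  obtain ⟨a, b, c, d, hab, hac, had, hbc, hbd, hcd, rfl⟩ := Finset.card_eq_four.1 ht
  obtain ⟨h, hh, ha, hb, hc, hd⟩ := Stv.map4 a b c d (pt 0) (pt 1) (pt 2) (pt 3)
    (by simp [hab, hac, had, hbc, hbd, hcd]) (by decide)
  have hT : h • ({a, b, c, d} : Finset GolayPt) = support₂ (word 15) := by
    apply Finset.eq_of_subset_of_card_le
    · intro x hx
      obtain ⟨y, hy, rfl⟩ := Finset.mem_smul_finset.1 hx
      simp only [Finset.mem_insert, Finset.mem_singleton] at hy
      rw [mem_support_word, Equiv.Perm.smul_def]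
      rcases hy with rfl | rfl | rfl | rfl
      · rw [ha, code_pt 0 (by norm_num)]
        decide
      · rw [hb, code_pt 1 (by norm_num)]
        decide
      · rw [hc, code_pt 2 (by norm_num)]
        decide
      · rw [hd, code_pt 3 (by norm_num)]
        decide
    · rw [card_support, hammingNorm_word, Finset.card_smul_finset, ht]
      decide
  rw [Rk.ncard_transport hh (fun o => ({a, b, c, d} : Finset GolayPt) ⊆ o)
    (fun o => support₂ (word 15) ⊆ o)
    (fun s => by rw [← hT, Finset.smul_finset_subset_smul_finset_iff])]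
  rw [Rk.ncard_octads_pred (fun a => and (Nat.beq (pc a) 8) (Rk.subB 15 a)) _
    (fun a => by rw [Bool.and_eq_true, Nat.beq_eq, Rk.subB_iff])]
  exact cnt5

/-- Coset leaders of the code. -/
theorem leaders (w : GolayPt → ZMod 2) :
    ({v : GolayPt → ZMod 2 | hammingNorm v ≤ 4 ∧ w - v ∈ golayCode}.ncard = 1 ∧
      ∃ v : GolayPt → ZMod 2, hammingNorm v ≤ 3 ∧ w - v ∈ golayCode) ∨
    ({v : GolayPt → ZMod 2 | hammingNorm v ≤ 4 ∧ w - v ∈ golayCode}.ncard = 6 ∧
      ∀ v : GolayPt → ZMod 2, w - v ∈ golayCode → hammingNorm v ≤ 4 → hammingNorm v = 4) := by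
  by_cases h3 : ∃ v : GolayPt → ZMod 2, hammingNorm v ≤ 3 ∧ w - v ∈ golayCode
  · left
    obtain ⟨v, hv, hvC⟩ := h3
    refine ⟨?_, v, hv, hvC⟩
    have : {v : GolayPt → ZMod 2 | hammingNorm v ≤ 4 ∧ w - v ∈ golayCode} = {v} := by
      ext v'
      simp only [Set.mem_ofPred_eq, Set.mem_singleton_iff]
      constructor
      · rintro ⟨h4, hC⟩
        exact leader_unique hv hvC h4 hC
      · rintro rfl
        exact ⟨by omega, hvC⟩
    rw [this, Set.ncard_singleton]
  · right
    have hall : ∀ v : GolayPt → ZMod 2, w - v ∈ golayCode → hammingNorm v ≤ 4 →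
        hammingNorm v = 4 := by
      intro v hC h4
      by_contra hne
      exact h3 ⟨v, by omega, hC⟩
    refine ⟨?_, hall⟩
    obtain ⟨v0, h0, hC0⟩ := exists_leader w
    have hw0 : hammingNorm v0 = 4 := hall v0 hC0 h0
    have hL : {v : GolayPt → ZMod 2 | hammingNorm v ≤ 4 ∧ w - v ∈ golayCode}
        = (fun d => v0 - d) '' (insert 0 {d : GolayPt → ZMod 2 | d ∈ golayCode ∧
          hammingNorm d = 8 ∧ support₂ v0 ⊆ support₂ d}) := by
      ext v
      simp only [Set.mem_ofPred_eq, Set.mem_image, Set.mem_insert_iff]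
      constructor
      · rintro ⟨h4, hC⟩
        refine ⟨v0 - v, ?_, sub_sub_cancel v0 v⟩
        by_cases hz : v0 - v = 0
        · exact Or.inl hz
        · right
          have hd : v0 - v ∈ golayCode := by
            have := golayCode.sub_mem hC hC0
            rwa [sub_sub_sub_cancel_left] at this
          have hv4 := hall v hC h4
          have h1 := inter_card v0 v
          rw [← sub_eq_add'] at h1
          have hn0 : hammingNorm (v0 - v) ≠ 0 := fun h => hz (hammingNorm_eq_zero.1 h)
          have h8 : hammingNorm (v0 - v) = 8 := by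
            rcases weights _ hd with h | h | h | h | h <;> omega
          refine ⟨hd, h8, ?_⟩
          have h2 := inter_card v0 (v0 - v)
          have e : v0 + (v0 - v) = v := by
            rw [← sub_eq_add', sub_sub_cancel]
          rw [e, hw0, h8, hv4] at h2
          have h3' : (support₂ v0 ∩ support₂ (v0 - v)).card = 4 := by omega
          have h4' : support₂ v0 ∩ support₂ (v0 - v) = support₂ v0 :=
            Finset.eq_of_subset_of_card_le Finset.inter_subset_left (by
              rw [h3', card_support, hw0])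
          rw [← h4']
          exact Finset.inter_subset_right
      · rintro ⟨d, hd | ⟨hdC, h8, hsub⟩, rfl⟩
        · rw [hd, sub_zero]
          exact ⟨h0, hC0⟩
        · refine ⟨?_, ?_⟩
          · have h1 := inter_card v0 d
            rw [← sub_eq_add'] at h1
            have : support₂ v0 ∩ support₂ d = support₂ v0 := Finset.inter_eq_left.2 hsub
            rw [this, card_support, hw0, h8] at h1
            omega
          · have : w - (v0 - d) = (w - v0) + d := by abel
            rw [this]
            exact golayCode.add_mem hC0 hdC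
    rw [hL, Set.ncard_image_of_injective _ sub_right_injective]
    rw [Set.ncard_insert_of_notMem ?_ (Set.toFinite _)]
    · have hD : {d : GolayPt → ZMod 2 | d ∈ golayCode ∧ hammingNorm d = 8 ∧
          support₂ v0 ⊆ support₂ d}.ncard = {o | o ∈ octads ∧ support₂ v0 ⊆ o}.ncard := by
        rw [← Set.ncard_image_of_injective _ support_injective]
        congr 1
        ext o
        simp only [Set.mem_image, Set.mem_ofPred_eq]
        constructor
        · rintro ⟨d, ⟨hdC, h8, hsub⟩, rfl⟩
          exact ⟨⟨⟨d, hdC, rfl⟩, h8⟩, hsub⟩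
        · rintro ⟨⟨⟨d, hdC, rfl⟩, h8⟩, hsub⟩
          exact ⟨d, ⟨hdC, h8, hsub⟩, rfl⟩
      rw [hD, ncard_through _ (by rw [card_support, hw0])]
    · rintro ⟨-, h8, -⟩
      rw [hammingNorm_zero] at h8
      omega

end Punct
end Cfsg.Agent.Lib.Helper4
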