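import Cfsg.Agent.Lib.Helper4.AutF
import Cfsg.Agent.Lib.Helper4.Punct3

set_option autoImplicit false

namespace Cfsg.Agent.Lib.Helper4
namespace AutA

open Pointwise Golay

/-- Octads containing exactly one of the first four points. -/
def oct1 : List ℕ := [15777, 31554, 63108, 42232]

theorem oct1_ok : (List.range 4).all (fun i => and (Nat.beq (red basisP (oct1.getD i 0)) 0)
    ((List.range 4).all (fun j => (oct1.getD i 0).testBit j == Nat.beq j i))) = true := by
  decide +kernel

/-- The code contains its orthogonal complement. -/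
theorem dual (x : GolayPt → ZMod 2) (h : ∀ w ∈ golayCode, ∑ i, x i * w i = 0) :
    x ∈ golayCode := by
  obtain ⟨l, hl, hC⟩ := Punct.exists_leader x
  suffices hz : l = 0 by
    rw [hz, sub_zero] at hC
    exact hC
  by_contra hne
  have horth : ∀ w ∈ golayCode, ∑ i, l i * w i = 0 := by
    intro w hw
    have h1 := h w hw
    have h2 := self_orth (x - l) w hC hw
    simp only [Pi.sub_apply, sub_mul, Finset.sum_sub_distrib] at h2
    rw [h1] at h2
    have h3 := sub_eq_zero.1 h2
    exact h3.symm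
  obtain ⟨p, hp⟩ : ∃ p, l p ≠ 0 := by
    by_contra hno
    apply hne
    funext q
    by_contra hq
    exact hno ⟨q, hq⟩
  obtain ⟨S', hSS', hS'c⟩ := Finset.exists_superset_card_eq (s := support₂ l) (n := 4)
    (by rw [card_support]; exact hl) (by rw [card_pts]; norm_num)
  have hmemS : ∀ q, l q ≠ 0 → q ∈ S' := fun q hq =>
    hSS' (Finset.mem_filter.2 ⟨Finset.mem_univ _, hq⟩)
  obtain ⟨h', hh', hmap⟩ := exists_mapN (by norm_num : 4 ≤ 5)
    (((S'.equivFinOfCardEq hS'c).symm.toEmbedding).trans (Function.Embedding.subtype _))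
    ⟨fun i : Fin 4 => pt i.val, pt4_inj⟩
  have hmap' : ∀ q (hq : q ∈ S'), h' q = pt ((S'.equivFinOfCardEq hS'c) ⟨q, hq⟩).val := by
    intro q hq
    have := hmap ((S'.equivFinOfCardEq hS'c) ⟨q, hq⟩)
    simpa using this
  have hok := oct1_ok
  rw [List.all_eq_true] at hok
  have hi0 := hok ((S'.equivFinOfCardEq hS'c) ⟨p, hmemS p hp⟩).val
    (List.mem_range.2 ((S'.equivFinOfCardEq hS'c) ⟨p, hmemS p hp⟩).2)
  rw [Bool.and_eq_true, Nat.beq_eq, List.all_eq_true] at hi0
  obtain ⟨hred, hbits⟩ := hi0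
  have hm : word (oct1.getD ((S'.equivFinOfCardEq hS'c) ⟨p, hmemS p hp⟩).val 0) ∈ golayCode := by
    rw [golay_eq]
    apply red_sound basisP _ _ basisP_mem
    rw [hred, word_zero]
    exact Submodule.zero_mem _
  have hsum := horth _ (comp_mem_of_mem_M24 hh' hm)
  rw [Finset.sum_eq_single p] at hsum
  · have hb := hbits ((S'.equivFinOfCardEq hS'c) ⟨p, hmemS p hp⟩).val
      (List.mem_range.2 ((S'.equivFinOfCardEq hS'c) ⟨p, hmemS p hp⟩).2)
    rw [beq_iff_eq] at hb
    have h1 : (word (oct1.getD ((S'.equivFinOfCardEq hS'c) ⟨p, hmemS p hp⟩).val 0) ∘ h') p = 1 := by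
      show word _ (h' p) = 1
      rw [hmap' p (hmemS p hp), word_apply, code_pt _ (by omega), hb]
      simp
    rw [h1, mul_one] at hsum
    exact hp hsum
  · intro q _ hqp
    by_cases hq : l q = 0
    · rw [hq, zero_mul]
    · have hb := hbits ((S'.equivFinOfCardEq hS'c) ⟨q, hmemS q hq⟩).val
        (List.mem_range.2 ((S'.equivFinOfCardEq hS'c) ⟨q, hmemS q hq⟩).2)
      rw [beq_iff_eq] at hb
      have hneq : ((S'.equivFinOfCardEq hS'c) ⟨q, hmemS q hq⟩).val ≠
          ((S'.equivFinOfCardEq hS'c) ⟨p, hmemS p hp⟩).val := by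
        intro e
        apply hqp
        have := (S'.equivFinOfCardEq hS'c).injective (Fin.ext e)
        exact congrArg Subtype.val this
      have h1 : (word (oct1.getD ((S'.equivFinOfCardEq hS'c) ⟨p, hmemS p hp⟩).val 0) ∘ h') q
          = 0 := by
        show word _ (h' q) = 0
        rw [hmap' q (hmemS q hq), word_apply, code_pt _ (by omega), hb]
        simp [hneq]
      rw [h1, mul_zero]
  · intro hnot
    exact absurd (Finset.mem_univ p) hnot

end AutA
end Cfsg.Agent.Lib.Helper4
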