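import Cfsg.Agent.Lib.Helper4.AutH

set_option autoImplicit false

namespace Cfsg.Agent.Lib.Helper4
namespace AutA

open Pointwise Golay

/-- Eleven octads through the two special points. -/
def B11 : List ℕ := [8391797, 8398155, 8412681, 8421811, 8471941, 8524371, 8657159, 8922769,
  9440193, 10486557, 12587685]

/-- An octad through the extra point only. -/
def u0 : ℕ := 8394986

/-- The spanning list. -/
def basisM : List ℕ := [8391797, 8398155, 8412681, 8421811, 8471941, 8524371, 8657159, 8922769,
  9440193, 10486557, 12587685, 8394986]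

/-- The old basis in terms of the spanning list. -/
def combosM : List (List ℕ) := [[6, 11], [1, 7], [0, 8], [0, 9], [10, 11], [0, 3], [0, 2, 4, 11],
  [5, 11], [0, 11], [0, 1], [2, 11], [0]]

theorem B11_ok : B11.all (fun b => and (Nat.beq (pc b) 8)
    (and (Nat.beq (red basisP b) 0) (and (b.testBit 23) (and (b.testBit 0)
      (Nat.beq (pc (8388609 &&& b)) 2))))) = true := by decide +kernel

theorem u0_ok : and (Nat.beq (red basisP u0) 0) (and (u0.testBit 23) (and (!u0.testBit 0)
    (Nat.beq (pc (8388609 &&& u0)) 1))) = true := by decide +kernel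

theorem basis_eqM : basis = combosM.map (fun T => xorL (T.map (fun t => basisM.getD t 0))) := by
  decide +kernel

theorem combosM_lt : ∀ T ∈ combosM, ∀ t ∈ T, basisM.getD t 0 ∈ basisM := by decide +kernel

theorem mem_basisM {a : ℕ} (ha : a ∈ basisM) : a ∈ B11 ∨ a = u0 := by
  have : ∀ a ∈ basisM, a ∈ B11 ∨ a = u0 := by decide
  exact this a ha

theorem code_none : code (none : GolayPt) = 23 := by decide

theorem code_zero : code (some 0 : GolayPt) = 0 := by decide

theorem sp_basis_le {S : Submodule (ZMod 2) (GolayPt → ZMod 2)}
    (h : ∀ a ∈ basisM, word a ∈ S) : golayCode ≤ S := by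
  rw [golay_eq]
  apply sp_le
  intro b hb
  rw [basis_eqM, List.mem_map] at hb
  obtain ⟨T, hT, rfl⟩ := hb
  apply xorL_mem
  intro a ha
  rw [List.mem_map] at ha
  obtain ⟨t, ht, rfl⟩ := ha
  exact h _ (combosM_lt T hT t ht)

theorem mem_M24_of_basisM (g : Equiv.Perm GolayPt)
    (h : ∀ b ∈ basisM, word b ∘ g ∈ golayCode) : g ∈ M24 := by
  apply mem_M24_of_forall
  have hle : golayCode ≤ golayCode.comap (LinearMap.funLeft (ZMod 2) (ZMod 2) g) :=
    sp_basis_le (fun a ha => h a ha)
  intro w hw
  exact hle hw

theorem B11_word {b : ℕ} (hb : b ∈ B11) :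
    support₂ (word b) ∈ octads ∧ word b none = 1 ∧ word b (some 0) = 1 ∧
      ∑ i, word 8388609 i * word b i = 0 := by
  have h := B11_ok
  rw [List.all_eq_true] at h
  have hb' := h b hb
  simp only [Bool.and_eq_true, Nat.beq_eq] at hb'
  obtain ⟨h1, h2, h3, h4, h5⟩ := hb'
  refine ⟨⟨⟨word b, ?_, rfl⟩, ?_⟩, ?_, ?_, ?_⟩
  · rw [SetLike.mem_coe, golay_eq]
    apply red_sound basisP _ _ basisP_mem
    rw [h2, word_zero]
    exact Submodule.zero_mem _
  · rw [card_support, hammingNorm_word]
    exact h1
  · rw [word_apply, code_none, h3]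
    rfl
  · rw [word_apply, code_zero, h4]
    rfl
  · rw [dot_word, h5]
    decide

theorem u0_word : word u0 ∈ golayCode ∧ word u0 none = 1 ∧ word u0 (some 0) = 0 ∧
    ∑ i, word 8388609 i * word u0 i = 1 := by
  have h := u0_ok
  simp only [Bool.and_eq_true, Nat.beq_eq, Bool.not_eq_true'] at h
  obtain ⟨h2, h3, h4, h5⟩ := h
  refine ⟨?_, ?_, ?_, ?_⟩
  · rw [golay_eq]
    apply red_sound basisP _ _ basisP_mem
    rw [h2, word_zero]
    exact Submodule.zero_mem _
  · rw [word_apply, code_none, h3]
    rfl
  · rw [word_apply, code_zero, h4]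
    rfl
  · rw [dot_word, h5]
    decide

theorem v_apply (p : GolayPt) :
    word 8388609 p = if p = none ∨ p = some 0 then 1 else 0 := by
  revert p
  decide

/-- A permutation fixing the two special points and permuting the octads through both lies in
the group of the code, possibly after swapping the two points. -/
theorem ext22' (g gi : Equiv.Perm GolayPt) (hgi : gi = g⁻¹) (hn : g none = none)
    (h0 : g (some 0) = some 0)
    (h : ∀ o ∈ octads, none ∈ o → some 0 ∈ o → gi • o ∈ octads)
    (h' : ∀ o ∈ octads, none ∈ o → some 0 ∈ o → g • o ∈ octads) :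
    g ∈ M24 ∨ g * Equiv.swap none (some 0) ∈ M24 := by
  have hmemO : ∀ b ∈ B11, none ∈ support₂ (word b) ∧ some 0 ∈ support₂ (word b) := by
    intro b hb
    obtain ⟨-, h1, h2, -⟩ := B11_word hb
    constructor
    · exact Finset.mem_filter.2 ⟨Finset.mem_univ _, by rw [h1]; decide⟩
    · exact Finset.mem_filter.2 ⟨Finset.mem_univ _, by rw [h2]; decide⟩
  have hB : ∀ b ∈ B11, word b ∘ g ∈ golayCode := by
    intro b hb
    obtain ⟨⟨w', hw', e⟩, -⟩ := h _ (B11_word hb).1 (hmemO b hb).1 (hmemO b hb).2
    have e' : support₂ w' = support₂ (word b ∘ g) := by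
      rw [support_comp, ← hgi]
      exact e
    rw [← support_injective e']
    exact hw'
  have hBi : ∀ b ∈ B11, word b ∘ gi ∈ golayCode := by
    intro b hb
    obtain ⟨⟨w', hw', e⟩, -⟩ := h' _ (B11_word hb).1 (hmemO b hb).1 (hmemO b hb).2
    have e' : support₂ w' = support₂ (word b ∘ gi) := by
      rw [support_comp, hgi, inv_inv]
      exact e
    rw [← support_injective e']
    exact hw'
  obtain ⟨hu1, hu2, hu3, hu4⟩ := u0_word
  have horth : ∀ b ∈ B11, ∑ i, (word u0 ∘ g) i * word b i = 0 := by
    intro b hb
    have h1 := self_orth (word u0) (word b ∘ gi) hu1 (hBi b hb)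
    rw [← Equiv.sum_comp g] at h1
    rw [← h1]
    apply Finset.sum_congr rfl
    intro i _
    show word u0 (g i) * word b i = word u0 (g i) * word b (gi (g i))
    rw [hgi]
    simp
  have hgnone : ∀ a : ℕ, (word a ∘ g) none = word a none := fun a => by
    show word a (g none) = word a none
    rw [hn]
  have hgzero : ∀ a : ℕ, (word a ∘ g) (some 0) = word a (some 0) := fun a => by
    show word a (g (some 0)) = word a (some 0)
    rw [h0]
  rcases zmod2_cases (∑ i, (word u0 ∘ g) i * word u0 i) with hl | hl
  · left
    have hx : word u0 ∘ g ∈ golayCode := by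
      apply dual
      have hle : golayCode ≤ orthSub (word u0 ∘ g) := by
        apply sp_basis_le
        intro a ha
        rw [mem_orthSub]
        rcases mem_basisM ha with ha | rfl
        · rw [← horth a ha]
          exact Finset.sum_congr rfl (fun i _ => mul_comm _ _)
        · rw [← hl]
          exact Finset.sum_congr rfl (fun i _ => mul_comm _ _)
      intro w hw
      have := hle hw
      rw [mem_orthSub] at this
      rw [← this]
      exact Finset.sum_congr rfl (fun i _ => mul_comm _ _)
    apply mem_M24_of_basisM
    intro b hb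
    rcases mem_basisM hb with hb | rfl
    · exact hB b hb
    · exact hx
  · right
    have hx : word u0 ∘ g + word 8388609 ∈ golayCode := by
      apply dual
      have hle : golayCode ≤ orthSub (word u0 ∘ g + word 8388609) := by
        apply sp_basis_le
        intro a ha
        rw [mem_orthSub]
        have hsplit : ∑ i, word a i * (word u0 ∘ g + word 8388609) i
            = ∑ i, (word u0 ∘ g) i * word a i + ∑ i, word 8388609 i * word a i := by
          rw [← Finset.sum_add_distrib]
          apply Finset.sum_congr rfl
          intro i _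
          show word a i * ((word u0 ∘ g) i + word 8388609 i) = _
          ring
        rw [hsplit]
        rcases mem_basisM ha with ha | rfl
        · rw [horth a ha, (B11_word ha).2.2.2, add_zero]
        · rw [hl, hu4]
          decide
      intro w hw
      have := hle hw
      rw [mem_orthSub] at this
      rw [← this]
      exact Finset.sum_congr rfl (fun i _ => mul_comm _ _)
    apply mem_M24_of_basisM
    intro b hb
    rcases mem_basisM hb with hb | rfl
    · have e : word b ∘ ⇑(g * Equiv.swap (none : GolayPt) (some 0)) = word b ∘ g := by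
        funext p
        show word b (g (Equiv.swap none (some 0) p)) = word b (g p)
        by_cases hp1 : p = none
        · rw [hp1, Equiv.swap_apply_left, h0, hn, (B11_word hb).2.1, (B11_word hb).2.2.1]
        · by_cases hp2 : p = some 0
          · rw [hp2, Equiv.swap_apply_right, h0, hn, (B11_word hb).2.1, (B11_word hb).2.2.1]
          · rw [Equiv.swap_apply_of_ne_of_ne hp1 hp2]
      rw [e]
      exact hB b hb
    · have e : word u0 ∘ ⇑(g * Equiv.swap (none : GolayPt) (some 0)) = word u0 ∘ g + word 8388609 := by
        funext p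
        show word u0 (g (Equiv.swap none (some 0) p)) = word u0 (g p) + word 8388609 p
        rw [v_apply]
        by_cases hp1 : p = none
        · rw [hp1, Equiv.swap_apply_left, h0, hn, hu2, hu3]
          decide
        · by_cases hp2 : p = some 0
          · rw [hp2, Equiv.swap_apply_right, h0, hn, hu2, hu3]
            decide
          · rw [Equiv.swap_apply_of_ne_of_ne hp1 hp2, if_neg (by simp [hp1, hp2]), add_zero]
      rw [e]
      exact hx

end AutA
end Cfsg.Agent.Lib.Helper4
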