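import Cfsg.Agent.Lib.Helper4.AutI

set_option autoImplicit false

namespace Cfsg.Agent.Lib.Helper4
namespace AutA

open Pointwise Golay

/-- A subgroup of the group of the code fixing five points has order at most 48. -/
theorem card_le_of_five {H : Subgroup (Equiv.Perm GolayPt)} (hH : H ≤ M24) (A : Finset GolayPt)
    (hA : A.card = 5) (hfix : ∀ k ∈ H, ∀ a ∈ A, k a = a) : Nat.card H ≤ 48 := by
  let e := (A.equivFinOfCardEq hA).symm
  let x : Fin 5 ↪ GolayPt := e.toEmbedding.trans (Function.Embedding.subtype _)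
  have hx : ∀ k ∈ H, ∀ i, k (x i) = x i := fun k hk i => hfix k hk _ (e i).2
  obtain ⟨h, hh, hmap⟩ := exists_map x ⟨fun i : Fin 5 => pt i.val, pt5_inj⟩
  have hmem : ∀ k ∈ H, h * k * h⁻¹ ∈ KK [4, 3, 2, 1, 0] := by
    intro k hk
    rw [mem_KK]
    refine ⟨Subgroup.mul_mem _ (Subgroup.mul_mem _ hh (hH hk)) (Subgroup.inv_mem _ hh), ?_⟩
    intro f hf
    have hf5 : f < 5 := by
      simp only [List.mem_cons, List.not_mem_nil, or_false] at hf
      omega
    have h1 : h (x ⟨f, hf5⟩) = pt f := hmap ⟨f, hf5⟩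
    rw [Equiv.Perm.mul_apply, Equiv.Perm.mul_apply, ← h1]
    simp [hx k hk]
  have hinj : Function.Injective (fun k : ↥H =>
      (⟨h * k.1 * h⁻¹, hmem k.1 k.2⟩ : ↥(KK [4, 3, 2, 1, 0]))) := by
    intro k1 k2 e12
    have e' : h * k1.1 * h⁻¹ = h * k2.1 * h⁻¹ := congrArg Subtype.val e12
    apply Subtype.ext
    have h3 : k1.1 = h⁻¹ * (h * k1.1 * h⁻¹) * h := by group
    rw [h3, e']
    group
  have := Nat.card_le_card_of_injective _ hinj
  rw [card_KK5] at this
  exact this

theorem orb_card_le' {H : Subgroup (Equiv.Perm GolayPt)} {p : GolayPt} {B : Finset GolayPt}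
    (hinv : ∀ k ∈ H, ∀ b ∈ B, k b ∈ B) (hp : p ∉ B) : (orb H p).card + B.card ≤ 24 := by
  have hd : Disjoint (orb H p) B := by
    rw [Finset.disjoint_left]
    intro a h1 h2
    obtain ⟨k, hk, e⟩ := mem_orb.1 h1
    have h3 := hinv k⁻¹ (Subgroup.inv_mem _ hk) a h2
    rw [← e] at h3
    have : k⁻¹ (k p) = p := by simp
    rw [this] at h3
    exact hp h3
  rw [← Finset.card_union_of_disjoint hd, ← card_pts, ← Finset.card_univ]
  exact Finset.card_le_card (Finset.subset_univ _)

theorem inv_insert {H : Subgroup (Equiv.Perm GolayPt)} {B : Finset GolayPt} {p : GolayPt}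
    (hinv : ∀ k ∈ H, ∀ b ∈ B, k b ∈ B) :
    ∀ k ∈ H ⊓ MulAction.stabilizer (Equiv.Perm GolayPt) p, ∀ b ∈ insert p B,
      k b ∈ insert p B := by
  intro k hk b hb
  rw [Subgroup.mem_inf] at hk
  rcases Finset.mem_insert.1 hb with rfl | hb
  · have : k b = b := hk.2
    rw [this]
    exact Finset.mem_insert_self _ _
  · exact Finset.mem_insert_of_mem (hinv k hk.1 b hb)

/-- A subgroup of index 22 of the two point stabiliser fixes a further point. -/
theorem fix22 (K : Subgroup (Equiv.Perm GolayPt)) (hK : K ≤ Cfsg.Spor.M22)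
    (hc : Nat.card K = 20160) :
    ∃ c : GolayPt, c ≠ none ∧ c ≠ some 0 ∧ ∀ k ∈ K, k c = c := by
  have p7 : Fact (Nat.Prime 7) := ⟨by norm_num⟩
  have p5 : Fact (Nat.Prime 5) := ⟨by norm_num⟩
  have hKle : K ≤ M24 := fun k hk => (hK hk).1.1
  have hfix : ∀ k ∈ K, ∀ a ∈ insert (some 0) (insert none (∅ : Finset GolayPt)), k a = a := by
    intro k hk a ha
    rw [Finset.mem_insert, Finset.mem_insert] at ha
    rcases ha with rfl | rfl | ha
    · exact (hK hk).2
    · exact (hK hk).1.2
    · exact absurd ha (Finset.notMem_empty _)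
  have hA2 : (insert (some 0) (insert none (∅ : Finset GolayPt))).card = 2 := by decide
  obtain ⟨υ, hυ, hυr, -, hυa, hυb⟩ := prime_elt K hKle 7 (by rw [hc]; norm_num) (by norm_num)
  obtain ⟨φ, hφ, hφr, -, hφa, hφb⟩ := prime_elt K hKle 5 (by rw [hc]; norm_num) (by norm_num)
  obtain ⟨e, he, hυe, hFυ⟩ := fixset1 (fun a ha => hfix υ hυ a ha) (by rw [hA2]; omega)
  have hm7 := orb_mod1 hfix he hυ 7 hυr hυe hFυ
  have hle := orb_card_le hfix he
  have hcard := card_orb K e
  have h5 := card_modEq_fixed φ 5 hφr (orb K e) (orb_inv hφ)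
  have hFφ : (Finset.univ.filter (fun x => φ x = x)).card = 4 := by omega
  have hf5 : ((orb K e).filter (fun x => φ x = x)).card ≤ 2 := by
    have hsub : (orb K e).filter (fun x => φ x = x) ⊆
        (Finset.univ.filter (fun x => φ x = x)) \
          insert (some 0) (insert none (∅ : Finset GolayPt)) := by
      intro x hx
      rw [Finset.mem_filter] at hx
      exact Finset.mem_sdiff.2 ⟨Finset.mem_filter.2 ⟨Finset.mem_univ _, hx.2⟩,
        fun hxA => orb_disj hfix he x hxA hx.1⟩
    have h1 := Finset.card_le_card hsub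
    rw [Finset.card_sdiff_of_subset (fun a ha =>
      Finset.mem_filter.2 ⟨Finset.mem_univ _, hfix φ hφ a ha⟩), hFφ, hA2] at h1
    exact h1
  have hpos : 0 < (orb K e).card := Finset.card_pos.2 ⟨e, self_mem_orb K e⟩
  have hcases : (orb K e).card = 1 ∨ (orb K e).card = 15 := by
    rw [hc, hA2] at *
    have hdvd : (orb K e).card ∣ 20160 := Dvd.intro _ hcard.symm
    unfold Nat.ModEq at h5
    generalize ((orb K e).filter (fun x => φ x = x)).card = a at h5 hf5
    generalize (orb K e).card = n at *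
    have hn : n ≤ 22 := by omega
    interval_cases n <;> omega
  have heA : e ≠ none ∧ e ≠ some 0 := by
    constructor
    · intro h
      exact he (by rw [h]; decide)
    · intro h
      exact he (by rw [h]; decide)
  rcases hcases with hone | h15
  · refine ⟨e, heA.1, heA.2, ?_⟩
    intro k hk
    obtain ⟨c', hc'⟩ := Finset.card_eq_one.1 hone
    have h1 : e ∈ orb K e := self_mem_orb K e
    have h2 : k e ∈ orb K e := (orb_inv hk e).2 h1
    rw [hc'] at h1 h2
    rw [Finset.mem_singleton.1 h2, Finset.mem_singleton.1 h1]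
  exfalso
  -- the complement of the orbit has seven points
  have hdisj : Disjoint (orb K e) (insert (some 0) (insert none (∅ : Finset GolayPt))) := by
    rw [Finset.disjoint_left]
    intro a h1 h2
    exact orb_disj hfix he a h2 h1
  have hB0c : (orb K e ∪ insert (some 0) (insert none (∅ : Finset GolayPt))).card = 17 := by
    rw [Finset.card_union_of_disjoint hdisj, h15, hA2]
  have hB0inv : ∀ k ∈ K, ∀ b ∈ orb K e ∪ insert (some 0) (insert none (∅ : Finset GolayPt)),
      k b ∈ orb K e ∪ insert (some 0) (insert none (∅ : Finset GolayPt)) := by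
    intro k hk b hb
    rcases Finset.mem_union.1 hb with hb | hb
    · exact Finset.mem_union_left _ ((orb_inv hk b).2 hb)
    · rw [hfix k hk b hb]
      exact Finset.mem_union_right _ hb
  obtain ⟨w1, hw1⟩ := exists_notMem_of_card (A := orb K e ∪
    insert (some 0) (insert none (∅ : Finset GolayPt))) (by rw [hB0c]; norm_num)
  have hn1 := orb_card_le' hB0inv hw1
  have hc1 := card_orb K w1
  have hB1c := Finset.card_insert_of_notMem hw1
  have hB1inv := inv_insert (p := w1) hB0inv
  obtain ⟨w2, hw2⟩ := exists_notMem_of_card (A := insert w1 (orb K e ∪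
    insert (some 0) (insert none (∅ : Finset GolayPt)))) (by rw [hB1c, hB0c]; norm_num)
  have hn2 := orb_card_le' hB1inv hw2
  have hc2 := card_orb (K ⊓ MulAction.stabilizer (Equiv.Perm GolayPt) w1) w2
  have hB2c := Finset.card_insert_of_notMem hw2
  have hB2inv := inv_insert (p := w2) hB1inv
  obtain ⟨w3, hw3⟩ := exists_notMem_of_card (A := insert w2 (insert w1 (orb K e ∪
    insert (some 0) (insert none (∅ : Finset GolayPt))))) (by rw [hB2c, hB1c, hB0c]; norm_num)
  have hn3 := orb_card_le' hB2inv hw3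
  have hc3 := card_orb ((K ⊓ MulAction.stabilizer (Equiv.Perm GolayPt) w1) ⊓
    MulAction.stabilizer (Equiv.Perm GolayPt) w2) w3
  -- the five fixed points
  have hw1A : w1 ∉ insert (some 0) (insert none (∅ : Finset GolayPt)) :=
    fun h => hw1 (Finset.mem_union_right _ h)
  have hw2A : w2 ∉ insert w1 (insert (some 0) (insert none (∅ : Finset GolayPt))) := by
    intro h
    rcases Finset.mem_insert.1 h with h | h
    · exact hw2 (h ▸ Finset.mem_insert_self _ _)
    · exact hw2 (Finset.mem_insert_of_mem (Finset.mem_union_right _ h))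
  have hw3A : w3 ∉ insert w2 (insert w1 (insert (some 0) (insert none (∅ : Finset GolayPt)))) := by
    intro h
    rcases Finset.mem_insert.1 h with h | h
    · exact hw3 (h ▸ Finset.mem_insert_self _ _)
    · rcases Finset.mem_insert.1 h with h | h
      · exact hw3 (Finset.mem_insert_of_mem (h ▸ Finset.mem_insert_self _ _))
      · exact hw3 (Finset.mem_insert_of_mem (Finset.mem_insert_of_mem
          (Finset.mem_union_right _ h)))
  have hA5 : (insert w3 (insert w2 (insert w1
      (insert (some 0) (insert none (∅ : Finset GolayPt)))))).card = 5 := by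
    rw [Finset.card_insert_of_notMem hw3A, Finset.card_insert_of_notMem hw2A,
      Finset.card_insert_of_notMem hw1A, hA2]
  have hfix5 := stab_fix (p := w3) (stab_fix (p := w2) (stab_fix (p := w1) hfix))
  have h48 := card_le_of_five (H := ((K ⊓ MulAction.stabilizer (Equiv.Perm GolayPt) w1) ⊓
    MulAction.stabilizer (Equiv.Perm GolayPt) w2) ⊓
    MulAction.stabilizer (Equiv.Perm GolayPt) w3)
    (fun k hk => hKle (Subgroup.mem_inf.1 (Subgroup.mem_inf.1 (Subgroup.mem_inf.1 hk).1).1).1)
    _ hA5 hfix5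
  rw [hB2c, hB1c, hB0c] at hn3
  rw [hB1c, hB0c] at hn2
  rw [hB0c] at hn1
  rw [hc] at hc1
  have b3 : Nat.card ↥((K ⊓ MulAction.stabilizer (Equiv.Perm GolayPt) w1) ⊓
      MulAction.stabilizer (Equiv.Perm GolayPt) w2) ≤ 5 * 48 := by
    rw [hc3]
    exact Nat.mul_le_mul (by omega) h48
  have b2 : Nat.card ↥(K ⊓ MulAction.stabilizer (Equiv.Perm GolayPt) w1) ≤ 6 * (5 * 48) := by
    rw [hc2]
    exact Nat.mul_le_mul (by omega) b3
  have b1 : 20160 ≤ 7 * (6 * (5 * 48)) := by
    rw [hc1]
    exact Nat.mul_le_mul (by omega) b2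
  omega

end AutA
end Cfsg.Agent.Lib.Helper4
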