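import Cfsg.Agent.Lib.Helper4.AutJ

set_option autoImplicit false

namespace Cfsg.Agent.Lib.Helper4
namespace AutA

open Pointwise Golay

/-- The two point stabiliser as a type. -/
abbrev G22 : Type := ↥Cfsg.Spor.M22

/-- A point other than the two special points. -/
def Sp (a : GolayPt) : Prop := a ≠ none ∧ a ≠ some 0

theorem G22_none (g : G22) : g.1 none = none := g.2.1.2

theorem G22_zero (g : G22) : g.1 (some 0) = some 0 := g.2.2

theorem G22_mem (g : G22) : g.1 ∈ M24 := g.2.1.1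

theorem G22_Sp (g : G22) {a : GolayPt} (ha : Sp a) : Sp (g.1 a) := by
  constructor
  · intro e
    exact ha.1 (g.1.injective (e.trans (G22_none g).symm))
  · intro e
    exact ha.2 (g.1.injective (e.trans (G22_zero g).symm))

theorem notMem_A2 {a : GolayPt} (ha : Sp a) :
    a ∉ insert (some 0) (insert none (∅ : Finset GolayPt)) := by
  intro h
  rw [Finset.mem_insert, Finset.mem_insert] at h
  rcases h with h | h | h
  · exact ha.2 h
  · exact ha.1 h
  · exact absurd h (Finset.notMem_empty _)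

theorem exists_Sp_ne (b b' : GolayPt) : ∃ q, Sp q ∧ q ≠ b ∧ q ≠ b' := by
  obtain ⟨q, hq⟩ := exists_notMem_of_card (A := insert b (insert b'
    (insert (some 0) (insert none (∅ : Finset GolayPt))))) (by
    have h1 := Finset.card_insert_le b (insert b'
      (insert (some 0) (insert none (∅ : Finset GolayPt))))
    have h2 := Finset.card_insert_le b' (insert (some 0) (insert none (∅ : Finset GolayPt)))
    have h3 : (insert (some 0) (insert none (∅ : Finset GolayPt))).card = 2 := by decide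
    omega)
  simp only [Finset.mem_insert, not_or] at hq
  exact ⟨q, ⟨hq.2.2.2.1, hq.2.2.1⟩, hq.1, hq.2.1⟩

theorem sep22 {b b' : GolayPt} (hb : Sp b) (hb' : Sp b') (h : b ≠ b') :
    ∃ k : G22, k.1 b = b ∧ k.1 b' ≠ b' := by
  obtain ⟨q, hq, hqb, hqb'⟩ := exists_Sp_ne b b'
  have h00 : (none : GolayPt) ≠ some 0 := by decide
  obtain ⟨x, hx0, hx1, hx2, hx3⟩ := emb4 (none : GolayPt) (some 0) b b' h00 (Ne.symm hb.1)
    (Ne.symm hb'.1) (Ne.symm hb.2) (Ne.symm hb'.2) h
  obtain ⟨y, hy0, hy1, hy2, hy3⟩ := emb4 (none : GolayPt) (some 0) b q h00 (Ne.symm hb.1)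
    (Ne.symm hq.1) (Ne.symm hb.2) (Ne.symm hq.2) (Ne.symm hqb)
  obtain ⟨k, hk, hmap⟩ := exists_mapN (by norm_num : 4 ≤ 5) x y
  have e0 := hmap 0
  have e1 := hmap 1
  have e2 := hmap 2
  have e3 := hmap 3
  rw [hx0, hy0] at e0
  rw [hx1, hy1] at e1
  rw [hx2, hy2] at e2
  rw [hx3, hy3] at e3
  exact ⟨⟨k, ⟨hk, e0⟩, e1⟩, e2, by show k b' ≠ b'; rw [e3]; exact hqb'⟩

theorem trans22 {a q : GolayPt} (ha : Sp a) (hq : Sp q) : ∃ k : G22, k.1 a = q := by
  have h00 : (none : GolayPt) ≠ some 0 := by decide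
  obtain ⟨x, hx0, hx1, hx2⟩ := emb3 (none : GolayPt) (some 0) a h00 (Ne.symm ha.1) (Ne.symm ha.2)
  obtain ⟨y, hy0, hy1, hy2⟩ := emb3 (none : GolayPt) (some 0) q h00 (Ne.symm hq.1) (Ne.symm hq.2)
  obtain ⟨k, hk, hmap⟩ := exists_mapN (by norm_num : 3 ≤ 5) x y
  have e0 := hmap 0
  have e1 := hmap 1
  have e2 := hmap 2
  rw [hx0, hy0] at e0
  rw [hx1, hy1] at e1
  rw [hx2, hy2] at e2
  exact ⟨⟨k, ⟨hk, e0⟩, e1⟩, e2⟩

theorem card_M22 : Nat.card ↥Cfsg.Spor.M22 = 443520 :=
  card_stab2 none (some 0) (by decide)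

theorem card_stab22 {a : GolayPt} (ha : Sp a) :
    Nat.card ↥(MulAction.stabilizer G22 a) = 20160 := by
  rw [Nat.card_congr (stabEquiv Cfsg.Spor.M22 a)]
  have hfix : ∀ k ∈ Cfsg.Spor.M22, ∀ b ∈ insert (some 0) (insert none (∅ : Finset GolayPt)),
      k b = b := by
    intro k hk b hb
    rw [Finset.mem_insert, Finset.mem_insert] at hb
    rcases hb with rfl | rfl | hb
    · exact hk.2
    · exact hk.1.2
    · exact absurd hb (Finset.notMem_empty _)
  have h1 := card_orb Cfsg.Spor.M22 a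
  have h2 := orb_card_le hfix (notMem_A2 ha)
  have hA2 : (insert (some 0) (insert none (∅ : Finset GolayPt))).card = 2 := by decide
  have h3 : 22 ≤ (orb Cfsg.Spor.M22 a).card := by
    have hsub : Finset.univ \ insert (some 0) (insert none (∅ : Finset GolayPt))
        ⊆ orb Cfsg.Spor.M22 a := by
      intro q hq
      rw [Finset.mem_sdiff, Finset.mem_insert, Finset.mem_insert] at hq
      have hqS : Sp q := ⟨fun e => hq.2 (Or.inr (Or.inl e)), fun e => hq.2 (Or.inl e)⟩
      obtain ⟨k, hk⟩ := trans22 ha hqS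
      exact mem_orb.2 ⟨k.1, k.2, hk⟩
    have := Finset.card_le_card hsub
    rw [Finset.card_sdiff_of_subset (Finset.subset_univ _), Finset.card_univ, card_pts, hA2]
      at this
    exact this
  rw [card_M22] at h1
  have h4 : (orb Cfsg.Spor.M22 a).card = 22 := by omega
  rw [h4] at h1
  omega

theorem mem_stab22 {a : GolayPt} {k : G22} : k ∈ MulAction.stabilizer G22 a ↔ k.1 a = a :=
  Iff.rfl

/-- The image of a point stabiliser under an automorphism fixes the point `c`. -/
def Q22 (α : MulAut G22) (a c : GolayPt) : Prop :=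
  Sp c ∧ ∀ k : G22, k.1 a = a → (α k).1 c = c

theorem exQ22 (α : MulAut G22) {a : GolayPt} (ha : Sp a) : ∃ c, Q22 α a c := by
  have hcard : Nat.card ↥(((MulAction.stabilizer G22 a).map α.toMonoidHom).map
      Cfsg.Spor.M22.subtype) = 20160 := by
    rw [Subgroup.card_map_of_injective (Subgroup.subtype_injective _),
      Subgroup.card_map_of_injective α.injective]
    exact card_stab22 ha
  have hle : ((MulAction.stabilizer G22 a).map α.toMonoidHom).map Cfsg.Spor.M22.subtype
      ≤ Cfsg.Spor.M22 := by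
    rintro x ⟨y, -, rfl⟩
    exact y.2
  obtain ⟨c, hc1, hc2, hfix⟩ := fix22 _ hle hcard
  refine ⟨c, ⟨hc1, hc2⟩, ?_⟩
  intro k hk
  exact hfix _ ⟨α k, ⟨k, mem_stab22.2 hk, rfl⟩, rfl⟩

theorem Q22_iff {α : MulAut G22} {a c : GolayPt} (ha : Sp a) (h : Q22 α a c) (k : G22) :
    k.1 a = a ↔ (α k).1 c = c := by
  refine ⟨h.2 k, ?_⟩
  intro hk
  have hle : (MulAction.stabilizer G22 a).map α.toMonoidHom ≤ MulAction.stabilizer G22 c := by
    rintro x ⟨y, hy, rfl⟩
    exact mem_stab22.2 (h.2 y (mem_stab22.1 hy))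
  have heq := Subgroup.eq_of_le_of_card_ge hle (by
    rw [Subgroup.card_map_of_injective α.injective, card_stab22 ha, card_stab22 h.1])
  have hmem : α k ∈ (MulAction.stabilizer G22 a).map α.toMonoidHom := by
    rw [heq]
    exact mem_stab22.2 hk
  obtain ⟨y, hy, e⟩ := hmem
  have : y = k := α.injective e
  rw [← this]
  exact mem_stab22.1 hy

theorem Q22_unique {α : MulAut G22} {a c c' : GolayPt} (ha : Sp a) (h : Q22 α a c)
    (h' : Q22 α a c') : c = c' := by
  by_contra hne
  obtain ⟨m, hm1, hm2⟩ := sep22 h.1 h'.1 hne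
  have e : α (α.symm m) = m := α.apply_symm_apply m
  have h1 : (α.symm m).1 a = a := (Q22_iff ha h _).2 (by rw [e]; exact hm1)
  have h2 := h'.2 _ h1
  rw [e] at h2
  exact hm2 h2

theorem Q22_inj {α : MulAut G22} {a a' c : GolayPt} (ha : Sp a) (ha' : Sp a')
    (h : Q22 α a c) (h' : Q22 α a' c) : a = a' := by
  by_contra hne
  obtain ⟨m, hm1, hm2⟩ := sep22 ha ha' hne
  exact hm2 ((Q22_iff ha' h' m).2 (h.2 m hm1))

theorem Q22_equiv {α : MulAut G22} {a c : GolayPt} (h : Q22 α a c) (g : G22) :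
    Q22 α (g.1 a) ((α g).1 c) := by
  refine ⟨G22_Sp (α g) h.1, ?_⟩
  intro k hk
  have h1 : (g⁻¹ * k * g).1 a = a := by
    show g.1⁻¹ (k.1 (g.1 a)) = a
    rw [hk]
    simp
  have h2 := h.2 _ h1
  rw [map_mul, map_mul, map_inv] at h2
  have h3 : (α g).1⁻¹ ((α k).1 ((α g).1 c)) = c := h2
  rw [Equiv.Perm.inv_eq_iff_eq] at h3
  exact h3

open Classical in
/-- The permutation of the points induced by an automorphism. -/
noncomputable def piFun22 (α : MulAut G22) : GolayPt → GolayPt := fun a =>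
  if h : Sp a then Classical.choose (exQ22 α h) else a

theorem piFun22_not (α : MulAut G22) {a : GolayPt} (ha : ¬ Sp a) : piFun22 α a = a := by
  rw [piFun22, dif_neg ha]

theorem piFun22_spec (α : MulAut G22) {a : GolayPt} (ha : Sp a) : Q22 α a (piFun22 α a) := by
  rw [piFun22, dif_pos ha]
  exact Classical.choose_spec (exQ22 α ha)

theorem piFun22_inj (α : MulAut G22) : Function.Injective (piFun22 α) := by
  intro a a' e
  by_cases ha : Sp a
  · by_cases ha' : Sp a'
    · have h1 := piFun22_spec α ha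
      have h2 := piFun22_spec α ha'
      rw [e] at h1
      exact Q22_inj ha ha' h1 h2
    · exfalso
      rw [piFun22_not α ha'] at e
      exact ha' (e ▸ (piFun22_spec α ha).1)
  · by_cases ha' : Sp a'
    · exfalso
      rw [piFun22_not α ha] at e
      exact ha (e ▸ (piFun22_spec α ha').1)
    · rw [piFun22_not α ha, piFun22_not α ha'] at e
      exact e

theorem not_Sp {a : GolayPt} (ha : ¬ Sp a) : a = none ∨ a = some 0 := by
  by_contra h
  rw [not_or] at h
  exact ha h

theorem piFun22_rel (α : MulAut G22) (g : G22) (a : GolayPt) :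
    (α g).1 (piFun22 α a) = piFun22 α (g.1 a) := by
  by_cases ha : Sp a
  · exact Q22_unique (G22_Sp g ha) (Q22_equiv (piFun22_spec α ha) g)
      (piFun22_spec α (G22_Sp g ha))
  · rw [piFun22_not α ha]
    rcases not_Sp ha with rfl | rfl
    · rw [G22_none, G22_none, piFun22_not α (fun h => h.1 rfl)]
    · rw [G22_zero, G22_zero, piFun22_not α (fun h => h.2 rfl)]

theorem swap_conj {g : Equiv.Perm GolayPt} (hn : g none = none) (h0 : g (some 0) = some 0) :
    Equiv.swap none (some 0) * g * (Equiv.swap none (some 0))⁻¹ = g := by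
  rw [Equiv.swap_inv]
  apply Equiv.ext
  intro p
  rw [Equiv.Perm.mul_apply, Equiv.Perm.mul_apply]
  by_cases hp1 : p = none
  · rw [hp1, Equiv.swap_apply_left, h0, Equiv.swap_apply_right, hn]
  · by_cases hp2 : p = some 0
    · rw [hp2, Equiv.swap_apply_right, hn, Equiv.swap_apply_left, h0]
    · rw [Equiv.swap_apply_of_ne_of_ne hp1 hp2]
      apply Equiv.swap_apply_of_ne_of_ne
      · intro e
        exact hp1 (g.injective (e.trans hn.symm))
      · intro e
        exact hp2 (g.injective (e.trans h0.symm))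

/-- Every automorphism is conjugation by an element of the group of the code preserving the
pair of special points. -/
theorem rep22 (α : MulAut G22) : ∃ n ∈ M24,
    ((n none = none ∧ n (some 0) = some 0) ∨ (n none = some 0 ∧ n (some 0) = none)) ∧
      ∀ g : G22, (α g).1 = n * g.1 * n⁻¹ := by
  have hbij : Function.Bijective (piFun22 α) :=
    (Finite.injective_iff_bijective).1 (piFun22_inj α)
  let ρ : Equiv.Perm GolayPt := Equiv.ofBijective _ hbij
  have hρ : ∀ a, ρ a = piFun22 α a := fun a => rfl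
  have hρn : ρ none = none := by rw [hρ, piFun22_not α (fun h => h.1 rfl)]
  have hρ0 : ρ (some 0) = some 0 := by rw [hρ, piFun22_not α (fun h => h.2 rfl)]
  have hrel : ∀ g : G22, (α g).1 = ρ * g.1 * ρ⁻¹ := by
    intro g
    apply Equiv.ext
    intro b
    have h1 := piFun22_rel α g (ρ⁻¹ b)
    rw [← hρ, ← hρ] at h1
    rw [Equiv.Perm.mul_apply, Equiv.Perm.mul_apply, ← h1]
    simp
  have hz : ∀ o ∈ octads, none ∈ o → some 0 ∈ o →
      ∀ z ∈ M24 ⊓ fixingSubgroup (Equiv.Perm GolayPt) (o : Set GolayPt),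
        z ∈ Cfsg.Spor.M22 := by
    intro o _ hno h0o z hz
    exact ⟨⟨(Subgroup.mem_inf.1 hz).1,
      (mem_fixingSubgroup_iff _).1 (Subgroup.mem_inf.1 hz).2 none (Finset.mem_coe.2 hno)⟩,
      (mem_fixingSubgroup_iff _).1 (Subgroup.mem_inf.1 hz).2 (some 0) (Finset.mem_coe.2 h0o)⟩
  have h1 : ∀ o ∈ octads, none ∈ o → some 0 ∈ o → ρ • o ∈ octads := by
    intro o ho hno h0o
    apply octad_of_conj ρ ho
    intro z hz'
    have := hrel ⟨z, hz o ho hno h0o z hz'⟩
    rw [← this]
    exact G22_mem _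
  have h2 : ∀ o ∈ octads, none ∈ o → some 0 ∈ o → ρ⁻¹ • o ∈ octads := by
    intro o ho hno h0o
    apply octad_of_conj ρ⁻¹ ho
    intro z hz'
    have := hrel (α.symm ⟨z, hz o ho hno h0o z hz'⟩)
    rw [α.apply_symm_apply] at this
    have e : ρ⁻¹ * z * ρ⁻¹⁻¹ = (α.symm ⟨z, hz o ho hno h0o z hz'⟩).1 := by
      have e' : z = ρ * (α.symm ⟨z, hz o ho hno h0o z hz'⟩).1 * ρ⁻¹ := this
      rw [inv_inv]
      conv_lhs => rw [e']
      group
    rw [e]
    exact G22_mem _
  rcases ext22' ρ ρ⁻¹ rfl hρn hρ0 h2 h1 with hM | hM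
  · exact ⟨ρ, hM, Or.inl ⟨hρn, hρ0⟩, hrel⟩
  · refine ⟨ρ * Equiv.swap none (some 0), hM, Or.inr ⟨?_, ?_⟩, ?_⟩
    · rw [Equiv.Perm.mul_apply, Equiv.swap_apply_left, hρ0]
    · rw [Equiv.Perm.mul_apply, Equiv.swap_apply_right, hρn]
    · intro g
      rw [hrel g]
      have := swap_conj (G22_none g) (G22_zero g)
      calc ρ * g.1 * ρ⁻¹ = ρ * (Equiv.swap none (some 0) * g.1 *
            (Equiv.swap none (some 0))⁻¹) * ρ⁻¹ := by rw [this]
        _ = ρ * Equiv.swap none (some 0) * g.1 * (ρ * Equiv.swap none (some 0))⁻¹ := by group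

end AutA
end Cfsg.Agent.Lib.Helper4
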