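import Cfsg.Agent.Lib.Helper4.AutK
import Cfsg.Prelude.Def_KGroupFacts

set_option autoImplicit false

namespace Cfsg.Agent.Lib.Helper4
namespace AutA

open Pointwise Golay

theorem conj_mem22 {n g : Equiv.Perm GolayPt} (hn : n ∈ M24) (h1 : n none = some 0)
    (h2 : n (some 0) = none) (hg : g ∈ Cfsg.Spor.M22) : n * g * n⁻¹ ∈ Cfsg.Spor.M22 := by
  have i1 : n⁻¹ none = some 0 := by
    rw [Equiv.Perm.inv_eq_iff_eq]
    exact h2.symm
  have i2 : n⁻¹ (some 0) = none := by
    rw [Equiv.Perm.inv_eq_iff_eq]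
    exact h1.symm
  have g1 : g none = none := hg.1.2
  have g2 : g (some 0) = some 0 := hg.2
  refine ⟨⟨Subgroup.mul_mem _ (Subgroup.mul_mem _ hn hg.1.1) (Subgroup.inv_mem _ hn), ?_⟩, ?_⟩
  · show (n * g * n⁻¹) none = none
    rw [Equiv.Perm.mul_apply, Equiv.Perm.mul_apply, i1, g2, h2]
  · show (n * g * n⁻¹) (some 0) = some 0
    rw [Equiv.Perm.mul_apply, Equiv.Perm.mul_apply, i2, g1, h1]

/-- Conjugation by an element swapping the two special points. -/
def swapAut (n : Equiv.Perm GolayPt) (hn : n ∈ M24) (h1 : n none = some 0)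
    (h2 : n (some 0) = none) : MulAut G22 where
  toFun g := ⟨n * g.1 * n⁻¹, conj_mem22 hn h1 h2 g.2⟩
  invFun g := ⟨n⁻¹ * g.1 * n, by
    have := conj_mem22 (n := n⁻¹) (Subgroup.inv_mem _ hn)
      (by rw [Equiv.Perm.inv_eq_iff_eq]; exact h2.symm)
      (by rw [Equiv.Perm.inv_eq_iff_eq]; exact h1.symm) g.2
    rwa [inv_inv] at this⟩
  left_inv g := by
    apply Subtype.ext
    show n⁻¹ * (n * g.1 * n⁻¹) * n = g.1
    group
  right_inv g := by
    apply Subtype.ext
    show n * (n⁻¹ * g.1 * n) * n⁻¹ = g.1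
    group
  map_mul' g g' := by
    apply Subtype.ext
    show n * (g.1 * g'.1) * n⁻¹ = (n * g.1 * n⁻¹) * (n * g'.1 * n⁻¹)
    group

theorem swapAut_apply (n : Equiv.Perm GolayPt) (hn : n ∈ M24) (h1 : n none = some 0)
    (h2 : n (some 0) = none) (g : G22) : (swapAut n hn h1 h2 g).1 = n * g.1 * n⁻¹ := rfl

theorem inner_of_fix (β : MulAut G22) (n : Equiv.Perm GolayPt) (hn : n ∈ M24)
    (h1 : n none = none) (h2 : n (some 0) = some 0)
    (hrel : ∀ g : G22, (β g).1 = n * g.1 * n⁻¹) : β ∈ Cfsg.Inn G22 := by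
  refine ⟨⟨n, ⟨hn, h1⟩, h2⟩, ?_⟩
  apply MulEquiv.ext
  intro g
  apply Subtype.ext
  rw [hrel g]
  rfl

theorem not_inner_of_swap (β : MulAut G22) (n : Equiv.Perm GolayPt) (hn : n ∈ M24)
    (h1 : n none = some 0) (h2 : n (some 0) = none)
    (hrel : ∀ g : G22, (β g).1 = n * g.1 * n⁻¹) : β ∉ Cfsg.Inn G22 := by
  rintro ⟨m, hm⟩
  have hm' : ∀ g : G22, n * g.1 * n⁻¹ = m.1 * g.1 * m.1⁻¹ := by
    intro g
    rw [← hrel g, ← hm]
    rfl
  have hcomm : ∀ g : G22, (m.1⁻¹ * n) * g.1 = g.1 * (m.1⁻¹ * n) := by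
    intro g
    have e : m.1⁻¹ * n * g.1 = m.1⁻¹ * (n * g.1 * n⁻¹) * n := by group
    rw [e, hm' g]
    group
  have mi1 : m.1⁻¹ none = none := by
    rw [Equiv.Perm.inv_eq_iff_eq]
    exact (G22_none m).symm
  have mi2 : m.1⁻¹ (some 0) = some 0 := by
    rw [Equiv.Perm.inv_eq_iff_eq]
    exact (G22_zero m).symm
  have hzn : (m.1⁻¹ * n) none = some 0 := by
    rw [Equiv.Perm.mul_apply, h1, mi2]
  have hz0 : (m.1⁻¹ * n) (some 0) = none := by
    rw [Equiv.Perm.mul_apply, h2, mi1]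
  have hzfix : ∀ a, Sp a → (m.1⁻¹ * n) a = a := by
    intro a ha
    by_contra hne
    have hb : Sp ((m.1⁻¹ * n) a) := by
      constructor
      · intro e
        exact ha.2 ((m.1⁻¹ * n).injective (e.trans hz0.symm))
      · intro e
        exact ha.1 ((m.1⁻¹ * n).injective (e.trans hzn.symm))
    obtain ⟨k, hk1, hk2⟩ := sep22 ha hb (Ne.symm hne)
    apply hk2
    have := congrArg (fun f : Equiv.Perm GolayPt => f a) (hcomm k)
    simp only [Equiv.Perm.mul_apply] at this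
    rw [hk1] at this
    rw [Equiv.Perm.mul_apply]
    exact this.symm
  have hzz : (m.1⁻¹ * n) * (m.1⁻¹ * n) = 1 := by
    apply Equiv.ext
    intro p
    rw [Equiv.Perm.mul_apply]
    by_cases hp : Sp p
    · rw [hzfix p hp, hzfix p hp]
      rfl
    · rcases not_Sp hp with rfl | rfl
      · rw [hzn, hz0]
        rfl
      · rw [hz0, hzn]
        rfl
  have hz1 : m.1⁻¹ * n ≠ 1 := by
    intro e
    rw [e] at hzn
    exact absurd hzn (by decide)
  have hzM : m.1⁻¹ * n ∈ M24 := Subgroup.mul_mem _ (Subgroup.inv_mem _ (G22_mem m)) hn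
  have h8 := inv_fix8 hzM hzz hz1 ({some 1, some 2, some 3, some 4} : Finset GolayPt)
    (by decide) (by
      intro a ha
      apply hzfix
      have hdec : ∀ a ∈ ({some 1, some 2, some 3, some 4} : Finset GolayPt),
          a ≠ none ∧ a ≠ some 0 := by decide
      exact hdec a ha)
  have hsub : Finset.univ \ insert (some 0) (insert none (∅ : Finset GolayPt))
      ⊆ Finset.univ.filter (fun p => (m.1⁻¹ * n) p = p) := by
    intro q hq
    rw [Finset.mem_sdiff, Finset.mem_insert, Finset.mem_insert] at hq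
    have hqS : Sp q := ⟨fun e => hq.2 (Or.inr (Or.inl e)), fun e => hq.2 (Or.inl e)⟩
    exact Finset.mem_filter.2 ⟨Finset.mem_univ _, hzfix q hqS⟩
  have := Finset.card_le_card hsub
  have hA2 : (insert (some 0) (insert none (∅ : Finset GolayPt))).card = 2 := by decide
  rw [Finset.card_sdiff_of_subset (Finset.subset_univ _), Finset.card_univ, card_pts, hA2, h8]
    at this
  omega

/-- The inner automorphisms have index two. -/
theorem out22 : (Cfsg.Inn G22).index = 2 := by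
  obtain ⟨n0, hn0, e1, e2⟩ := exists_map2 (a := (none : GolayPt)) (b := some 0) (c := some 0)
    (d := none) (by decide) (by decide)
  rw [Subgroup.index_eq_two_iff]
  refine ⟨swapAut n0 hn0 e1 e2, ?_⟩
  intro b
  obtain ⟨n, hn, hcase, hrel⟩ := rep22 b
  have hrel' : ∀ g : G22, ((b * swapAut n0 hn0 e1 e2) g).1 = (n * n0) * g.1 * (n * n0)⁻¹ := by
    intro g
    show (b (swapAut n0 hn0 e1 e2 g)).1 = _
    rw [hrel, swapAut_apply]
    group
  rcases hcase with ⟨c1, c2⟩ | ⟨c1, c2⟩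
  · refine Or.inr ⟨inner_of_fix b n hn c1 c2 hrel, ?_⟩
    exact not_inner_of_swap _ (n * n0) (Subgroup.mul_mem _ hn hn0)
      (by rw [Equiv.Perm.mul_apply, e1, c2]) (by rw [Equiv.Perm.mul_apply, e2, c1]) hrel'
  · refine Or.inl ⟨?_, not_inner_of_swap b n hn c1 c2 hrel⟩
    exact inner_of_fix _ (n * n0) (Subgroup.mul_mem _ hn hn0)
      (by rw [Equiv.Perm.mul_apply, e1, c2]) (by rw [Equiv.Perm.mul_apply, e2, c1]) hrel'

end AutA
end Cfsg.Agent.Lib.Helper4
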