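import Cfsg.Agent.Lib.Helper4.AutL
import Cfsg.Agent.Lib.Helper4.GolayM12
import Cfsg.Agent.S0363

set_option autoImplicit false

namespace Cfsg.Agent.Lib.Helper4
namespace AutA

open Pointwise Golay

/-- The dodecad of squares. -/
abbrev D12 : Finset GolayPt := Cfsg.Spor.squareDodecad

theorem D12_dod : D12 ∈ dodecads := by
  refine ⟨⟨qrWord 0, Submodule.subset_span (Or.inl ⟨0, rfl⟩), rfl⟩, ?_⟩
  show (support₂ (qrWord 0)).card = 12
  rw [qrWord_eq, card_support, hammingNorm_word]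
  decide +kernel

theorem compl_dod {d : Finset GolayPt} (hd : d ∈ dodecads) : dᶜ ∈ dodecads := by
  obtain ⟨⟨w, hw, rfl⟩, hc⟩ := hd
  have h1 : (1 : GolayPt → ZMod 2) ∈ golayCode := Submodule.subset_span (Or.inr rfl)
  have hs : support₂ (w + 1) = (support₂ w)ᶜ := by
    ext p
    simp only [support₂, Finset.mem_filter, Finset.mem_univ, true_and, Finset.mem_compl,
      Pi.add_apply, Pi.one_apply]
    have : ∀ a : ZMod 2, (a + 1 ≠ 0 ↔ ¬ a ≠ 0) := by decide
    exact this (w p)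
  refine ⟨⟨w + 1, Submodule.add_mem _ hw h1, hs⟩, ?_⟩
  rw [Finset.card_compl, card_pts, hc]

theorem mem_of_smul_eq {g : Equiv.Perm GolayPt} {d : Finset GolayPt} (h : g • d = d)
    (x : GolayPt) : g x ∈ d ↔ x ∈ d := by
  conv_lhs => rw [← h]
  exact Finset.smul_mem_smul_finset_iff g

theorem smul_compl {g : Equiv.Perm GolayPt} {d : Finset GolayPt} (h : g • d = d) :
    g • dᶜ = dᶜ := by
  ext x
  rw [← Finset.inv_smul_mem_iff, Finset.mem_compl, Finset.mem_compl]
  have h' : g⁻¹ • d = d := by rw [inv_smul_eq_iff, h]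
  exact not_congr (mem_of_smul_eq h' x)

theorem smul_of_compl {g : Equiv.Perm GolayPt} {d : Finset GolayPt} (h : g • dᶜ = dᶜ) :
    g • d = d := by
  have := smul_compl h
  rwa [compl_compl] at this

/-- An element stabilising a dodecad and fixing five of its points is trivial. -/
theorem five_fix {d : Finset GolayPt} (hd : d ∈ dodecads) {g : Equiv.Perm GolayPt}
    (hg : g ∈ M24) (hgd : g • d = d) (A : Finset GolayPt) (hA : A ⊆ d) (h5 : 5 ≤ A.card)
    (hfix : ∀ a ∈ A, g a = a) : g = 1 := by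
  obtain ⟨t, ht, htc⟩ := Finset.exists_subset_card_eq h5
  let e := (t.equivFinOfCardEq htc).symm
  let x : Fin 5 ↪ GolayPt := e.toEmbedding.trans (Function.Embedding.subtype _)
  exact dodC x hd (fun i => hA (ht (e i).2)) hg (fun i => hfix _ (ht (e i).2)) hgd

/-- The fixed points of an involution with four fixed points form an octad. -/
theorem inv_fix_octad {t : Equiv.Perm GolayPt} (ht : t ∈ M24) (h2 : t * t = 1) (h1 : t ≠ 1)
    (A : Finset GolayPt) (hA : A.card = 4) (hfix : ∀ a ∈ A, t a = a) :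
    Finset.univ.filter (fun p => t p = p) ∈ octads := by
  have h8 := inv_fix8 ht h2 h1 A hA hfix
  have h5 : 5 ≤ (Finset.univ.filter (fun p => t p = p)).card := by rw [h8]; norm_num
  obtain ⟨s, hs, hsc⟩ := Finset.exists_subset_card_eq h5
  let e := (s.equivFinOfCardEq hsc).symm
  let x : Fin 5 ↪ GolayPt := e.toEmbedding.trans (Function.Embedding.subtype _)
  have hx : ∀ i, t (x i) = x i := fun i => (Finset.mem_filter.1 (hs (e i).2)).2
  obtain ⟨h, hh, hmap⟩ := exists_map x ⟨fun i : Fin 5 => pt i.val, pt5_inj⟩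
  have hmem : h * t * h⁻¹ ∈ KK [4, 3, 2, 1, 0] := by
    rw [mem_KK]
    refine ⟨Subgroup.mul_mem _ (Subgroup.mul_mem _ hh ht) (Subgroup.inv_mem _ hh), ?_⟩
    intro f hf
    have hf5 : f < 5 := by
      simp only [List.mem_cons, List.not_mem_nil, or_false] at hf
      omega
    have h1 : h (x ⟨f, hf5⟩) = pt f := hmap ⟨f, hf5⟩
    rw [Equiv.Perm.mul_apply, Equiv.Perm.mul_apply, ← h1]
    simp [hx]
  have hsq : h * t * h⁻¹ * (h * t * h⁻¹) = 1 := by
    have : h * t * h⁻¹ * (h * t * h⁻¹) = h * (t * t) * h⁻¹ := by group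
    rw [this, h2]
    group
  have hE := mem_E0_of_sq hmem hsq
  have hsub : h⁻¹ • O0s ⊆ Finset.univ.filter (fun p => t p = p) := by
    intro y hy
    rw [Finset.mem_inv_smul_finset_iff] at hy
    have h3 : (h * t * h⁻¹) (h y) = h y :=
      (mem_fixingSubgroup_iff _).1 (Subgroup.mem_inf.1 hE).2 (h y) (Finset.mem_coe.2 hy)
    rw [Finset.mem_filter]
    refine ⟨Finset.mem_univ _, ?_⟩
    apply h.injective
    rw [← h3]
    simp
  have heq : h⁻¹ • O0s = Finset.univ.filter (fun p => t p = p) :=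
    Finset.eq_of_subset_of_card_le hsub (by rw [h8, Finset.card_smul_finset, O0s_octad.2])
  rw [← heq]
  exact smul_mem_weight (Subgroup.inv_mem _ hh) O0s_octad

theorem orb_eq {H : Subgroup (Equiv.Perm GolayPt)} {p q : GolayPt} (hq : q ∈ orb H p) :
    orb H q = orb H p := by
  obtain ⟨k, hk, rfl⟩ := mem_orb.1 hq
  ext x
  rw [mem_orb, mem_orb]
  constructor
  · rintro ⟨m, hm, rfl⟩
    exact ⟨m * k, Subgroup.mul_mem _ hm hk, rfl⟩
  · rintro ⟨m, hm, rfl⟩
    exact ⟨m * k⁻¹, Subgroup.mul_mem _ hm (Subgroup.inv_mem _ hk), by simp⟩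

theorem orb_sub {H : Subgroup (Equiv.Perm GolayPt)} {d : Finset GolayPt}
    (hH : ∀ k ∈ H, k • d = d) {p : GolayPt} (hp : p ∈ d) : orb H p ⊆ d := by
  intro q hq
  obtain ⟨k, hk, rfl⟩ := mem_orb.1 hq
  exact (mem_of_smul_eq (hH k hk) p).2 hp

theorem orb_mod0' {H : Subgroup (Equiv.Perm GolayPt)} {p : GolayPt} {ψ : Equiv.Perm GolayPt}
    (hψ : ψ ∈ H) (r : ℕ) [Fact r.Prime] (hr : ψ ^ r = 1) (hF : ∀ x ∈ orb H p, ψ x ≠ x) :
    (orb H p).card % r = 0 := by
  have h := card_modEq_fixed ψ r hr (orb H p) (orb_inv hψ)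
  have he : (orb H p).filter (fun x => ψ x = x) = ∅ := by
    rw [Finset.filter_eq_empty_iff]
    intro x hx hfx
    exact hF x hx hfx
  rw [he, Finset.card_empty] at h
  unfold Nat.ModEq at h
  rw [← h]
  exact Nat.zero_mod r

theorem orb_mod1' {H : Subgroup (Equiv.Perm GolayPt)} {p : GolayPt} {ψ : Equiv.Perm GolayPt}
    (hψ : ψ ∈ H) (r : ℕ) [Fact r.Prime] (hr : ψ ^ r = 1) (hpf : ψ p = p)
    (hF : ∀ x ∈ orb H p, ψ x = x → x = p) : (orb H p).card % r = 1 % r := by
  have h := card_modEq_fixed ψ r hr (orb H p) (orb_inv hψ)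
  have he : (orb H p).filter (fun x => ψ x = x) = {p} := by
    ext x
    rw [Finset.mem_filter, Finset.mem_singleton]
    constructor
    · rintro ⟨hx, hfx⟩
      exact hF x hx hfx
    · rintro rfl
      exact ⟨self_mem_orb H x, hpf⟩
  rw [he, Finset.card_singleton] at h
  unfold Nat.ModEq at h
  exact h.symm

/-- An element of order eleven has a unique fixed point in a stabilised dodecad, and the orbit of
that point is trivial or the whole dodecad. -/
theorem orb11 {d : Finset GolayPt} (hd : d ∈ dodecads) {H : Subgroup (Equiv.Perm GolayPt)}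
    (hH : ∀ k ∈ H, k ∈ M24 ∧ k • d = d) {ψ : Equiv.Perm GolayPt} (hψ : ψ ∈ H)
    (h11 : ψ ^ 11 = 1) (h1 : ψ ≠ 1) :
    ∃ p ∈ d, ψ p = p ∧ (∀ x ∈ d, ψ x = x → x = p) ∧ ((∀ k ∈ H, k p = p) ∨ orb H p = d) := by
  have p11 : Fact (Nat.Prime 11) := ⟨by norm_num⟩
  obtain ⟨ha, hb⟩ := fixed_card (hH ψ hψ).1 11 h11 h1 (by norm_num)
  have hc := card_modEq_fixed ψ 11 h11 d (mem_of_smul_eq (hH ψ hψ).2)
  have hle : (d.filter (fun x => ψ x = x)).card ≤ (Finset.univ.filter (fun x => ψ x = x)).card :=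
    Finset.card_le_card (Finset.filter_subset_filter _ (Finset.subset_univ _))
  rw [hd.2] at hc
  unfold Nat.ModEq at hb hc
  have h1c : (d.filter (fun x => ψ x = x)).card = 1 := by omega
  obtain ⟨p, hp⟩ := Finset.card_eq_one.1 h1c
  have hpm : p ∈ d.filter (fun x => ψ x = x) := by rw [hp]; exact Finset.mem_singleton_self p
  rw [Finset.mem_filter] at hpm
  have huniq : ∀ x ∈ d, ψ x = x → x = p := by
    intro x hx hfx
    have : x ∈ d.filter (fun x => ψ x = x) := Finset.mem_filter.2 ⟨hx, hfx⟩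
    rw [hp] at this
    exact Finset.mem_singleton.1 this
  have hsub : orb H p ⊆ d := orb_sub (fun k hk => (hH k hk).2) hpm.1
  have hm := orb_mod1' hψ 11 h11 hpm.2 (fun x hx hfx => huniq x (hsub hx) hfx)
  have hle2 := Finset.card_le_card hsub
  rw [hd.2] at hle2
  have hpos : 0 < (orb H p).card := Finset.card_pos.2 ⟨p, self_mem_orb H p⟩
  refine ⟨p, hpm.1, hpm.2, huniq, ?_⟩
  have hcases : (orb H p).card = 1 ∨ (orb H p).card = 12 := by omega
  rcases hcases with h | h
  · left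
    intro k hk
    obtain ⟨a, ha'⟩ := Finset.card_eq_one.1 h
    have h1' : p ∈ orb H p := self_mem_orb H p
    have h2' : k p ∈ orb H p := mem_orb.2 ⟨k, hk, rfl⟩
    rw [ha', Finset.mem_singleton] at h1' h2'
    rw [h2', h1']
  · right
    exact Finset.eq_of_subset_of_card_le hsub (by rw [hd.2, h])

end AutA
end Cfsg.Agent.Lib.Helper4
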