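import Cfsg.Agent.Lib.Helper4.AutM

set_option autoImplicit false

namespace Cfsg.Agent.Lib.Helper4
namespace AutA

open Pointwise Golay

set_option maxHeartbeats 1600000 in
/-- A subgroup of order 7920 of the stabiliser of the dodecad of squares cannot be transitive on
both the dodecad and its complement. -/
theorem no_trans (K : Subgroup (Equiv.Perm GolayPt))
    (hK : ∀ k ∈ K, k ∈ M24 ∧ k • D12 = D12) (hc : Nat.card K = 7920)
    {ψ : Equiv.Perm GolayPt} (hψ : ψ ∈ K) (h11 : ψ ^ 11 = 1)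
    {p0 q0 : GolayPt} (hp0 : p0 ∈ D12) (hq0 : q0 ∈ D12ᶜ) (hψp : ψ p0 = p0) (hψq : ψ q0 = q0)
    (hup : ∀ x ∈ D12, ψ x = x → x = p0) (huq : ∀ x ∈ D12ᶜ, ψ x = x → x = q0)
    (hp : orb K p0 = D12) (hq : orb K q0 = D12ᶜ) : False := by
  classical
  have p11 : Fact (Nat.Prime 11) := ⟨by norm_num⟩
  have p5 : Fact (Nat.Prime 5) := ⟨by norm_num⟩
  have p3 : Fact (Nat.Prime 3) := ⟨by norm_num⟩
  have p2 : Fact (Nat.Prime 2) := ⟨by norm_num⟩
  have hD : D12.card = 12 := D12_dod.2
  have hDc : (D12ᶜ).card = 12 := (compl_dod D12_dod).2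
  have hKc : ∀ k ∈ K, k • D12ᶜ = D12ᶜ := fun k hk => smul_compl (hK k hk).2
  -- the stabiliser of p0
  obtain ⟨H, hHdef⟩ : ∃ H : Subgroup (Equiv.Perm GolayPt),
      H = K ⊓ MulAction.stabilizer (Equiv.Perm GolayPt) p0 := ⟨_, rfl⟩
  have hHK : ∀ k ∈ H, k ∈ K := fun k hk => by
    rw [hHdef] at hk; exact (Subgroup.mem_inf.1 hk).1
  have hHp : ∀ k ∈ H, k p0 = p0 := fun k hk => by
    rw [hHdef] at hk; exact (Subgroup.mem_inf.1 hk).2
  have hH : Nat.card H = 660 := by
    have := card_orb K p0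
    rw [hp, hD, hc, ← hHdef] at this
    omega
  have hψH : ψ ∈ H := by rw [hHdef]; exact Subgroup.mem_inf.2 ⟨hψ, hψp⟩
  -- second point
  obtain ⟨p2', hp2, hp2ne⟩ := Finset.exists_mem_ne (by rw [hD]; norm_num : 1 < D12.card) p0
  have hsub2 : orb H p2' ⊆ D12 := orb_sub (fun k hk => (hK k (hHK k hk)).2) hp2
  have hnot2 : p0 ∉ orb H p2' := by
    intro h
    obtain ⟨k, hk, e⟩ := mem_orb.1 h
    exact hp2ne (k.injective (e.trans (hHp k hk).symm))
  have hm2 := orb_mod0' hψH 11 h11 (fun x hx hfx => hnot2 (hup x (hsub2 hx) hfx ▸ hx))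
  have hle2 : (orb H p2').card ≤ 11 := by
    have h1 : orb H p2' ⊆ D12.erase p0 := fun x hx =>
      Finset.mem_erase.2 ⟨fun e => hnot2 (e ▸ hx), hsub2 hx⟩
    have h2 := Finset.card_le_card h1
    rw [Finset.card_erase_of_mem hp0, hD] at h2
    exact h2
  have hpos2 : 0 < (orb H p2').card := Finset.card_pos.2 ⟨p2', self_mem_orb H p2'⟩
  have ho2 : (orb H p2').card = 11 := by omega
  obtain ⟨H2, hH2def⟩ : ∃ H2 : Subgroup (Equiv.Perm GolayPt),
      H2 = H ⊓ MulAction.stabilizer (Equiv.Perm GolayPt) p2' := ⟨_, rfl⟩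
  have hH2 : Nat.card H2 = 60 := by
    have := card_orb H p2'
    rw [ho2, hH, ← hH2def] at this
    omega
  have hH2H : ∀ k ∈ H2, k ∈ H := fun k hk => by
    rw [hH2def] at hk; exact (Subgroup.mem_inf.1 hk).1
  have hH2p : ∀ k ∈ H2, k p2' = p2' := fun k hk => by
    rw [hH2def] at hk; exact (Subgroup.mem_inf.1 hk).2
  have hH2M : H2 ≤ M24 := fun k hk => (hK k (hHK k (hH2H k hk))).1
  -- an element of order five
  obtain ⟨φ, hφ, hφr, hφ1, hφa, hφb⟩ :=
    prime_elt H2 hH2M 5 (by rw [hH2]; norm_num) (by norm_num)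
  have hφd := card_modEq_fixed φ 5 hφr D12 (mem_of_smul_eq (hK φ (hHK φ (hH2H φ hφ))).2)
  rw [hD] at hφd
  unfold Nat.ModEq at hφd
  have hφle : (D12.filter (fun x => φ x = x)).card ≤
      (Finset.univ.filter (fun x => φ x = x)).card :=
    Finset.card_le_card (Finset.filter_subset_filter _ (Finset.subset_univ _))
  have hφ2 : (D12.filter (fun x => φ x = x)).card = 2 := by omega
  have hpair : ({p0, p2'} : Finset GolayPt) ⊆ D12.filter (fun x => φ x = x) := by
    intro x hx
    rw [Finset.mem_insert, Finset.mem_singleton] at hx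
    rcases hx with rfl | rfl
    · exact Finset.mem_filter.2 ⟨hp0, hHp φ (hH2H φ hφ)⟩
    · exact Finset.mem_filter.2 ⟨hp2, hH2p φ hφ⟩
  have hpc : ({p0, p2'} : Finset GolayPt).card = 2 := Finset.card_pair (Ne.symm hp2ne)
  have hpeq : ({p0, p2'} : Finset GolayPt) = D12.filter (fun x => φ x = x) :=
    Finset.eq_of_subset_of_card_le hpair (by rw [hφ2, hpc])
  -- third point
  obtain ⟨p3', hp3, hp3n⟩ := Finset.exists_mem_notMem_of_card_lt_card
    (s := ({p0, p2'} : Finset GolayPt)) (t := D12) (by rw [hpc, hD]; norm_num)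
  have hp30 : p3' ≠ p0 := fun e => hp3n (by rw [e]; exact Finset.mem_insert_self _ _)
  have hp32 : p3' ≠ p2' := fun e => hp3n (by
    rw [e]; exact Finset.mem_insert_of_mem (Finset.mem_singleton_self _))
  have hsub3 : orb H2 p3' ⊆ D12 := orb_sub (fun k hk => (hK k (hHK k (hH2H k hk))).2) hp3
  have hnot3 : ∀ x ∈ orb H2 p3', x ∉ ({p0, p2'} : Finset GolayPt) := by
    intro x hx hx'
    obtain ⟨k, hk, e⟩ := mem_orb.1 hx
    rw [Finset.mem_insert, Finset.mem_singleton] at hx'
    rcases hx' with rfl | rfl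
    · exact hp30 (k.injective (e.trans (hHp k (hH2H k hk)).symm))
    · exact hp32 (k.injective (e.trans (hH2p k hk).symm))
  have hm3 := orb_mod0' hφ 5 hφr (fun x hx hfx => hnot3 x hx (by
    rw [hpeq]; exact Finset.mem_filter.2 ⟨hsub3 hx, hfx⟩))
  have hle3 : (orb H2 p3').card ≤ 10 := by
    have hs : orb H2 p3' ⊆ D12 \ {p0, p2'} := fun x hx =>
      Finset.mem_sdiff.2 ⟨hsub3 hx, hnot3 x hx⟩
    have h2 := Finset.card_le_card hs
    rw [Finset.card_sdiff_of_subset (fun x hx => (Finset.mem_filter.1 (hpair hx)).1), hD, hpc]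
      at h2
    exact h2
  have hpos3 : 0 < (orb H2 p3').card := Finset.card_pos.2 ⟨p3', self_mem_orb H2 p3'⟩
  obtain ⟨J, hJdef⟩ : ∃ J : Subgroup (Equiv.Perm GolayPt),
      J = H2 ⊓ MulAction.stabilizer (Equiv.Perm GolayPt) p3' := ⟨_, rfl⟩
  have hJ : Nat.card J = 12 ∨ Nat.card J = 6 := by
    have h1 := card_orb H2 p3'
    rw [hH2, ← hJdef] at h1
    have ho : (orb H2 p3').card = 5 ∨ (orb H2 p3').card = 10 := by omega
    rcases ho with h | h
    · rw [h] at h1; left; omega
    · rw [h] at h1; right; omega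
  have hJ2 : ∀ k ∈ J, k ∈ H2 := fun k hk => by
    rw [hJdef] at hk; exact (Subgroup.mem_inf.1 hk).1
  have hJp : ∀ k ∈ J, k p3' = p3' := fun k hk => by
    rw [hJdef] at hk; exact (Subgroup.mem_inf.1 hk).2
  -- an involution and an element of order three
  obtain ⟨u, hu, hu2, hu1⟩ : ∃ u ∈ J, u * u = 1 ∧ u ≠ 1 := by
    obtain ⟨u', hu'⟩ := exists_prime_orderOf_dvd_card' (G := ↥J) 2 (by
      rcases hJ with h | h <;> rw [h] <;> norm_num)
    refine ⟨u'.1, u'.2, ?_, ?_⟩
    · have := pow_orderOf_eq_one u'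
      rw [hu', pow_two] at this
      exact congrArg Subtype.val this
    · intro h
      have : u' = 1 := Subtype.ext h
      rw [this, orderOf_one] at hu'
      norm_num at hu'
  obtain ⟨t, ht, ht3, ht1⟩ : ∃ t ∈ J, t ^ 3 = 1 ∧ t ≠ 1 := by
    obtain ⟨t', ht'⟩ := exists_prime_orderOf_dvd_card' (G := ↥J) 3 (by
      rcases hJ with h | h <;> rw [h] <;> norm_num)
    refine ⟨t'.1, t'.2, ?_, ?_⟩
    · have := pow_orderOf_eq_one t'
      rw [ht'] at this
      exact congrArg Subtype.val this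
    · intro h
      have : t' = 1 := Subtype.ext h
      rw [this, orderOf_one] at ht'
      norm_num at ht'
  have huH : u ∈ H := hH2H u (hJ2 u hu)
  have huK : u ∈ K := hHK u huH
  have huM : u ∈ M24 := (hK u huK).1
  have huD : u • D12 = D12 := (hK u huK).2
  have htK : t ∈ K := hHK t (hH2H t (hJ2 t ht))
  have htM : t ∈ M24 := (hK t htK).1
  have htD : t • D12 = D12 := (hK t htK).2
  obtain ⟨T3, hT3def⟩ : ∃ T3 : Finset GolayPt, T3 = insert p3' {p0, p2'} := ⟨_, rfl⟩
  have hT3c : T3.card = 3 := by rw [hT3def, Finset.card_insert_of_notMem hp3n, hpc]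
  have hT3D : T3 ⊆ D12 := by
    intro x hx
    rw [hT3def, Finset.mem_insert, Finset.mem_insert, Finset.mem_singleton] at hx
    rcases hx with rfl | rfl | rfl
    · exact hp3
    · exact hp0
    · exact hp2
  have hT3J : ∀ k ∈ J, ∀ x ∈ T3, k x = x := by
    intro k hk x hx
    rw [hT3def, Finset.mem_insert, Finset.mem_insert, Finset.mem_singleton] at hx
    rcases hx with rfl | rfl | rfl
    · exact hJp k hk
    · exact hHp k (hH2H k (hJ2 k hk))
    · exact hH2p k (hJ2 k hk)
  -- a fourth fixed point of the involution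
  have hu2p : u ^ 2 = 1 := by rw [pow_two]; exact hu2
  have hud := card_modEq_fixed u 2 hu2p D12 (mem_of_smul_eq huD)
  rw [hD] at hud
  unfold Nat.ModEq at hud
  have hT3u : T3 ⊆ D12.filter (fun x => u x = x) := fun x hx =>
    Finset.mem_filter.2 ⟨hT3D hx, hT3J u hu x hx⟩
  have hge3 := Finset.card_le_card hT3u
  rw [hT3c] at hge3
  obtain ⟨p4, hp4, hp4n⟩ := Finset.exists_mem_notMem_of_card_lt_card
    (s := T3) (t := D12.filter (fun x => u x = x)) (by rw [hT3c]; omega)
  rw [Finset.mem_filter] at hp4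
  have hA4c : (insert p4 T3).card = 4 := by rw [Finset.card_insert_of_notMem hp4n, hT3c]
  have hA4u : ∀ a ∈ insert p4 T3, u a = a := by
    intro a ha
    rcases Finset.mem_insert.1 ha with rfl | ha
    · exact hp4.2
    · exact hT3J u hu a ha
  -- the element of order three moves it
  have htp4 : t p4 ≠ p4 := by
    intro e
    have htd := card_modEq_fixed t 3 ht3 D12 (mem_of_smul_eq htD)
    rw [hD] at htd
    unfold Nat.ModEq at htd
    have hsub : insert p4 T3 ⊆ D12.filter (fun x => t x = x) := by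
      intro a ha
      rcases Finset.mem_insert.1 ha with rfl | ha
      · exact Finset.mem_filter.2 ⟨hp4.1, e⟩
      · exact Finset.mem_filter.2 ⟨hT3D ha, hT3J t ht a ha⟩
    have h4 := Finset.card_le_card hsub
    rw [hA4c] at h4
    exact ht1 (five_fix D12_dod htM htD (D12.filter (fun x => t x = x))
      (Finset.filter_subset _ _) (by omega) (fun a ha => (Finset.mem_filter.1 ha).2))
  have hp5D : t p4 ∈ D12 := (mem_of_smul_eq htD p4).2 hp4.1
  have hp5n : t p4 ∉ T3 := by
    intro h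
    have h1 := hT3J t ht _ h
    have h2 : t p4 = p4 := t.injective h1
    exact htp4 h2
  have hfixle : (D12.filter (fun x => u x = x)).card ≤ 4 := by
    by_contra hlt
    exact hu1 (five_fix D12_dod huM huD (D12.filter (fun x => u x = x))
      (Finset.filter_subset _ _) (by omega) (fun a ha => (Finset.mem_filter.1 ha).2))
  -- the orbit of q0 under the stabiliser of p0
  have hsubq : orb H q0 ⊆ D12ᶜ := orb_sub (fun k hk => hKc k (hHK k hk)) hq0
  have hmq := orb_mod1' hψH 11 h11 hψq (fun x hx hfx => huq x (hsubq hx) hfx)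
  have hleq := Finset.card_le_card hsubq
  rw [hDc] at hleq
  have hposq : 0 < (orb H q0).card := Finset.card_pos.2 ⟨q0, self_mem_orb H q0⟩
  have hcases : (orb H q0).card = 1 ∨ (orb H q0).card = 12 := by omega
  rcases hcases with hc1 | hc12
  · -- the stabilisers of p0 and q0 coincide
    have hHq : ∀ k ∈ H, k q0 = q0 := by
      intro k hk
      obtain ⟨a, ha'⟩ := Finset.card_eq_one.1 hc1
      have h1' : q0 ∈ orb H q0 := self_mem_orb H q0
      have h2' : k q0 ∈ orb H q0 := mem_orb.2 ⟨k, hk, rfl⟩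
      rw [ha', Finset.mem_singleton] at h1' h2'
      rw [h2', h1']
    have hH' : Nat.card ↥(K ⊓ MulAction.stabilizer (Equiv.Perm GolayPt) q0) = 660 := by
      have := card_orb K q0
      rw [hq, hDc, hc] at this
      omega
    have hle : H ≤ K ⊓ MulAction.stabilizer (Equiv.Perm GolayPt) q0 := fun k hk =>
      Subgroup.mem_inf.2 ⟨hHK k hk, hHq k hk⟩
    have heq := Subgroup.eq_of_le_of_card_ge hle (by rw [hH, hH'])
    have hiff0 : ∀ k ∈ K, k q0 = q0 → k p0 = p0 := by
      intro k hk hkq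
      have : k ∈ K ⊓ MulAction.stabilizer (Equiv.Perm GolayPt) q0 := Subgroup.mem_inf.2 ⟨hk, hkq⟩
      rw [← heq] at this
      exact hHp k this
    have hiff1 : ∀ k ∈ K, k p0 = p0 → k q0 = q0 := fun k hk hkp =>
      hHq k (by rw [hHdef]; exact Subgroup.mem_inf.2 ⟨hk, hkp⟩)
    obtain ⟨k2, hk2, ek2⟩ : ∃ k2 ∈ K, k2 p0 = p2' := by
      have : p2' ∈ orb K p0 := by rw [hp]; exact hp2
      exact mem_orb.1 this
    have hq2ne : k2 q0 ≠ q0 := by
      intro e
      have := hiff0 k2 hk2 e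
      rw [ek2] at this
      exact hp2ne this
    have hq2D : k2 q0 ∈ D12ᶜ := (mem_of_smul_eq (hKc k2 hk2) q0).2 hq0
    have hii : ∀ m ∈ K, m p2' = p2' → m (k2 q0) = k2 q0 := by
      intro m hm hmp
      have h1 : (k2⁻¹ * m * k2) p0 = p0 := by
        rw [Equiv.Perm.mul_apply, Equiv.Perm.mul_apply, ek2, hmp, Equiv.Perm.inv_eq_iff_eq, ek2]
      have h2 := hiff1 _ (Subgroup.mul_mem _ (Subgroup.mul_mem _ (Subgroup.inv_mem _ hk2) hm) hk2) h1
      rw [Equiv.Perm.mul_apply, Equiv.Perm.mul_apply, Equiv.Perm.inv_eq_iff_eq] at h2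
      exact h2
    -- the conjugate involution
    have hwK : t * u * t⁻¹ ∈ K := Subgroup.mul_mem _ (Subgroup.mul_mem _ htK huK) (Subgroup.inv_mem _ htK)
    have hwM : t * u * t⁻¹ ∈ M24 := (hK _ hwK).1
    have hw2 : t * u * t⁻¹ * (t * u * t⁻¹) = 1 := by
      have : t * u * t⁻¹ * (t * u * t⁻¹) = t * (u * u) * t⁻¹ := by group
      rw [this, hu2]
      group
    have hw1 : t * u * t⁻¹ ≠ 1 := by
      intro e
      apply hu1
      have : u = t⁻¹ * (t * u * t⁻¹) * t := by group
      rw [this, e]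
      group
    have hwfix : ∀ x, u x = x → (t * u * t⁻¹) (t x) = t x := by
      intro x hx
      rw [Equiv.Perm.mul_apply, Equiv.Perm.mul_apply]
      simp [hx]
    have hwT : ∀ x ∈ T3, (t * u * t⁻¹) x = x := by
      intro x hx
      have h1 := hwfix x (hT3J u hu x hx)
      rw [hT3J t ht x hx] at h1
      exact h1
    have hA4w : ∀ a ∈ insert (t p4) T3, (t * u * t⁻¹) a = a := by
      intro a ha
      rcases Finset.mem_insert.1 ha with rfl | ha
      · exact hwfix p4 hp4.2
      · exact hwT a ha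
    have hO1 := inv_fix_octad huM hu2 hu1 (insert p4 T3) hA4c hA4u
    have hO2 := inv_fix_octad hwM hw2 hw1 (insert (t p4) T3)
      (by rw [Finset.card_insert_of_notMem hp5n, hT3c]) hA4w
    -- five common fixed points
    have hq0T : q0 ∉ T3 := fun h => (Finset.mem_compl.1 hq0) (hT3D h)
    have hq2T : k2 q0 ∉ insert q0 T3 := by
      intro h
      rcases Finset.mem_insert.1 h with h | h
      · exact hq2ne h
      · exact (Finset.mem_compl.1 hq2D) (hT3D h)
    have hS5 : (insert (k2 q0) (insert q0 T3)).card = 5 := by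
      rw [Finset.card_insert_of_notMem hq2T, Finset.card_insert_of_notMem hq0T, hT3c]
    have hp0T : p0 ∈ T3 := by
      rw [hT3def]; exact Finset.mem_insert_of_mem (Finset.mem_insert_self _ _)
    have hp2T : p2' ∈ T3 := by
      rw [hT3def]
      exact Finset.mem_insert_of_mem (Finset.mem_insert_of_mem (Finset.mem_singleton_self _))
    have hs1 : insert (k2 q0) (insert q0 T3) ⊆ Finset.univ.filter (fun p => u p = p) := by
      intro x hx
      rw [Finset.mem_filter]
      refine ⟨Finset.mem_univ _, ?_⟩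
      rcases Finset.mem_insert.1 hx with rfl | hx
      · exact hii u huK (hT3J u hu _ hp2T)
      · rcases Finset.mem_insert.1 hx with rfl | hx
        · exact hiff1 u huK (hT3J u hu _ hp0T)
        · exact hT3J u hu x hx
    have hs2 : insert (k2 q0) (insert q0 T3) ⊆
        Finset.univ.filter (fun p => (t * u * t⁻¹) p = p) := by
      intro x hx
      rw [Finset.mem_filter]
      refine ⟨Finset.mem_univ _, ?_⟩
      rcases Finset.mem_insert.1 hx with rfl | hx
      · exact hii _ hwK (hwT _ hp2T)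
      · rcases Finset.mem_insert.1 hx with rfl | hx
        · exact hiff1 _ hwK (hwT _ hp0T)
        · exact hwT x hx
    have hOeq := (Cfsg.Agent.S0363.result.2 _ hS5).unique ⟨hO1, hs1⟩ ⟨hO2, hs2⟩
    have hp5u : u (t p4) = t p4 := by
      have : t p4 ∈ Finset.univ.filter (fun p => (t * u * t⁻¹) p = p) :=
        Finset.mem_filter.2 ⟨Finset.mem_univ _, hwfix p4 hp4.2⟩
      rw [← hOeq] at this
      exact (Finset.mem_filter.1 this).2
    have hA5n : t p4 ∉ insert p4 T3 := by
      intro h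
      rcases Finset.mem_insert.1 h with h | h
      · exact htp4 h
      · exact hp5n h
    apply hu1
    apply five_fix D12_dod huM huD (insert (t p4) (insert p4 T3))
    · intro x hx
      rcases Finset.mem_insert.1 hx with rfl | hx
      · exact hp5D
      · rcases Finset.mem_insert.1 hx with rfl | hx
        · exact hp4.1
        · exact hT3D hx
    · rw [Finset.card_insert_of_notMem hA5n, hA4c]
    · intro a ha
      rcases Finset.mem_insert.1 ha with rfl | ha
      · exact hp5u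
      · exact hA4u a ha
  · -- the stabiliser of p0 is transitive on the complement
    have horbq : orb H q0 = D12ᶜ := Finset.eq_of_subset_of_card_le hsubq (by rw [hDc, hc12])
    have h8 := inv_fix8 huM hu2 hu1 (insert p4 T3) hA4c hA4u
    obtain ⟨q, hq1, hq2⟩ := Finset.exists_mem_notMem_of_card_lt_card
      (s := D12.filter (fun x => u x = x)) (t := Finset.univ.filter (fun x => u x = x))
      (by rw [h8]; omega)
    rw [Finset.mem_filter] at hq1
    have hqD : q ∈ D12ᶜ := by
      rw [Finset.mem_compl]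
      intro h
      exact hq2 (Finset.mem_filter.2 ⟨h, hq1.2⟩)
    have horb : orb H q = orb H q0 := orb_eq (by rw [horbq]; exact hqD)
    have h55 : Nat.card ↥(H ⊓ MulAction.stabilizer (Equiv.Perm GolayPt) q) = 55 := by
      have := card_orb H q
      rw [horb, hc12, hH] at this
      omega
    have hmem : u ∈ H ⊓ MulAction.stabilizer (Equiv.Perm GolayPt) q :=
      Subgroup.mem_inf.2 ⟨huH, hq1.2⟩
    have hpow : (⟨u, hmem⟩ : ↥(H ⊓ MulAction.stabilizer (Equiv.Perm GolayPt) q)) ^ 55 = 1 := by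
      rw [← h55]
      exact pow_card_eq_one'
    have hpow' : u ^ 55 = 1 := congrArg Subtype.val hpow
    have := pow_gcd_eq_one.2 ⟨hpow', hu2p⟩
    rw [show Nat.gcd 55 2 = 1 by norm_num, pow_one] at this
    exact hu1 this

/-- A subgroup of index twelve of the stabiliser of the dodecad of squares fixes a point. -/
theorem fix12 (K : Subgroup (Equiv.Perm GolayPt)) (hK : K ≤ Cfsg.Spor.M12)
    (hc : Nat.card K = 7920) : ∃ c : GolayPt, ∀ k ∈ K, k c = c := by
  have p11 : Fact (Nat.Prime 11) := ⟨by norm_num⟩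
  have hK1 : ∀ k ∈ K, k ∈ M24 ∧ k • D12 = D12 := fun k hk =>
    ⟨(hK hk).1, MulAction.mem_stabilizer_iff.1 (hK hk).2⟩
  have hK2 : ∀ k ∈ K, k ∈ M24 ∧ k • D12ᶜ = D12ᶜ := fun k hk =>
    ⟨(hK1 k hk).1, smul_compl (hK1 k hk).2⟩
  obtain ⟨ψ, hψ, h11, hψ1, -, -⟩ :=
    prime_elt K (fun k hk => (hK hk).1) 11 (by rw [hc]; norm_num) (by norm_num)
  obtain ⟨p0, hp0, hψp, hup, hcp⟩ := orb11 D12_dod hK1 hψ h11 hψ1
  obtain ⟨q0, hq0, hψq, huq, hcq⟩ := orb11 (compl_dod D12_dod) hK2 hψ h11 hψ1
  rcases hcp with hcp | hcp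
  · exact ⟨p0, hcp⟩
  rcases hcq with hcq | hcq
  · exact ⟨q0, hcq⟩
  exact (no_trans K hK1 hc hψ h11 hp0 hq0 hψp hψq hup huq hcp hcq).elim

end AutA
end Cfsg.Agent.Lib.Helper4
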