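import Cfsg.Agent.Lib.Helper4.AutN

set_option autoImplicit false

namespace Cfsg.Agent.Lib.Helper4
namespace AutA

open Pointwise Golay

/-- The stabiliser of the dodecad of squares as a type. -/
abbrev G12 : Type := ↥Cfsg.Spor.M12

theorem mem_M12' {g : Equiv.Perm GolayPt} : g ∈ Cfsg.Spor.M12 ↔ g ∈ M24 ∧ g • D12 = D12 :=
  Iff.rfl

theorem G12_mem (g : G12) : g.1 ∈ M24 := g.2.1

theorem G12_D (g : G12) : g.1 • D12 = D12 := g.2.2

theorem card_M12 : Nat.card ↥Cfsg.Spor.M12 = 95040 := by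
  rw [← card_stab_dod D12_dod]
  exact (Nat.card_congr (stabEquivG M24 D12)).symm

theorem orb_M12_in {a : GolayPt} (ha : a ∈ D12) : orb Cfsg.Spor.M12 a = D12 := by
  apply Finset.Subset.antisymm
  · exact orb_sub (fun k hk => (mem_M12'.1 hk).2) ha
  · intro q hq
    obtain ⟨g, hg, hgd, e⟩ := dod_map1 D12_dod ha hq
    exact mem_orb.2 ⟨g, mem_M12'.2 ⟨hg, hgd⟩, e⟩

theorem orb_M12_out {a : GolayPt} (ha : a ∉ D12) : orb Cfsg.Spor.M12 a = D12ᶜ := by
  have ha' : a ∈ D12ᶜ := Finset.mem_compl.2 ha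
  apply Finset.Subset.antisymm
  · exact orb_sub (fun k hk => smul_compl (mem_M12'.1 hk).2) ha'
  · intro q hq
    obtain ⟨g, hg, hgd, e⟩ := dod_map1 (compl_dod D12_dod) ha' hq
    exact mem_orb.2 ⟨g, mem_M12'.2 ⟨hg, smul_of_compl hgd⟩, e⟩

theorem card_stabM12 (a : GolayPt) :
    Nat.card ↥(Cfsg.Spor.M12 ⊓ MulAction.stabilizer (Equiv.Perm GolayPt) a) = 7920 := by
  have h := card_orb Cfsg.Spor.M12 a
  rw [card_M12] at h
  by_cases ha : a ∈ D12
  · rw [orb_M12_in ha, D12_dod.2] at h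
    omega
  · rw [orb_M12_out ha, (compl_dod D12_dod).2] at h
    omega

theorem card_stab12 (a : GolayPt) : Nat.card ↥(MulAction.stabilizer G12 a) = 7920 := by
  rw [Nat.card_congr (stabEquiv Cfsg.Spor.M12 a)]
  exact card_stabM12 a

theorem mem_stab12 {a : GolayPt} {k : G12} : k ∈ MulAction.stabilizer G12 a ↔ k.1 a = a :=
  Iff.rfl

/-- The stabiliser of a point of a dodecad, inside the stabiliser of the dodecad, moves every
other point. -/
theorem sep_dod {d : Finset GolayPt} (hd : d ∈ dodecads) {b b' : GolayPt} (hb : b ∈ d)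
    (h : b ≠ b') : ∃ g ∈ M24, g • d = d ∧ g b = b ∧ g b' ≠ b' := by
  by_cases hb' : b' ∈ d
  · obtain ⟨c, hc, hcb, hcb'⟩ := exists_other hd b b'
    obtain ⟨g, hg, hgd, e1, e2⟩ := dod_map2 hd hb hb' hb hc h (Ne.symm hcb)
    exact ⟨g, hg, hgd, e1, by rw [e2]; exact hcb'⟩
  · obtain ⟨c, hc, hcb, -⟩ := exists_other (compl_dod hd) b' b'
    obtain ⟨e, he, heb, hec⟩ := exists_other (compl_dod hd) b' c
    obtain ⟨x, hx0, hx1, hx2⟩ := emb3 b' c e (Ne.symm hcb) (Ne.symm heb) (Ne.symm hec)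
    obtain ⟨y, hy0, hy1, hy2⟩ := emb3 c e b' (Ne.symm hec) hcb heb
    have hx : ∀ i, x i ∉ d := by
      intro i
      fin_cases i
      · show x 0 ∉ d
        rw [hx0]; exact hb'
      · show x 1 ∉ d
        rw [hx1]; exact Finset.mem_compl.1 hc
      · show x 2 ∉ d
        rw [hx2]; exact Finset.mem_compl.1 he
    have hy : ∀ i, y i ∉ d := by
      intro i
      fin_cases i
      · show y 0 ∉ d
        rw [hy0]; exact Finset.mem_compl.1 hc
      · show y 1 ∉ d
        rw [hy1]; exact Finset.mem_compl.1 he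
      · show y 2 ∉ d
        rw [hy2]; exact hb'
    obtain ⟨g, hg, hgd, hgb, hmap⟩ := m11_trans3 hd hb x y hx hy
    refine ⟨g, hg, hgd, hgb, ?_⟩
    have := hmap 0
    rw [hx0, hy0] at this
    rw [this]
    exact hcb

theorem sep12 {b b' : GolayPt} (h : b ≠ b') : ∃ k : G12, k.1 b = b ∧ k.1 b' ≠ b' := by
  by_cases hb : b ∈ D12
  · obtain ⟨g, hg, hgd, e1, e2⟩ := sep_dod D12_dod hb h
    exact ⟨⟨g, mem_M12'.2 ⟨hg, hgd⟩⟩, e1, e2⟩
  · obtain ⟨g, hg, hgd, e1, e2⟩ := sep_dod (compl_dod D12_dod) (Finset.mem_compl.2 hb) h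
    exact ⟨⟨g, mem_M12'.2 ⟨hg, smul_of_compl hgd⟩⟩, e1, e2⟩

/-- The image of a point stabiliser under an automorphism fixes the point `c`. -/
def Q12 (α : MulAut G12) (a c : GolayPt) : Prop :=
  ∀ k : G12, k.1 a = a → (α k).1 c = c

theorem exQ12 (α : MulAut G12) (a : GolayPt) : ∃ c, Q12 α a c := by
  have hcard : Nat.card ↥(((MulAction.stabilizer G12 a).map α.toMonoidHom).map
      Cfsg.Spor.M12.subtype) = 7920 := by
    rw [Subgroup.card_map_of_injective (Subgroup.subtype_injective _),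
      Subgroup.card_map_of_injective α.injective]
    exact card_stab12 a
  have hle : ((MulAction.stabilizer G12 a).map α.toMonoidHom).map Cfsg.Spor.M12.subtype
      ≤ Cfsg.Spor.M12 := by
    rintro x ⟨y, -, rfl⟩
    exact y.2
  obtain ⟨c, hfix⟩ := fix12 _ hle hcard
  refine ⟨c, ?_⟩
  intro k hk
  exact hfix _ ⟨α k, ⟨k, mem_stab12.2 hk, rfl⟩, rfl⟩

theorem Q12_iff {α : MulAut G12} {a c : GolayPt} (h : Q12 α a c) (k : G12) :
    k.1 a = a ↔ (α k).1 c = c := by
  refine ⟨h k, ?_⟩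
  intro hk
  have hle : (MulAction.stabilizer G12 a).map α.toMonoidHom ≤ MulAction.stabilizer G12 c := by
    rintro x ⟨y, hy, rfl⟩
    exact mem_stab12.2 (h y (mem_stab12.1 hy))
  have heq := Subgroup.eq_of_le_of_card_ge hle (by
    rw [Subgroup.card_map_of_injective α.injective, card_stab12 a, card_stab12 c])
  have hmem : α k ∈ (MulAction.stabilizer G12 a).map α.toMonoidHom := by
    rw [heq]
    exact mem_stab12.2 hk
  obtain ⟨y, hy, e⟩ := hmem
  have : y = k := α.injective e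
  rw [← this]
  exact mem_stab12.1 hy

theorem Q12_unique {α : MulAut G12} {a c c' : GolayPt} (h : Q12 α a c) (h' : Q12 α a c') :
    c = c' := by
  by_contra hne
  obtain ⟨m, hm1, hm2⟩ := sep12 hne
  have e : α (α.symm m) = m := α.apply_symm_apply m
  have h1 : (α.symm m).1 a = a := (Q12_iff h _).2 (by rw [e]; exact hm1)
  have h2 := h' _ h1
  rw [e] at h2
  exact hm2 h2

theorem Q12_inj {α : MulAut G12} {a a' c : GolayPt} (h : Q12 α a c) (h' : Q12 α a' c) :
    a = a' := by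
  by_contra hne
  obtain ⟨m, hm1, hm2⟩ := sep12 hne
  exact hm2 ((Q12_iff h' m).2 (h m hm1))

theorem Q12_equiv {α : MulAut G12} {a c : GolayPt} (h : Q12 α a c) (g : G12) :
    Q12 α (g.1 a) ((α g).1 c) := by
  intro k hk
  have h1 : (g⁻¹ * k * g).1 a = a := by
    show g.1⁻¹ (k.1 (g.1 a)) = a
    rw [hk]
    simp
  have h2 := h _ h1
  rw [map_mul, map_mul, map_inv] at h2
  have h3 : (α g).1⁻¹ ((α k).1 ((α g).1 c)) = c := h2
  rw [Equiv.Perm.inv_eq_iff_eq] at h3
  exact h3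

/-- The permutation of the points induced by an automorphism. -/
noncomputable def piFun12 (α : MulAut G12) : GolayPt → GolayPt := fun a =>
  Classical.choose (exQ12 α a)

theorem piFun12_spec (α : MulAut G12) (a : GolayPt) : Q12 α a (piFun12 α a) :=
  Classical.choose_spec (exQ12 α a)

theorem piFun12_inj (α : MulAut G12) : Function.Injective (piFun12 α) := by
  intro a a' e
  have h1 := piFun12_spec α a
  have h2 := piFun12_spec α a'
  rw [e] at h1
  exact Q12_inj h1 h2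

theorem piFun12_rel (α : MulAut G12) (g : G12) (a : GolayPt) :
    (α g).1 (piFun12 α a) = piFun12 α (g.1 a) :=
  Q12_unique (Q12_equiv (piFun12_spec α a) g) (piFun12_spec α (g.1 a))

/-- Every automorphism is conjugation by a permutation preserving or swapping the dodecad and
its complement. -/
theorem rep12 (α : MulAut G12) : ∃ ρ : Equiv.Perm GolayPt,
    (ρ • D12 = D12 ∨ ρ • D12 = D12ᶜ) ∧ ∀ g : G12, (α g).1 = ρ * g.1 * ρ⁻¹ := by
  have hbij : Function.Bijective (piFun12 α) :=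
    (Finite.injective_iff_bijective).1 (piFun12_inj α)
  let ρ : Equiv.Perm GolayPt := Equiv.ofBijective _ hbij
  have hρ : ∀ a, ρ a = piFun12 α a := fun a => rfl
  have hrel : ∀ g : G12, (α g).1 = ρ * g.1 * ρ⁻¹ := by
    intro g
    apply Equiv.ext
    intro b
    have h1 := piFun12_rel α g (ρ⁻¹ b)
    rw [← hρ, ← hρ] at h1
    rw [Equiv.Perm.mul_apply, Equiv.Perm.mul_apply, ← h1]
    simp
  refine ⟨ρ, ?_, hrel⟩
  obtain ⟨a0, ha0⟩ : ∃ a0, a0 ∈ D12 := by
    have : 0 < D12.card := by rw [D12_dod.2]; norm_num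
    exact Finset.card_pos.1 this
  have horb : ρ • D12 = orb Cfsg.Spor.M12 (ρ a0) := by
    ext x
    rw [← Finset.inv_smul_mem_iff, mem_orb]
    constructor
    · intro hx
      have hx' : ρ⁻¹ x ∈ orb Cfsg.Spor.M12 a0 := by rw [orb_M12_in ha0]; exact hx
      obtain ⟨g, hg, e⟩ := mem_orb.1 hx'
      refine ⟨(α ⟨g, hg⟩).1, (α ⟨g, hg⟩).2, ?_⟩
      rw [hrel ⟨g, hg⟩, Equiv.Perm.mul_apply, Equiv.Perm.mul_apply]
      have h0 : ρ⁻¹ (ρ a0) = a0 := by simp
      rw [h0, e]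
      simp
    · rintro ⟨m, hm, e⟩
      have h1 := hrel (α.symm ⟨m, hm⟩)
      rw [α.apply_symm_apply] at h1
      have h2 : m = ρ * (α.symm ⟨m, hm⟩).1 * ρ⁻¹ := h1
      rw [h2, Equiv.Perm.mul_apply, Equiv.Perm.mul_apply] at e
      have h0 : ρ⁻¹ (ρ a0) = a0 := by simp
      rw [h0] at e
      have h3 : ρ⁻¹ x = (α.symm ⟨m, hm⟩).1 a0 := by
        rw [← e]
        simp
      show ρ⁻¹ x ∈ D12
      rw [h3]
      exact (mem_of_smul_eq (G12_D _) a0).2 ha0
  rw [horb]
  by_cases hb : ρ a0 ∈ D12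
  · exact Or.inl (orb_M12_in hb)
  · exact Or.inr (orb_M12_out hb)

end AutA
end Cfsg.Agent.Lib.Helper4
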