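import Cfsg.Agent.Lib.Helper4.AutO

set_option autoImplicit false

namespace Cfsg.Agent.Lib.Helper4
namespace AutA

open Pointwise Golay

set_option maxHeartbeats 1600000 in
/-- An octad meeting the dodecad of squares in four points is the fixed point set of an
involution of the stabiliser of the dodecad. -/
theorem fix_eq_octad {O Ω : Finset GolayPt} (hO : O ∈ octads) (hΩ : Ω ∈ octads)
    (h4 : (O ∩ D12).card = 4) (hsub : O ∩ D12 ⊆ Ω) (h6 : (Ω ∩ D12).card = 6) :
    ∃ z ∈ Cfsg.Spor.M12, z * z = 1 ∧ z ≠ 1 ∧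
      (∃ A : Finset GolayPt, A.card = 4 ∧ ∀ x ∈ A, z x = x) ∧
      Finset.univ.filter (fun p => z p = p) = O := by
  classical
  obtain ⟨T, hTdef⟩ : ∃ T, T = O ∩ D12 := ⟨_, rfl⟩
  rw [← hTdef] at h4 hsub
  have hTD : T ⊆ D12 := by rw [hTdef]; exact Finset.inter_subset_right
  have hTO : T ⊆ O := by rw [hTdef]; exact Finset.inter_subset_left
  have hTΩD : T ⊆ Ω ∩ D12 := Finset.subset_inter hsub hTD
  have h2 : ((Ω ∩ D12) \ T).card = 2 := by rw [Finset.card_sdiff_of_subset hTΩD, h6, h4]
  obtain ⟨a, b, hab, hab'⟩ := Finset.card_eq_two.1 h2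
  have ha : a ∈ (Ω ∩ D12) \ T := by rw [hab']; exact Finset.mem_insert_self _ _
  have hb : b ∈ (Ω ∩ D12) \ T := by
    rw [hab']; exact Finset.mem_insert_of_mem (Finset.mem_singleton_self _)
  rw [Finset.mem_sdiff, Finset.mem_inter] at ha hb
  have hS : (insert a T).card = 5 := by rw [Finset.card_insert_of_notMem ha.2, h4]
  let e := ((insert a T).equivFinOfCardEq hS).symm
  let x : Fin 5 ↪ GolayPt := e.toEmbedding.trans (Function.Embedding.subtype _)
  let y : Fin 5 ↪ GolayPt := x.trans (Equiv.swap a b).toEmbedding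
  have hxS : ∀ i, x i ∈ insert a T := fun i => (e i).2
  have hxD : ∀ i, x i ∈ D12 := by
    intro i
    rcases Finset.mem_insert.1 (hxS i) with h | h
    · rw [h]; exact ha.1.2
    · exact hTD h
  have hyx : ∀ i, y i = Equiv.swap a b (x i) := fun i => rfl
  have hyD : ∀ i, y i ∈ D12 := by
    intro i
    rw [hyx]
    rcases Finset.mem_insert.1 (hxS i) with h | h
    · rw [h, Equiv.swap_apply_left]; exact hb.1.2
    · have n1 : x i ≠ a := fun e' => ha.2 (by rw [← e']; exact h)
      have n2 : x i ≠ b := fun e' => hb.2 (by rw [← e']; exact h)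
      rw [Equiv.swap_apply_of_ne_of_ne n1 n2]
      exact hTD h
  obtain ⟨g, hg, hgD, hmap⟩ := dod_map D12_dod x y hxD hyD
  have hgS : ∀ s ∈ insert a T, g s = Equiv.swap a b s := by
    intro s hs
    have h1 := hmap (e.symm ⟨s, hs⟩)
    have hx : x (e.symm ⟨s, hs⟩) = s := by
      show ((e (e.symm ⟨s, hs⟩)) : GolayPt) = s
      rw [Equiv.apply_symm_apply]
    rw [hyx, hx] at h1
    exact h1
  have hga : g a = b := by rw [hgS a (Finset.mem_insert_self _ _), Equiv.swap_apply_left]
  have hgT : ∀ s ∈ T, g s = s := by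
    intro s hs
    rw [hgS s (Finset.mem_insert_of_mem hs)]
    have n1 : s ≠ a := fun e' => ha.2 (by rw [← e']; exact hs)
    have n2 : s ≠ b := fun e' => hb.2 (by rw [← e']; exact hs)
    exact Equiv.swap_apply_of_ne_of_ne n1 n2
  have hgΩ : g • Ω = Ω := by
    have hS' : (insert b T).card = 5 := by rw [Finset.card_insert_of_notMem hb.2, h4]
    have h1 : insert b T ⊆ g • Ω := by
      intro s hs
      rcases Finset.mem_insert.1 hs with rfl | hs
      · rw [← hga]; exact Finset.smul_mem_smul_finset ha.1.1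
      · rw [← hgT s hs]; exact Finset.smul_mem_smul_finset (hsub hs)
    have h2' : insert b T ⊆ Ω := by
      intro s hs
      rcases Finset.mem_insert.1 hs with rfl | hs
      · exact hb.1.1
      · exact hsub hs
    exact (Cfsg.Agent.S0363.result.2 _ hS').unique ⟨smul_mem_weight hg hΩ, h1⟩ ⟨hΩ, h2'⟩
  have hΩD : ∀ s, s ∈ Ω → s ∈ D12 → s = a ∨ s = b ∨ s ∈ T := by
    intro s hs hsD
    by_cases hsT : s ∈ T
    · exact Or.inr (Or.inr hsT)
    · have : s ∈ (Ω ∩ D12) \ T := Finset.mem_sdiff.2 ⟨Finset.mem_inter.2 ⟨hs, hsD⟩, hsT⟩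
      rw [hab', Finset.mem_insert, Finset.mem_singleton] at this
      rcases this with h | h
      · exact Or.inl h
      · exact Or.inr (Or.inl h)
  have hgb : g b = a := by
    rcases hΩD (g b) ((mem_of_smul_eq hgΩ b).2 hb.1.1) ((mem_of_smul_eq hgD b).2 hb.1.2)
      with h | h | h
    · exact h
    · exfalso
      exact hab (g.injective (hga.trans h.symm))
    · exfalso
      have h1 := hgT _ h
      have hbb : g b = b := g.injective h1
      rw [hbb] at h
      exact hb.2 h
  have hgg : g * g = 1 := by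
    apply five_fix D12_dod (Subgroup.mul_mem _ hg hg) (by rw [mul_smul, hgD, hgD]) (insert a T)
    · intro s hs
      rcases Finset.mem_insert.1 hs with rfl | hs
      · exact ha.1.2
      · exact hTD hs
    · rw [hS]
    · intro s hs
      rw [Equiv.Perm.mul_apply]
      rcases Finset.mem_insert.1 hs with rfl | hs
      · rw [hga, hgb]
      · rw [hgT s hs, hgT s hs]
  have hg1 : g ≠ 1 := by
    intro e1
    rw [e1] at hga
    exact hab hga
  have hF := inv_fix_octad hg hgg hg1 T h4 hgT
  refine ⟨g, ⟨hg, hgD⟩, hgg, hg1, ⟨T, h4, hgT⟩, ?_⟩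
  obtain ⟨F, hFdef⟩ : ∃ F, F = Finset.univ.filter (fun p => g p = p) := ⟨_, rfl⟩
  rw [← hFdef] at hF ⊢
  have hFD : ∀ s ∈ F, s ∈ D12 → s ∈ T := by
    intro s hs hsD
    by_contra hsT
    apply hg1
    apply five_fix D12_dod hg hgD (insert s T)
    · intro r hr
      rcases Finset.mem_insert.1 hr with rfl | hr
      · exact hsD
      · exact hTD hr
    · rw [Finset.card_insert_of_notMem hsT, h4]
    · intro r hr
      rcases Finset.mem_insert.1 hr with rfl | hr
      · rw [hFdef, Finset.mem_filter] at hs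
        exact hs.2
      · exact hgT r hr
  have hTF : T ⊆ F := by
    intro s hs
    rw [hFdef, Finset.mem_filter]
    exact ⟨Finset.mem_univ _, hgT s hs⟩
  have hOD : ∀ s ∈ O, s ∈ D12 → s ∈ T := by
    intro s hs hsD
    rw [hTdef]
    exact Finset.mem_inter.2 ⟨hs, hsD⟩
  clear hFdef hTdef
  obtain ⟨⟨v, hv, rfl⟩, hv8⟩ := hF
  obtain ⟨⟨w, hw, rfl⟩, hw8⟩ := hO
  have hic := inter_card v w
  rw [card_support] at hv8 hw8
  have hwt := weights (v + w) (Submodule.add_mem _ hv hw)
  have hge : 4 ≤ (support₂ v ∩ support₂ w).card := by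
    rw [← h4]
    exact Finset.card_le_card (Finset.subset_inter hTF hTO)
  have hle : (support₂ v ∩ support₂ w).card ≤ 8 := by
    have := Finset.card_le_card (Finset.inter_subset_left : support₂ v ∩ support₂ w ⊆ support₂ v)
    rw [card_support, hv8] at this
    exact this
  have hcases : (support₂ v ∩ support₂ w).card = 8 ∨ hammingNorm (v + w) = 8 := by omega
  rcases hcases with h | h
  · have e1 : support₂ v ∩ support₂ w = support₂ v :=
      Finset.eq_of_subset_of_card_le Finset.inter_subset_left (by rw [h, card_support, hv8])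
    have e2 : support₂ v ∩ support₂ w = support₂ w :=
      Finset.eq_of_subset_of_card_le Finset.inter_subset_right (by rw [h, card_support, hw8])
    rw [← e1, e2]
  · exfalso
    have hoct : support₂ (v + w) ∈ octads :=
      ⟨⟨v + w, Submodule.add_mem _ hv hw, rfl⟩, by rw [card_support]; exact h⟩
    have hod := octad_dodecad hoct D12_dod
    have hempty : support₂ (v + w) ∩ D12 = ∅ := by
      rw [Finset.eq_empty_iff_forall_notMem]
      intro s hs
      rw [Finset.mem_inter] at hs
      have hz : ∀ x y : ZMod 2, x + y ≠ 0 → ¬ (x ≠ 0 ∧ y ≠ 0) := by decide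
      have hz' : ∀ x y : ZMod 2, x + y ≠ 0 → (x ≠ 0 ∨ y ≠ 0) := by decide
      have hmv : ∀ r, r ∈ support₂ v ↔ v r ≠ 0 := fun r => by simp [support₂]
      have hmw : ∀ r, r ∈ support₂ w ↔ w r ≠ 0 := fun r => by simp [support₂]
      have h1 : v s + w s ≠ 0 := by
        have := hs.1
        simpa [support₂] using this
      rcases hz' _ _ h1 with h3 | h3
      · have : s ∈ T := hFD s ((hmv s).2 h3) hs.2
        exact hz _ _ h1 ⟨h3, (hmw s).1 (hTO this)⟩
      · have : s ∈ T := hOD s ((hmw s).2 h3) hs.2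
        exact hz _ _ h1 ⟨(hmv s).1 (hTF this), h3⟩
    rw [hempty, Finset.card_empty] at hod
    omega

/-- Conjugating an involution with four fixed points into the group of the code maps its
fixed point set to an octad. -/
theorem conj_fix_octad (ρ : Equiv.Perm GolayPt) {z : Equiv.Perm GolayPt}
    (hz' : ρ * z * ρ⁻¹ ∈ M24) (hz2 : z * z = 1) (hz1 : z ≠ 1)
    (A : Finset GolayPt) (hA : A.card = 4) (hfix : ∀ a ∈ A, z a = a) :
    ρ • Finset.univ.filter (fun p => z p = p) ∈ octads := by
  have h2 : ρ * z * ρ⁻¹ * (ρ * z * ρ⁻¹) = 1 := by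
    have : ρ * z * ρ⁻¹ * (ρ * z * ρ⁻¹) = ρ * (z * z) * ρ⁻¹ := by group
    rw [this, hz2]
    group
  have h1 : ρ * z * ρ⁻¹ ≠ 1 := by
    intro e
    apply hz1
    have : z = ρ⁻¹ * (ρ * z * ρ⁻¹) * ρ := by group
    rw [this, e]
    group
  have hF := inv_fix_octad hz' h2 h1 (A.map ρ.toEmbedding) (by rw [Finset.card_map, hA]) (by
    intro a ha
    rw [Finset.mem_map] at ha
    obtain ⟨a', ha', rfl⟩ := ha
    show (ρ * z * ρ⁻¹) (ρ a') = ρ a'
    rw [Equiv.Perm.mul_apply, Equiv.Perm.mul_apply]
    simp [hfix a' ha'])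
  have heq : ρ • Finset.univ.filter (fun p => z p = p)
      = Finset.univ.filter (fun p => (ρ * z * ρ⁻¹) p = p) := by
    ext s
    rw [← Finset.inv_smul_mem_iff, Finset.mem_filter, Finset.mem_filter]
    simp only [Finset.mem_univ, true_and]
    show z (ρ⁻¹ s) = ρ⁻¹ s ↔ (ρ * z * ρ⁻¹) s = s
    rw [Equiv.Perm.mul_apply, Equiv.Perm.mul_apply]
    constructor
    · intro h
      rw [h]
      simp
    · intro h
      apply ρ.injective
      rw [h]
      simp
  rw [heq]
  exact hF

/-- The bit mask of the dodecad of squares. -/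
def Dm : ℕ := 340831

/-- Eleven octads meeting the dodecad of squares in four points, each with an octad through
the same four points meeting the dodecad in six points. -/
def pairsD : List (ℕ × ℕ) := [(15777, 2634003), (18147, 4196943), (36294, 2232654),
  (42232, 663645), (84464, 4261212), (133817, 1312345), (535268, 2106966), (1050548, 396116),
  (2101096, 525274), (4202192, 3216208), (8391797, 99029)]

/-- The spanning list. -/
def basisD : List ℕ := [340831, 15777, 18147, 36294, 42232, 84464, 133817, 535268, 1050548,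
  2101096, 4202192, 8391797]

/-- The old basis in terms of the spanning list. -/
def combosD : List (List ℕ) := [[0, 1, 2, 5], [3, 4, 7], [8], [9], [1, 3, 4, 10], [3], [2, 5],
  [6], [1, 3, 4], [3, 4], [2], [11]]

theorem pairsD_ok : pairsD.all (fun e => and (Nat.beq (pc e.1) 8) (and (Nat.beq (red basisP e.1) 0)
    (and (Nat.beq (pc (e.1 &&& Dm)) 4) (and (Nat.beq (pc e.2) 8) (and (Nat.beq (red basisP e.2) 0)
      (and (Nat.beq (pc (e.2 &&& Dm)) 6) (Nat.beq ((e.1 &&& Dm) &&& e.2) (e.1 &&& Dm)))))))) = true := by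
  decide +kernel

theorem basis_eqD : basis = combosD.map (fun T => xorL (T.map (fun t => basisD.getD t 0))) := by
  decide +kernel

theorem combosD_lt : ∀ T ∈ combosD, ∀ t ∈ T, basisD.getD t 0 ∈ basisD := by decide +kernel

theorem mem_basisD {a : ℕ} (ha : a ∈ basisD) : a = Dm ∨ ∃ e ∈ pairsD, e.1 = a := by
  have : ∀ a ∈ basisD, a = Dm ∨ ∃ e ∈ pairsD, e.1 = a := by decide
  exact this a ha

theorem D12_word : qrWord 0 = word Dm := by
  rw [qrWord_eq]
  rfl

theorem D12_eq : D12 = support₂ (word Dm) := by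
  show support₂ (qrWord 0) = _
  rw [D12_word]

theorem support_and (m n : ℕ) :
    support₂ (word m) ∩ support₂ (word n) = support₂ (word (m &&& n)) := by
  ext p
  rw [Finset.mem_inter, mem_support_word, mem_support_word, mem_support_word, Nat.testBit_and,
    Bool.and_eq_true]

theorem octad_of_mask {b : ℕ} (h8 : pc b = 8) (hr : red basisP b = 0) :
    support₂ (word b) ∈ octads := by
  refine ⟨⟨word b, ?_, rfl⟩, ?_⟩
  · rw [SetLike.mem_coe, golay_eq]
    apply red_sound basisP _ _ basisP_mem
    rw [hr, word_zero]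
    exact Submodule.zero_mem _
  · rw [card_support, hammingNorm_word]
    exact h8

theorem sp_basisD_le {S : Submodule (ZMod 2) (GolayPt → ZMod 2)}
    (h : ∀ a ∈ basisD, word a ∈ S) : golayCode ≤ S := by
  rw [golay_eq]
  apply sp_le
  intro b hb
  rw [basis_eqD, List.mem_map] at hb
  obtain ⟨T, hT, rfl⟩ := hb
  apply xorL_mem
  intro a ha
  rw [List.mem_map] at ha
  obtain ⟨t, ht, rfl⟩ := ha
  exact h _ (combosD_lt T hT t ht)

theorem mem_M24_of_basisD (g : Equiv.Perm GolayPt)
    (h : ∀ b ∈ basisD, word b ∘ g ∈ golayCode) : g ∈ M24 := by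
  apply mem_M24_of_forall
  have hle : golayCode ≤ golayCode.comap (LinearMap.funLeft (ZMod 2) (ZMod 2) g) :=
    sp_basisD_le (fun a ha => h a ha)
  intro w hw
  exact hle hw

/-- A permutation preserving the dodecad of squares and normalising its stabiliser preserves
the code. -/
theorem norm12 (ρ : Equiv.Perm GolayPt) (hρD : ρ • D12 = D12)
    (hn : ∀ g ∈ Cfsg.Spor.M12, ρ * g * ρ⁻¹ ∈ Cfsg.Spor.M12) : ρ ∈ M24 := by
  rw [← Subgroup.inv_mem_iff]
  apply mem_M24_of_basisD
  intro b hb
  rcases mem_basisD hb with rfl | ⟨e, he, rfl⟩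
  · have e1 : support₂ (word Dm ∘ ⇑ρ⁻¹) = support₂ (word Dm) := by
      rw [support_comp, inv_inv, ← D12_eq, hρD]
    rw [support_injective e1, ← D12_word]
    exact Submodule.subset_span (Or.inl ⟨0, rfl⟩)
  · have hall := pairsD_ok
    rw [List.all_eq_true] at hall
    have hc := hall e he
    simp only [Bool.and_eq_true, Nat.beq_eq] at hc
    obtain ⟨c1, c2, c3, c4, c5, c6, c7⟩ := hc
    have hO : support₂ (word e.1) ∈ octads := octad_of_mask c1 c2
    have hΩ : support₂ (word e.2) ∈ octads := octad_of_mask c4 c5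
    have h4 : (support₂ (word e.1) ∩ D12).card = 4 := by
      rw [D12_eq, support_and, card_support, hammingNorm_word]
      exact c3
    have h6 : (support₂ (word e.2) ∩ D12).card = 6 := by
      rw [D12_eq, support_and, card_support, hammingNorm_word]
      exact c6
    have hsub : support₂ (word e.1) ∩ D12 ⊆ support₂ (word e.2) := by
      rw [D12_eq, support_and]
      have := support_and (e.1 &&& Dm) e.2
      rw [c7] at this
      rw [← this]
      exact Finset.inter_subset_right
    obtain ⟨z, hz, hz2, hz1, ⟨A, hA, hfix⟩, hFz⟩ := fix_eq_octad hO hΩ h4 hsub h6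
    have hoct := conj_fix_octad ρ (hn z hz).1 hz2 hz1 A hA hfix
    rw [hFz] at hoct
    obtain ⟨⟨w', hw', e'⟩, -⟩ := hoct
    have e2 : support₂ w' = support₂ (word e.1 ∘ ⇑ρ⁻¹) := by
      rw [support_comp, inv_inv]
      exact e'
    rw [← support_injective e2]
    exact hw'

end AutA
end Cfsg.Agent.Lib.Helper4
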