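import Cfsg.Agent.Lib.Helper4.AutP

set_option autoImplicit false

namespace Cfsg.Agent.Lib.Helper4
namespace AutA

open Pointwise Golay

theorem smul_compl_eq (g : Equiv.Perm GolayPt) (d : Finset GolayPt) : g • dᶜ = (g • d)ᶜ := by
  ext x
  rw [← Finset.inv_smul_mem_iff, Finset.mem_compl, Finset.mem_compl, ← Finset.inv_smul_mem_iff]

theorem swap_inv12 {n : Equiv.Perm GolayPt} (h1 : n • D12 = D12ᶜ) : n⁻¹ • D12 = D12ᶜ := by
  rw [inv_smul_eq_iff, smul_compl_eq, h1, compl_compl]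

theorem conj_mem12 {n g : Equiv.Perm GolayPt} (hn : n ∈ M24) (h1 : n • D12 = D12ᶜ)
    (hg : g ∈ Cfsg.Spor.M12) : n * g * n⁻¹ ∈ Cfsg.Spor.M12 := by
  refine mem_M12'.2 ⟨Subgroup.mul_mem _ (Subgroup.mul_mem _ hn (mem_M12'.1 hg).1)
    (Subgroup.inv_mem _ hn), ?_⟩
  rw [mul_smul, mul_smul, swap_inv12 h1, smul_compl (mem_M12'.1 hg).2, smul_compl_eq, h1,
    compl_compl]

/-- Conjugation by an element of the group of the code swapping the dodecad of squares and its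
complement. -/
def swapAut12 (n : Equiv.Perm GolayPt) (hn : n ∈ M24) (h1 : n • D12 = D12ᶜ) : MulAut G12 where
  toFun g := ⟨n * g.1 * n⁻¹, conj_mem12 hn h1 g.2⟩
  invFun g := ⟨n⁻¹ * g.1 * n, by
    have := conj_mem12 (n := n⁻¹) (Subgroup.inv_mem _ hn) (swap_inv12 h1) g.2
    rwa [inv_inv] at this⟩
  left_inv g := by
    apply Subtype.ext
    show n⁻¹ * (n * g.1 * n⁻¹) * n = g.1
    group
  right_inv g := by
    apply Subtype.ext
    show n * (n⁻¹ * g.1 * n) * n⁻¹ = g.1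
    group
  map_mul' g g' := by
    apply Subtype.ext
    show n * (g.1 * g'.1) * n⁻¹ = (n * g.1 * n⁻¹) * (n * g'.1 * n⁻¹)
    group

theorem swapAut12_apply (n : Equiv.Perm GolayPt) (hn : n ∈ M24) (h1 : n • D12 = D12ᶜ) (g : G12) :
    (swapAut12 n hn h1 g).1 = n * g.1 * n⁻¹ := rfl

theorem inner12 (β : MulAut G12) (ρ : Equiv.Perm GolayPt) (hρ : ρ • D12 = D12)
    (hrel : ∀ g : G12, (β g).1 = ρ * g.1 * ρ⁻¹) : β ∈ Cfsg.Inn G12 := by
  have hρM : ρ ∈ M24 := by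
    apply norm12 ρ hρ
    intro g hg
    rw [← hrel ⟨g, hg⟩]
    exact (β ⟨g, hg⟩).2
  refine ⟨⟨ρ, mem_M12'.2 ⟨hρM, hρ⟩⟩, ?_⟩
  apply MulEquiv.ext
  intro g
  apply Subtype.ext
  rw [hrel g]
  rfl

theorem not_inner12 (β : MulAut G12) (ρ : Equiv.Perm GolayPt) (hρ : ρ • D12 = D12ᶜ)
    (hrel : ∀ g : G12, (β g).1 = ρ * g.1 * ρ⁻¹) : β ∉ Cfsg.Inn G12 := by
  rintro ⟨m, hm⟩
  have hm' : ∀ g : G12, ρ * g.1 * ρ⁻¹ = m.1 * g.1 * m.1⁻¹ := by
    intro g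
    rw [← hrel g, ← hm]
    rfl
  have hcomm : ∀ g : G12, (m.1⁻¹ * ρ) * g.1 = g.1 * (m.1⁻¹ * ρ) := by
    intro g
    have e : m.1⁻¹ * ρ * g.1 = m.1⁻¹ * (ρ * g.1 * ρ⁻¹) * ρ := by group
    rw [e, hm' g]
    group
  obtain ⟨a0, ha0⟩ : ∃ a0, a0 ∈ D12 := by
    have : 0 < D12.card := by rw [D12_dod.2]; norm_num
    exact Finset.card_pos.1 this
  have hmD : m.1⁻¹ • D12ᶜ = D12ᶜ := by
    rw [inv_smul_eq_iff, smul_compl (G12_D m)]
  have hca : (m.1⁻¹ * ρ) a0 ∈ D12ᶜ := by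
    have h1 : (m.1⁻¹ * ρ) a0 ∈ (m.1⁻¹ * ρ) • D12 := Finset.smul_mem_smul_finset ha0
    rwa [mul_smul, hρ, hmD] at h1
  have hne : a0 ≠ (m.1⁻¹ * ρ) a0 := by
    intro e
    rw [← e] at hca
    exact (Finset.mem_compl.1 hca) ha0
  obtain ⟨k, hk1, hk2⟩ := sep12 hne
  apply hk2
  have := congrArg (fun f : Equiv.Perm GolayPt => f a0) (hcomm k)
  simp only [Equiv.Perm.mul_apply] at this
  rw [hk1] at this
  rw [Equiv.Perm.mul_apply]
  exact this.symm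

/-- The inner automorphisms have index two. -/
theorem out12 : (Cfsg.Inn G12).index = 2 := by
  obtain ⟨n0, hn0, e0⟩ := dod_trans D12_dod (compl_dod D12_dod)
  rw [Subgroup.index_eq_two_iff]
  refine ⟨swapAut12 n0 hn0 e0, ?_⟩
  intro b
  obtain ⟨ρ, hcase, hrel⟩ := rep12 b
  have hrel' : ∀ g : G12, ((b * swapAut12 n0 hn0 e0) g).1 = (ρ * n0) * g.1 * (ρ * n0)⁻¹ := by
    intro g
    show (b (swapAut12 n0 hn0 e0 g)).1 = _
    rw [hrel, swapAut12_apply]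
    group
  rcases hcase with c | c
  · refine Or.inr ⟨inner12 b ρ c hrel, ?_⟩
    exact not_inner12 _ (ρ * n0) (by rw [mul_smul, e0, smul_compl c]) hrel'
  · refine Or.inl ⟨?_, not_inner12 b ρ c hrel⟩
    exact inner12 _ (ρ * n0) (by rw [mul_smul, e0, smul_compl_eq, c, compl_compl]) hrel'

end AutA
end Cfsg.Agent.Lib.Helper4
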