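import Cfsg.Agent.Lib.Helper4.AutQ

set_option autoImplicit false

namespace Cfsg.Agent.Lib.Helper4
namespace AutA

open Pointwise Golay

/-- The distinguished point of the dodecad of squares. -/
abbrev p11 : GolayPt := some 0

theorem p11_mem : p11 ∈ D12 := by
  rw [D12_eq, mem_support_word, code_zero]
  decide

theorem mem_M11' {g : Equiv.Perm GolayPt} :
    g ∈ Cfsg.Spor.M11 ↔ (g ∈ M24 ∧ g • D12 = D12) ∧ g p11 = p11 := Iff.rfl

set_option maxHeartbeats 1600000 in
/-- In a subgroup of order 660 of the stabiliser of the dodecad of squares and one of its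
points, some involution fixes a point outside the dodecad. -/
theorem inv660 (H : Subgroup (Equiv.Perm GolayPt))
    (hK : ∀ k ∈ H, k ∈ M24 ∧ k • D12 = D12) {p0 : GolayPt} (hp0 : p0 ∈ D12)
    (hHp : ∀ k ∈ H, k p0 = p0) (hH : Nat.card H = 660)
    {ψ : Equiv.Perm GolayPt} (hψH : ψ ∈ H) (h11 : ψ ^ 11 = 1)
    (hup : ∀ x ∈ D12, ψ x = x → x = p0) :
    ∃ u ∈ H, u ^ 2 = 1 ∧ u ≠ 1 ∧ ∃ q ∈ D12ᶜ, u q = q := by
  classical
  have p11' : Fact (Nat.Prime 11) := ⟨by norm_num⟩
  have p5 : Fact (Nat.Prime 5) := ⟨by norm_num⟩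
  have p2 : Fact (Nat.Prime 2) := ⟨by norm_num⟩
  have hD : D12.card = 12 := D12_dod.2
  -- second point
  obtain ⟨p2', hp2, hp2ne⟩ := Finset.exists_mem_ne (by rw [hD]; norm_num : 1 < D12.card) p0
  have hsub2 : orb H p2' ⊆ D12 := orb_sub (fun k hk => (hK k hk).2) hp2
  have hnot2 : p0 ∉ orb H p2' := by
    intro h
    obtain ⟨k, hk, e⟩ := mem_orb.1 h
    exact hp2ne (k.injective (e.trans (hHp k hk).symm))
  have hm2 := orb_mod0' hψH 11 h11 (fun x hx hfx => hnot2 (hup x (hsub2 hx) hfx ▸ hx))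
  have hle2 : (orb H p2').card ≤ 11 := by
    have h1 : orb H p2' ⊆ D12.erase p0 := fun x hx =>
      Finset.mem_erase.2 ⟨fun e => hnot2 (e ▸ hx), hsub2 hx⟩
    have h2 := Finset.card_le_card h1
    rw [Finset.card_erase_of_mem hp0, hD] at h2
    exact h2
  have hpos2 : 0 < (orb H p2').card := Finset.card_pos.2 ⟨p2', self_mem_orb H p2'⟩
  have ho2 : (orb H p2').card = 11 := by omega
  obtain ⟨H2, hH2def⟩ : ∃ H2 : Subgroup (Equiv.Perm GolayPt),
      H2 = H ⊓ MulAction.stabilizer (Equiv.Perm GolayPt) p2' := ⟨_, rfl⟩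
  have hH2 : Nat.card H2 = 60 := by
    have := card_orb H p2'
    rw [ho2, hH, ← hH2def] at this
    omega
  have hH2H : ∀ k ∈ H2, k ∈ H := fun k hk => by
    rw [hH2def] at hk; exact (Subgroup.mem_inf.1 hk).1
  have hH2p : ∀ k ∈ H2, k p2' = p2' := fun k hk => by
    rw [hH2def] at hk; exact (Subgroup.mem_inf.1 hk).2
  have hH2M : H2 ≤ M24 := fun k hk => (hK k (hH2H k hk)).1
  -- an element of order five
  obtain ⟨φ, hφ, hφr, hφ1, hφa, hφb⟩ :=
    prime_elt H2 hH2M 5 (by rw [hH2]; norm_num) (by norm_num)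
  have hφd := card_modEq_fixed φ 5 hφr D12 (mem_of_smul_eq (hK φ (hH2H φ hφ)).2)
  rw [hD] at hφd
  unfold Nat.ModEq at hφd
  have hφle : (D12.filter (fun x => φ x = x)).card ≤
      (Finset.univ.filter (fun x => φ x = x)).card :=
    Finset.card_le_card (Finset.filter_subset_filter _ (Finset.subset_univ _))
  have hφ2 : (D12.filter (fun x => φ x = x)).card = 2 := by omega
  have hpair : ({p0, p2'} : Finset GolayPt) ⊆ D12.filter (fun x => φ x = x) := by
    intro x hx
    rw [Finset.mem_insert, Finset.mem_singleton] at hx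
    rcases hx with rfl | rfl
    · exact Finset.mem_filter.2 ⟨hp0, hHp φ (hH2H φ hφ)⟩
    · exact Finset.mem_filter.2 ⟨hp2, hH2p φ hφ⟩
  have hpc : ({p0, p2'} : Finset GolayPt).card = 2 := Finset.card_pair (Ne.symm hp2ne)
  have hpeq : ({p0, p2'} : Finset GolayPt) = D12.filter (fun x => φ x = x) :=
    Finset.eq_of_subset_of_card_le hpair (by rw [hφ2, hpc])
  -- third point
  obtain ⟨p3', hp3, hp3n⟩ := Finset.exists_mem_notMem_of_card_lt_card
    (s := ({p0, p2'} : Finset GolayPt)) (t := D12) (by rw [hpc, hD]; norm_num)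
  have hp30 : p3' ≠ p0 := fun e => hp3n (by rw [e]; exact Finset.mem_insert_self _ _)
  have hp32 : p3' ≠ p2' := fun e => hp3n (by
    rw [e]; exact Finset.mem_insert_of_mem (Finset.mem_singleton_self _))
  have hsub3 : orb H2 p3' ⊆ D12 := orb_sub (fun k hk => (hK k (hH2H k hk)).2) hp3
  have hnot3 : ∀ x ∈ orb H2 p3', x ∉ ({p0, p2'} : Finset GolayPt) := by
    intro x hx hx'
    obtain ⟨k, hk, e⟩ := mem_orb.1 hx
    rw [Finset.mem_insert, Finset.mem_singleton] at hx'
    rcases hx' with rfl | rfl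
    · exact hp30 (k.injective (e.trans (hHp k (hH2H k hk)).symm))
    · exact hp32 (k.injective (e.trans (hH2p k hk).symm))
  have hm3 := orb_mod0' hφ 5 hφr (fun x hx hfx => hnot3 x hx (by
    rw [hpeq]; exact Finset.mem_filter.2 ⟨hsub3 hx, hfx⟩))
  have hle3 : (orb H2 p3').card ≤ 10 := by
    have hs : orb H2 p3' ⊆ D12 \ {p0, p2'} := fun x hx =>
      Finset.mem_sdiff.2 ⟨hsub3 hx, hnot3 x hx⟩
    have h2 := Finset.card_le_card hs
    rw [Finset.card_sdiff_of_subset (fun x hx => (Finset.mem_filter.1 (hpair hx)).1), hD, hpc]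
      at h2
    exact h2
  have hpos3 : 0 < (orb H2 p3').card := Finset.card_pos.2 ⟨p3', self_mem_orb H2 p3'⟩
  obtain ⟨J, hJdef⟩ : ∃ J : Subgroup (Equiv.Perm GolayPt),
      J = H2 ⊓ MulAction.stabilizer (Equiv.Perm GolayPt) p3' := ⟨_, rfl⟩
  have hJ : Nat.card J = 12 ∨ Nat.card J = 6 := by
    have h1 := card_orb H2 p3'
    rw [hH2, ← hJdef] at h1
    have ho : (orb H2 p3').card = 5 ∨ (orb H2 p3').card = 10 := by omega
    rcases ho with h | h
    · rw [h] at h1; left; omega
    · rw [h] at h1; right; omega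
  have hJ2 : ∀ k ∈ J, k ∈ H2 := fun k hk => by
    rw [hJdef] at hk; exact (Subgroup.mem_inf.1 hk).1
  have hJp : ∀ k ∈ J, k p3' = p3' := fun k hk => by
    rw [hJdef] at hk; exact (Subgroup.mem_inf.1 hk).2
  obtain ⟨u, hu, hu2, hu1⟩ : ∃ u ∈ J, u * u = 1 ∧ u ≠ 1 := by
    obtain ⟨u', hu'⟩ := exists_prime_orderOf_dvd_card' (G := ↥J) 2 (by
      rcases hJ with h | h <;> rw [h] <;> norm_num)
    refine ⟨u'.1, u'.2, ?_, ?_⟩
    · have := pow_orderOf_eq_one u'
      rw [hu', pow_two] at this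
      exact congrArg Subtype.val this
    · intro h
      have : u' = 1 := Subtype.ext h
      rw [this, orderOf_one] at hu'
      norm_num at hu'
  have huH : u ∈ H := hH2H u (hJ2 u hu)
  have huM : u ∈ M24 := (hK u huH).1
  have huD : u • D12 = D12 := (hK u huH).2
  obtain ⟨T3, hT3def⟩ : ∃ T3 : Finset GolayPt, T3 = insert p3' {p0, p2'} := ⟨_, rfl⟩
  have hT3c : T3.card = 3 := by rw [hT3def, Finset.card_insert_of_notMem hp3n, hpc]
  have hT3D : T3 ⊆ D12 := by
    intro x hx
    rw [hT3def, Finset.mem_insert, Finset.mem_insert, Finset.mem_singleton] at hx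
    rcases hx with rfl | rfl | rfl
    · exact hp3
    · exact hp0
    · exact hp2
  have hT3J : ∀ k ∈ J, ∀ x ∈ T3, k x = x := by
    intro k hk x hx
    rw [hT3def, Finset.mem_insert, Finset.mem_insert, Finset.mem_singleton] at hx
    rcases hx with rfl | rfl | rfl
    · exact hJp k hk
    · exact hHp k (hH2H k (hJ2 k hk))
    · exact hH2p k (hJ2 k hk)
  have hu2p : u ^ 2 = 1 := by rw [pow_two]; exact hu2
  have hud := card_modEq_fixed u 2 hu2p D12 (mem_of_smul_eq huD)
  rw [hD] at hud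
  unfold Nat.ModEq at hud
  have hT3u : T3 ⊆ D12.filter (fun x => u x = x) := fun x hx =>
    Finset.mem_filter.2 ⟨hT3D hx, hT3J u hu x hx⟩
  have hge3 := Finset.card_le_card hT3u
  rw [hT3c] at hge3
  obtain ⟨p4, hp4, hp4n⟩ := Finset.exists_mem_notMem_of_card_lt_card
    (s := T3) (t := D12.filter (fun x => u x = x)) (by rw [hT3c]; omega)
  rw [Finset.mem_filter] at hp4
  have hA4c : (insert p4 T3).card = 4 := by rw [Finset.card_insert_of_notMem hp4n, hT3c]
  have hA4u : ∀ a ∈ insert p4 T3, u a = a := by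
    intro a ha
    rcases Finset.mem_insert.1 ha with rfl | ha
    · exact hp4.2
    · exact hT3J u hu a ha
  have hfixle : (D12.filter (fun x => u x = x)).card ≤ 4 := by
    by_contra hlt
    exact hu1 (five_fix D12_dod huM huD (D12.filter (fun x => u x = x))
      (Finset.filter_subset _ _) (by omega) (fun a ha => (Finset.mem_filter.1 ha).2))
  have h8 := inv_fix8 huM hu2 hu1 (insert p4 T3) hA4c hA4u
  obtain ⟨q, hq1, hq2⟩ := Finset.exists_mem_notMem_of_card_lt_card
    (s := D12.filter (fun x => u x = x)) (t := Finset.univ.filter (fun x => u x = x))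
    (by rw [h8]; omega)
  rw [Finset.mem_filter] at hq1
  have hqD : q ∈ D12ᶜ := by
    rw [Finset.mem_compl]
    intro h
    exact hq2 (Finset.mem_filter.2 ⟨h, hq1.2⟩)
  exact ⟨u, huH, hu2p, hu1, q, hqD, hq1.2⟩

/-- A subgroup of index twelve of the stabiliser of the dodecad of squares and its
distinguished point fixes a point outside the dodecad. -/
theorem fix660 (K : Subgroup (Equiv.Perm GolayPt)) (hK : K ≤ Cfsg.Spor.M11)
    (hc : Nat.card K = 660) : ∃ c ∈ D12ᶜ, ∀ k ∈ K, k c = c := by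
  have p11' : Fact (Nat.Prime 11) := ⟨by norm_num⟩
  have hK1 : ∀ k ∈ K, k ∈ M24 ∧ k • D12 = D12 := fun k hk => (mem_M11'.1 (hK hk)).1
  have hKp : ∀ k ∈ K, k p11 = p11 := fun k hk => (mem_M11'.1 (hK hk)).2
  have hK2 : ∀ k ∈ K, k ∈ M24 ∧ k • D12ᶜ = D12ᶜ := fun k hk =>
    ⟨(hK1 k hk).1, smul_compl (hK1 k hk).2⟩
  obtain ⟨ψ, hψ, h11, hψ1, -, -⟩ :=
    prime_elt K (fun k hk => (hK1 k hk).1) 11 (by rw [hc]; norm_num) (by norm_num)
  obtain ⟨p, hp, hψp, hup, -⟩ := orb11 D12_dod hK1 hψ h11 hψ1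
  have hpp : p11 = p := hup p11 p11_mem (hKp ψ hψ)
  rw [← hpp] at hup
  obtain ⟨q0, hq0, hψq, huq, hcq⟩ := orb11 (compl_dod D12_dod) hK2 hψ h11 hψ1
  rcases hcq with hcq | hcq
  · exact ⟨q0, hq0, hcq⟩
  · exfalso
    obtain ⟨u, hu, hu2, hu1, q, hq, huq'⟩ := inv660 K hK1 p11_mem hKp hc hψ h11 hup
    have horb : orb K q = orb K q0 := orb_eq (by rw [hcq]; exact hq)
    have h55 : Nat.card ↥(K ⊓ MulAction.stabilizer (Equiv.Perm GolayPt) q) = 55 := by
      have := card_orb K q
      rw [horb, hcq, (compl_dod D12_dod).2, hc] at this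
      omega
    have hmem : u ∈ K ⊓ MulAction.stabilizer (Equiv.Perm GolayPt) q :=
      Subgroup.mem_inf.2 ⟨hu, huq'⟩
    have hpow : (⟨u, hmem⟩ : ↥(K ⊓ MulAction.stabilizer (Equiv.Perm GolayPt) q)) ^ 55 = 1 := by
      rw [← h55]
      exact pow_card_eq_one'
    have hpow' : u ^ 55 = 1 := congrArg Subtype.val hpow
    have := pow_gcd_eq_one.2 ⟨hpow', hu2⟩
    rw [show Nat.gcd 55 2 = 1 by norm_num, pow_one] at this
    exact hu1 this

theorem orb_sub' {H : Subgroup (Equiv.Perm GolayPt)} {S : Finset GolayPt}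
    (hS : ∀ k ∈ H, ∀ s ∈ S, k s ∈ S) {y : GolayPt} (hy : y ∈ S) : orb H y ⊆ S := by
  intro q hq
  obtain ⟨k, hk, rfl⟩ := mem_orb.1 hq
  exact hS k hk y hy

theorem inv_erase {H : Subgroup (Equiv.Perm GolayPt)} {S : Finset GolayPt} {y : GolayPt}
    (hS : ∀ k ∈ H, ∀ s ∈ S, k s ∈ S) :
    ∀ k ∈ H ⊓ MulAction.stabilizer (Equiv.Perm GolayPt) y, ∀ s ∈ S.erase y,
      k s ∈ S.erase y := by
  intro k hk s hs
  rw [Subgroup.mem_inf] at hk
  rw [Finset.mem_erase] at hs ⊢
  refine ⟨?_, hS k hk.1 s hs.2⟩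
  intro e
  have hky : k y = y := hk.2
  exact hs.1 (k.injective (e.trans hky.symm))

set_option maxHeartbeats 1600000 in
/-- A subgroup of index eleven of the stabiliser of the dodecad of squares and its
distinguished point fixes a further point of the dodecad. -/
theorem fix720 (K : Subgroup (Equiv.Perm GolayPt)) (hK : K ≤ Cfsg.Spor.M11)
    (hc : Nat.card K = 720) : ∃ c ∈ D12, c ≠ p11 ∧ ∀ k ∈ K, k c = c := by
  classical
  have p5 : Fact (Nat.Prime 5) := ⟨by norm_num⟩
  have hD : D12.card = 12 := D12_dod.2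
  have hK1 : ∀ k ∈ K, k ∈ M24 ∧ k • D12 = D12 := fun k hk => (mem_M11'.1 (hK hk)).1
  have hKp : ∀ k ∈ K, k p11 = p11 := fun k hk => (mem_M11'.1 (hK hk)).2
  obtain ⟨φ, hφ, hφr, hφ1, hφa, hφb⟩ :=
    prime_elt K (fun k hk => (hK1 k hk).1) 5 (by rw [hc]; norm_num) (by norm_num)
  have hφd := card_modEq_fixed φ 5 hφr D12 (mem_of_smul_eq (hK1 φ hφ).2)
  rw [hD] at hφd
  unfold Nat.ModEq at hφd
  have hφle : (D12.filter (fun x => φ x = x)).card ≤
      (Finset.univ.filter (fun x => φ x = x)).card :=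
    Finset.card_le_card (Finset.filter_subset_filter _ (Finset.subset_univ _))
  have hφ2 : (D12.filter (fun x => φ x = x)).card = 2 := by omega
  have hp0F : p11 ∈ D12.filter (fun x => φ x = x) :=
    Finset.mem_filter.2 ⟨p11_mem, hKp φ hφ⟩
  obtain ⟨x1, hx1, hx1n⟩ := Finset.exists_mem_ne (by rw [hφ2]; norm_num :
    1 < (D12.filter (fun x => φ x = x)).card) p11
  rw [Finset.mem_filter] at hx1
  have hpair : ({p11, x1} : Finset GolayPt) = D12.filter (fun x => φ x = x) := by
    apply Finset.eq_of_subset_of_card_le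
    · intro x hx
      rw [Finset.mem_insert, Finset.mem_singleton] at hx
      rcases hx with rfl | rfl
      · exact hp0F
      · exact Finset.mem_filter.2 hx1
    · rw [hφ2, Finset.card_pair (Ne.symm hx1n)]
  have hinvD : ∀ k ∈ K, ∀ s ∈ D12.erase p11, k s ∈ D12.erase p11 := by
    intro k hk s hs
    rw [Finset.mem_erase] at hs ⊢
    refine ⟨?_, (mem_of_smul_eq (hK1 k hk).2 s).2 hs.2⟩
    intro e
    exact hs.1 (k.injective (e.trans (hKp k hk).symm))
  have hsub : orb K x1 ⊆ D12.erase p11 :=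
    orb_sub' hinvD (Finset.mem_erase.2 ⟨hx1n, hx1.1⟩)
  have hm := orb_mod1' hφ 5 hφr hx1.2 (fun x hx hfx => by
    have h1 : x ∈ D12.filter (fun x => φ x = x) :=
      Finset.mem_filter.2 ⟨(Finset.mem_erase.1 (hsub hx)).2, hfx⟩
    rw [← hpair, Finset.mem_insert, Finset.mem_singleton] at h1
    rcases h1 with h1 | h1
    · exact absurd h1 (Finset.mem_erase.1 (hsub hx)).1
    · exact h1)
  have hle := Finset.card_le_card hsub
  rw [Finset.card_erase_of_mem p11_mem, hD] at hle
  have hpos : 0 < (orb K x1).card := Finset.card_pos.2 ⟨x1, self_mem_orb K x1⟩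
  have hco := card_orb K x1
  rw [hc] at hco
  have hcases : (orb K x1).card = 1 ∨ (orb K x1).card = 6 := by
    have h3 : (orb K x1).card = 1 ∨ (orb K x1).card = 6 ∨ (orb K x1).card = 11 := by omega
    rcases h3 with h | h | h
    · exact Or.inl h
    · exact Or.inr h
    · rw [h] at hco
      omega
  rcases hcases with h1 | h6
  · refine ⟨x1, hx1.1, hx1n, ?_⟩
    intro k hk
    obtain ⟨a, ha'⟩ := Finset.card_eq_one.1 h1
    have h1' : x1 ∈ orb K x1 := self_mem_orb K x1
    have h2' : k x1 ∈ orb K x1 := mem_orb.2 ⟨k, hk, rfl⟩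
    rw [ha', Finset.mem_singleton] at h1' h2'
    rw [h2', h1']
  · exfalso
    -- the remaining five points
    obtain ⟨S0, hS0def⟩ : ∃ S0 : Finset GolayPt, S0 = (D12.erase p11) \ orb K x1 := ⟨_, rfl⟩
    have hS0c : S0.card = 5 := by
      rw [hS0def, Finset.card_sdiff_of_subset hsub, Finset.card_erase_of_mem p11_mem, hD, h6]
    have hS0D : S0 ⊆ D12 := by
      intro s hs
      rw [hS0def, Finset.mem_sdiff, Finset.mem_erase] at hs
      exact hs.1.2
    have hS0p : p11 ∉ S0 := by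
      intro hs
      rw [hS0def, Finset.mem_sdiff, Finset.mem_erase] at hs
      exact hs.1.1 rfl
    have hS0 : ∀ k ∈ K, ∀ s ∈ S0, k s ∈ S0 := by
      intro k hk s hs
      rw [hS0def, Finset.mem_sdiff] at hs ⊢
      exact ⟨hinvD k hk s hs.1, fun h => hs.2 ((orb_inv hk s).1 h)⟩
    obtain ⟨y1, hy1⟩ : ∃ y1, y1 ∈ S0 := Finset.card_pos.1 (by rw [hS0c]; norm_num)
    have hS1 := inv_erase (y := y1) hS0
    have hS1c : (S0.erase y1).card = 4 := by rw [Finset.card_erase_of_mem hy1, hS0c]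
    obtain ⟨y2, hy2⟩ : ∃ y2, y2 ∈ S0.erase y1 := Finset.card_pos.1 (by rw [hS1c]; norm_num)
    have hS2 := inv_erase (y := y2) hS1
    have hS2c : ((S0.erase y1).erase y2).card = 3 := by
      rw [Finset.card_erase_of_mem hy2, hS1c]
    obtain ⟨y3, hy3⟩ : ∃ y3, y3 ∈ (S0.erase y1).erase y2 :=
      Finset.card_pos.1 (by rw [hS2c]; norm_num)
    have hS3 := inv_erase (y := y3) hS2
    have hS3c : (((S0.erase y1).erase y2).erase y3).card = 2 := by
      rw [Finset.card_erase_of_mem hy3, hS2c]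
    obtain ⟨y4, hy4⟩ : ∃ y4, y4 ∈ ((S0.erase y1).erase y2).erase y3 :=
      Finset.card_pos.1 (by rw [hS3c]; norm_num)
    have ho1 := Finset.card_le_card (orb_sub' hS0 hy1)
    have ho2 := Finset.card_le_card (orb_sub' hS1 hy2)
    have ho3 := Finset.card_le_card (orb_sub' hS2 hy3)
    have ho4 := Finset.card_le_card (orb_sub' hS3 hy4)
    rw [hS0c] at ho1
    rw [hS1c] at ho2
    rw [hS2c] at ho3
    rw [hS3c] at ho4
    have hc1 := card_orb K y1
    have hc2 := card_orb (K ⊓ MulAction.stabilizer (Equiv.Perm GolayPt) y1) y2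
    have hc3 := card_orb ((K ⊓ MulAction.stabilizer (Equiv.Perm GolayPt) y1) ⊓
      MulAction.stabilizer (Equiv.Perm GolayPt) y2) y3
    have hc4 := card_orb (((K ⊓ MulAction.stabilizer (Equiv.Perm GolayPt) y1) ⊓
      MulAction.stabilizer (Equiv.Perm GolayPt) y2) ⊓
      MulAction.stabilizer (Equiv.Perm GolayPt) y3) y4
    -- the last stabiliser is trivial
    have htriv : ∀ k ∈ ((((K ⊓ MulAction.stabilizer (Equiv.Perm GolayPt) y1) ⊓
        MulAction.stabilizer (Equiv.Perm GolayPt) y2) ⊓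
        MulAction.stabilizer (Equiv.Perm GolayPt) y3) ⊓
        MulAction.stabilizer (Equiv.Perm GolayPt) y4), k = 1 := by
      intro k hk
      simp only [Subgroup.mem_inf] at hk
      obtain ⟨⟨⟨⟨hkK, e1⟩, e2⟩, e3⟩, e4⟩ := hk
      have hy2' := Finset.mem_erase.1 hy2
      have hy3' := Finset.mem_erase.1 hy3
      have hy3'' := Finset.mem_erase.1 hy3'.2
      have hy4' := Finset.mem_erase.1 hy4
      have hy4'' := Finset.mem_erase.1 hy4'.2
      have hy4''' := Finset.mem_erase.1 hy4''.2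
      have hcard : (insert p11 (insert y1 (insert y2 (insert y3 {y4})))
          : Finset GolayPt).card = 5 := by
        rw [Finset.card_insert_of_notMem, Finset.card_insert_of_notMem,
          Finset.card_insert_of_notMem, Finset.card_insert_of_notMem, Finset.card_singleton]
        · rw [Finset.mem_singleton]
          exact Ne.symm hy4'.1
        · rw [Finset.mem_insert, Finset.mem_singleton]
          rintro (h | h)
          · exact hy3'.1 h.symm
          · exact hy4''.1 h.symm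
        · rw [Finset.mem_insert, Finset.mem_insert, Finset.mem_singleton]
          rintro (h | h | h)
          · exact hy2'.1 h.symm
          · exact hy3''.1 h.symm
          · exact hy4'''.1 h.symm
        · rw [Finset.mem_insert, Finset.mem_insert, Finset.mem_insert, Finset.mem_singleton]
          rintro (h | h | h | h)
          · exact hS0p (h ▸ hy1)
          · exact hS0p (h ▸ hy2'.2)
          · exact hS0p (h ▸ hy3''.2)
          · exact hS0p (h ▸ hy4'''.2)
      apply five_fix D12_dod (hK1 k hkK).1 (hK1 k hkK).2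
        (insert p11 (insert y1 (insert y2 (insert y3 {y4}))))
      · intro s hs
        rw [Finset.mem_insert, Finset.mem_insert, Finset.mem_insert, Finset.mem_insert,
          Finset.mem_singleton] at hs
        rcases hs with rfl | rfl | rfl | rfl | rfl
        · exact p11_mem
        · exact hS0D hy1
        · exact hS0D hy2'.2
        · exact hS0D hy3''.2
        · exact hS0D hy4'''.2
      · rw [hcard]
      · intro s hs
        rw [Finset.mem_insert, Finset.mem_insert, Finset.mem_insert, Finset.mem_insert,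
          Finset.mem_singleton] at hs
        rcases hs with rfl | rfl | rfl | rfl | rfl
        · exact hKp k hkK
        · exact e1
        · exact e2
        · exact e3
        · exact e4
    have hK4 : Nat.card ↥((((K ⊓ MulAction.stabilizer (Equiv.Perm GolayPt) y1) ⊓
        MulAction.stabilizer (Equiv.Perm GolayPt) y2) ⊓
        MulAction.stabilizer (Equiv.Perm GolayPt) y3) ⊓
        MulAction.stabilizer (Equiv.Perm GolayPt) y4) = 1 := by
      rw [(Subgroup.eq_bot_iff_forall _).2 htriv]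
      exact Subgroup.card_bot
    rw [hK4, mul_one] at hc4
    rw [hc] at hc1
    have b3 : Nat.card ↥(((K ⊓ MulAction.stabilizer (Equiv.Perm GolayPt) y1) ⊓
        MulAction.stabilizer (Equiv.Perm GolayPt) y2) ⊓
        MulAction.stabilizer (Equiv.Perm GolayPt) y3) ≤ 2 := by
      rw [hc4]
      exact ho4
    have b2 : Nat.card ↥((K ⊓ MulAction.stabilizer (Equiv.Perm GolayPt) y1) ⊓
        MulAction.stabilizer (Equiv.Perm GolayPt) y2) ≤ 3 * 2 := by
      rw [hc3]
      exact Nat.mul_le_mul ho3 b3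
    have b1 : Nat.card ↥(K ⊓ MulAction.stabilizer (Equiv.Perm GolayPt) y1) ≤ 4 * (3 * 2) := by
      rw [hc2]
      exact Nat.mul_le_mul ho2 b2
    have b0 : 720 ≤ 5 * (4 * (3 * 2)) := by
      rw [hc1]
      exact Nat.mul_le_mul ho1 b1
    omega

end AutA
end Cfsg.Agent.Lib.Helper4
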