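import Cfsg.Agent.Lib.Helper4.AutR

set_option autoImplicit false

namespace Cfsg.Agent.Lib.Helper4
namespace AutA

open Pointwise Golay

/-- The stabiliser of the dodecad of squares and its distinguished point, as a type. -/
abbrev GM11 : Type := ↥Cfsg.Spor.M11

theorem GM11_p (g : GM11) : g.1 p11 = p11 := (mem_M11'.1 g.2).2

theorem GM11_D (g : GM11) : g.1 • D12 = D12 := (mem_M11'.1 g.2).1.2

theorem card_M11 : Nat.card ↥Cfsg.Spor.M11 = 7920 := card_stabM12 p11

theorem emb3_out {d : Finset GolayPt} (hd : d ∈ dodecads) {a : GolayPt} (ha : a ∉ d) :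
    ∃ x : Fin 3 ↪ GolayPt, x 0 = a ∧ ∀ i, x i ∉ d := by
  obtain ⟨c, hc, hca, -⟩ := exists_other (compl_dod hd) a a
  obtain ⟨e, he, hea, hec⟩ := exists_other (compl_dod hd) a c
  obtain ⟨x, hx0, hx1, hx2⟩ := emb3 a c e (Ne.symm hca) (Ne.symm hea) (Ne.symm hec)
  refine ⟨x, hx0, ?_⟩
  intro i
  fin_cases i
  · show x 0 ∉ d
    rw [hx0]; exact ha
  · show x 1 ∉ d
    rw [hx1]; exact Finset.mem_compl.1 hc
  · show x 2 ∉ d
    rw [hx2]; exact Finset.mem_compl.1 he

theorem orb_M11_in {a : GolayPt} (ha : a ∈ D12) (hne : a ≠ p11) :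
    orb Cfsg.Spor.M11 a = D12.erase p11 := by
  apply Finset.Subset.antisymm
  · intro q hq
    obtain ⟨k, hk, rfl⟩ := mem_orb.1 hq
    obtain ⟨⟨hkM, hkD⟩, hkp⟩ := mem_M11'.1 hk
    rw [Finset.mem_erase]
    exact ⟨fun e => hne (k.injective (e.trans hkp.symm)), (mem_of_smul_eq hkD a).2 ha⟩
  · intro q hq
    rw [Finset.mem_erase] at hq
    obtain ⟨g, hg, hgd, e1, e2⟩ :=
      dod_map2 D12_dod p11_mem ha p11_mem hq.2 (Ne.symm hne) (Ne.symm hq.1)
    exact mem_orb.2 ⟨g, mem_M11'.2 ⟨⟨hg, hgd⟩, e1⟩, e2⟩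

theorem orb_M11_out {a : GolayPt} (ha : a ∉ D12) : orb Cfsg.Spor.M11 a = D12ᶜ := by
  apply Finset.Subset.antisymm
  · intro q hq
    obtain ⟨k, hk, rfl⟩ := mem_orb.1 hq
    obtain ⟨⟨hkM, hkD⟩, hkp⟩ := mem_M11'.1 hk
    exact (mem_of_smul_eq (smul_compl hkD) a).2 (Finset.mem_compl.2 ha)
  · intro q hq
    obtain ⟨x, hx0, hx⟩ := emb3_out D12_dod ha
    obtain ⟨y, hy0, hy⟩ := emb3_out D12_dod (Finset.mem_compl.1 hq)
    obtain ⟨g, hg, hgd, hgp, hmap⟩ := m11_trans3 D12_dod p11_mem x y hx hy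
    have h0 := hmap 0
    rw [hx0, hy0] at h0
    exact mem_orb.2 ⟨g, mem_M11'.2 ⟨⟨hg, hgd⟩, hgp⟩, h0⟩

theorem card_stab11_in {a : GolayPt} (ha : a ∈ D12) (hne : a ≠ p11) :
    Nat.card ↥(MulAction.stabilizer GM11 a) = 720 := by
  rw [Nat.card_congr (stabEquiv Cfsg.Spor.M11 a)]
  have h := card_orb Cfsg.Spor.M11 a
  rw [card_M11, orb_M11_in ha hne, Finset.card_erase_of_mem p11_mem, D12_dod.2] at h
  omega

theorem card_stab11_out {a : GolayPt} (ha : a ∉ D12) :
    Nat.card ↥(MulAction.stabilizer GM11 a) = 660 := by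
  rw [Nat.card_congr (stabEquiv Cfsg.Spor.M11 a)]
  have h := card_orb Cfsg.Spor.M11 a
  rw [card_M11, orb_M11_out ha, (compl_dod D12_dod).2] at h
  omega

theorem mem_stab11 {a : GolayPt} {k : GM11} : k ∈ MulAction.stabilizer GM11 a ↔ k.1 a = a :=
  Iff.rfl

theorem sep11_in {b b' : GolayPt} (hb : b ∈ D12) (hbn : b ≠ p11) (hb' : b' ∈ D12)
    (hb'n : b' ≠ p11) (h : b ≠ b') : ∃ k : GM11, k.1 b = b ∧ k.1 b' ≠ b' := by
  classical
  obtain ⟨c, hc, hcn⟩ := Finset.exists_mem_notMem_of_card_lt_card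
    (s := ({p11, b, b'} : Finset GolayPt)) (t := D12) (by
      have : ({p11, b, b'} : Finset GolayPt).card ≤ 3 := Finset.card_le_three
      rw [D12_dod.2]
      omega)
  rw [Finset.mem_insert, Finset.mem_insert, Finset.mem_singleton] at hcn
  have hc0 : c ≠ p11 := fun e => hcn (Or.inl e)
  have hc1 : c ≠ b := fun e => hcn (Or.inr (Or.inl e))
  have hc2 : c ≠ b' := fun e => hcn (Or.inr (Or.inr e))
  obtain ⟨g, hg, hgd, e0, e1, e2⟩ := dod_map3 D12_dod p11_mem hb hb' p11_mem hb hc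
    (Ne.symm hbn) (Ne.symm hb'n) h (Ne.symm hbn) (Ne.symm hc0) (Ne.symm hc1)
  exact ⟨⟨g, mem_M11'.2 ⟨⟨hg, hgd⟩, e0⟩⟩, e1, by show g b' ≠ b'; rw [e2]; exact hc2⟩

theorem sep11_out {b b' : GolayPt} (hb : b ∉ D12) (hb' : b' ∉ D12) (h : b ≠ b') :
    ∃ k : GM11, k.1 b = b ∧ k.1 b' ≠ b' := by
  obtain ⟨e, he, heb, heb'⟩ := exists_other (compl_dod D12_dod) b b'
  obtain ⟨x, hx0, hx1, hx2⟩ := emb3 b b' e h (Ne.symm heb) (Ne.symm heb')
  obtain ⟨y, hy0, hy1, hy2⟩ := emb3 b e b' (Ne.symm heb) h heb'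
  have hx : ∀ i, x i ∉ D12 := by
    intro i
    fin_cases i
    · show x 0 ∉ D12
      rw [hx0]; exact hb
    · show x 1 ∉ D12
      rw [hx1]; exact hb'
    · show x 2 ∉ D12
      rw [hx2]; exact Finset.mem_compl.1 he
  have hy : ∀ i, y i ∉ D12 := by
    intro i
    fin_cases i
    · show y 0 ∉ D12
      rw [hy0]; exact hb
    · show y 1 ∉ D12
      rw [hy1]; exact Finset.mem_compl.1 he
    · show y 2 ∉ D12
      rw [hy2]; exact hb'
  obtain ⟨g, hg, hgd, hgp, hmap⟩ := m11_trans3 D12_dod p11_mem x y hx hy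
  have h0 := hmap 0
  have h1 := hmap 1
  rw [hx0, hy0] at h0
  rw [hx1, hy1] at h1
  exact ⟨⟨g, mem_M11'.2 ⟨⟨hg, hgd⟩, hgp⟩⟩, h0, by show g b' ≠ b'; rw [h1]; exact heb'⟩

/-- The image of a point stabiliser under an automorphism fixes the point `c` of the same
kind. -/
def Q11 (α : MulAut GM11) (a c : GolayPt) : Prop :=
  c ≠ p11 ∧ (a ∈ D12 ↔ c ∈ D12) ∧ ∀ k : GM11, k.1 a = a → (α k).1 c = c

theorem exQ11 (α : MulAut GM11) {a : GolayPt} (ha : a ≠ p11) : ∃ c, Q11 α a c := by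
  have hle : ((MulAction.stabilizer GM11 a).map α.toMonoidHom).map Cfsg.Spor.M11.subtype
      ≤ Cfsg.Spor.M11 := by
    rintro x ⟨y, -, rfl⟩
    exact y.2
  by_cases haD : a ∈ D12
  · have hcard : Nat.card ↥(((MulAction.stabilizer GM11 a).map α.toMonoidHom).map
        Cfsg.Spor.M11.subtype) = 720 := by
      rw [Subgroup.card_map_of_injective (Subgroup.subtype_injective _),
        Subgroup.card_map_of_injective α.injective]
      exact card_stab11_in haD ha
    obtain ⟨c, hc, hcn, hfix⟩ := fix720 _ hle hcard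
    exact ⟨c, hcn, ⟨fun _ => hc, fun _ => haD⟩,
      fun k hk => hfix _ ⟨α k, ⟨k, mem_stab11.2 hk, rfl⟩, rfl⟩⟩
  · have hcard : Nat.card ↥(((MulAction.stabilizer GM11 a).map α.toMonoidHom).map
        Cfsg.Spor.M11.subtype) = 660 := by
      rw [Subgroup.card_map_of_injective (Subgroup.subtype_injective _),
        Subgroup.card_map_of_injective α.injective]
      exact card_stab11_out haD
    obtain ⟨c, hc, hfix⟩ := fix660 _ hle hcard
    have hcD : c ∉ D12 := Finset.mem_compl.1 hc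
    exact ⟨c, fun e => hcD (e ▸ p11_mem), ⟨fun h => absurd h haD, fun h => absurd h hcD⟩,
      fun k hk => hfix _ ⟨α k, ⟨k, mem_stab11.2 hk, rfl⟩, rfl⟩⟩

theorem card_stab11_eq {a c : GolayPt} (ha : a ≠ p11) (hc : c ≠ p11) (h : a ∈ D12 ↔ c ∈ D12) :
    Nat.card ↥(MulAction.stabilizer GM11 a) = Nat.card ↥(MulAction.stabilizer GM11 c) := by
  by_cases haD : a ∈ D12
  · rw [card_stab11_in haD ha, card_stab11_in (h.1 haD) hc]
  · rw [card_stab11_out haD, card_stab11_out (fun hcD => haD (h.2 hcD))]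

theorem Q11_iff {α : MulAut GM11} {a c : GolayPt} (ha : a ≠ p11) (h : Q11 α a c) (k : GM11) :
    k.1 a = a ↔ (α k).1 c = c := by
  refine ⟨h.2.2 k, ?_⟩
  intro hk
  have hle : (MulAction.stabilizer GM11 a).map α.toMonoidHom ≤ MulAction.stabilizer GM11 c := by
    rintro x ⟨y, hy, rfl⟩
    exact mem_stab11.2 (h.2.2 y (mem_stab11.1 hy))
  have heq := Subgroup.eq_of_le_of_card_ge hle (by
    rw [Subgroup.card_map_of_injective α.injective, card_stab11_eq ha h.1 h.2.1])
  have hmem : α k ∈ (MulAction.stabilizer GM11 a).map α.toMonoidHom := by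
    rw [heq]
    exact mem_stab11.2 hk
  obtain ⟨y, hy, e⟩ := hmem
  have : y = k := α.injective e
  rw [← this]
  exact mem_stab11.1 hy

theorem sep11 {b b' : GolayPt} (hb : b ≠ p11) (hb' : b' ≠ p11) (hcl : b ∈ D12 ↔ b' ∈ D12)
    (h : b ≠ b') : ∃ k : GM11, k.1 b = b ∧ k.1 b' ≠ b' := by
  by_cases hbD : b ∈ D12
  · exact sep11_in hbD hb (hcl.1 hbD) hb' h
  · exact sep11_out hbD (fun h' => hbD (hcl.2 h')) h

theorem Q11_unique {α : MulAut GM11} {a c c' : GolayPt} (ha : a ≠ p11) (h : Q11 α a c)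
    (h' : Q11 α a c') : c = c' := by
  by_contra hne
  obtain ⟨m, hm1, hm2⟩ := sep11 h.1 h'.1 (h.2.1.symm.trans h'.2.1) hne
  have e : α (α.symm m) = m := α.apply_symm_apply m
  have h1 : (α.symm m).1 a = a := (Q11_iff ha h _).2 (by rw [e]; exact hm1)
  have h2 := h'.2.2 _ h1
  rw [e] at h2
  exact hm2 h2

theorem Q11_inj {α : MulAut GM11} {a a' c : GolayPt} (ha : a ≠ p11) (ha' : a' ≠ p11)
    (h : Q11 α a c) (h' : Q11 α a' c) : a = a' := by
  by_contra hne
  obtain ⟨m, hm1, hm2⟩ := sep11 ha ha' (h.2.1.trans h'.2.1.symm) hne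
  exact hm2 ((Q11_iff ha' h' m).2 (h.2.2 m hm1))

theorem Q11_equiv {α : MulAut GM11} {a c : GolayPt} (h : Q11 α a c) (g : GM11) :
    Q11 α (g.1 a) ((α g).1 c) := by
  refine ⟨?_, ?_, ?_⟩
  · intro e
    exact h.1 ((α g).1.injective (e.trans (GM11_p (α g)).symm))
  · rw [mem_of_smul_eq (GM11_D g) a, mem_of_smul_eq (GM11_D (α g)) c]
    exact h.2.1
  · intro k hk
    have h1 : (g⁻¹ * k * g).1 a = a := by
      show g.1⁻¹ (k.1 (g.1 a)) = a
      rw [hk]
      simp
    have h2 := h.2.2 _ h1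
    rw [map_mul, map_mul, map_inv] at h2
    have h3 : (α g).1⁻¹ ((α k).1 ((α g).1 c)) = c := h2
    rw [Equiv.Perm.inv_eq_iff_eq] at h3
    exact h3

/-- The permutation of the points induced by an automorphism. -/
noncomputable def piFun11 (α : MulAut GM11) : GolayPt → GolayPt := fun a =>
  if h : a = p11 then p11 else Classical.choose (exQ11 α h)

theorem piFun11_p (α : MulAut GM11) : piFun11 α p11 = p11 := by
  simp [piFun11]

theorem piFun11_spec (α : MulAut GM11) {a : GolayPt} (ha : a ≠ p11) :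
    Q11 α a (piFun11 α a) := by
  rw [piFun11, dif_neg ha]
  exact Classical.choose_spec (exQ11 α ha)

theorem piFun11_inj (α : MulAut GM11) : Function.Injective (piFun11 α) := by
  intro a a' e
  by_cases ha : a = p11
  · by_cases ha' : a' = p11
    · rw [ha, ha']
    · exfalso
      rw [ha, piFun11_p] at e
      exact (piFun11_spec α ha').1 e.symm
  · by_cases ha' : a' = p11
    · exfalso
      rw [ha', piFun11_p] at e
      exact (piFun11_spec α ha).1 e
    · have h1 := piFun11_spec α ha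
      have h2 := piFun11_spec α ha'
      rw [e] at h1
      exact Q11_inj ha ha' h1 h2

theorem piFun11_rel (α : MulAut GM11) (g : GM11) (a : GolayPt) :
    (α g).1 (piFun11 α a) = piFun11 α (g.1 a) := by
  by_cases ha : a = p11
  · rw [ha, piFun11_p, GM11_p, GM11_p, piFun11_p]
  · have hga : g.1 a ≠ p11 := by
      intro e
      exact ha (g.1.injective (e.trans (GM11_p g).symm))
    exact Q11_unique hga (Q11_equiv (piFun11_spec α ha) g) (piFun11_spec α hga)

/-- Every automorphism is conjugation by a permutation fixing the distinguished point and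
preserving the dodecad. -/
theorem rep11 (α : MulAut GM11) : ∃ ρ : Equiv.Perm GolayPt,
    ρ p11 = p11 ∧ ρ • D12 = D12 ∧ ∀ g : GM11, (α g).1 = ρ * g.1 * ρ⁻¹ := by
  have hbij : Function.Bijective (piFun11 α) :=
    (Finite.injective_iff_bijective).1 (piFun11_inj α)
  let ρ : Equiv.Perm GolayPt := Equiv.ofBijective _ hbij
  have hρ : ∀ a, ρ a = piFun11 α a := fun a => rfl
  have hrel : ∀ g : GM11, (α g).1 = ρ * g.1 * ρ⁻¹ := by
    intro g
    apply Equiv.ext
    intro b
    have h1 := piFun11_rel α g (ρ⁻¹ b)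
    rw [← hρ, ← hρ] at h1
    rw [Equiv.Perm.mul_apply, Equiv.Perm.mul_apply, ← h1]
    simp
  refine ⟨ρ, by rw [hρ, piFun11_p], ?_, hrel⟩
  apply Finset.eq_of_subset_of_card_le
  · intro y hy
    rw [← Finset.inv_smul_mem_iff] at hy
    have hy' : y = ρ (ρ⁻¹ y) := by simp
    rw [hy', hρ]
    by_cases hp : ρ⁻¹ y = p11
    · rw [hp, piFun11_p]
      exact p11_mem
    · exact (piFun11_spec α hp).2.1.1 hy
  · rw [Finset.card_smul_finset]

/-- Eleven octads through the distinguished point meeting the dodecad of squares in four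
points, each with an octad through the same four points meeting the dodecad in six points. -/
def pairsE : List (ℕ × ℕ) := [(15777, 2634003), (18147, 4196943), (52005, 5571333),
  (118953, 2430217), (133817, 1312345), (153797, 530245), (542009, 4587803),
  (1075305, 4563017), (2115979, 622863), (4216883, 5279), (8391797, 99029)]

/-- The spanning list. -/
def basisE : List ℕ := [340831, 15777, 18147, 52005, 118953, 133817, 153797, 542009, 1075305,
  2115979, 4216883, 8391797]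

/-- The old basis in terms of the spanning list. -/
def combosE : List (List ℕ) := [[0, 1, 2, 3, 4, 5, 6], [2, 7], [1, 5, 6, 8], [2, 9], [5, 6, 10],
  [2, 3], [2, 3, 4, 5, 6], [5], [2, 5, 6], [1, 2, 5, 6], [2], [11]]

theorem pairsE_ok : pairsE.all (fun e => and (Nat.beq (pc e.1) 8) (and (Nat.beq (red basisP e.1) 0)
    (and (Nat.beq (pc (e.1 &&& Dm)) 4) (and (Nat.beq (pc e.2) 8) (and (Nat.beq (red basisP e.2) 0)
      (and (Nat.beq (pc (e.2 &&& Dm)) 6) (and (Nat.beq ((e.1 &&& Dm) &&& e.2) (e.1 &&& Dm))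
        (e.1.testBit 0)))))))) = true := by
  decide +kernel

theorem basis_eqE : basis = combosE.map (fun T => xorL (T.map (fun t => basisE.getD t 0))) := by
  decide +kernel

theorem combosE_lt : ∀ T ∈ combosE, ∀ t ∈ T, basisE.getD t 0 ∈ basisE := by decide +kernel

theorem mem_basisE {a : ℕ} (ha : a ∈ basisE) : a = Dm ∨ ∃ e ∈ pairsE, e.1 = a := by
  have : ∀ a ∈ basisE, a = Dm ∨ ∃ e ∈ pairsE, e.1 = a := by decide
  exact this a ha

theorem sp_basisE_le {S : Submodule (ZMod 2) (GolayPt → ZMod 2)}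
    (h : ∀ a ∈ basisE, word a ∈ S) : golayCode ≤ S := by
  rw [golay_eq]
  apply sp_le
  intro b hb
  rw [basis_eqE, List.mem_map] at hb
  obtain ⟨T, hT, rfl⟩ := hb
  apply xorL_mem
  intro a ha
  rw [List.mem_map] at ha
  obtain ⟨t, ht, rfl⟩ := ha
  exact h _ (combosE_lt T hT t ht)

theorem mem_M24_of_basisE (g : Equiv.Perm GolayPt)
    (h : ∀ b ∈ basisE, word b ∘ g ∈ golayCode) : g ∈ M24 := by
  apply mem_M24_of_forall
  have hle : golayCode ≤ golayCode.comap (LinearMap.funLeft (ZMod 2) (ZMod 2) g) :=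
    sp_basisE_le (fun a ha => h a ha)
  intro w hw
  exact hle hw

/-- A permutation preserving the dodecad of squares and normalising the stabiliser of the
dodecad and its distinguished point preserves the code. -/
theorem norm11 (ρ : Equiv.Perm GolayPt) (hρD : ρ • D12 = D12)
    (hn : ∀ g ∈ Cfsg.Spor.M11, ρ * g * ρ⁻¹ ∈ Cfsg.Spor.M11) : ρ ∈ M24 := by
  rw [← Subgroup.inv_mem_iff]
  apply mem_M24_of_basisE
  intro b hb
  rcases mem_basisE hb with rfl | ⟨e, he, rfl⟩
  · have e1 : support₂ (word Dm ∘ ⇑ρ⁻¹) = support₂ (word Dm) := by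
      rw [support_comp, inv_inv, ← D12_eq, hρD]
    rw [support_injective e1, ← D12_word]
    exact Submodule.subset_span (Or.inl ⟨0, rfl⟩)
  · have hall := pairsE_ok
    rw [List.all_eq_true] at hall
    have hc := hall e he
    simp only [Bool.and_eq_true, Nat.beq_eq] at hc
    obtain ⟨c1, c2, c3, c4, c5, c6, c7, c8⟩ := hc
    have hO : support₂ (word e.1) ∈ octads := octad_of_mask c1 c2
    have hΩ : support₂ (word e.2) ∈ octads := octad_of_mask c4 c5
    have h4 : (support₂ (word e.1) ∩ D12).card = 4 := by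
      rw [D12_eq, support_and, card_support, hammingNorm_word]
      exact c3
    have h6 : (support₂ (word e.2) ∩ D12).card = 6 := by
      rw [D12_eq, support_and, card_support, hammingNorm_word]
      exact c6
    have hsub : support₂ (word e.1) ∩ D12 ⊆ support₂ (word e.2) := by
      rw [D12_eq, support_and]
      have := support_and (e.1 &&& Dm) e.2
      rw [c7] at this
      rw [← this]
      exact Finset.inter_subset_right
    obtain ⟨z, hz, hz2, hz1, ⟨A, hA, hfix⟩, hFz⟩ := fix_eq_octad hO hΩ h4 hsub h6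
    have hzp : z p11 = p11 := by
      have : p11 ∈ support₂ (word e.1) := by
        rw [mem_support_word, code_zero]
        exact c8
      rw [← hFz, Finset.mem_filter] at this
      exact this.2
    have hz11 : z ∈ Cfsg.Spor.M11 := mem_M11'.2 ⟨mem_M12'.1 hz, hzp⟩
    have hoct := conj_fix_octad ρ (mem_M11'.1 (hn z hz11)).1.1 hz2 hz1 A hA hfix
    rw [hFz] at hoct
    obtain ⟨⟨w', hw', e'⟩, -⟩ := hoct
    have e2 : support₂ w' = support₂ (word e.1 ∘ ⇑ρ⁻¹) := by
      rw [support_comp, inv_inv]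
      exact e'
    rw [← support_injective e2]
    exact hw'

/-- Every automorphism of the stabiliser of the dodecad of squares and its distinguished point
is inner. -/
theorem out11 : (Cfsg.Inn GM11).index = 1 := by
  rw [Subgroup.index_eq_one, eq_top_iff]
  intro b _
  obtain ⟨ρ, hρp, hρD, hrel⟩ := rep11 b
  have hρM : ρ ∈ M24 := norm11 ρ hρD (fun g hg => by
    rw [← hrel ⟨g, hg⟩]
    exact (b ⟨g, hg⟩).2)
  refine ⟨⟨ρ, mem_M11'.2 ⟨⟨hρM, hρD⟩, hρp⟩⟩, ?_⟩
  apply MulEquiv.ext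
  intro g
  apply Subtype.ext
  rw [hrel g]
  rfl

end AutA
end Cfsg.Agent.Lib.Helper4
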