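import Cfsg.Agent.Lib.Helper4.Cnt7

set_option autoImplicit false

namespace Cfsg.Agent.Lib.Helper4
namespace Cnt

open Finset Cfsg Cfsg.Agent.Lib.Helper28

/-- The class predicate on masks. -/
def clP (n : ℕ) (a0 a1 : Bool) (a : ℕ) : Bool :=
  Nat.beq (Golay.pc a) n && (a.testBit 0 == a0) && (a.testBit 1 == a1)

/-- Classes of code words by weight and the two bits, with their sizes. -/
def clsK : List (ℕ × Bool × Bool × ℕ) := [(0, false, false, 1), (0, false, true, 0),
  (0, true, false, 0), (0, true, true, 0), (8, false, false, 330), (8, false, true, 176),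
  (8, true, false, 176), (8, true, true, 77), (12, false, false, 616), (12, false, true, 672),
  (12, true, false, 672), (12, true, true, 616), (16, false, false, 77), (16, false, true, 176),
  (16, true, false, 176), (16, true, true, 330), (24, false, false, 0), (24, false, true, 0),
  (24, true, false, 0), (24, true, true, 1)]

set_option maxRecDepth 100000 in
theorem clsK_count : ∀ t ∈ clsK,
    Golay.countComb (clP t.1 t.2.1 t.2.2.1) Golay.basis 0 = t.2.2.2 := by decide +kernel

theorem bit_q0 (a : ℕ) : decide (Golay.word a q0 = 1) = a.testBit 0 := by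
  rw [Golay.word_apply]
  have hc : Golay.code q0 = 0 := by decide
  rw [hc]
  cases a.testBit 0 <;> decide

theorem bit_q1 (a : ℕ) : decide (Golay.word a q1 = 1) = a.testBit 1 := by
  rw [Golay.word_apply]
  have hc : Golay.code q1 = 1 := by decide
  rw [hc]
  cases a.testBit 1 <;> decide

theorem card_class (n : ℕ) (a0 a1 : Bool) :
    #(Cfin.filter (fun c => hammingNorm c = n ∧ decide (c q0 = 1) = a0 ∧
      decide (c q1 = 1) = a1)) = Golay.countComb (clP n a0 a1) Golay.basis 0 := by
  classical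
  rw [← Golay.countComb_sound (clP n a0 a1)
    (fun w => hammingNorm w = n ∧ decide (w q0 = 1) = a0 ∧ decide (w q1 = 1) = a1)
    (fun a => by
      unfold clP
      rw [Bool.and_eq_true, Bool.and_eq_true, Golay.hammingNorm_word, Nat.beq_eq, beq_iff_eq,
        beq_iff_eq, and_assoc, bit_q0, bit_q1]) Golay.basis Golay.indep_basis 0,
    ← Set.ncard_coe_finset]
  congr 1
  ext c
  simp only [Finset.coe_filter, mem_Cfin, Set.mem_ofPred_eq, Golay.golay_eq, Golay.word_zero,
    zero_add]
  constructor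
  · rintro ⟨h1, h2⟩
    exact ⟨⟨c, h1, rfl⟩, h2⟩
  · rintro ⟨⟨v, hv, rfl⟩, h2⟩
    exact ⟨hv, h2⟩

theorem sum_classes (g : ℕ → Bool → Bool → ℕ) :
    ∑ c ∈ Cfin, g (hammingNorm c) (decide (c q0 = 1)) (decide (c q1 = 1)) =
      (clsK.map fun t => t.2.2.2 * g t.1 t.2.1 t.2.2.1).sum := by
  classical
  have hnd : (clsK.map fun t => (t.1, t.2.1, t.2.2.1)).Nodup := by decide
  have hmaps : ∀ c ∈ Cfin, (hammingNorm c, decide (c q0 = 1), decide (c q1 = 1)) ∈
      (clsK.map fun t => (t.1, t.2.1, t.2.2.1)).toFinset := by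
    intro c hc
    rw [List.mem_toFinset]
    have := Golay.weights c ((mem_Cfin c).1 hc)
    rcases this with h | h | h | h | h <;> rw [h] <;> cases decide (c q0 = 1) <;>
      cases decide (c q1 = 1) <;> decide
  rw [← Finset.sum_fiberwise_of_maps_to hmaps, List.sum_toFinset _ hnd, List.map_map]
  congr 1
  apply List.map_congr_left
  intro t ht
  simp only [Function.comp]
  have h1 : ∀ c ∈ Cfin.filter (fun c => (hammingNorm c, decide (c q0 = 1), decide (c q1 = 1)) =
      (t.1, t.2.1, t.2.2.1)),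
      g (hammingNorm c) (decide (c q0 = 1)) (decide (c q1 = 1)) = g t.1 t.2.1 t.2.2.1 := by
    intro c hc
    have h := (Finset.mem_filter.1 hc).2
    rw [Prod.ext_iff, Prod.ext_iff] at h
    simp only at h
    rw [h.1, h.2.1, h.2.2]
  rw [Finset.sum_congr rfl h1, Finset.sum_const, smul_eq_mul]
  congr 1
  rw [← clsK_count t ht, ← card_class]
  refine congrArg Finset.card (Finset.filter_congr ?_)
  intro c _
  rw [Prod.ext_iff, Prod.ext_iff]

/-- The number of vectors of a given norm with a prescribed sum of two coordinates. -/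
theorem count_pairsum (N : ℕ) (hN : N ≤ 64) (αs : List ℤ) (hnd : αs.Nodup)
    (hαs : ∀ a : ℤ, a ^ 2 ≤ (N : ℤ) → a ∈ αs) (t : ℤ) :
    {x : GolayPt → ℤ | x ∈ leechLattice ∧ sqNorm x = (N : ℤ) ∧ x q0 + x q1 = t}.ncard =
      (αs.map fun α =>
        (clsK.map fun k => k.2.2.2 * hvalP N true k.2.1 k.2.2.1 k.1 α (t - α)).sum +
        (clsK.map fun k => k.2.2.2 * hvalP N false k.2.1 k.2.2.1 k.1 α (t - α)).sum).sum := by
  classical
  have hset : {x : GolayPt → ℤ | x ∈ leechLattice ∧ sqNorm x = (N : ℤ) ∧ x q0 + x q1 = t} =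
      ↑((αs.toFinset ×ˢ ((Finset.univ : Finset Bool) ×ˢ Cfin)).biUnion
        (fun abc => FibP N abc.2.1 abc.2.2 abc.1 (t - abc.1))) := by
    ext x
    rw [Set.mem_ofPred_eq, Finset.mem_coe, Finset.mem_biUnion]
    constructor
    · rintro ⟨h1, h2, h3⟩
      obtain ⟨b, c, hc, hx⟩ := (mem_iff hN x).1 ⟨h1, h2⟩
      refine ⟨(x q0, b, c), ?_, ?_⟩
      · rw [Finset.mem_product, Finset.mem_product, List.mem_toFinset]
        refine ⟨hαs _ ?_, Finset.mem_univ _, (mem_Cfin c).2 hc⟩
        rw [← h2]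
        exact sqNorm_ge_single x q0
      · rw [mem_FibP]
        exact ⟨hx, rfl, by omega⟩
    · rintro ⟨⟨a, b, c⟩, habc, hx⟩
      rw [mem_FibP] at hx
      rw [Finset.mem_product, Finset.mem_product] at habc
      have h' := (mem_iff hN x).2 ⟨b, c, (mem_Cfin c).1 habc.2.2, hx.1⟩
      refine ⟨h'.1, h'.2, ?_⟩
      have e0 : x q0 = a := hx.2.1
      have e1 : x q1 = t - a := hx.2.2
      rw [e0, e1]
      ring
  rw [hset, Set.ncard_coe_finset, Finset.card_biUnion, Finset.sum_product,
    List.sum_toFinset _ hnd]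
  · refine congrArg List.sum (List.map_congr_left ?_)
    intro α _
    rw [Finset.sum_product, Fintype.sum_bool]
    simp only [card_FibP]
    rw [sum_classes (fun n a0 a1 => hvalP N true a0 a1 n α (t - α)),
      sum_classes (fun n a0 a1 => hvalP N false a0 a1 n α (t - α))]
  · rintro ⟨a, b, c⟩ _ ⟨a', b', c'⟩ _ hne
    rw [Function.onFun, Finset.disjoint_left]
    intro x hx hx'
    apply hne
    rw [mem_FibP] at hx hx'
    obtain ⟨e1, e2⟩ := FibF_inj hN hx.1 hx'.1
    have e0 : a = a' := by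
      have h1 : x q0 = a := hx.2.1
      have h2 : x q0 = a' := hx'.2.1
      rw [← h1, ← h2]
    have e1' : b = b' := e1
    have e2' : c = c' := e2
    rw [e0, e1', e2']

def αs5 : List ℤ := [-5, -4, -3, -2, -1, 0, 1, 2, 3, 4, 5]

theorem αs5_complete (a : ℤ) (h : a ^ 2 ≤ ((32 : ℕ) : ℤ)) : a ∈ αs5 := by
  have h' : a ^ 2 ≤ 32 := by exact_mod_cast h
  have h1 : -6 < a := by nlinarith
  have h2 : a < 6 := by nlinarith
  interval_cases a <;> decide

set_option maxRecDepth 100000 in
theorem census_m4 : (αs5.map fun α =>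
    (clsK.map fun k => k.2.2.2 * hvalP 32 true k.2.1 k.2.2.1 k.1 α (-4 - α)).sum +
    (clsK.map fun k => k.2.2.2 * hvalP 32 false k.2.1 k.2.2.1 k.1 α (-4 - α)).sum).sum = 4600 := by
  decide +kernel

set_option maxRecDepth 100000 in
theorem census_m2 : (αs5.map fun α =>
    (clsK.map fun k => k.2.2.2 * hvalP 32 true k.2.1 k.2.2.1 k.1 α (-2 - α)).sum +
    (clsK.map fun k => k.2.2.2 * hvalP 32 false k.2.1 k.2.2.1 k.1 α (-2 - α)).sum).sum =
      47104 := by
  decide +kernel

set_option maxRecDepth 100000 in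
theorem census_0 : (αs5.map fun α =>
    (clsK.map fun k => k.2.2.2 * hvalP 32 true k.2.1 k.2.2.1 k.1 α (0 - α)).sum +
    (clsK.map fun k => k.2.2.2 * hvalP 32 false k.2.1 k.2.2.1 k.1 α (0 - α)).sum).sum =
      93150 := by
  decide +kernel

theorem pair_m4 :
    {x : GolayPt → ℤ | x ∈ leechLattice ∧ sqNorm x = 32 ∧ x q0 + x q1 = -4}.ncard = 4600 := by
  have h := count_pairsum 32 (by norm_num) αs5 (by decide) αs5_complete (-4)
  rw [census_m4] at h
  exact_mod_cast h

theorem pair_m2 :
    {x : GolayPt → ℤ | x ∈ leechLattice ∧ sqNorm x = 32 ∧ x q0 + x q1 = -2}.ncard = 47104 := by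
  have h := count_pairsum 32 (by norm_num) αs5 (by decide) αs5_complete (-2)
  rw [census_m2] at h
  exact_mod_cast h

theorem pair_0 :
    {x : GolayPt → ℤ | x ∈ leechLattice ∧ sqNorm x = 32 ∧ x q0 + x q1 = 0}.ncard = 93150 := by
  have h := count_pairsum 32 (by norm_num) αs5 (by decide) αs5_complete 0
  rw [census_0] at h
  exact_mod_cast h

end Cnt
end Cfsg.Agent.Lib.Helper4
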