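import Cfsg.Agent.Lib.Helper4.Orb2
import Cfsg.Agent.Lib.Helper4.Cnt8

set_option autoImplicit false

namespace Cfsg.Agent.Lib.Helper4
namespace Orb

open Cfsg Cfsg.Agent.Lib.Helper28

/-- Automorphisms preserve the dot product. -/
theorem dot_pres (g : Equiv.Perm leechLattice) (hg : g ∈ Co0) (x y : leechLattice) :
    dotInt ((g x : leechLattice) : GolayPt → ℤ) ((g y : leechLattice) : GolayPt → ℤ) =
      dotInt (x : GolayPt → ℤ) (y : GolayPt → ℤ) := by
  have h1 := sqNorm_add ((g x : leechLattice) : GolayPt → ℤ) ((g y : leechLattice) : GolayPt → ℤ)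
  have h2 := sqNorm_add (x : GolayPt → ℤ) (y : GolayPt → ℤ)
  have h3 : sqNorm (((g x : leechLattice) : GolayPt → ℤ) + ((g y : leechLattice) : GolayPt → ℤ)) =
      sqNorm ((x : GolayPt → ℤ) + (y : GolayPt → ℤ)) := by
    rw [← AddSubgroup.coe_add, ← hg.1 x y, hg.2 (x + y), AddSubgroup.coe_add]
  rw [h3, hg.2 x, hg.2 y] at h1
  omega

theorem dot_aStar (w : GolayPt → ℤ) :
    dotInt ((aStar : leechLattice) : GolayPt → ℤ) w = 4 * (w Cnt.q0 + w Cnt.q1) := by
  show dotInt (LeechGen.pp p0 p1 4) w = _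
  unfold dotInt LeechGen.pp
  simp only [add_mul, ite_mul, zero_mul]
  rw [Finset.sum_add_distrib, Finset.sum_ite_eq' Finset.univ p0 (fun k => 4 * w k),
    Finset.sum_ite_eq' Finset.univ p1 (fun k => 4 * w k), if_pos (Finset.mem_univ _),
    if_pos (Finset.mem_univ _)]
  show 4 * w Cnt.q0 + 4 * w Cnt.q1 = _
  ring

/-- The census of a minimal vector is that of the standard one. -/
theorem census_transfer (v : leechLattice) (hv : sqNorm (v : GolayPt → ℤ) = 32) (k : ℤ) :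
    {w : GolayPt → ℤ | w ∈ leechLattice ∧ sqNorm w = 32 ∧
      dotInt (v : GolayPt → ℤ) w = k}.ncard =
    {w : GolayPt → ℤ | w ∈ leechLattice ∧ sqNorm w = 32 ∧
      dotInt ((aStar : leechLattice) : GolayPt → ℤ) w = k}.ncard := by
  obtain ⟨g, hg, hgv⟩ := (all_rel v hv).symm
  obtain ⟨T, hT⟩ : ∃ T : Set leechLattice, T = {w : leechLattice |
      sqNorm ((w : leechLattice) : GolayPt → ℤ) = 32 ∧
      dotInt ((aStar : leechLattice) : GolayPt → ℤ) ((w : leechLattice) : GolayPt → ℤ) = k} :=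
    ⟨_, rfl⟩
  have h1 : {w : GolayPt → ℤ | w ∈ leechLattice ∧ sqNorm w = 32 ∧
      dotInt (v : GolayPt → ℤ) w = k} =
      (fun w : leechLattice => ((g w : leechLattice) : GolayPt → ℤ)) '' T := by
    ext w
    rw [hT]
    constructor
    · rintro ⟨hw, hn, hd⟩
      refine ⟨g.symm ⟨w, hw⟩, ⟨?_, ?_⟩, ?_⟩
      · have := hg.2 (g.symm ⟨w, hw⟩)
        rw [Equiv.apply_symm_apply] at this
        rw [← this]
        exact hn
      · have := dot_pres g hg aStar (g.symm ⟨w, hw⟩)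
        rw [Equiv.apply_symm_apply, hgv] at this
        rw [← this]
        exact hd
      · show ((g (g.symm ⟨w, hw⟩) : leechLattice) : GolayPt → ℤ) = w
        rw [Equiv.apply_symm_apply]
    · rintro ⟨w', ⟨hn, hd⟩, rfl⟩
      refine ⟨(g w').2, ?_, ?_⟩
      · show sqNorm ((g w' : leechLattice) : GolayPt → ℤ) = 32
        rw [hg.2 w']
        exact hn
      · show dotInt (v : GolayPt → ℤ) ((g w' : leechLattice) : GolayPt → ℤ) = k
        rw [← hgv, dot_pres g hg]
        exact hd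
  have h2 : {w : GolayPt → ℤ | w ∈ leechLattice ∧ sqNorm w = 32 ∧
      dotInt ((aStar : leechLattice) : GolayPt → ℤ) w = k} =
      (fun w : leechLattice => (w : GolayPt → ℤ)) '' T := by
    ext w
    rw [hT]
    constructor
    · rintro ⟨hw, hn, hd⟩
      exact ⟨⟨w, hw⟩, ⟨hn, hd⟩, rfl⟩
    · rintro ⟨w', ⟨hn, hd⟩, rfl⟩
      exact ⟨w'.2, hn, hd⟩
  rw [h1, h2, Set.ncard_image_of_injective _ (fun a b h => g.injective (Subtype.ext h)),
    Set.ncard_image_of_injective _ Subtype.val_injective]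

theorem census_std (k t : ℤ) (hk : k = 4 * t) :
    {w : GolayPt → ℤ | w ∈ leechLattice ∧ sqNorm w = 32 ∧
      dotInt ((aStar : leechLattice) : GolayPt → ℤ) w = k} =
    {x : GolayPt → ℤ | x ∈ leechLattice ∧ sqNorm x = 32 ∧ x Cnt.q0 + x Cnt.q1 = t} := by
  ext w
  simp only [Set.mem_ofPred_eq, dot_aStar]
  constructor
  · rintro ⟨h1, h2, h3⟩
    exact ⟨h1, h2, by omega⟩
  · rintro ⟨h1, h2, h3⟩
    exact ⟨h1, h2, by omega⟩

/-- The census of minimal vectors by inner product with a fixed minimal vector. -/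
theorem census (v : GolayPt → ℤ) (hv : v ∈ leechLattice) (hvn : sqNorm v = 32) :
    {w : GolayPt → ℤ | w ∈ leechLattice ∧ sqNorm w = 32 ∧ dotInt v w = -16}.ncard = 4600 ∧
    {w : GolayPt → ℤ | w ∈ leechLattice ∧ sqNorm w = 32 ∧ dotInt v w = -8}.ncard = 47104 ∧
    {w : GolayPt → ℤ | w ∈ leechLattice ∧ sqNorm w = 32 ∧ dotInt v w = 0}.ncard = 93150 := by
  refine ⟨?_, ?_, ?_⟩
  · rw [census_transfer ⟨v, hv⟩ hvn (-16), census_std (-16) (-4) (by norm_num)]
    exact Cnt.pair_m4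
  · rw [census_transfer ⟨v, hv⟩ hvn (-8), census_std (-8) (-2) (by norm_num)]
    exact Cnt.pair_m2
  · rw [census_transfer ⟨v, hv⟩ hvn 0, census_std 0 0 (by norm_num)]
    exact Cnt.pair_0

end Orb
end Cfsg.Agent.Lib.Helper4
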