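import Mathlib

set_option autoImplicit false

namespace Cfsg.Agent.Lib.Helper4
namespace Cnt

open Finset

/-- The index group: (sum of squares, sum modulo 8). -/
abbrev G8 : Type := ℤ × ZMod 8

/-- One monomial for a coordinate value. -/
noncomputable def term (t : ℤ) : AddMonoidAlgebra ℕ G8 :=
  AddMonoidAlgebra.single ((t ^ 2, (t : ZMod 8)) : G8) 1

/-- Generating series of a finite set of coordinate values. -/
noncomputable def gen (c : Finset ℤ) : AddMonoidAlgebra ℕ G8 := ∑ t ∈ c, term t

theorem coeff_prod {α : Type*} [Fintype α] [DecidableEq α] (cand : α → Finset ℤ) (N : ℤ)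
    (s : ZMod 8) :
    (∏ i, gen (cand i)).coeff (N, s) =
      #{x ∈ Fintype.piFinset cand | ∑ i, x i ^ 2 = N ∧ ((∑ i, x i : ℤ) : ZMod 8) = s} := by
  classical
  unfold gen
  rw [Finset.prod_univ_sum]
  simp only [term, AddMonoidAlgebra.prod_single, AddMonoidAlgebra.coeff_sum,
    Finsupp.coe_finsetSum, Finset.sum_apply, AddMonoidAlgebra.coeff_single,
    Finsupp.single_apply, Finset.prod_const_one]
  rw [Finset.sum_boole]
  simp only [Nat.cast_id]
  refine congrArg Finset.card (Finset.filter_congr ?_)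
  intro x _
  rw [Prod.ext_iff, Prod.fst_sum, Prod.snd_sum, Int.cast_sum]

/-- Table lookup. -/
def look (T : List (List ℕ)) (N s : ℕ) : ℕ := (T.getD N []).getD s 0

/-- One multiplication step on tables. -/
def stepT (terms : List (ℕ × ℕ)) (Nmax : ℕ) (T : List (List ℕ)) : List (List ℕ) :=
  (List.range (Nmax + 1)).map fun N => (List.range 8).map fun s =>
    (terms.map fun du => if du.1 ≤ N then look T (N - du.1) ((s + 7 * du.2) % 8) else 0).sum

theorem getD_map_range {β : Type*} (f : ℕ → β) (n k : ℕ) (d : β) (h : k < n) :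
    ((List.range n).map f).getD k d = f k := by
  rw [List.getD_eq_getElem?_getD, List.getElem?_map, List.getElem?_range h]
  rfl

theorem look_stepT (terms : List (ℕ × ℕ)) (Nmax : ℕ) (T : List (List ℕ)) (N s : ℕ)
    (hN : N ≤ Nmax) (hs : s < 8) :
    look (stepT terms Nmax T) N s =
      (terms.map fun du => if du.1 ≤ N then look T (N - du.1) ((s + 7 * du.2) % 8) else 0).sum := by
  have hN' : N < Nmax + 1 := by omega
  unfold stepT look
  rw [getD_map_range _ _ _ _ hN', getD_map_range _ _ _ _ hs]

/-- Series of a list of encoded terms. -/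
noncomputable def tgen (terms : List (ℕ × ℕ)) : AddMonoidAlgebra ℕ G8 :=
  (terms.map fun du => AddMonoidAlgebra.single (((du.1 : ℤ), ((du.2 : ℕ) : ZMod 8)) : G8) (1 : ℕ)).sum

theorem coeff_mul_tgen (P : AddMonoidAlgebra ℕ G8) (terms : List (ℕ × ℕ)) (g : G8) :
    (P * tgen terms).coeff g =
      (terms.map fun du => P.coeff (g + -(((du.1 : ℤ), ((du.2 : ℕ) : ZMod 8)) : G8))).sum := by
  induction terms with
  | nil => simp [tgen]
  | cons a l ih =>
    have h1 : tgen (a :: l) =
        AddMonoidAlgebra.single (((a.1 : ℤ), ((a.2 : ℕ) : ZMod 8)) : G8) (1 : ℕ) + tgen l := by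
      simp [tgen]
    rw [h1, mul_add, AddMonoidAlgebra.coeff_add, Finsupp.add_apply, ih,
      AddMonoidAlgebra.coeff_mul_single_apply, mul_one, List.map_cons, List.sum_cons]

/-- A table represents a series up to degree `Nmax`. -/
def Rep (Nmax : ℕ) (T : List (List ℕ)) (P : AddMonoidAlgebra ℕ G8) : Prop :=
  (∀ N s, N ≤ Nmax → s < 8 → look T N s = P.coeff (((N : ℤ), ((s : ℕ) : ZMod 8)) : G8)) ∧
  (∀ (n : ℤ) (z : ZMod 8), n < 0 → P.coeff ((n, z) : G8) = 0)

theorem seven_eq : (7 : ZMod 8) = -1 := by decide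

theorem Rep.step {Nmax : ℕ} {T : List (List ℕ)} {P : AddMonoidAlgebra ℕ G8} (h : Rep Nmax T P)
    (terms : List (ℕ × ℕ)) : Rep Nmax (stepT terms Nmax T) (P * tgen terms) := by
  refine ⟨fun N s hN hs => ?_, fun n z hn => ?_⟩
  · rw [look_stepT terms Nmax T N s hN hs, coeff_mul_tgen]
    congr 1
    apply List.map_congr_left
    intro du _
    by_cases hd : du.1 ≤ N
    · rw [if_pos hd, h.1 (N - du.1) ((s + 7 * du.2) % 8) (by omega) (Nat.mod_lt _ (by norm_num))]
      congr 1
      apply Prod.ext
      · show ((N - du.1 : ℕ) : ℤ) = (N : ℤ) + -(du.1 : ℤ)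
        rw [Nat.cast_sub hd]
        ring
      · show (((s + 7 * du.2) % 8 : ℕ) : ZMod 8) = (s : ZMod 8) + -((du.2 : ℕ) : ZMod 8)
        rw [ZMod.natCast_mod]
        push_cast
        rw [seven_eq]
        ring
    · rw [if_neg hd]
      symm
      apply h.2
      show (N : ℤ) + -(du.1 : ℤ) < 0
      omega
  · rw [coeff_mul_tgen]
    apply List.sum_eq_zero
    intro v hv
    rw [List.mem_map] at hv
    obtain ⟨du, _, rfl⟩ := hv
    apply h.2
    show n + -(du.1 : ℤ) < 0
    omega

theorem Rep.base (Nmax : ℕ) : Rep Nmax [[1]] 1 := by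
  refine ⟨fun N s _ hs => ?_, fun n z hn => ?_⟩
  · rw [AddMonoidAlgebra.one_def, AddMonoidAlgebra.coeff_single, Finsupp.single_apply]
    rcases Nat.eq_zero_or_pos N with rfl | hN
    · rcases Nat.eq_zero_or_pos s with rfl | hs0
      · have h0 : (0 : G8) = ((((0 : ℕ) : ℤ)), (((0 : ℕ)) : ZMod 8)) := by
          simp [Prod.ext_iff]
        rw [if_pos h0]
        rfl
      · have h1 : ¬ ((0 : G8) = (((0 : ℕ) : ℤ), ((s : ℕ) : ZMod 8))) := by
          intro h
          have h2 := congrArg Prod.snd h
          simp only [Prod.snd_zero] at h2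
          have h3 := (ZMod.natCast_eq_zero_iff s 8).1 h2.symm
          have := Nat.le_of_dvd hs0 h3
          omega
        rw [if_neg h1]
        obtain ⟨k, rfl⟩ := Nat.exists_eq_succ_of_ne_zero hs0.ne'
        simp [look]
    · have h1 : ¬ ((0 : G8) = (((N : ℕ) : ℤ), ((s : ℕ) : ZMod 8))) := by
        intro h
        have h2 := congrArg Prod.fst h
        simp only [Prod.fst_zero] at h2
        omega
      rw [if_neg h1]
      obtain ⟨k, rfl⟩ := Nat.exists_eq_succ_of_ne_zero hN.ne'
      simp [look]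
  · rw [AddMonoidAlgebra.one_def, AddMonoidAlgebra.coeff_single, Finsupp.single_apply]
    have h1 : ¬ ((0 : G8) = (n, z)) := by
      intro h
      have h2 := congrArg Prod.fst h
      simp only [Prod.fst_zero] at h2
      omega
    rw [if_neg h1]

/-- Run a list of multiplication steps. -/
def runT (Nmax : ℕ) : List (List (ℕ × ℕ)) → List (List ℕ) → List (List ℕ)
  | [], T => T
  | ts :: rest, T => runT Nmax rest (stepT ts Nmax T)

theorem Rep.run {Nmax : ℕ} (steps : List (List (ℕ × ℕ))) :
    ∀ {T : List (List ℕ)} {P : AddMonoidAlgebra ℕ G8}, Rep Nmax T P →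
      Rep Nmax (runT Nmax steps T) (P * (steps.map tgen).prod) := by
  induction steps with
  | nil =>
    intro T P h
    simpa [runT] using h
  | cons a l ih =>
    intro T P h
    have := ih (h.step a)
    rw [mul_assoc] at this
    simpa [runT] using this

/-- Encoding of a coordinate value. -/
def enc (t : ℤ) : ℕ × ℕ := ((t ^ 2).toNat, (t % 8).toNat)

theorem term_eq (t : ℤ) :
    term t = AddMonoidAlgebra.single ((((enc t).1 : ℤ), (((enc t).2 : ℕ) : ZMod 8)) : G8) (1 : ℕ) := by
  unfold term enc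
  congr 1
  apply Prod.ext
  · show t ^ 2 = (((t ^ 2).toNat : ℕ) : ℤ)
    rw [Int.toNat_of_nonneg (sq_nonneg t)]
  · show (t : ZMod 8) = (((t % 8).toNat : ℕ) : ZMod 8)
    have h1 : (((t % 8).toNat : ℕ) : ZMod 8) = (((t % 8).toNat : ℤ) : ZMod 8) := by
      rw [Int.cast_natCast]
    rw [h1, Int.toNat_of_nonneg (Int.emod_nonneg t (by norm_num))]
    exact (ZMod.intCast_mod t 8).symm

theorem gen_toFinset (ts : List ℤ) (hts : ts.Nodup) : gen ts.toFinset = tgen (ts.map enc) := by
  unfold gen tgen
  rw [List.sum_toFinset _ hts, List.map_map]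
  congr 1
  apply List.map_congr_left
  intro t _
  exact term_eq t

/-- The main counting statement: a two-kind family of candidate lists. -/
theorem card_fiber {α : Type*} [Fintype α] [DecidableEq α] (c : α → Prop) [DecidablePred c]
    (tsA tsB : List ℤ) (hA : tsA.Nodup) (hB : tsB.Nodup) (w v : ℕ)
    (hw : #{i | c i} = w) (hv : #{i | ¬ c i} = v) (N s : ℕ) (hs : s < 8) :
    #{x ∈ Fintype.piFinset (fun i => if c i then tsB.toFinset else tsA.toFinset) |
        ∑ i, x i ^ 2 = (N : ℤ) ∧ ((∑ i, x i : ℤ) : ZMod 8) = ((s : ℕ) : ZMod 8)} =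
      look (runT N (List.replicate w (tsB.map enc) ++ List.replicate v (tsA.map enc)) [[1]]) N s := by
  rw [← coeff_prod]
  have h1 : (∏ i, gen (if c i then tsB.toFinset else tsA.toFinset)) =
      1 * ((List.replicate w (tsB.map enc) ++ List.replicate v (tsA.map enc)).map tgen).prod := by
    have h2 : ∀ i, gen (if c i then tsB.toFinset else tsA.toFinset) =
        if c i then gen tsB.toFinset else gen tsA.toFinset := by
      intro i
      split_ifs <;> rfl
    simp only [h2]
    rw [Finset.prod_ite, Finset.prod_const, Finset.prod_const, hw, hv, one_mul, List.map_append,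
      List.map_replicate, List.map_replicate, List.prod_append, List.prod_replicate,
      List.prod_replicate, gen_toFinset tsA hA, gen_toFinset tsB hB]
  rw [h1]
  exact (((Rep.base N).run _).1 N s le_rfl hs).symm

end Cnt
end Cfsg.Agent.Lib.Helper4
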