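import Cfsg.Agent.Lib.Helper28.Leech
import Cfsg.Agent.Lib.Helper4.Golay2

set_option autoImplicit false

namespace Cfsg.Agent.Lib.Helper4
namespace Leech

open Cfsg.Agent.Lib.Helper28

theorem z2_add_one (a : ZMod 2) : a + 1 = 1 ↔ a = 0 := by
  revert a
  decide

theorem zword_eq_zero (y : GolayPt → ℤ) (i : GolayPt) : zword y i = 0 ↔ (2 : ℤ) ∣ y i := by
  unfold zword
  exact ZMod.intCast_zmod_eq_zero_iff_dvd (y i) 2

theorem zword_eq_one (y : GolayPt → ℤ) (i : GolayPt) : zword y i = 1 ↔ ¬ (2 : ℤ) ∣ y i := by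
  rw [← zword_eq_zero]
  have : ∀ a : ZMod 2, a = 1 ↔ ¬ a = 0 := by decide
  exact this _

/-- A vector with the structure of `leech_struct` lies in the defining set. -/
theorem mem_leechSet_of_struct (x : GolayPt → ℤ) (m : ℤ) (y : GolayPt → ℤ)
    (hxy : ∀ i, x i = m + 2 * y i) (hc : zword y ∈ golayCode)
    (hsum : (∑ i, x i) ≡ 4 * m [ZMOD 8]) : x ∈ leechSet := by
  refine ⟨m, fun i => ?_, hsum, fun k => ?_⟩
  · rw [hxy i]
    exact Int.modEq_iff_dvd.2 ⟨-y i, by ring⟩
  · by_cases hk : (2 : ℤ) ∣ k - m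
    · obtain ⟨j, hj⟩ := hk
      by_cases hj2 : (2 : ℤ) ∣ j
      · refine ⟨zword y + 1, Submodule.add_mem _ hc one_mem_golay, ?_⟩
        ext i
        rw [mem_support₂, Pi.add_apply, Pi.one_apply, z2_add_one, zword_eq_zero,
          Finset.mem_filter, Int.modEq_iff_dvd, hxy i]
        simp only [Finset.mem_univ, true_and]
        omega
      · refine ⟨zword y, hc, ?_⟩
        ext i
        rw [mem_support₂, zword_eq_one, Finset.mem_filter, Int.modEq_iff_dvd, hxy i]
        simp only [Finset.mem_univ, true_and]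
        omega
    · refine ⟨0, Submodule.zero_mem _, ?_⟩
      ext i
      rw [mem_support₂, Finset.mem_filter, Int.modEq_iff_dvd, hxy i]
      simp only [Pi.zero_apply, zero_ne_one, Finset.mem_univ, true_and, false_iff]
      omega

theorem leech_eq : (leechLattice : Set (GolayPt → ℤ)) = leechSet := by
  apply Set.Subset.antisymm
  · intro x hx
    obtain ⟨m, y, hxy, hc, hsum⟩ := leech_struct x hx
    exact mem_leechSet_of_struct x m y hxy hc hsum
  · exact AddSubgroup.subset_closure

theorem mem_leech_of_struct (x : GolayPt → ℤ) (m : ℤ) (y : GolayPt → ℤ)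
    (hxy : ∀ i, x i = m + 2 * y i) (hc : zword y ∈ golayCode)
    (hsum : (∑ i, x i) ≡ 4 * m [ZMOD 8]) : x ∈ leechLattice :=
  AddSubgroup.subset_closure (mem_leechSet_of_struct x m y hxy hc hsum)

end Leech
end Cfsg.Agent.Lib.Helper4
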