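import Cfsg.Agent.Lib.Helper4.Cnt1
import Cfsg.Agent.Lib.Helper4.Leech

set_option autoImplicit false

namespace Cfsg.Agent.Lib.Helper4
namespace Cnt

open Finset Cfsg Cfsg.Agent.Lib.Helper28

/-- Candidate coordinate values off the support. -/
def clA (b : Bool) : List ℤ := if b then [1, -3, 5, -7] else [0, 4, -4, 8, -8]

/-- Candidate coordinate values on the support. -/
def clB (b : Bool) : List ℤ := if b then [-1, 3, -5, 7] else [2, -2, 6, -6]

def pz (b : Bool) : ℤ := if b then 1 else 0

def sv (b : Bool) : ℕ := if b then 4 else 0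

def encA (b : Bool) : List (ℕ × ℕ) :=
  if b then [(1, 1), (9, 5), (25, 5), (49, 1)] else [(0, 0), (16, 4), (16, 4), (64, 0), (64, 0)]

def encB (b : Bool) : List (ℕ × ℕ) :=
  if b then [(1, 7), (9, 3), (25, 3), (49, 7)] else [(4, 2), (4, 6), (36, 6), (36, 2)]

theorem encA_eq (b : Bool) : (clA b).map enc = encA b := by cases b <;> decide +kernel

theorem encB_eq (b : Bool) : (clB b).map enc = encB b := by cases b <;> decide +kernel

theorem clA_nodup (b : Bool) : (clA b).Nodup := by cases b <;> decide

theorem clB_nodup (b : Bool) : (clB b).Nodup := by cases b <;> decide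

theorem clA_sound (b : Bool) : ∀ t ∈ clA b, t % 4 = pz b := by cases b <;> decide

theorem clB_sound (b : Bool) : ∀ t ∈ clB b, t % 4 = pz b + 2 := by cases b <;> decide

theorem cl_complete (t : ℤ) (ht : t ^ 2 ≤ 64) (b : Bool) :
    (t % 4 = pz b → t ∈ clA b) ∧ (t % 4 = pz b + 2 → t ∈ clB b) := by
  have h1 : -8 ≤ t := by nlinarith
  have h2 : t ≤ 8 := by nlinarith
  interval_cases t <;> cases b <;> decide

theorem pz_true : pz true = 1 := rfl

theorem pz_false : pz false = 0 := rfl

theorem sv_lt (b : Bool) : sv b < 8 := by cases b <;> decide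

/-- The vectors of a given parity and code word. -/
noncomputable def FibF (N : ℕ) (b : Bool) (c : GolayPt → ZMod 2) : Finset (GolayPt → ℤ) :=
  {x ∈ Fintype.piFinset (fun i => if c i = 1 then (clB b).toFinset else (clA b).toFinset) |
    ∑ i, x i ^ 2 = (N : ℤ) ∧ ((∑ i, x i : ℤ) : ZMod 8) = ((sv b : ℕ) : ZMod 8)}

theorem mem_FibF {N : ℕ} (hN : N ≤ 64) (b : Bool) (c : GolayPt → ZMod 2) (x : GolayPt → ℤ) :
    x ∈ FibF N b c ↔ (∀ i, x i % 4 = pz b + 2 * (if c i = 1 then 1 else 0)) ∧
      sqNorm x = (N : ℤ) ∧ (∑ i, x i) ≡ 4 * pz b [ZMOD 8] := by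
  unfold FibF
  rw [Finset.mem_filter, Fintype.mem_piFinset]
  have hs : ((sv b : ℕ) : ZMod 8) = ((4 * pz b : ℤ) : ZMod 8) := by
    cases b <;> simp [sv, pz]
  rw [hs, ZMod.intCast_eq_intCast_iff]
  constructor
  · rintro ⟨h1, h2, h3⟩
    refine ⟨fun i => ?_, h2, h3⟩
    have h := h1 i
    by_cases hc : c i = 1
    · rw [if_pos hc, List.mem_toFinset] at h
      rw [if_pos hc, clB_sound b _ h]
      ring
    · rw [if_neg hc, List.mem_toFinset] at h
      rw [if_neg hc, clA_sound b _ h]
      ring
  · rintro ⟨h1, h2, h3⟩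
    refine ⟨fun i => ?_, h2, h3⟩
    have hle : x i ^ 2 ≤ 64 := by
      have h4 : x i ^ 2 ≤ ∑ j, x j ^ 2 :=
        Finset.single_le_sum (fun j _ => sq_nonneg (x j)) (Finset.mem_univ i)
      have h5 : ∑ j, x j ^ 2 = (N : ℤ) := h2
      have h6 : (N : ℤ) ≤ 64 := by exact_mod_cast hN
      linarith
    have h := h1 i
    by_cases hc : c i = 1
    · rw [if_pos hc] at h ⊢
      rw [List.mem_toFinset]
      exact (cl_complete _ hle b).2 (by rw [h]; ring)
    · rw [if_neg hc] at h ⊢
      rw [List.mem_toFinset]
      exact (cl_complete _ hle b).1 (by rw [h]; ring)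

theorem mem_iff {N : ℕ} (hN : N ≤ 64) (x : GolayPt → ℤ) :
    (x ∈ leechLattice ∧ sqNorm x = (N : ℤ)) ↔ ∃ b c, c ∈ golayCode ∧ x ∈ FibF N b c := by
  constructor
  · rintro ⟨hx, hn⟩
    obtain ⟨m, y, hxy, hc, hsum⟩ := leech_struct x hx
    have hcq : ∀ q : ℤ, zword (fun i => q + y i) ∈ golayCode := by
      intro q
      rw [zword_const_add]
      exact Submodule.add_mem _ (Submodule.smul_mem _ _ one_mem_golay) hc
    have hone : ∀ (q : ℤ) (i : GolayPt), zword (fun i => q + y i) i = 1 ↔ ¬ (2 : ℤ) ∣ q + y i :=
      fun q i => Leech.zword_eq_one (fun i => q + y i) i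
    rcases Int.emod_two_eq_zero_or_one m with hm | hm
    · refine ⟨false, zword (fun i => m / 2 + y i), hcq _, ?_⟩
      rw [mem_FibF hN]
      refine ⟨fun i => ?_, hn, ?_⟩
      · have h1 := hxy i
        by_cases hd : (2 : ℤ) ∣ m / 2 + y i
        · rw [if_neg (fun h => ((hone _ i).1 h) hd)]
          simp only [pz_true, pz_false]
          omega
        · rw [if_pos ((hone _ i).2 hd)]
          simp only [pz_true, pz_false]
          omega
      · simp only [pz_true, pz_false]
        unfold Int.ModEq at hsum ⊢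
        omega
    · refine ⟨true, zword (fun i => m / 2 + y i), hcq _, ?_⟩
      rw [mem_FibF hN]
      refine ⟨fun i => ?_, hn, ?_⟩
      · have h1 := hxy i
        by_cases hd : (2 : ℤ) ∣ m / 2 + y i
        · rw [if_neg (fun h => ((hone _ i).1 h) hd)]
          simp only [pz_true, pz_false]
          omega
        · rw [if_pos ((hone _ i).2 hd)]
          simp only [pz_true, pz_false]
          omega
      · simp only [pz_true, pz_false]
        unfold Int.ModEq at hsum ⊢
        omega
  · rintro ⟨b, c, hc, hx⟩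
    rw [mem_FibF hN] at hx
    obtain ⟨h1, h2, h3⟩ := hx
    refine ⟨Leech.mem_leech_of_struct x (pz b) (fun i => x i / 2) (fun i => ?_) ?_ h3, h2⟩
    · have h := h1 i
      cases b <;> by_cases hc1 : c i = 1 <;>
        simp only [hc1, if_true, if_false, pz_true, pz_false] at h ⊢ <;> omega
    · have : zword (fun i => x i / 2) = c := by
        funext i
        have h := h1 i
        by_cases hc1 : c i = 1
        · rw [hc1]
          rw [if_pos hc1] at h
          refine (Leech.zword_eq_one _ i).2 ?_
          cases b <;> simp only [pz_true, pz_false] at h <;> omega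
        · rw [if_neg hc1] at h
          have hc0 : c i = 0 := by
            rcases z2_cases (c i) with h0 | h0
            · exact h0
            · exact absurd h0 hc1
          rw [hc0]
          refine (Leech.zword_eq_zero _ i).2 ?_
          cases b <;> simp only [pz_true, pz_false] at h <;> omega
      rw [this]
      exact hc

/-- The code words as a finite set. -/
noncomputable def Cfin : Finset (GolayPt → ZMod 2) := by
  classical exact Finset.univ.filter (fun c => c ∈ golayCode)

theorem mem_Cfin (c : GolayPt → ZMod 2) : c ∈ Cfin ↔ c ∈ golayCode := by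
  classical
  unfold Cfin
  simp

theorem z2_eq_of_iff : ∀ a b : ZMod 2, (a = 1 ↔ b = 1) → a = b := by decide

theorem ncard_eq {N : ℕ} (hN : N ≤ 64) :
    {x : GolayPt → ℤ | x ∈ leechLattice ∧ sqNorm x = (N : ℤ)}.ncard =
      ∑ b : Bool, ∑ c ∈ Cfin, #(FibF N b c) := by
  classical
  have hset : {x : GolayPt → ℤ | x ∈ leechLattice ∧ sqNorm x = (N : ℤ)} =
      ↑(((Finset.univ : Finset Bool) ×ˢ Cfin).biUnion (fun bc => FibF N bc.1 bc.2)) := by
    ext x
    rw [Set.mem_ofPred_eq, mem_iff hN, Finset.mem_coe, Finset.mem_biUnion]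
    constructor
    · rintro ⟨b, c, hc, hx⟩
      exact ⟨(b, c), Finset.mem_product.2 ⟨Finset.mem_univ _, (mem_Cfin c).2 hc⟩, hx⟩
    · rintro ⟨⟨b, c⟩, hbc, hx⟩
      exact ⟨b, c, (mem_Cfin c).1 (Finset.mem_product.1 hbc).2, hx⟩
  rw [hset, Set.ncard_coe_finset, Finset.card_biUnion, Finset.sum_product]
  rintro ⟨b, c⟩ _ ⟨b', c'⟩ _ hne
  rw [Function.onFun, Finset.disjoint_left]
  intro x hx hx'
  apply hne
  rw [mem_FibF hN] at hx hx'
  dsimp only at hx hx'
  have hb : b = b' := by
    have h1 := hx.1 none
    have h2 := hx'.1 none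
    rw [h1] at h2
    cases b <;> cases b' <;> simp only [pz_true, pz_false] at h2 <;>
      first | rfl | (exfalso; split_ifs at h2 <;> omega)
  subst hb
  have hc : c = c' := by
    funext i
    apply z2_eq_of_iff
    have h1 := hx.1 i
    have h2 := hx'.1 i
    rw [h1] at h2
    constructor
    · intro h
      by_contra h'
      rw [if_pos h, if_neg h'] at h2
      omega
    · intro h
      by_contra h'
      rw [if_pos h, if_neg h'] at h2
      omega
  rw [hc]

/-- The count for one code word of weight `w`. -/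
def hval (N : ℕ) (b : Bool) (w : ℕ) : ℕ :=
  look (runT N (List.replicate w (encB b) ++ List.replicate (24 - w) (encA b)) [[1]]) N (sv b)

theorem card_FibF (N : ℕ) (b : Bool) (c : GolayPt → ZMod 2) :
    #(FibF N b c) = hval N b (hammingNorm c) := by
  have hw : #{i | c i = 1} = hammingNorm c := by
    unfold hammingNorm
    refine congrArg Finset.card (Finset.filter_congr ?_)
    intro i _
    exact (z2_ne_zero_iff (c i)).symm
  have hv : #{i | ¬ c i = 1} = 24 - hammingNorm c := by
    have h1 := Finset.card_filter_add_card_filter_not (s := (Finset.univ : Finset GolayPt))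
      (fun i => c i = 1)
    rw [Finset.card_univ, card_golayPt, hw] at h1
    omega
  have h := card_fiber (fun i => c i = 1) (clA b) (clB b) (clA_nodup b) (clB_nodup b)
    (hammingNorm c) (24 - hammingNorm c) hw hv N (sv b) (sv_lt b)
  rw [encA_eq, encB_eq] at h
  exact h

/-- Number of code words of a given weight. -/
theorem card_Cfin_weight (n : ℕ) :
    #(Cfin.filter (fun c => hammingNorm c = n)) =
      Golay.countComb (fun a => Nat.beq (Golay.pc a) n) Golay.basis 0 := by
  classical
  rw [← Golay.card_weight n, ← Set.ncard_coe_finset]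
  congr 1
  ext c
  simp [mem_Cfin]

theorem count16 : Golay.countComb (fun a => Nat.beq (Golay.pc a) 16) Golay.basis 0 = 759 := by
  decide +kernel

theorem count0 : Golay.countComb (fun a => Nat.beq (Golay.pc a) 0) Golay.basis 0 = 1 := by
  decide +kernel

theorem count24 : Golay.countComb (fun a => Nat.beq (Golay.pc a) 24) Golay.basis 0 = 1 := by
  decide +kernel

theorem sum_weights (h : ℕ → ℕ) :
    ∑ c ∈ Cfin, h (hammingNorm c) = h 0 + 759 * h 8 + 2576 * h 12 + 759 * h 16 + h 24 := by
  classical
  have hmaps : ∀ c ∈ Cfin, hammingNorm c ∈ ({0, 8, 12, 16, 24} : Finset ℕ) := by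
    intro c hc
    have := Golay.weights c ((mem_Cfin c).1 hc)
    simp only [Finset.mem_insert, Finset.mem_singleton]
    exact this
  rw [← Finset.sum_fiberwise_of_maps_to hmaps]
  have hin : ∀ n, ∑ c ∈ Cfin with hammingNorm c = n, h (hammingNorm c) =
      #(Cfin.filter (fun c => hammingNorm c = n)) * h n := by
    intro n
    rw [Finset.sum_congr rfl (fun c hc => by rw [(Finset.mem_filter.1 hc).2]), Finset.sum_const,
      smul_eq_mul]
  simp only [hin, card_Cfin_weight]
  rw [Finset.sum_insert (by decide), Finset.sum_insert (by decide), Finset.sum_insert (by decide),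
    Finset.sum_insert (by decide), Finset.sum_singleton, count0, Golay.count8, Golay.count12,
    count16, count24]
  ring

theorem count_norm {N : ℕ} (hN : N ≤ 64) :
    {x : GolayPt → ℤ | x ∈ leechLattice ∧ sqNorm x = (N : ℤ)}.ncard =
      (hval N true 0 + 759 * hval N true 8 + 2576 * hval N true 12 + 759 * hval N true 16 +
        hval N true 24) +
      (hval N false 0 + 759 * hval N false 8 + 2576 * hval N false 12 + 759 * hval N false 16 +
        hval N false 24) := by
  rw [ncard_eq hN, Fintype.sum_bool]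
  simp only [card_FibF]
  rw [sum_weights, sum_weights]

end Cnt
end Cfsg.Agent.Lib.Helper4
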