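import Cfsg.Agent.Lib.Helper4.Cnt2

set_option autoImplicit false

namespace Cfsg.Agent.Lib.Helper4
namespace Cnt

open Cfsg

set_option maxRecDepth 100000 in
theorem total32 :
    (hval 32 true 0 + 759 * hval 32 true 8 + 2576 * hval 32 true 12 + 759 * hval 32 true 16 +
        hval 32 true 24) +
      (hval 32 false 0 + 759 * hval 32 false 8 + 2576 * hval 32 false 12 + 759 * hval 32 false 16 +
        hval 32 false 24) = 196560 := by
  decide +kernel

theorem count32 :
    {x : GolayPt → ℤ | x ∈ leechLattice ∧ sqNorm x = 32}.ncard = 196560 := by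
  have h := count_norm (N := 32) (by norm_num)
  rw [total32] at h
  exact_mod_cast h

set_option maxRecDepth 100000 in
theorem total48 :
    (hval 48 true 0 + 759 * hval 48 true 8 + 2576 * hval 48 true 12 + 759 * hval 48 true 16 +
        hval 48 true 24) +
      (hval 48 false 0 + 759 * hval 48 false 8 + 2576 * hval 48 false 12 + 759 * hval 48 false 16 +
        hval 48 false 24) = 16773120 := by
  decide +kernel

theorem count48 :
    {x : GolayPt → ℤ | x ∈ leechLattice ∧ sqNorm x = 48}.ncard = 16773120 := by
  have h := count_norm (N := 48) (by norm_num)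
  rw [total48] at h
  exact_mod_cast h

set_option maxRecDepth 100000 in
theorem total64 :
    (hval 64 true 0 + 759 * hval 64 true 8 + 2576 * hval 64 true 12 + 759 * hval 64 true 16 +
        hval 64 true 24) +
      (hval 64 false 0 + 759 * hval 64 false 8 + 2576 * hval 64 false 12 + 759 * hval 64 false 16 +
        hval 64 false 24) = 398034000 := by
  decide +kernel

theorem count64 :
    {x : GolayPt → ℤ | x ∈ leechLattice ∧ sqNorm x = 64}.ncard = 398034000 := by
  have h := count_norm (N := 64) (by norm_num)
  rw [total64] at h
  exact_mod_cast h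

end Cnt
end Cfsg.Agent.Lib.Helper4
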