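import Cfsg.Agent.Lib.Helper4.Cnt2

set_option autoImplicit false

namespace Cfsg.Agent.Lib.Helper4
namespace Cnt

open Finset Cfsg Cfsg.Agent.Lib.Helper28

theorem FibF_inj {N : ℕ} (hN : N ≤ 64) {b b' : Bool} {c c' : GolayPt → ZMod 2}
    {x : GolayPt → ℤ} (hx : x ∈ FibF N b c) (hx' : x ∈ FibF N b' c') : b = b' ∧ c = c' := by
  rw [mem_FibF hN] at hx hx'
  have hb : b = b' := by
    have h1 := hx.1 none
    have h2 := hx'.1 none
    rw [h1] at h2
    cases b <;> cases b' <;> simp only [pz_true, pz_false] at h2 <;>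
      first | rfl | (exfalso; split_ifs at h2 <;> omega)
  subst hb
  refine ⟨rfl, ?_⟩
  funext i
  apply z2_eq_of_iff
  have h1 := hx.1 i
  have h2 := hx'.1 i
  rw [h1] at h2
  constructor
  · intro h
    by_contra h'
    rw [if_pos h, if_neg h'] at h2
    omega
  · intro h
    by_contra h'
    rw [if_pos h, if_neg h'] at h2
    omega

/-- The vectors of a given parity and code word with all coordinates satisfying `Q`. -/
noncomputable def FibQ (Q : ℤ → Prop) [DecidablePred Q] (N : ℕ) (b : Bool)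
    (c : GolayPt → ZMod 2) : Finset (GolayPt → ℤ) :=
  {x ∈ Fintype.piFinset (fun i => if c i = 1 then ((clB b).filter (fun t => decide (Q t))).toFinset
      else ((clA b).filter (fun t => decide (Q t))).toFinset) |
    ∑ i, x i ^ 2 = (N : ℤ) ∧ ((∑ i, x i : ℤ) : ZMod 8) = ((sv b : ℕ) : ZMod 8)}

theorem mem_FibQ (Q : ℤ → Prop) [DecidablePred Q] (N : ℕ) (b : Bool) (c : GolayPt → ZMod 2)
    (x : GolayPt → ℤ) : x ∈ FibQ Q N b c ↔ x ∈ FibF N b c ∧ ∀ i, Q (x i) := by
  unfold FibQ FibF
  rw [Finset.mem_filter, Finset.mem_filter, Fintype.mem_piFinset, Fintype.mem_piFinset]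
  constructor
  · rintro ⟨h1, h2⟩
    refine ⟨⟨fun i => ?_, h2⟩, fun i => ?_⟩
    · have h := h1 i
      by_cases hc : c i = 1
      · rw [if_pos hc, List.mem_toFinset, List.mem_filter] at h
        rw [if_pos hc, List.mem_toFinset]
        exact h.1
      · rw [if_neg hc, List.mem_toFinset, List.mem_filter] at h
        rw [if_neg hc, List.mem_toFinset]
        exact h.1
    · have h := h1 i
      by_cases hc : c i = 1
      · rw [if_pos hc, List.mem_toFinset, List.mem_filter] at h
        exact of_decide_eq_true h.2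
      · rw [if_neg hc, List.mem_toFinset, List.mem_filter] at h
        exact of_decide_eq_true h.2
  · rintro ⟨⟨h1, h2⟩, h3⟩
    refine ⟨fun i => ?_, h2⟩
    have h := h1 i
    by_cases hc : c i = 1
    · rw [if_pos hc, List.mem_toFinset] at h
      rw [if_pos hc, List.mem_toFinset, List.mem_filter]
      exact ⟨h, decide_eq_true (h3 i)⟩
    · rw [if_neg hc, List.mem_toFinset] at h
      rw [if_neg hc, List.mem_toFinset, List.mem_filter]
      exact ⟨h, decide_eq_true (h3 i)⟩

theorem setQ_eq (Q : ℤ → Prop) [DecidablePred Q] {N : ℕ} (hN : N ≤ 64) :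
    {x : GolayPt → ℤ | x ∈ leechLattice ∧ sqNorm x = (N : ℤ) ∧ ∀ i, Q (x i)} =
      ↑(((Finset.univ : Finset Bool) ×ˢ Cfin).biUnion (fun bc => FibQ Q N bc.1 bc.2)) := by
  ext x
  rw [Set.mem_ofPred_eq, Finset.mem_coe, Finset.mem_biUnion]
  constructor
  · rintro ⟨h1, h2, h3⟩
    obtain ⟨b, c, hc, hx⟩ := (mem_iff hN x).1 ⟨h1, h2⟩
    exact ⟨(b, c), Finset.mem_product.2 ⟨Finset.mem_univ _, (mem_Cfin c).2 hc⟩,
      (mem_FibQ Q N b c x).2 ⟨hx, h3⟩⟩
  · rintro ⟨⟨b, c⟩, hbc, hx⟩
    have h := (mem_FibQ Q N b c x).1 hx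
    have h' := (mem_iff hN x).2 ⟨b, c, (mem_Cfin c).1 (Finset.mem_product.1 hbc).2, h.1⟩
    exact ⟨h'.1, h'.2, h.2⟩

theorem finiteQ (Q : ℤ → Prop) [DecidablePred Q] {N : ℕ} (hN : N ≤ 64) :
    {x : GolayPt → ℤ | x ∈ leechLattice ∧ sqNorm x = (N : ℤ) ∧ ∀ i, Q (x i)}.Finite := by
  rw [setQ_eq Q hN]
  exact Finset.finite_toSet _

/-- The table value for explicit encoded candidate lists. -/
def hvalL (N s : ℕ) (eA eB : List (ℕ × ℕ)) (w : ℕ) : ℕ :=
  look (runT N (List.replicate w eB ++ List.replicate (24 - w) eA) [[1]]) N s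

theorem card_FibQ (Q : ℤ → Prop) [DecidablePred Q] (N : ℕ) (b : Bool) (c : GolayPt → ZMod 2) :
    #(FibQ Q N b c) = hvalL N (sv b) (((clA b).filter (fun t => decide (Q t))).map enc)
      (((clB b).filter (fun t => decide (Q t))).map enc) (hammingNorm c) := by
  have hw : #{i | c i = 1} = hammingNorm c := by
    unfold hammingNorm
    refine congrArg Finset.card (Finset.filter_congr ?_)
    intro i _
    exact (z2_ne_zero_iff (c i)).symm
  have hv : #{i | ¬ c i = 1} = 24 - hammingNorm c := by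
    have h1 := Finset.card_filter_add_card_filter_not (s := (Finset.univ : Finset GolayPt))
      (fun i => c i = 1)
    rw [Finset.card_univ, card_golayPt, hw] at h1
    omega
  exact card_fiber (fun i => c i = 1) ((clA b).filter (fun t => decide (Q t)))
    ((clB b).filter (fun t => decide (Q t))) ((clA_nodup b).filter _) ((clB_nodup b).filter _)
    (hammingNorm c) (24 - hammingNorm c) hw hv N (sv b) (sv_lt b)

theorem count_normQ (Q : ℤ → Prop) [DecidablePred Q] {N : ℕ} (hN : N ≤ 64)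
    (eA eB : Bool → List (ℕ × ℕ))
    (hA : ∀ b, ((clA b).filter (fun t => decide (Q t))).map enc = eA b)
    (hB : ∀ b, ((clB b).filter (fun t => decide (Q t))).map enc = eB b) :
    {x : GolayPt → ℤ | x ∈ leechLattice ∧ sqNorm x = (N : ℤ) ∧ ∀ i, Q (x i)}.ncard =
      (hvalL N 4 (eA true) (eB true) 0 + 759 * hvalL N 4 (eA true) (eB true) 8 +
        2576 * hvalL N 4 (eA true) (eB true) 12 + 759 * hvalL N 4 (eA true) (eB true) 16 +
        hvalL N 4 (eA true) (eB true) 24) +
      (hvalL N 0 (eA false) (eB false) 0 + 759 * hvalL N 0 (eA false) (eB false) 8 +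
        2576 * hvalL N 0 (eA false) (eB false) 12 + 759 * hvalL N 0 (eA false) (eB false) 16 +
        hvalL N 0 (eA false) (eB false) 24) := by
  classical
  rw [setQ_eq Q hN, Set.ncard_coe_finset, Finset.card_biUnion, Finset.sum_product,
    Fintype.sum_bool]
  · simp only [card_FibQ, hA, hB]
    rw [sum_weights, sum_weights]
    rfl
  · rintro ⟨b, c⟩ _ ⟨b', c'⟩ _ hne
    rw [Function.onFun, Finset.disjoint_left]
    intro x hx hx'
    apply hne
    have h1 := ((mem_FibQ Q N b c x).1 hx).1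
    have h2 := ((mem_FibQ Q N b' c' x).1 hx').1
    obtain ⟨e1, e2⟩ := FibF_inj hN h1 h2
    rw [e1, e2]

/-- All coordinates of a lattice vector have the same parity. -/
theorem parity_const {x : GolayPt → ℤ} (hx : x ∈ leechLattice) (i j : GolayPt) :
    (2 : ℤ) ∣ x i ↔ (2 : ℤ) ∣ x j := by
  obtain ⟨m, y, hxy, -, -⟩ := leech_struct x hx
  rw [hxy i, hxy j]
  constructor <;> intro h <;> omega

end Cnt
end Cfsg.Agent.Lib.Helper4
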