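import Cfsg.Agent.Lib.Helper4.Cnt4

set_option autoImplicit false

namespace Cfsg.Agent.Lib.Helper4
namespace Cnt

open Finset Cfsg Cfsg.Agent.Lib.Helper28

/-- The counting statement for four kinds of coordinates. -/
theorem card_fiber4 {α : Type*} [Fintype α] [DecidableEq α] (k : α → Fin 4)
    (ts : Fin 4 → List ℤ) (hnd : ∀ j, (ts j).Nodup) (cnt : Fin 4 → ℕ)
    (hcnt : ∀ j, #{i | k i = j} = cnt j) (N s : ℕ) (hs : s < 8) :
    #{x ∈ Fintype.piFinset (fun i => (ts (k i)).toFinset) |
        ∑ i, x i ^ 2 = (N : ℤ) ∧ ((∑ i, x i : ℤ) : ZMod 8) = ((s : ℕ) : ZMod 8)} =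
      look (runT N (List.replicate (cnt 0) ((ts 0).map enc) ++
        List.replicate (cnt 1) ((ts 1).map enc) ++ List.replicate (cnt 2) ((ts 2).map enc) ++
        List.replicate (cnt 3) ((ts 3).map enc)) [[1]]) N s := by
  rw [← coeff_prod]
  have h1 : (∏ i, gen ((ts (k i)).toFinset)) =
      1 * ((List.replicate (cnt 0) ((ts 0).map enc) ++
        List.replicate (cnt 1) ((ts 1).map enc) ++ List.replicate (cnt 2) ((ts 2).map enc) ++
        List.replicate (cnt 3) ((ts 3).map enc)).map tgen).prod := by
    rw [← Finset.prod_fiberwise Finset.univ k (fun i => gen ((ts (k i)).toFinset))]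
    have h2 : ∀ j : Fin 4, ∏ i ∈ Finset.univ.filter (fun i => k i = j),
        gen ((ts (k i)).toFinset) = tgen ((ts j).map enc) ^ cnt j := by
      intro j
      rw [Finset.prod_congr rfl (fun i hi => by rw [(Finset.mem_filter.1 hi).2]),
        Finset.prod_const, hcnt j, gen_toFinset _ (hnd j)]
    simp only [h2]
    rw [Fin.prod_univ_four, one_mul]
    simp only [List.map_append, List.map_replicate, List.prod_append, List.prod_replicate]
  rw [h1]
  exact (((Rep.base N).run _).1 N s le_rfl hs).symm

def q0 : GolayPt := some 0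

def q1 : GolayPt := some 1

theorem q01 : q0 ≠ q1 := by decide

/-- Coordinate classes by the code word bit. -/
def cls (b : Bool) (a : Bool) : List ℤ := if a then clB b else clA b

theorem cls_nodup (b a : Bool) : (cls b a).Nodup := by
  cases a
  · exact clA_nodup b
  · exact clB_nodup b

theorem mem_cls (b : Bool) (c : GolayPt → ZMod 2) (i : GolayPt) (t : ℤ) :
    t ∈ cls b (decide (c i = 1)) ↔
      t ∈ (if c i = 1 then (clB b).toFinset else (clA b).toFinset) := by
  by_cases hc : c i = 1
  · rw [if_pos hc, List.mem_toFinset]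
    simp [cls, hc]
  · rw [if_neg hc, List.mem_toFinset]
    simp [cls, hc]

def kindP (c : GolayPt → ZMod 2) (i : GolayPt) : Fin 4 :=
  if i = q0 then 2 else if i = q1 then 3 else if c i = 1 then 1 else 0

def tsP (b a0 a1 : Bool) (α β : ℤ) : Fin 4 → List ℤ
  | 0 => clA b
  | 1 => clB b
  | 2 => if α ∈ cls b a0 then [α] else []
  | 3 => if β ∈ cls b a1 then [β] else []

def cntP (a0 a1 : Bool) (n : ℕ) : Fin 4 → ℕ
  | 0 => 24 - n - (if a0 then 0 else 1) - (if a1 then 0 else 1)
  | 1 => n - (if a0 then 1 else 0) - (if a1 then 1 else 0)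
  | 2 => 1
  | 3 => 1

/-- The vectors of a fibre with two prescribed coordinates. -/
noncomputable def FibP (N : ℕ) (b : Bool) (c : GolayPt → ZMod 2) (α β : ℤ) :
    Finset (GolayPt → ℤ) :=
  (FibF N b c).filter (fun x => x q0 = α ∧ x q1 = β)

theorem mem_FibP (N : ℕ) (b : Bool) (c : GolayPt → ZMod 2) (α β : ℤ) (x : GolayPt → ℤ) :
    x ∈ FibP N b c α β ↔ x ∈ FibF N b c ∧ x q0 = α ∧ x q1 = β := by
  unfold FibP
  rw [Finset.mem_filter]

theorem FibP_eq (N : ℕ) (b : Bool) (c : GolayPt → ZMod 2) (α β : ℤ) :
    FibP N b c α β = {x ∈ Fintype.piFinset (fun i =>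
        (tsP b (decide (c q0 = 1)) (decide (c q1 = 1)) α β (kindP c i)).toFinset) |
      ∑ i, x i ^ 2 = (N : ℤ) ∧ ((∑ i, x i : ℤ) : ZMod 8) = ((sv b : ℕ) : ZMod 8)} := by
  ext x
  unfold FibP FibF
  rw [Finset.mem_filter, Finset.mem_filter, Finset.mem_filter, Fintype.mem_piFinset,
    Fintype.mem_piFinset]
  constructor
  · rintro ⟨⟨h1, h2⟩, h3, h4⟩
    refine ⟨fun i => ?_, h2⟩
    unfold kindP
    by_cases hi0 : i = q0
    · rw [if_pos hi0]
      have hm := (mem_cls b c q0 (x q0)).2 (h1 q0)
      show x i ∈ (if α ∈ cls b (decide (c q0 = 1)) then [α] else []).toFinset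
      rw [hi0, ← h3, if_pos hm]
      simp
    · rw [if_neg hi0]
      by_cases hi1 : i = q1
      · rw [if_pos hi1]
        have hm := (mem_cls b c q1 (x q1)).2 (h1 q1)
        show x i ∈ (if β ∈ cls b (decide (c q1 = 1)) then [β] else []).toFinset
        rw [hi1, ← h4, if_pos hm]
        simp
      · rw [if_neg hi1]
        have h := h1 i
        by_cases hc : c i = 1
        · rw [if_pos hc] at h ⊢
          exact h
        · rw [if_neg hc] at h ⊢
          exact h
  · rintro ⟨h1, h2⟩
    have e0 : x q0 ∈ (if α ∈ cls b (decide (c q0 = 1)) then [α] else []).toFinset := by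
      have h := h1 q0
      unfold kindP at h
      rw [if_pos rfl] at h
      exact h
    have e1 : x q1 ∈ (if β ∈ cls b (decide (c q1 = 1)) then [β] else []).toFinset := by
      have h := h1 q1
      unfold kindP at h
      rw [if_neg q01.symm, if_pos rfl] at h
      exact h
    have f0 : α ∈ cls b (decide (c q0 = 1)) ∧ x q0 = α := by
      by_cases hα : α ∈ cls b (decide (c q0 = 1))
      · rw [if_pos hα] at e0
        exact ⟨hα, by simpa using e0⟩
      · rw [if_neg hα] at e0
        simp at e0
    have f1 : β ∈ cls b (decide (c q1 = 1)) ∧ x q1 = β := by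
      by_cases hβ : β ∈ cls b (decide (c q1 = 1))
      · rw [if_pos hβ] at e1
        exact ⟨hβ, by simpa using e1⟩
      · rw [if_neg hβ] at e1
        simp at e1
    refine ⟨⟨fun i => ?_, h2⟩, f0.2, f1.2⟩
    by_cases hi0 : i = q0
    · rw [hi0, f0.2]
      exact (mem_cls b c q0 α).1 f0.1
    · by_cases hi1 : i = q1
      · rw [hi1, f1.2]
        exact (mem_cls b c q1 β).1 f1.1
      · have h := h1 i
        unfold kindP at h
        rw [if_neg hi0, if_neg hi1] at h
        by_cases hc : c i = 1
        · rw [if_pos hc] at h ⊢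
          exact h
        · rw [if_neg hc] at h ⊢
          exact h

theorem tsP_nodup (b a0 a1 : Bool) (α β : ℤ) (j : Fin 4) : (tsP b a0 a1 α β j).Nodup := by
  fin_cases j
  · exact clA_nodup b
  · exact clB_nodup b
  · show (if α ∈ cls b a0 then [α] else []).Nodup
    split_ifs <;> simp
  · show (if β ∈ cls b a1 then [β] else []).Nodup
    split_ifs <;> simp

theorem kind_cnt (c : GolayPt → ZMod 2) (j : Fin 4) :
    #{i | kindP c i = j} = cntP (decide (c q0 = 1)) (decide (c q1 = 1)) (hammingNorm c) j := by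
  classical
  have hw : #{i | c i = 1} = hammingNorm c := by
    unfold hammingNorm
    refine congrArg Finset.card (Finset.filter_congr ?_)
    intro i _
    exact (z2_ne_zero_iff (c i)).symm
  have hv : #{i | ¬ c i = 1} = 24 - hammingNorm c := by
    have h1 := Finset.card_filter_add_card_filter_not (s := (Finset.univ : Finset GolayPt))
      (fun i => c i = 1)
    rw [Finset.card_univ, card_golayPt, hw] at h1
    omega
  fin_cases j
  · have e : (Finset.univ.filter (fun i => kindP c i = (0 : Fin 4))) =
        ((Finset.univ.filter (fun i => ¬ c i = 1)).erase q0).erase q1 := by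
      ext i
      simp only [Finset.mem_filter, Finset.mem_univ, true_and, Finset.mem_erase]
      unfold kindP
      split_ifs <;> simp_all [q01]
    show #{i | kindP c i = (0 : Fin 4)} = _
    rw [e, Finset.card_erase_eq_ite, Finset.card_erase_eq_ite, hv]
    show _ = 24 - hammingNorm c - (if decide (c q0 = 1) then 0 else 1) -
      (if decide (c q1 = 1) then 0 else 1)
    simp only [Finset.mem_erase, Finset.mem_filter, Finset.mem_univ, true_and]
    by_cases h0 : c q0 = 1 <;> by_cases h1 : c q1 = 1 <;> simp [h0, h1, q01.symm]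
  · have e : (Finset.univ.filter (fun i => kindP c i = (1 : Fin 4))) =
        ((Finset.univ.filter (fun i => c i = 1)).erase q0).erase q1 := by
      ext i
      simp only [Finset.mem_filter, Finset.mem_univ, true_and, Finset.mem_erase]
      unfold kindP
      split_ifs <;> simp_all [q01]
    show #{i | kindP c i = (1 : Fin 4)} = _
    rw [e, Finset.card_erase_eq_ite, Finset.card_erase_eq_ite, hw]
    show _ = hammingNorm c - (if decide (c q0 = 1) then 1 else 0) -
      (if decide (c q1 = 1) then 1 else 0)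
    simp only [Finset.mem_erase, Finset.mem_filter, Finset.mem_univ, true_and]
    by_cases h0 : c q0 = 1 <;> by_cases h1 : c q1 = 1 <;> simp [h0, h1, q01.symm]
  · have e : (Finset.univ.filter (fun i => kindP c i = (2 : Fin 4))) = {q0} := by
      ext i
      simp only [Finset.mem_filter, Finset.mem_univ, true_and, Finset.mem_singleton]
      unfold kindP
      split_ifs <;> simp_all [q01]
    show #{i | kindP c i = (2 : Fin 4)} = 1
    rw [e, Finset.card_singleton]
  · have e : (Finset.univ.filter (fun i => kindP c i = (3 : Fin 4))) = {q1} := by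
      ext i
      simp only [Finset.mem_filter, Finset.mem_univ, true_and, Finset.mem_singleton]
      unfold kindP
      split_ifs <;> simp_all [q01]
    show #{i | kindP c i = (3 : Fin 4)} = 1
    rw [e, Finset.card_singleton]

/-- The table value for a fibre with two prescribed coordinates. -/
def hvalP (N : ℕ) (b a0 a1 : Bool) (n : ℕ) (α β : ℤ) : ℕ :=
  if decide (α ∈ cls b a0) && decide (β ∈ cls b a1) then
    look (runT N (List.replicate (cntP a0 a1 n 0) (encA b) ++
      List.replicate (cntP a0 a1 n 1) (encB b) ++ [[enc α]] ++ [[enc β]]) [[1]]) N (sv b)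
  else 0

theorem card_FibP (N : ℕ) (b : Bool) (c : GolayPt → ZMod 2) (α β : ℤ) :
    #(FibP N b c α β) =
      hvalP N b (decide (c q0 = 1)) (decide (c q1 = 1)) (hammingNorm c) α β := by
  unfold hvalP
  by_cases hg : α ∈ cls b (decide (c q0 = 1)) ∧ β ∈ cls b (decide (c q1 = 1))
  · rw [if_pos (by simp [hg.1, hg.2])]
    rw [FibP_eq]
    have h := card_fiber4 (kindP c) (tsP b (decide (c q0 = 1)) (decide (c q1 = 1)) α β)
      (tsP_nodup b _ _ α β) (cntP (decide (c q0 = 1)) (decide (c q1 = 1)) (hammingNorm c))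
      (kind_cnt c) N (sv b) (sv_lt b)
    rw [h]
    have e2 : tsP b (decide (c q0 = 1)) (decide (c q1 = 1)) α β 2 = [α] := if_pos hg.1
    have e3 : tsP b (decide (c q0 = 1)) (decide (c q1 = 1)) α β 3 = [β] := if_pos hg.2
    have e0 : tsP b (decide (c q0 = 1)) (decide (c q1 = 1)) α β 0 = clA b := rfl
    have e1 : tsP b (decide (c q0 = 1)) (decide (c q1 = 1)) α β 1 = clB b := rfl
    rw [e0, e1, e2, e3, encA_eq, encB_eq]
    rfl
  · rw [if_neg (by simpa using hg)]
    rw [Finset.card_eq_zero, Finset.eq_empty_iff_forall_notMem]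
    intro x hx
    rw [mem_FibP] at hx
    obtain ⟨hF, h0, h1⟩ := hx
    unfold FibF at hF
    rw [Finset.mem_filter, Fintype.mem_piFinset] at hF
    apply hg
    refine ⟨?_, ?_⟩
    · rw [← h0]
      exact (mem_cls b c q0 (x q0)).2 (hF.1 q0)
    · rw [← h1]
      exact (mem_cls b c q1 (x q1)).2 (hF.1 q1)

end Cnt
end Cfsg.Agent.Lib.Helper4
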