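import Cfsg.Agent.Lib.Helper4.Leech
import Cfsg.Agent.Lib.Helper4.GolayTrans

set_option autoImplicit false

namespace Cfsg.Agent.Lib.Helper4
namespace CoA

open Cfsg Cfsg.Agent.Lib.Helper28

/-- Coordinate permutations from the code group preserve the lattice. -/
theorem comp_mem {g : Equiv.Perm GolayPt} (hg : g ∈ M24) {x : GolayPt → ℤ}
    (hx : x ∈ leechLattice) : x ∘ g ∈ leechLattice := by
  obtain ⟨m, y, hxy, hc, hsum⟩ := leech_struct x hx
  refine Leech.mem_leech_of_struct (x ∘ g) m (y ∘ g) (fun i => hxy (g i)) ?_ ?_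
  · have h1 : zword (y ∘ g) = zword y ∘ g := rfl
    rw [h1]
    exact Golay.comp_mem_of_mem_M24 hg hc
  · have h2 : ∑ i, (x ∘ g) i = ∑ i, x i := Equiv.sum_comp g x
    rw [h2]
    exact hsum

/-- Sign change on the support of a word. -/
def sgn (c : GolayPt → ZMod 2) (x : GolayPt → ℤ) : GolayPt → ℤ :=
  fun i => if c i = 1 then - x i else x i

theorem sgn_sgn (c : GolayPt → ZMod 2) (x : GolayPt → ℤ) : sgn c (sgn c x) = x := by
  funext i
  unfold sgn
  split_ifs <;> simp

theorem z2_neg (a : ZMod 2) : -a = a := by
  revert a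
  decide

theorem sgn_mem {c : GolayPt → ZMod 2} (hc : c ∈ golayCode) {x : GolayPt → ℤ}
    (hx : x ∈ leechLattice) : sgn c x ∈ leechLattice := by
  obtain ⟨m, y, hxy, hy, hsum⟩ := leech_struct x hx
  refine Leech.mem_leech_of_struct (sgn c x) m (fun i => if c i = 1 then -m - y i else y i)
    ?_ ?_ ?_
  · intro i
    unfold sgn
    by_cases h : c i = 1
    · rw [if_pos h, if_pos h, hxy i]
      ring
    · rw [if_neg h, if_neg h, hxy i]
  · have h1 : zword (fun i => if c i = 1 then -m - y i else y i) =
        zword y + (m : ZMod 2) • c := by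
      funext i
      show (((if c i = 1 then -m - y i else y i : ℤ)) : ZMod 2) =
        ((y i : ℤ) : ZMod 2) + (m : ZMod 2) * c i
      by_cases h : c i = 1
      · rw [if_pos h, h, mul_one]
        push_cast
        rw [sub_eq_add_neg, z2_neg, z2_neg, add_comm]
      · have h0 : c i = 0 := by
          rcases z2_cases (c i) with h0 | h0
          · exact h0
          · exact absurd h0 h
        rw [if_neg h, h0, mul_zero, add_zero]
    rw [h1]
    exact Submodule.add_mem _ hy (Submodule.smul_mem _ _ hc)
  · -- the coordinate sum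
    have hS : ∑ i, sgn c x i = ∑ i, x i - 2 * ∑ i, (if c i = 1 then x i else 0) := by
      rw [Finset.mul_sum, ← Finset.sum_sub_distrib]
      apply Finset.sum_congr rfl
      intro i _
      unfold sgn
      split_ifs <;> ring
    have hT : ∑ i, (if c i = 1 then x i else 0) =
        m * ∑ i, (if c i = 1 then (1 : ℤ) else 0) + 2 * ∑ i, (if c i = 1 then y i else 0) := by
      rw [Finset.mul_sum, Finset.mul_sum, ← Finset.sum_add_distrib]
      apply Finset.sum_congr rfl
      intro i _
      split_ifs
      · rw [hxy i]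
        ring
      · ring
    have hW : ∑ i, (if c i = 1 then (1 : ℤ) else 0) = (hammingNorm c : ℤ) := by
      rw [Finset.sum_boole]
      congr 1
      unfold hammingNorm
      refine congrArg Finset.card (Finset.filter_congr ?_)
      intro i _
      exact (z2_ne_zero_iff (c i)).symm
    have hW4 : (4 : ℤ) ∣ (hammingNorm c : ℤ) := by
      rcases Golay.weights c hc with h | h | h | h | h <;> rw [h] <;> norm_num
    have hY : (2 : ℤ) ∣ ∑ i, (if c i = 1 then y i else 0) := by
      have h3 : (((∑ i, (if c i = 1 then y i else 0) : ℤ)) : ZMod 2) = 0 := by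
        have h2 := Golay.self_orth c (zword y) hc hy
        rw [← h2, Int.cast_sum]
        apply Finset.sum_congr rfl
        intro i _
        by_cases h : c i = 1
        · rw [if_pos h, h, one_mul]
          rfl
        · have h0 : c i = 0 := by
            rcases z2_cases (c i) with h0 | h0
            · exact h0
            · exact absurd h0 h
          rw [if_neg h, h0, zero_mul]
          rfl
      exact_mod_cast (ZMod.intCast_zmod_eq_zero_iff_dvd _ 2).1 h3
    rw [hS, hT, hW]
    obtain ⟨k, hk⟩ := hW4
    obtain ⟨l, hl⟩ := hY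
    rw [hk, hl]
    unfold Int.ModEq at hsum ⊢
    have e : ∑ i, x i - 2 * (m * (4 * k) + 2 * (2 * l)) = ∑ i, x i + 8 * (-(m * k) - l) := by
      ring
    rw [e, Int.add_mul_emod_self_left]
    exact hsum

/-- Negation as a bijection of the lattice. -/
def negP : Equiv.Perm leechLattice := Equiv.neg _

theorem negP_apply (v : leechLattice) : negP v = -v := rfl

theorem negP_mem : negP ∈ Co0 := by
  refine ⟨fun v w => ?_, fun v => ?_⟩
  · rw [negP_apply, negP_apply, negP_apply, neg_add]
  · rw [negP_apply]
    exact sqNorm_neg _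

/-- Sign change on a code word as a bijection of the lattice. -/
def sgnP (c : GolayPt → ZMod 2) (hc : c ∈ golayCode) : Equiv.Perm leechLattice where
  toFun v := ⟨sgn c v, sgn_mem hc v.2⟩
  invFun v := ⟨sgn c v, sgn_mem hc v.2⟩
  left_inv v := Subtype.ext (sgn_sgn c v)
  right_inv v := Subtype.ext (sgn_sgn c v)

theorem sgnP_apply (c : GolayPt → ZMod 2) (hc : c ∈ golayCode) (v : leechLattice) :
    ((sgnP c hc v : leechLattice) : GolayPt → ℤ) = sgn c v := rfl

theorem sgnP_mem (c : GolayPt → ZMod 2) (hc : c ∈ golayCode) : sgnP c hc ∈ Co0 := by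
  refine ⟨fun v w => ?_, fun v => ?_⟩
  · apply Subtype.ext
    funext i
    show sgn c (v + w : leechLattice) i = sgn c v i + sgn c w i
    unfold sgn
    rw [AddSubgroup.coe_add, Pi.add_apply]
    split_ifs <;> ring
  · rw [sgnP_apply]
    unfold sqNorm
    apply Finset.sum_congr rfl
    intro i _
    unfold sgn
    split_ifs <;> ring

/-- A coordinate permutation as a bijection of the lattice. -/
def prmP (g : Equiv.Perm GolayPt) (hg : g ∈ M24) : Equiv.Perm leechLattice where
  toFun v := ⟨(v : GolayPt → ℤ) ∘ g, comp_mem hg v.2⟩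
  invFun v := ⟨(v : GolayPt → ℤ) ∘ (g⁻¹ : Equiv.Perm GolayPt), comp_mem (Subgroup.inv_mem _ hg) v.2⟩
  left_inv v := by
    apply Subtype.ext
    funext i
    simp
  right_inv v := by
    apply Subtype.ext
    funext i
    simp

theorem prmP_apply (g : Equiv.Perm GolayPt) (hg : g ∈ M24) (v : leechLattice) (i : GolayPt) :
    ((prmP g hg v : leechLattice) : GolayPt → ℤ) i = (v : GolayPt → ℤ) (g i) := rfl

theorem prmP_mem (g : Equiv.Perm GolayPt) (hg : g ∈ M24) : prmP g hg ∈ Co0 := by
  refine ⟨fun v w => ?_, fun v => ?_⟩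
  · apply Subtype.ext
    funext i
    rfl
  · unfold sqNorm
    exact Equiv.sum_comp g (fun i => ((v : leechLattice) : GolayPt → ℤ) i ^ 2)

/-- The vector with a single coordinate 8. -/
def bv (i : GolayPt) : leechLattice :=
  ⟨fun j => if j = i then 8 else 0, by
    refine Leech.mem_leech_of_struct _ 0 (fun j => if j = i then 4 else 0) ?_ ?_ ?_
    · intro j
      split_ifs <;> norm_num
    · have : zword (fun j => if j = i then (4 : ℤ) else 0) = 0 := by
        funext j
        refine (Leech.zword_eq_zero _ j).2 ?_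
        split_ifs <;> norm_num
      rw [this]
      exact Submodule.zero_mem _
    · rw [Finset.sum_ite_eq' Finset.univ i (fun _ => (8 : ℤ))]
      simp⟩

theorem bv_apply (i j : GolayPt) : ((bv i : leechLattice) : GolayPt → ℤ) j = if j = i then 8 else 0 :=
  rfl

set_option maxRecDepth 100000 in
theorem sep0 : ∀ i j : GolayPt, i ≠ j → ∃ t : ZMod 23, qrWord t i ≠ qrWord t j := by
  decide +kernel

theorem qr_mem (t : ZMod 23) : qrWord t ∈ golayCode :=
  Submodule.subset_span (Or.inl ⟨t, rfl⟩)

/-- The code separates points. -/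
theorem sep (i j : GolayPt) (hij : i ≠ j) : ∃ c ∈ golayCode, c j = 1 ∧ c i = 0 := by
  obtain ⟨t, ht⟩ := sep0 i j hij
  rcases z2_cases (qrWord t i) with hi | hi <;> rcases z2_cases (qrWord t j) with hj | hj
  · exact absurd (hi.trans hj.symm) ht
  · exact ⟨qrWord t, qr_mem t, hj, hi⟩
  · refine ⟨qrWord t + 1, Submodule.add_mem _ (qr_mem t) one_mem_golay, ?_, ?_⟩
    · rw [Pi.add_apply, hj]
      rfl
    · rw [Pi.add_apply, hi]
      rfl
  · exact absurd (hi.trans hj.symm) ht

theorem map_zero_of_add (f : leechLattice → leechLattice)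
    (hf : ∀ v w, f (v + w) = f v + f w) : f 0 = 0 := by
  have h := hf 0 0
  rw [add_zero] at h
  exact left_eq_add.1 h |> fun h' => h'

theorem map_neg_of_add (f : leechLattice → leechLattice)
    (hf : ∀ v w, f (v + w) = f v + f w) (v : leechLattice) : f (-v) = - f v := by
  have h := hf (-v) v
  rw [neg_add_cancel, map_zero_of_add f hf] at h
  exact eq_neg_of_add_eq_zero_left h.symm

theorem sqNorm_bv (i : GolayPt) : sqNorm ((bv i : leechLattice) : GolayPt → ℤ) = 64 := by
  unfold sqNorm
  rw [Finset.sum_eq_single i]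
  · rw [bv_apply, if_pos rfl]
    norm_num
  · intro j _ hj
    rw [bv_apply, if_neg hj]
    norm_num
  · intro h
    exact absurd (Finset.mem_univ i) h

theorem decomp (w : leechLattice) : (8 : ℤ) • w = ∑ i, ((w : GolayPt → ℤ) i) • bv i := by
  apply Subtype.ext
  show leechLattice.subtype ((8 : ℤ) • w) = leechLattice.subtype (∑ i, ((w : GolayPt → ℤ) i) • bv i)
  rw [map_zsmul, map_sum]
  funext k
  simp only [map_zsmul, AddSubgroup.subtype_apply, Pi.smul_apply, Finset.sum_apply, smul_eq_mul,
    bv_apply]
  rw [Finset.sum_eq_single k]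
  · rw [if_pos rfl]
    ring
  · intro j _ hj
    rw [if_neg (Ne.symm hj), mul_zero]
  · intro h
    exact absurd (Finset.mem_univ k) h

/-- An element commuting with all sign changes and coordinate permutations is `±1`. -/
theorem central (z : Equiv.Perm leechLattice) (hz : z ∈ Co0)
    (hcomm : ∀ g ∈ Co0, g * z = z * g) : z = 1 ∨ z = negP := by
  have hc : ∀ g ∈ Co0, ∀ v, g (z v) = z (g v) := by
    intro g hg v
    have := congrArg (fun f : Equiv.Perm leechLattice => f v) (hcomm g hg)
    simpa only [Equiv.Perm.mul_apply] using this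
  -- images of the basis vectors are supported on one coordinate
  have h1 : ∀ i j : GolayPt, i ≠ j → ((z (bv i) : leechLattice) : GolayPt → ℤ) j = 0 := by
    intro i j hij
    obtain ⟨c, hcm, hcj, hci⟩ := sep i j hij
    have hfix : sgnP c hcm (bv i) = bv i := by
      apply Subtype.ext
      funext k
      rw [sgnP_apply]
      unfold sgn
      by_cases hk : k = i
      · subst hk
        rw [if_neg (by rw [hci]; exact zero_ne_one)]
      · rw [bv_apply, if_neg hk]
        split_ifs <;> rfl
    have h2 := hc (sgnP c hcm) (sgnP_mem c hcm) (bv i)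
    rw [hfix] at h2
    have h3 := congrArg (fun v : leechLattice => (v : GolayPt → ℤ) j) h2
    simp only [sgnP_apply] at h3
    unfold sgn at h3
    rw [if_pos hcj] at h3
    omega
  have h2 : ∀ i : GolayPt, z (bv i) = bv i ∨ z (bv i) = - bv i := by
    intro i
    have hn : sqNorm ((z (bv i) : leechLattice) : GolayPt → ℤ) = 64 := by
      rw [hz.2, sqNorm_bv]
    unfold sqNorm at hn
    rw [Finset.sum_eq_single i (fun j _ hj => by rw [h1 i j (Ne.symm hj)]; norm_num)
      (fun h => absurd (Finset.mem_univ i) h)] at hn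
    have h8 : ((z (bv i) : leechLattice) : GolayPt → ℤ) i = 8 ∨
        ((z (bv i) : leechLattice) : GolayPt → ℤ) i = -8 := by
      have h9 : (((z (bv i) : leechLattice) : GolayPt → ℤ) i - 8) *
          (((z (bv i) : leechLattice) : GolayPt → ℤ) i + 8) = 0 := by
        ring_nf
        ring_nf at hn
        omega
      rcases mul_eq_zero.1 h9 with h | h
      · left
        omega
      · right
        omega
    rcases h8 with h | h
    · left
      apply Subtype.ext
      funext k
      by_cases hk : k = i
      · subst hk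
        rw [h, bv_apply, if_pos rfl]
      · rw [h1 i k (Ne.symm hk), bv_apply, if_neg hk]
    · right
      apply Subtype.ext
      funext k
      rw [AddSubgroup.coe_neg, Pi.neg_apply]
      by_cases hk : k = i
      · subst hk
        rw [h, bv_apply, if_pos rfl]
      · rw [h1 i k (Ne.symm hk), bv_apply, if_neg hk]
        norm_num
  -- transitivity
  have : MulAction.IsMultiplyPretransitive M24 GolayPt 5 := Golay.M24_5trans
  have : MulAction.IsPretransitive M24 GolayPt := by
    rw [← MulAction.is_one_pretransitive_iff]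
    exact MulAction.isMultiplyPretransitive_of_le (n := 5) (by norm_num) (by
      rw [Nat.card_eq_fintype_card, Golay.card_pts]
      norm_num)
  have h3 : ∀ i j : GolayPt, ∃ g : Equiv.Perm leechLattice, g ∈ Co0 ∧ g (bv i) = bv j := by
    intro i j
    obtain ⟨g, hg⟩ := MulAction.exists_smul_eq M24 j i
    refine ⟨prmP g.1 g.2, prmP_mem g.1 g.2, ?_⟩
    apply Subtype.ext
    funext k
    rw [prmP_apply, bv_apply, bv_apply]
    have hg' : (g : Equiv.Perm GolayPt) j = i := hg
    by_cases hk : k = j
    · subst hk
      rw [if_pos hg', if_pos rfl]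
    · rw [if_neg hk, if_neg]
      intro h
      apply hk
      apply (g : Equiv.Perm GolayPt).injective
      rw [h, hg']
  have hzadd := hz.1
  -- the additive map
  let φ : leechLattice →+ (GolayPt → ℤ) := leechLattice.subtype.comp (AddMonoidHom.mk' z hzadd)
  have hφ : ∀ v, φ v = ((z v : leechLattice) : GolayPt → ℤ) := fun v => rfl
  have key : ∀ w : leechLattice, (8 : ℤ) • ((z w : leechLattice) : GolayPt → ℤ) =
      ∑ i, ((w : GolayPt → ℤ) i) • ((z (bv i) : leechLattice) : GolayPt → ℤ) := by
    intro w
    rw [← hφ, ← map_zsmul, decomp w, map_sum]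
    apply Finset.sum_congr rfl
    intro i _
    rw [map_zsmul, hφ]
  have key0 : ∀ w : leechLattice, (8 : ℤ) • ((w : leechLattice) : GolayPt → ℤ) =
      ∑ i, ((w : GolayPt → ℤ) i) • ((bv i : leechLattice) : GolayPt → ℤ) := by
    intro w
    have h : (((8 : ℤ) • w : leechLattice) : GolayPt → ℤ) =
        ((∑ i, ((w : GolayPt → ℤ) i) • bv i : leechLattice) : GolayPt → ℤ) := by
      rw [decomp w]
    rw [AddSubgroup.coe_zsmul] at h
    rw [h]
    show leechLattice.subtype (∑ i, ((w : GolayPt → ℤ) i) • bv i) = _
    rw [map_sum]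
    simp only [map_zsmul, AddSubgroup.subtype_apply]
  rcases h2 none with h0 | h0
  · left
    have hall : ∀ i, z (bv i) = bv i := by
      intro i
      obtain ⟨g, hg, hgi⟩ := h3 none i
      rw [← hgi, ← hc g hg, h0]
    apply Equiv.ext
    intro w
    apply Subtype.ext
    have h := key w
    simp only [hall] at h
    rw [← key0 w] at h
    funext k
    have hk := congrFun h k
    simp only [Pi.smul_apply, smul_eq_mul] at hk
    rw [Equiv.Perm.one_apply]
    omega
  · right
    have hall : ∀ i, z (bv i) = - bv i := by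
      intro i
      obtain ⟨g, hg, hgi⟩ := h3 none i
      rw [← hgi, ← hc g hg, h0, map_neg_of_add g hg.1]
    apply Equiv.ext
    intro w
    apply Subtype.ext
    have h := key w
    simp only [hall, AddSubgroup.coe_neg, smul_neg, Finset.sum_neg_distrib] at h
    rw [← key0 w] at h
    funext k
    have hk := congrFun h k
    simp only [Pi.smul_apply, smul_eq_mul, Pi.neg_apply] at hk
    rw [negP_apply, AddSubgroup.coe_neg, Pi.neg_apply]
    omega

theorem negP_ne_one : negP ≠ 1 := by
  intro h
  have h1 := congrArg (fun f : Equiv.Perm leechLattice => ((f (bv none) : leechLattice) : GolayPt → ℤ) none) h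
  simp only [negP_apply, Equiv.Perm.one_apply, AddSubgroup.coe_neg, Pi.neg_apply, bv_apply] at h1
  norm_num at h1

theorem negP_comm (g : Equiv.Perm leechLattice) (hg : g ∈ Co0) : g * negP = negP * g := by
  apply Equiv.ext
  intro v
  rw [Equiv.Perm.mul_apply, Equiv.Perm.mul_apply, negP_apply, negP_apply]
  exact map_neg_of_add g hg.1 v

theorem card_center : Nat.card (Subgroup.center Co0) = 2 := by
  rw [Nat.card_eq_two_iff]
  have hneg : (⟨negP, negP_mem⟩ : Co0) ∈ Subgroup.center Co0 := by
    rw [Subgroup.mem_center_iff]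
    intro g
    apply Subtype.ext
    exact negP_comm g.1 g.2
  refine ⟨1, ⟨⟨negP, negP_mem⟩, hneg⟩, ?_, ?_⟩
  · intro h
    have h1 := congrArg (fun t : Subgroup.center Co0 => ((t : Co0) : Equiv.Perm leechLattice)) h
    exact negP_ne_one h1.symm
  · apply Set.eq_univ_of_forall
    intro t
    have ht : ∀ g ∈ Co0, g * (t : Co0).1 = (t : Co0).1 * g := by
      intro g hg
      have h1 := Subgroup.mem_center_iff.1 t.2 ⟨g, hg⟩
      exact congrArg Subtype.val h1
    rcases central (t : Co0).1 (t : Co0).2 ht with h | h
    · left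
      apply Subtype.ext
      apply Subtype.ext
      exact h
    · right
      apply Subtype.ext
      apply Subtype.ext
      exact h

end CoA
end Cfsg.Agent.Lib.Helper4
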