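import Cfsg.Agent.Lib.Helper4.GolayGen

set_option autoImplicit false

namespace Cfsg.Agent.Lib.Helper4
namespace Golay

open Pointwise

/-- The sixteen elements fixing the standard octad pointwise. -/
def octTbl : List (ℕ × List ℕ × List ℕ) := [
  (5, [0, 1, 2, 3, 4, 5, 6, 7, 8, 9, 10, 11, 12, 13, 14, 15, 16, 17, 18, 19, 20, 21, 22, 23], [0, 1, 2, 3, 4, 5, 6, 7, 8, 9, 10, 11, 12, 13, 14, 15, 16, 17, 18, 19, 20, 21, 22, 23]),
  (6, [0, 1, 2, 3, 4, 6, 5, 7, 18, 14, 10, 23, 12, 15, 9, 13, 21, 22, 8, 20, 19, 16, 17, 11], [0, 1, 2, 3, 4, 6, 5, 7, 18, 14, 10, 23, 12, 15, 9, 13, 21, 22, 8, 20, 19, 16, 17, 11]),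
  (8, [0, 1, 2, 3, 4, 8, 18, 7, 5, 20, 10, 13, 12, 11, 19, 23, 17, 16, 6, 14, 9, 22, 21, 15], [0, 1, 2, 3, 4, 8, 18, 7, 5, 20, 10, 13, 12, 11, 19, 23, 17, 16, 6, 14, 9, 22, 21, 15]),
  (9, [0, 1, 2, 3, 4, 9, 14, 7, 20, 5, 10, 17, 12, 16, 6, 21, 13, 11, 19, 18, 8, 15, 23, 22], [0, 1, 2, 3, 4, 9, 14, 7, 20, 5, 10, 17, 12, 16, 6, 21, 13, 11, 19, 18, 8, 15, 23, 22]),
  (11, [0, 1, 2, 3, 4, 11, 23, 7, 13, 17, 10, 5, 12, 8, 22, 18, 20, 9, 15, 21, 16, 19, 14, 6], [0, 1, 2, 3, 4, 11, 23, 7, 13, 17, 10, 5, 12, 8, 22, 18, 20, 9, 15, 21, 16, 19, 14, 6]),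
  (13, [0, 1, 2, 3, 4, 13, 15, 7, 11, 16, 10, 8, 12, 5, 21, 6, 9, 20, 23, 22, 17, 14, 19, 18], [0, 1, 2, 3, 4, 13, 15, 7, 11, 16, 10, 8, 12, 5, 21, 6, 9, 20, 23, 22, 17, 14, 19, 18]),
  (14, [0, 1, 2, 3, 4, 14, 9, 7, 19, 6, 10, 22, 12, 21, 5, 16, 15, 23, 20, 8, 18, 13, 11, 17], [0, 1, 2, 3, 4, 14, 9, 7, 19, 6, 10, 22, 12, 21, 5, 16, 15, 23, 20, 8, 18, 13, 11, 17]),
  (15, [0, 1, 2, 3, 4, 15, 13, 7, 23, 21, 10, 18, 12, 6, 16, 5, 14, 19, 11, 17, 22, 9, 20, 8], [0, 1, 2, 3, 4, 15, 13, 7, 23, 21, 10, 18, 12, 6, 16, 5, 14, 19, 11, 17, 22, 9, 20, 8]),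
  (16, [0, 1, 2, 3, 4, 16, 21, 7, 17, 13, 10, 20, 12, 9, 15, 14, 5, 8, 22, 23, 11, 6, 18, 19], [0, 1, 2, 3, 4, 16, 21, 7, 17, 13, 10, 20, 12, 9, 15, 14, 5, 8, 22, 23, 11, 6, 18, 19]),
  (17, [0, 1, 2, 3, 4, 17, 22, 7, 16, 11, 10, 9, 12, 20, 23, 19, 8, 5, 21, 15, 13, 18, 6, 14], [0, 1, 2, 3, 4, 17, 22, 7, 16, 11, 10, 9, 12, 20, 23, 19, 8, 5, 21, 15, 13, 18, 6, 14]),
  (18, [0, 1, 2, 3, 4, 18, 8, 7, 6, 19, 10, 15, 12, 23, 20, 11, 22, 21, 5, 9, 14, 17, 16, 13], [0, 1, 2, 3, 4, 18, 8, 7, 6, 19, 10, 15, 12, 23, 20, 11, 22, 21, 5, 9, 14, 17, 16, 13]),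
  (19, [0, 1, 2, 3, 4, 19, 20, 7, 14, 18, 10, 21, 12, 22, 8, 17, 23, 15, 9, 5, 6, 11, 13, 16], [0, 1, 2, 3, 4, 19, 20, 7, 14, 18, 10, 21, 12, 22, 8, 17, 23, 15, 9, 5, 6, 11, 13, 16]),
  (20, [0, 1, 2, 3, 4, 20, 19, 7, 9, 8, 10, 16, 12, 17, 18, 22, 11, 13, 14, 6, 5, 23, 15, 21], [0, 1, 2, 3, 4, 20, 19, 7, 9, 8, 10, 16, 12, 17, 18, 22, 11, 13, 14, 6, 5, 23, 15, 21]),
  (21, [0, 1, 2, 3, 4, 21, 16, 7, 22, 15, 10, 19, 12, 14, 13, 9, 6, 18, 17, 11, 23, 5, 8, 20], [0, 1, 2, 3, 4, 21, 16, 7, 22, 15, 10, 19, 12, 14, 13, 9, 6, 18, 17, 11, 23, 5, 8, 20]),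
  (22, [0, 1, 2, 3, 4, 22, 17, 7, 21, 23, 10, 14, 12, 19, 11, 20, 18, 6, 16, 13, 15, 8, 5, 9], [0, 1, 2, 3, 4, 22, 17, 7, 21, 23, 10, 14, 12, 19, 11, 20, 18, 6, 16, 13, 15, 8, 5, 9]),
  (23, [0, 1, 2, 3, 4, 23, 11, 7, 15, 22, 10, 6, 12, 18, 17, 8, 19, 14, 13, 16, 21, 20, 9, 5], [0, 1, 2, 3, 4, 23, 11, 7, 15, 22, 10, 6, 12, 18, 17, 8, 19, 14, 13, 16, 21, 20, 9, 5])]

theorem octTbl_ok : lvlChk [0, 1, 2, 3, 4, 7, 10, 12] 5 octTbl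
    [5, 6, 8, 9, 11, 13, 14, 15, 16, 17, 18, 19, 20, 21, 22, 23] = true := by decide +kernel

theorem octTbl_inv : octTbl.all (fun e => listBeq e.2.1 e.2.2) = true := by decide +kernel

theorem mkPerm_sq {l l' : List ℕ} (h : chk l l' = true) (e : l = l') :
    mkPerm l l' h * mkPerm l l' h = 1 := by
  rw [mul_eq_one_iff_eq_inv]
  apply Equiv.ext
  intro p
  show pt (nth l (code p)) = pt (nth l' (code p))
  rw [e]

theorem octA : ∀ j ∈ [5, 6, 8, 9, 11, 13, 14, 15, 16, 17, 18, 19, 20, 21, 22, 23],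
    ∃ r ∈ M24, (∀ f ∈ [0, 1, 2, 3, 4, 7, 10, 12], r (pt f) = pt f) ∧ r (pt 5) = pt j ∧
      r * r = 1 := by
  have h := octTbl_ok
  simp only [lvlChk, Bool.and_eq_true, List.all_eq_true, List.any_eq_true, Nat.beq_eq] at h
  intro j hj
  obtain ⟨e, he, rfl⟩ := h.2 j hj
  have h1 := h.1 e he
  simp only [entryChk, Bool.and_eq_true, List.all_eq_true, Nat.beq_eq] at h1
  have h2 := octTbl_inv
  rw [List.all_eq_true] at h2
  refine ⟨mkPerm e.2.1 e.2.2 h1.1.1, mkPerm_mem _ _ _ h1.1.2, ?_, ?_,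
    mkPerm_sq _ (listBeq_eq _ _ (h2 e he))⟩
  · intro f hf
    have hf24 : f < 24 := by
      have : ∀ f ∈ [0, 1, 2, 3, 4, 7, 10, 12], f < 24 := by decide
      exact this f hf
    rw [mkPerm_pt _ _ _ f hf24, h1.2.2 f hf]
  · rw [mkPerm_pt _ _ _ 5 (by norm_num), h1.2.1]

theorem octB {g1 g2 : Equiv.Perm GolayPt} (h1 : g1 ∈ M24) (h2 : g2 ∈ M24)
    (f1 : ∀ f ∈ [0, 1, 2, 3, 4, 7, 10, 12], g1 (pt f) = pt f)
    (f2 : ∀ f ∈ [0, 1, 2, 3, 4, 7, 10, 12], g2 (pt f) = pt f)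
    (e : g1 (pt 5) = g2 (pt 5)) : g1 = g2 := by
  have h : g1⁻¹ * g2 ∈ KK [7, 5, 4, 3, 2, 1, 0] := by
    refine mem_KK.2 ⟨Subgroup.mul_mem _ (Subgroup.inv_mem _ h1) h2, ?_⟩
    intro f hf
    rw [Equiv.Perm.mul_apply, Equiv.Perm.inv_eq_iff_eq]
    simp only [List.mem_cons, List.not_mem_nil, or_false] at hf
    rcases hf with rfl | rfl | hf
    · rw [f1 7 (by decide), f2 7 (by decide)]
    · exact e.symm
    · have hf' : f ∈ [0, 1, 2, 3, 4, 7, 10, 12] := by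
        rcases hf with rfl | rfl | rfl | rfl | rfl <;> decide
      rw [f1 f hf', f2 f hf']
  rw [KK7, Subgroup.mem_bot, inv_mul_eq_one] at h
  exact h

/-- The standard octad. -/
def O0s : Finset GolayPt := support₂ (word 5279)

theorem O0s_octad : O0s ∈ octads := basis_octad (by decide)

theorem mem_O0s {p : GolayPt} : p ∈ O0s ↔ code p ∈ [0, 1, 2, 3, 4, 7, 10, 12] := by
  rw [O0s, mem_support_word]
  have : ∀ j < 24, Nat.testBit 5279 j = true ↔ j ∈ [0, 1, 2, 3, 4, 7, 10, 12] := by decide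
  exact this _ (code_lt p)

theorem mem_fixO0 {g : Equiv.Perm GolayPt} :
    g ∈ fixingSubgroup (Equiv.Perm GolayPt) (O0s : Set GolayPt) ↔
      ∀ f ∈ [0, 1, 2, 3, 4, 7, 10, 12], g (pt f) = pt f := by
  rw [mem_fixingSubgroup_iff]
  constructor
  · intro h f hf
    have hf24 : f < 24 := by
      have : ∀ f ∈ [0, 1, 2, 3, 4, 7, 10, 12], f < 24 := by decide
      exact this f hf
    exact h (pt f) (Finset.mem_coe.2 (mem_O0s.2 (by rw [code_pt f hf24]; exact hf)))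
  · intro h y hy
    have := h (code y) (mem_O0s.1 (Finset.mem_coe.1 hy))
    rw [pt_code] at this
    exact this

theorem target_of_fix {g : Equiv.Perm GolayPt}
    (hg : ∀ f ∈ [0, 1, 2, 3, 4, 7, 10, 12], g (pt f) = pt f) :
    code (g (pt 5)) ∈ [5, 6, 8, 9, 11, 13, 14, 15, 16, 17, 18, 19, 20, 21, 22, 23] := by
  have h : ∀ j < 24, j ∉ [0, 1, 2, 3, 4, 7, 10, 12] →
      j ∈ [5, 6, 8, 9, 11, 13, 14, 15, 16, 17, 18, 19, 20, 21, 22, 23] := by decide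
  apply h _ (code_lt _)
  intro hmem
  have h1 := hg _ hmem
  rw [pt_code] at h1
  have h2 := g.injective h1
  rw [h2, code_pt 5 (by norm_num)] at hmem
  exact absurd hmem (by decide)

theorem fixO0_sq {g : Equiv.Perm GolayPt}
    (hg : g ∈ M24 ⊓ fixingSubgroup (Equiv.Perm GolayPt) (O0s : Set GolayPt)) : g * g = 1 := by
  rw [Subgroup.mem_inf, mem_fixO0] at hg
  obtain ⟨r, hr, hfix, hmove, hsq⟩ := octA _ (target_of_fix hg.2)
  have : g = r := octB hg.1 hr hg.2 hfix (by rw [hmove, pt_code])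
  rw [this]
  exact hsq

theorem card_fixO0 :
    Nat.card ↥(M24 ⊓ fixingSubgroup (Equiv.Perm GolayPt) (O0s : Set GolayPt)) = 16 := by
  have hb : Function.Bijective (fun g : ↥(M24 ⊓ fixingSubgroup (Equiv.Perm GolayPt)
      (O0s : Set GolayPt)) => (⟨g.1 (pt 5), by
        have := g.2
        rw [Subgroup.mem_inf, mem_fixO0] at this
        have h := target_of_fix this.2
        have h' : ∀ j ∈ [5, 6, 8, 9, 11, 13, 14, 15, 16, 17, 18, 19, 20, 21, 22, 23],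
          Nat.testBit 5279 j = false := by decide
        exact h' _ h⟩ : {q : GolayPt // Nat.testBit 5279 (code q) = false})) := by
    constructor
    · intro g1 g2 e
      have e' : g1.1 (pt 5) = g2.1 (pt 5) := congrArg Subtype.val e
      have h1 := g1.2
      have h2 := g2.2
      rw [Subgroup.mem_inf, mem_fixO0] at h1 h2
      exact Subtype.ext (octB h1.1 h2.1 h1.2 h2.2 e')
    · rintro ⟨q, hq⟩
      have hmem : code q ∈ [5, 6, 8, 9, 11, 13, 14, 15, 16, 17, 18, 19, 20, 21, 22, 23] := by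
        have : ∀ j < 24, Nat.testBit 5279 j = false →
            j ∈ [5, 6, 8, 9, 11, 13, 14, 15, 16, 17, 18, 19, 20, 21, 22, 23] := by decide
        exact this _ (code_lt q) hq
      obtain ⟨r, hr, hfix, hmove, -⟩ := octA _ hmem
      refine ⟨⟨r, Subgroup.mem_inf.2 ⟨hr, mem_fixO0.2 hfix⟩⟩, ?_⟩
      apply Subtype.ext
      show r (pt 5) = q
      rw [hmove, pt_code]
  rw [Nat.card_congr (Equiv.ofBijective _ hb)]
  show Nat.card ↥{q : GolayPt | Nat.testBit 5279 (code q) = false} = 16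
  rw [Nat.card_coe_set_eq, ncard_pts]
  decide +kernel

theorem fixing_conj {α : Type*} (H : Subgroup (Equiv.Perm α)) {k : Equiv.Perm α} (hk : k ∈ H)
    (s t : Set α) (hst : ∀ y ∈ t, k⁻¹ y ∈ s) {g : Equiv.Perm α}
    (hg : g ∈ H ⊓ fixingSubgroup (Equiv.Perm α) s) :
    k * g * k⁻¹ ∈ H ⊓ fixingSubgroup (Equiv.Perm α) t := by
  rw [Subgroup.mem_inf, mem_fixingSubgroup_iff] at hg ⊢
  refine ⟨Subgroup.mul_mem _ (Subgroup.mul_mem _ hk hg.1) (Subgroup.inv_mem _ hk), ?_⟩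
  intro y hy
  have h1 : g (k⁻¹ y) = k⁻¹ y := hg.2 _ (hst y hy)
  show (k * g * k⁻¹) y = y
  rw [Equiv.Perm.mul_apply, Equiv.Perm.mul_apply, h1]
  simp

/-- Conjugation identifies the pointwise stabilisers of two sets in the same orbit. -/
def fixingEquiv {α : Type*} (H : Subgroup (Equiv.Perm α)) {k : Equiv.Perm α} (hk : k ∈ H)
    (s t : Set α) (hst : ∀ y ∈ t, k⁻¹ y ∈ s) (hts : ∀ y ∈ s, k y ∈ t) :
    ↥(H ⊓ fixingSubgroup (Equiv.Perm α) s) ≃ ↥(H ⊓ fixingSubgroup (Equiv.Perm α) t) where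
  toFun g := ⟨k * g.1 * k⁻¹, fixing_conj H hk s t hst g.2⟩
  invFun g := ⟨k⁻¹ * g.1 * k, by
    have := fixing_conj H (Subgroup.inv_mem _ hk) t s
      (fun y hy => by rw [inv_inv]; exact hts y hy) g.2
    rwa [inv_inv] at this⟩
  left_inv g := by
    apply Subtype.ext
    show k⁻¹ * (k * g.1 * k⁻¹) * k = g.1
    group
  right_inv g := by
    apply Subtype.ext
    show k * (k⁻¹ * g.1 * k) * k⁻¹ = g.1
    group

theorem fix_octad {o : Finset GolayPt} (ho : o ∈ octads) :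
    Nat.card ↥(M24 ⊓ fixingSubgroup (Equiv.Perm GolayPt) (o : Set GolayPt)) = 16 ∧
      ∀ g ∈ M24 ⊓ fixingSubgroup (Equiv.Perm GolayPt) (o : Set GolayPt), g * g = 1 := by
  obtain ⟨k, hk, e⟩ := octad_trans O0s o O0s_octad ho
  have hst : ∀ y ∈ (o : Set GolayPt), k⁻¹ y ∈ (O0s : Set GolayPt) := by
    intro y hy
    rw [Finset.mem_coe] at hy ⊢
    rw [← e] at hy
    obtain ⟨z, hz, rfl⟩ := Finset.mem_smul_finset.1 hy
    simpa using hz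
  have hts : ∀ y ∈ (O0s : Set GolayPt), k y ∈ (o : Set GolayPt) := by
    intro y hy
    rw [Finset.mem_coe] at hy ⊢
    rw [← e]
    exact Finset.smul_mem_smul_finset hy
  refine ⟨?_, ?_⟩
  · rw [← Nat.card_congr (fixingEquiv M24 hk _ _ hst hts)]
    exact card_fixO0
  · intro g hg
    have h1 := fixing_conj M24 (Subgroup.inv_mem _ hk) _ _
      (fun y hy => by rw [inv_inv]; exact hts y hy) hg
    have h2 := fixO0_sq h1
    have h3 : g = k * (k⁻¹ * g * k⁻¹⁻¹) * k⁻¹ := by group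
    rw [h3]
    calc k * (k⁻¹ * g * k⁻¹⁻¹) * k⁻¹ * (k * (k⁻¹ * g * k⁻¹⁻¹) * k⁻¹)
        = k * ((k⁻¹ * g * k⁻¹⁻¹) * (k⁻¹ * g * k⁻¹⁻¹)) * k⁻¹ := by group
      _ = 1 := by rw [h2]; group

end Golay
end Cfsg.Agent.Lib.Helper4
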