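import Cfsg.Agent.Lib.Helper4.Qt4
import Cfsg.Agent.Lib.Helper4.ConjEquiv

set_option autoImplicit false

namespace Cfsg.Agent.Lib.Helper4
namespace Gq

open Pointwise Golay Sx

/-- The list of images of a permutation. -/
def toL (g : Equiv.Perm GolayPt) : List ℕ := idL.map (fun i => code (g (pt i)))

theorem nth_toL (g : Equiv.Perm GolayPt) (i : ℕ) (hi : i < 24) :
    nth (toL g) i = code (g (pt i)) := by
  rw [nth_eq_getD, toL, idL]
  simp [hi]

theorem toL_mul (g h : Equiv.Perm GolayPt) : toL (g * h) = compL (toL g) (toL h) := by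
  rw [toL, compL]
  apply List.map_congr_left
  intro i hi
  rw [idL, List.mem_range] at hi
  rw [nth_toL h i hi, nth_toL g _ (code_lt _), pt_code, Equiv.Perm.mul_apply]

theorem toL_one : toL 1 = idL := by
  have h : toL 1 = idL.map (fun i => i) := by
    rw [toL]
    apply List.map_congr_left
    intro i hi
    rw [idL, List.mem_range] at hi
    rw [Equiv.Perm.one_apply, code_pt i hi]
  rw [h, List.map_id']

theorem toL_injective : Function.Injective toL := by
  intro g h e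
  apply Equiv.ext
  intro p
  have h1 := nth_toL g (code p) (code_lt p)
  rw [e, nth_toL h (code p) (code_lt p), pt_code] at h1
  rw [← pt_code (g p), ← pt_code (h p), h1]

theorem toL_mkPerm (l l' : List ℕ) (h : chk l l' = true) : toL (mkPerm l l' h) = l := by
  have hs := chk_spec h
  apply List.ext_getElem
  · rw [toL, List.length_map, idL, List.length_range, hs.1]
  · intro i h1 h2
    have hi : i < 24 := by rw [← hs.1]; exact h2
    simp only [toL, List.getElem_map, idL, List.getElem_range]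
    rw [mkPerm_pt l l' h i hi, code_pt _ (hs.2 i hi).1, nth_eq_getD, List.getD_eq_getElem _ _ h2]

/-- The first position of a value in a list. -/
def idx : List ℕ → ℕ → ℕ
  | [], _ => 0
  | x :: r, a => cond (Nat.beq x a) 0 (Nat.succ (idx r a))

/-- Two elements of order three of the quartet stabiliser. -/
def n1L : List ℕ := [2, 0, 1, 17, 4, 3, 6, 21, 8, 10, 15, 18, 11, 22, 14, 9, 13, 5, 12, 7, 20, 19, 16, 23]

def n2L : List ℕ := [0, 1, 2, 5, 6, 17, 8, 12, 4, 10, 15, 22, 13, 7, 14, 9, 19, 3, 16, 18, 20, 11, 21, 23]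

/-- Position in the first triple. -/
def pos1 (x : ℕ) : ℕ := cond (Nat.beq x 0) 0 (cond (Nat.beq x 2) 1 2)

/-- Position in the second triple. -/
def pos2 (x : ℕ) : ℕ := cond (Nat.beq x 4) 0 (cond (Nat.beq x 6) 1 2)

/-- The matrix of the conjugation action of a permutation list on the normal subgroup of order
nine, as a tuple of entries. -/
def Fc (l : List ℕ) : ℕ × ℕ × ℕ × ℕ :=
  (pos1 (nth l (nth n1L (idx l 0))), pos1 (nth l (nth n2L (idx l 0))),
    pos2 (nth l (nth n1L (idx l 4))), pos2 (nth l (nth n2L (idx l 4))))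

/-- Product of matrices as tuples, modulo three. -/
def mulT (A B : ℕ × ℕ × ℕ × ℕ) : ℕ × ℕ × ℕ × ℕ :=
  ((A.1 * B.1 + A.2.1 * B.2.2.1) % 3, (A.1 * B.2.1 + A.2.1 * B.2.2.2) % 3,
    (A.2.2.1 * B.1 + A.2.2.2 * B.2.2.1) % 3, (A.2.2.1 * B.2.1 + A.2.2.2 * B.2.2.2) % 3)

/-- Equality test of tuples. -/
def tupBeq (A B : ℕ × ℕ × ℕ × ℕ) : Bool :=
  and (and (Nat.beq A.1 B.1) (Nat.beq A.2.1 B.2.1))
    (and (Nat.beq A.2.2.1 B.2.2.1) (Nat.beq A.2.2.2 B.2.2.2))

theorem tupBeq_eq {A B : ℕ × ℕ × ℕ × ℕ} (h : tupBeq A B = true) : A = B := by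
  simp only [tupBeq, Bool.and_eq_true, Nat.beq_eq] at h
  obtain ⟨⟨h1, h2⟩, h3, h4⟩ := h
  exact Prod.ext h1 (Prod.ext h2 (Prod.ext h3 h4))

/-- The matrix of a tuple. -/
def matOf (t : ℕ × ℕ × ℕ × ℕ) : Matrix (Fin 2) (Fin 2) (ZMod 3) :=
  !![(t.1 : ZMod 3), (t.2.1 : ZMod 3); (t.2.2.1 : ZMod 3), (t.2.2.2 : ZMod 3)]

theorem matOf_mul (A B : ℕ × ℕ × ℕ × ℕ) : matOf (mulT A B) = matOf A * matOf B := by
  ext i j
  fin_cases i <;> fin_cases j <;>
    simp [matOf, mulT, Matrix.mul_apply, Fin.sum_univ_two, ZMod.natCast_mod]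

theorem matOf_one : matOf (1, 0, 0, 1) = 1 := by
  rw [matOf, Matrix.one_fin_two]
  simp

/-- Generators of the joint stabiliser of the standard dodecad and quartet, with inverses. -/
def g0L : List ℕ := [5, 17, 3, 4, 10, 8, 15, 18, 9, 1, 2, 12, 21, 13, 20, 0, 11, 6, 16, 7, 14, 22, 19, 23]

def g0L' : List ℕ := [15, 9, 10, 2, 3, 0, 17, 19, 5, 8, 4, 16, 11, 13, 20, 6, 18, 1, 7, 22, 14, 12, 21, 23]

def g1L : List ℕ := [2, 1, 0, 15, 3, 10, 17, 19, 5, 4, 8, 11, 16, 18, 23, 6, 13, 9, 7, 12, 14, 22, 21, 20]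

def g1L' : List ℕ := [2, 1, 0, 4, 9, 8, 15, 18, 10, 17, 5, 11, 19, 16, 20, 3, 12, 6, 13, 7, 23, 22, 21, 14]

def g2L : List ℕ := [17, 3, 5, 8, 1, 4, 0, 16, 2, 15, 10, 13, 7, 11, 23, 9, 22, 6, 12, 19, 14, 18, 21, 20]

def g2L' : List ℕ := [6, 4, 8, 1, 5, 2, 17, 12, 3, 15, 10, 13, 18, 11, 20, 9, 7, 0, 21, 19, 23, 22, 16, 14]

/-- The generator of an index. -/
def gl (i : ℕ) : List ℕ := cond (Nat.beq i 0) g0L (cond (Nat.beq i 1) g1L (cond (Nat.beq i 2) g2L idL))

/-- The inverse of the generator of an index. -/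
def gl' (i : ℕ) : List ℕ :=
  cond (Nat.beq i 0) g0L' (cond (Nat.beq i 1) g1L' (cond (Nat.beq i 2) g2L' idL))

/-- The value of a word in the generators. -/
def evalW : List ℕ → List ℕ
  | [] => idL
  | i :: r => compL (gl i) (evalW r)

/-- Check of a table entry `(l, l', t, w)`: an element of the joint stabiliser of the standard
dodecad and the standard quartet, with its matrix and a word in the generators. -/
def gqChk (e : List ℕ × List ℕ × (ℕ × ℕ × ℕ × ℕ) × List ℕ) : Bool :=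
  and (and (and (chk e.1 e.2.1) (memChk e.1)) (Nat.beq (pmL e.1 D0) D0))
    (and (and (Tr.mapChk e.1 Qt.Q0L Qt.Q0L) (tupBeq (Fc e.1) e.2.2.1))
      (listBeq (evalW e.2.2.2) e.1))

theorem gq_spec (e : List ℕ × List ℕ × (ℕ × ℕ × ℕ × ℕ) × List ℕ) (h : gqChk e = true) :
    ∃ hc : chk e.1 e.2.1 = true, mkPerm e.1 e.2.1 hc ∈ M24 ∧
      mkPerm e.1 e.2.1 hc • D0s = D0s ∧ mkPerm e.1 e.2.1 hc • Qt.Q0 = Qt.Q0 ∧
      Fc e.1 = e.2.2.1 ∧ evalW e.2.2.2 = e.1 := by
  simp only [gqChk, Bool.and_eq_true, Nat.beq_eq] at h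
  obtain ⟨⟨⟨hc, hm⟩, hD⟩, ⟨hmap, ht⟩, hw⟩ := h
  exact ⟨hc, mkPerm_mem _ _ hc hm, Qt.smul_D0 hc hD,
    Qt.map_specQ hc hm hD Qt.Q0_quartet (Qt.rep_ok 0 (by norm_num)).1 hmap, tupBeq_eq ht,
    listBeq_eq _ _ hw⟩

/-- Encoding of a list of small numbers as one number. -/
def enc (l : List ℕ) : ℕ := l.foldr (fun a acc => a + 24 * acc) 0

/-- Boolean duplicate-freeness check. -/
def nodupB : List ℕ → Bool
  | [] => true
  | a :: l => and (l.all (fun b => not (Nat.beq a b))) (nodupB l)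

theorem nodupB_spec : ∀ l : List ℕ, nodupB l = true → l.Nodup
  | [], _ => List.nodup_nil
  | a :: l, h => by
    rw [nodupB, Bool.and_eq_true, List.all_eq_true] at h
    refine List.nodup_cons.2 ⟨fun ha => ?_, nodupB_spec l h.2⟩
    have h1 := h.1 a ha
    rw [Nat.beq_refl] at h1
    exact absurd h1 (by decide)

end Gq
end Cfsg.Agent.Lib.Helper4
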