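import Cfsg.Agent.Lib.Helper4.LeechIndex
import Cfsg.Agent.Lib.Helper4.Cnt3

set_option autoImplicit false

namespace Cfsg.Agent.Lib.Helper4
namespace LeechCross

open Cfsg Cfsg.Agent.Lib.Helper28 Finset

/-! ### Sums of squares are divisible by 16 -/

theorem sq_mod4 (t : ℤ) : (4 : ℤ) ∣ t ^ 2 - (if (t : ZMod 2) = 1 then 1 else 0) := by
  have h : (t : ZMod 2) = 1 ↔ ¬ (2 : ℤ) ∣ t := by
    have := ZMod.intCast_zmod_eq_zero_iff_dvd t 2
    have h2 : ∀ a : ZMod 2, a = 1 ↔ ¬ a = 0 := by decide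
    rw [h2, this]
    norm_num
  by_cases ht : (2 : ℤ) ∣ t
  · rw [if_neg (fun h' => (h.1 h') ht)]
    obtain ⟨a, rfl⟩ := ht
    exact ⟨a ^ 2, by ring⟩
  · rw [if_pos (h.2 ht)]
    have h1 : t % 2 = 1 := by omega
    refine ⟨(t / 2) ^ 2 + t / 2, ?_⟩
    have h2 : t = 2 * (t / 2) + 1 := by omega
    generalize t / 2 = a at h2
    rw [h2]
    ring

theorem sqNorm_dvd (x : GolayPt → ℤ) (hx : x ∈ leechLattice) : (16 : ℤ) ∣ sqNorm x := by
  classical
  obtain ⟨m, y, hxy, hc, hsum⟩ := leech_struct x hx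
  have hexp : sqNorm x = 24 * m ^ 2 + 4 * m * ∑ i, y i + 4 * ∑ i, y i ^ 2 := by
    unfold sqNorm
    have h1 : ∀ i, x i ^ 2 = m ^ 2 + 4 * m * y i + 4 * y i ^ 2 := by
      intro i
      rw [hxy i]
      ring
    rw [Finset.sum_congr rfl (fun i _ => h1 i), Finset.sum_add_distrib, Finset.sum_add_distrib,
      ← Finset.mul_sum, ← Finset.mul_sum, Finset.sum_const, Finset.card_univ, card_golayPt]
    simp
  have hsx : ∑ i, x i = 24 * m + 2 * ∑ i, y i := by
    rw [Finset.sum_congr rfl (fun i _ => hxy i), Finset.sum_add_distrib, ← Finset.mul_sum,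
      Finset.sum_const, Finset.card_univ, card_golayPt]
    simp
  have hw : ∑ i, (if zword y i = 1 then (1 : ℤ) else 0) = (hammingNorm (zword y) : ℤ) := by
    rw [Finset.sum_boole]
    congr 1
    unfold hammingNorm
    refine congrArg Finset.card (Finset.filter_congr ?_)
    intro i _
    exact (z2_ne_zero_iff (zword y i)).symm
  have hw4 : (4 : ℤ) ∣ (hammingNorm (zword y) : ℤ) := by
    rcases Golay.weights (zword y) hc with h | h | h | h | h <;> rw [h] <;> norm_num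
  have hZ : (4 : ℤ) ∣ ∑ i, y i ^ 2 := by
    have h1 : ∑ i, y i ^ 2 = ∑ i, (y i ^ 2 - (if zword y i = 1 then (1 : ℤ) else 0)) +
        ∑ i, (if zword y i = 1 then (1 : ℤ) else 0) := by
      rw [← Finset.sum_add_distrib]
      apply Finset.sum_congr rfl
      intro i _
      ring
    rw [h1, hw]
    exact dvd_add (Finset.dvd_sum (fun i _ => sq_mod4 (y i))) hw4
  obtain ⟨k, hk⟩ := hZ
  rw [hsx] at hsum
  unfold Int.ModEq at hsum
  obtain ⟨j, hj⟩ : ∃ j, ∑ i, y i = 4 * j - 2 * m := ⟨(∑ i, y i + 2 * m) / 4, by omega⟩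
  rw [hexp, hk, hj]
  exact ⟨m ^ 2 + m * j + k, by ring⟩

theorem sqNorm_nonneg (x : GolayPt → ℤ) : 0 ≤ sqNorm x :=
  Finset.sum_nonneg (fun i _ => sq_nonneg (x i))

theorem eq_zero_of_sqNorm {x : GolayPt → ℤ} (h : sqNorm x = 0) : x = 0 := by
  funext i
  have h1 := sqNorm_ge_single x i
  rw [h] at h1
  have h2 : x i ^ 2 = 0 := le_antisymm h1 (sq_nonneg _)
  exact pow_eq_zero_iff (by norm_num) |>.1 h2

theorem sqNorm_zero : sqNorm (0 : GolayPt → ℤ) = 0 := by
  unfold sqNorm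
  simp

/-- The possible small sums of squares. -/
theorem norm_cases {x : GolayPt → ℤ} (hx : x ∈ leechLattice) (hn : sqNorm x ≤ 64) :
    sqNorm x = 0 ∨ sqNorm x = 32 ∨ sqNorm x = 48 ∨ sqNorm x = 64 := by
  obtain ⟨k, hk⟩ := sqNorm_dvd x hx
  have h0 := sqNorm_nonneg x
  by_cases hx0 : x = 0
  · left
    rw [hx0, sqNorm_zero]
  · have := leech_min_norm x hx hx0
    omega

/-! ### Pairwise orthogonal-or-opposite families -/

theorem dot_sum_left (F : Finset (GolayPt → ℤ)) (c : (GolayPt → ℤ) → ℤ) (z : GolayPt → ℤ) :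
    dotInt (∑ y ∈ F, c y • y) z = ∑ y ∈ F, c y * dotInt y z := by
  unfold dotInt
  simp only [Finset.sum_apply, Pi.smul_apply, smul_eq_mul, Finset.sum_mul, Finset.mul_sum]
  rw [Finset.sum_comm]
  apply Finset.sum_congr rfl
  intro y _
  apply Finset.sum_congr rfl
  intro k _
  ring

theorem dot_comm (x y : GolayPt → ℤ) : dotInt x y = dotInt y x := by
  unfold dotInt
  apply Finset.sum_congr rfl
  intro i _
  ring

theorem dot_self (x : GolayPt → ℤ) : dotInt x x = sqNorm x := by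
  unfold dotInt sqNorm
  apply Finset.sum_congr rfl
  intro i _
  ring

theorem dot_neg_left (x y : GolayPt → ℤ) : dotInt (-x) y = - dotInt x y := by
  unfold dotInt
  rw [← Finset.sum_neg_distrib]
  apply Finset.sum_congr rfl
  intro i _
  rw [Pi.neg_apply]
  ring

theorem coord_bound (F : Finset (GolayPt → ℤ)) (h64 : ∀ y ∈ F, sqNorm y = 64)
    (hpair : ∀ y ∈ F, ∀ y' ∈ F, y' = y ∨ y' = -y ∨ dotInt y' y = 0) (i : GolayPt) :
    ∑ y ∈ F, y i ^ 2 ≤ 128 := by
  classical
  set w : GolayPt → ℤ := ∑ y ∈ F, y i • y with hw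
  have hwi : w i = ∑ y ∈ F, y i ^ 2 := by
    rw [hw, Finset.sum_apply]
    apply Finset.sum_congr rfl
    intro y _
    rw [Pi.smul_apply, smul_eq_mul]
    ring
  have h1 : sqNorm w = ∑ y ∈ F, y i * ∑ y' ∈ F, y' i * dotInt y' y := by
    rw [← dot_self, hw, dot_sum_left]
    apply Finset.sum_congr rfl
    intro y _
    rw [dot_comm, dot_sum_left]
  have h2 : ∀ y ∈ F, y i * ∑ y' ∈ F, y' i * dotInt y' y ≤ 128 * y i ^ 2 := by
    intro y hy
    rw [Finset.mul_sum]
    have h3 : ∀ y' ∈ F, y i * (y' i * dotInt y' y) =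
        if y' = y ∨ y' = -y then 64 * y i ^ 2 else 0 := by
      intro y' hy'
      rcases hpair y hy y' hy' with h | h | h
      · rw [if_pos (Or.inl h), h, dot_self, h64 y hy]
        ring
      · rw [if_pos (Or.inr h), h, dot_neg_left, dot_self, h64 y hy, Pi.neg_apply]
        ring
      · by_cases hc : y' = y ∨ y' = -y
        · rw [if_pos hc]
          rcases hc with h' | h'
          · rw [h', dot_self, h64 y hy]
            ring
          · rw [h', dot_neg_left, dot_self, h64 y hy, Pi.neg_apply]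
            ring
        · rw [if_neg hc, h]
          ring
    rw [Finset.sum_congr rfl h3, ← Finset.sum_filter, Finset.sum_const, nsmul_eq_mul]
    have hcard : #(F.filter (fun y' => y' = y ∨ y' = -y)) ≤ 2 := by
      have hsub : F.filter (fun y' => y' = y ∨ y' = -y) ⊆ {y, -y} := by
        intro y' hy'
        rw [Finset.mem_filter] at hy'
        rw [Finset.mem_insert, Finset.mem_singleton]
        exact hy'.2
      exact (Finset.card_le_card hsub).trans Finset.card_le_two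
    have hc' : ((#(F.filter (fun y' => y' = y ∨ y' = -y)) : ℕ) : ℤ) ≤ 2 := by exact_mod_cast hcard
    have hnn : 0 ≤ 64 * y i ^ 2 := by positivity
    nlinarith
  have h4 : sqNorm w ≤ 128 * ∑ y ∈ F, y i ^ 2 := by
    rw [h1, Finset.mul_sum]
    exact Finset.sum_le_sum h2
  have h5 := sqNorm_ge_single w i
  rw [hwi] at h5
  have h6 : 0 ≤ ∑ y ∈ F, y i ^ 2 := Finset.sum_nonneg (fun y _ => sq_nonneg _)
  by_contra hcon
  push Not at hcon
  nlinarith

theorem card_le_48 (F : Finset (GolayPt → ℤ)) (h64 : ∀ y ∈ F, sqNorm y = 64)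
    (hpair : ∀ y ∈ F, ∀ y' ∈ F, y' = y ∨ y' = -y ∨ dotInt y' y = 0) : #F ≤ 48 := by
  have h1 : ∑ y ∈ F, sqNorm y = 64 * (#F : ℤ) := by
    rw [Finset.sum_congr rfl h64, Finset.sum_const, nsmul_eq_mul]
    ring
  have h2 : ∑ y ∈ F, sqNorm y = ∑ i : GolayPt, ∑ y ∈ F, y i ^ 2 := by
    unfold sqNorm
    exact Finset.sum_comm
  have h3 : ∑ i : GolayPt, ∑ y ∈ F, y i ^ 2 ≤ ∑ _i : GolayPt, (128 : ℤ) :=
    Finset.sum_le_sum (fun i _ => coord_bound F h64 hpair i)
  rw [Finset.sum_const, Finset.card_univ, card_golayPt] at h3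
  rw [← h2, h1] at h3
  have : (64 : ℤ) * (#F : ℤ) ≤ 3072 := by simpa using h3
  omega

end LeechCross
end Cfsg.Agent.Lib.Helper4
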