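import Cfsg.Agent.Lib.Helper4.LeechCross

set_option autoImplicit false

namespace Cfsg.Agent.Lib.Helper4
namespace LeechCross

open Cfsg Cfsg.Agent.Lib.Helper28 Finset

/-- Twice the lattice. -/
def D : AddSubgroup (GolayPt → ℤ) := leechLattice.map Leech.dbl

theorem dbl_eq (z : GolayPt → ℤ) : Leech.dbl z = 2 • z := by
  funext i
  rw [Leech.dbl_apply, Pi.smul_apply, two_nsmul]
  ring

theorem mem_D {x : GolayPt → ℤ} : x ∈ D ↔ ∃ z ∈ leechLattice, x = 2 • z := by
  unfold D
  rw [AddSubgroup.mem_map]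
  constructor
  · rintro ⟨z, hz, rfl⟩
    exact ⟨z, hz, dbl_eq z⟩
  · rintro ⟨z, hz, rfl⟩
    exact ⟨z, hz, dbl_eq z⟩

theorem D_le : D ≤ leechLattice := by
  intro x hx
  obtain ⟨z, hz, rfl⟩ := mem_D.1 hx
  rw [two_nsmul]
  exact leechLattice.add_mem hz hz

theorem relIndex_D : D.relIndex leechLattice = 2 ^ 24 := by
  have h1 : D.index = leechLattice.index * Leech.dbl.range.index :=
    AddSubgroup.index_map_of_injective leechLattice Leech.dbl_inj
  rw [Leech.leech_index, Leech.index_range_dbl] at h1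
  have h2 := AddSubgroup.relIndex_mul_index D_le
  rw [Leech.leech_index, h1] at h2
  have h3 : (2 : ℕ) ^ 36 * 16777216 = 2 ^ 24 * 2 ^ 36 := by norm_num
  rw [h3] at h2
  exact Nat.eq_of_mul_eq_mul_right (by norm_num) h2

/-- The quotient map modulo twice the lattice. -/
def π : (GolayPt → ℤ) →+ (GolayPt → ℤ) ⧸ D := QuotientAddGroup.mk' D

theorem π_eq {x y : GolayPt → ℤ} : π x = π y ↔ x - y ∈ D := by
  unfold π
  rw [QuotientAddGroup.mk'_apply, QuotientAddGroup.mk'_apply, QuotientAddGroup.eq]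
  rw [← AddSubgroup.neg_mem_iff]
  have : -(-x + y) = x - y := by abel
  rw [this]

theorem card_classes : Nat.card (leechLattice.map π) = 2 ^ 24 := by
  rw [← AddSubgroup.relIndex_ker]
  have : π.ker = D := QuotientAddGroup.ker_mk' D
  rw [this]
  exact relIndex_D

theorem classes_finite :
    ((leechLattice.map π : AddSubgroup _) : Set ((GolayPt → ℤ) ⧸ D)).Finite := by
  haveI : Finite (leechLattice.map π) :=
    Nat.finite_of_card_ne_zero (by rw [card_classes]; norm_num)
  exact Set.toFinite _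

/-- The classes of the lattice modulo twice the lattice, as a finite set. -/
noncomputable def Qf : Finset ((GolayPt → ℤ) ⧸ D) := classes_finite.toFinset

theorem mem_Qf {q : (GolayPt → ℤ) ⧸ D} : q ∈ Qf ↔ ∃ x ∈ leechLattice, π x = q := by
  unfold Qf
  rw [Set.Finite.mem_toFinset]
  exact AddSubgroup.mem_map

theorem card_Qf : #Qf = 2 ^ 24 := by
  unfold Qf
  rw [← Set.ncard_eq_toFinset_card _ classes_finite, ← Nat.card_coe_set_eq]
  exact card_classes

theorem fin32 : {x : GolayPt → ℤ | x ∈ leechLattice ∧ sqNorm x = 32}.Finite :=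
  Set.finite_of_ncard_ne_zero (by rw [Cnt.count32]; norm_num)

theorem fin48 : {x : GolayPt → ℤ | x ∈ leechLattice ∧ sqNorm x = 48}.Finite :=
  Set.finite_of_ncard_ne_zero (by rw [Cnt.count48]; norm_num)

theorem fin64 : {x : GolayPt → ℤ | x ∈ leechLattice ∧ sqNorm x = 64}.Finite :=
  Set.finite_of_ncard_ne_zero (by rw [Cnt.count64]; norm_num)

theorem short_finite : {y : GolayPt → ℤ | y ∈ leechLattice ∧ sqNorm y ≤ 64}.Finite := by
  apply Set.Finite.subset (((Set.finite_singleton (0 : GolayPt → ℤ)).union fin32).union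
    (fin48.union fin64))
  rintro y ⟨h1, h2⟩
  rcases norm_cases h1 h2 with h | h | h | h
  · exact Or.inl (Or.inl (eq_zero_of_sqNorm h))
  · exact Or.inl (Or.inr ⟨h1, h⟩)
  · exact Or.inr (Or.inl ⟨h1, h⟩)
  · exact Or.inr (Or.inr ⟨h1, h⟩)

/-- The short vectors. -/
noncomputable def Sf : Finset (GolayPt → ℤ) := short_finite.toFinset

theorem mem_Sf {y : GolayPt → ℤ} : y ∈ Sf ↔ y ∈ leechLattice ∧ sqNorm y ≤ 64 := by
  unfold Sf
  rw [Set.Finite.mem_toFinset]
  rfl

/-- The weight of a short vector. -/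
noncomputable def wt (y : GolayPt → ℤ) : ℕ :=
  if sqNorm y = 0 then 48 else if sqNorm y = 64 then 1 else 24

theorem card_norm (N : ℕ) (hN : (N : ℤ) ≤ 64) :
    #(Sf.filter (fun y => sqNorm y = (N : ℤ))) =
      {x : GolayPt → ℤ | x ∈ leechLattice ∧ sqNorm x = (N : ℤ)}.ncard := by
  rw [← Set.ncard_coe_finset]
  congr 1
  ext y
  rw [Finset.mem_coe, Finset.mem_filter, mem_Sf, Set.mem_ofPred_eq]
  constructor
  · rintro ⟨⟨h1, -⟩, h2⟩
    exact ⟨h1, h2⟩
  · rintro ⟨h1, h2⟩
    exact ⟨⟨h1, by rw [h2]; exact hN⟩, h2⟩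

theorem card_norm0 : #(Sf.filter (fun y => sqNorm y = 0)) = 1 := by
  rw [Finset.card_eq_one]
  refine ⟨0, ?_⟩
  ext y
  rw [Finset.mem_filter, mem_Sf, Finset.mem_singleton]
  constructor
  · rintro ⟨-, h⟩
    exact eq_zero_of_sqNorm h
  · rintro rfl
    rw [sqNorm_zero]
    exact ⟨⟨leechLattice.zero_mem, by norm_num⟩, rfl⟩

theorem total_wt : ∑ y ∈ Sf, wt y = 48 * 2 ^ 24 := by
  classical
  have hmaps : ∀ y ∈ Sf, sqNorm y ∈ ({0, 32, 48, 64} : Finset ℤ) := by
    intro y hy
    rw [mem_Sf] at hy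
    have := norm_cases hy.1 hy.2
    simp only [Finset.mem_insert, Finset.mem_singleton]
    exact this
  rw [← Finset.sum_fiberwise_of_maps_to hmaps]
  have hin : ∀ N : ℤ, ∑ y ∈ Sf with sqNorm y = N, wt y =
      #(Sf.filter (fun y => sqNorm y = N)) * (if N = 0 then 48 else if N = 64 then 1 else 24) := by
    intro N
    rw [Finset.sum_congr rfl (fun y hy => by
      show wt y = (if N = 0 then 48 else if N = 64 then 1 else 24)
      rw [wt, (Finset.mem_filter.1 hy).2]), Finset.sum_const, smul_eq_mul]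
  simp only [hin]
  rw [Finset.sum_insert (by norm_num), Finset.sum_insert (by norm_num),
    Finset.sum_insert (by norm_num), Finset.sum_singleton]
  have c32 := card_norm 32 (by norm_num)
  have c48 := card_norm 48 (by norm_num)
  have c64 := card_norm 64 (by norm_num)
  have e32 := Cnt.count32
  have e48 := Cnt.count48
  have e64 := Cnt.count64
  norm_num at c32 c48 c64
  rw [card_norm0, c32, c48, c64, e32, e48, e64]
  norm_num

end LeechCross
end Cfsg.Agent.Lib.Helper4
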