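import Cfsg.Agent.Lib.Helper4.LeechIndex
import Cfsg.Prelude.Def_Spor_Conway

set_option autoImplicit false

namespace Cfsg.Agent.Lib.Helper4
namespace LeechGen

open Cfsg Cfsg.Agent.Lib.Helper28 Cfsg.Agent.Lib.Helper4.Golay

/-- The minimal vectors. -/
def Min : Set (GolayPt → ℤ) := {x | x ∈ leechLattice ∧ sqNorm x = 32}

/-- The subgroup generated by the minimal vectors. -/
def K : AddSubgroup (GolayPt → ℤ) := AddSubgroup.closure Min

/-- `4 e_i + s e_j`. -/
def pp (i j : GolayPt) (s : ℤ) : GolayPt → ℤ :=
  fun k => (if k = i then 4 else 0) + (if k = j then s else 0)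

theorem sum_pp (i j : GolayPt) (s : ℤ) : ∑ k, pp i j s k = 4 + s := by
  unfold pp
  rw [Finset.sum_add_distrib, Finset.sum_ite_eq' Finset.univ i (fun _ => (4 : ℤ)),
    Finset.sum_ite_eq' Finset.univ j (fun _ => s)]
  simp

theorem sq_pp (i j : GolayPt) (hij : i ≠ j) (s : ℤ) : sqNorm (pp i j s) = 16 + s ^ 2 := by
  unfold sqNorm pp
  have h : ∀ k : GolayPt, ((if k = i then (4 : ℤ) else 0) + (if k = j then s else 0)) ^ 2 =
      (if k = i then 16 else 0) + (if k = j then s ^ 2 else 0) := by
    intro k
    by_cases h1 : k = i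
    · have h2 : ¬ k = j := fun h => hij (h1.symm.trans h)
      rw [if_pos h1, if_neg h2, if_pos h1, if_neg h2]
      norm_num
    · by_cases h2 : k = j
      · rw [if_neg h1, if_pos h2, if_neg h1, if_pos h2]
        ring
      · rw [if_neg h1, if_neg h2, if_neg h1, if_neg h2]
        norm_num
  rw [Finset.sum_congr rfl (fun k _ => h k), Finset.sum_add_distrib,
    Finset.sum_ite_eq' Finset.univ i (fun _ => (16 : ℤ)),
    Finset.sum_ite_eq' Finset.univ j (fun _ => s ^ 2)]
  simp

theorem pp_mem (i j : GolayPt) (s : ℤ) (hs : s = 4 ∨ s = -4) : pp i j s ∈ leechLattice := by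
  apply AddSubgroup.subset_closure
  refine Cfsg.Spor.mem_leechSet_of_const_mod_four (pp i j s) 0 0 (by decide) ?_ ?_
  · intro k
    unfold pp
    rcases hs with rfl | rfl <;> split_ifs <;> decide
  · rw [sum_pp]
    rcases hs with rfl | rfl <;> decide

theorem pp_min (i j : GolayPt) (hij : i ≠ j) (s : ℤ) (hs : s = 4 ∨ s = -4) : pp i j s ∈ K := by
  apply AddSubgroup.subset_closure
  refine ⟨pp_mem i j s hs, ?_⟩
  rw [sq_pp i j hij]
  rcases hs with rfl | rfl <;> norm_num

/-- `8 e_i`. -/
def e8 (i : GolayPt) : GolayPt → ℤ := fun k => if k = i then 8 else 0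

theorem exists_ne_pt (i : GolayPt) : ∃ j : GolayPt, i ≠ j := by
  revert i
  decide

theorem e8_mem (i : GolayPt) : e8 i ∈ K := by
  obtain ⟨j, hij⟩ := exists_ne_pt i
  have h : e8 i = pp i j 4 + pp i j (-4) := by
    funext k
    unfold e8 pp
    rw [Pi.add_apply]
    split_ifs <;> norm_num
  rw [h]
  exact K.add_mem (pp_min i j hij 4 (Or.inl rfl)) (pp_min i j hij (-4) (Or.inr rfl))

/-- `4 e_k - 4 e_none`. -/
def qq (k : GolayPt) : GolayPt → ℤ :=
  fun j => (if j = k then 4 else 0) - (if j = none then 4 else 0)

theorem qq_mem (k : GolayPt) : qq k ∈ K := by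
  by_cases hk : k = none
  · have : qq k = 0 := by
      funext j
      unfold qq
      rw [hk]
      simp
    rw [this]
    exact K.zero_mem
  · have : qq k = pp k none (-4) := by
      funext j
      unfold qq pp
      split_ifs <;> norm_num
    rw [this]
    exact pp_min k none hk (-4) (Or.inr rfl)

/-- Four times a vector of even coordinate sum lies in `K`. -/
theorem four_mem (z : GolayPt → ℤ) (t : ℤ) (hz : ∑ i, z i = 2 * t) :
    (fun i => 4 * z i) ∈ K := by
  have h : (fun i => 4 * z i) = ∑ k, z k • qq k + t • e8 none := by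
    funext j
    rw [Pi.add_apply, Finset.sum_apply]
    simp only [Pi.smul_apply, smul_eq_mul]
    unfold qq e8
    have h1 : ∀ k : GolayPt, z k * ((if j = k then (4 : ℤ) else 0) - (if j = none then 4 else 0)) =
        (if j = k then 4 * z k else 0) - z k * (if j = none then 4 else 0) := by
      intro k
      split_ifs <;> ring
    rw [Finset.sum_congr rfl (fun k _ => h1 k), Finset.sum_sub_distrib,
      Finset.sum_ite_eq Finset.univ j (fun k => 4 * z k), ← Finset.sum_mul, hz]
    simp only [Finset.mem_univ, if_true]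
    split_ifs <;> ring
  rw [h]
  exact K.add_mem (AddSubgroup.sum_mem _ (fun k _ => K.zsmul_mem (qq_mem k) _))
    (K.zsmul_mem (e8_mem none) _)

/-- Twice the indicator of a word. -/
def oct (b : ℕ) : GolayPt → ℤ := fun i => if word b i = 1 then 2 else 0

theorem zword_ind (b : ℕ) : zword (fun i => if word b i = 1 then (1 : ℤ) else 0) = word b := by
  funext i
  show (((if word b i = 1 then (1 : ℤ) else 0) : ℤ) : ZMod 2) = word b i
  rcases z2_cases (word b i) with h | h
  · rw [h, if_neg (by decide)]
    rfl
  · rw [h, if_pos rfl]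
    rfl

theorem sum_oct (b : ℕ) : ∑ i, oct b i = 2 * (pc b : ℤ) := by
  unfold oct
  have h : ∀ i : GolayPt, (if word b i = 1 then (2 : ℤ) else 0) = 2 * (if word b i = 1 then 1 else 0) := by
    intro i
    split_ifs <;> norm_num
  rw [Finset.sum_congr rfl (fun i _ => h i), ← Finset.mul_sum, Finset.sum_boole]
  congr 2
  rw [← hammingNorm_word]
  unfold hammingNorm
  refine congrArg Finset.card (Finset.filter_congr ?_)
  intro i _
  exact (z2_ne_zero_iff (word b i)).symm

theorem sq_oct (b : ℕ) : sqNorm (oct b) = 4 * (pc b : ℤ) := by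
  unfold sqNorm oct
  have h : ∀ i : GolayPt, (if word b i = 1 then (2 : ℤ) else 0) ^ 2 =
      4 * (if word b i = 1 then 1 else 0) := by
    intro i
    split_ifs <;> norm_num
  rw [Finset.sum_congr rfl (fun i _ => h i), ← Finset.mul_sum, Finset.sum_boole]
  congr 2
  rw [← hammingNorm_word]
  unfold hammingNorm
  refine congrArg Finset.card (Finset.filter_congr ?_)
  intro i _
  exact (z2_ne_zero_iff (word b i)).symm

theorem oct_mem {b : ℕ} (hb : b ∈ basis) : oct b ∈ K := by
  apply AddSubgroup.subset_closure
  refine ⟨?_, ?_⟩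
  · refine Leech.mem_leech_of_struct (oct b) 0 (fun i => if word b i = 1 then 1 else 0) ?_ ?_ ?_
    · intro i
      unfold oct
      split_ifs <;> norm_num
    · rw [zword_ind, golay_eq]
      exact word_mem_sp hb
    · rw [sum_oct, basis_wt b hb]
      decide
  · rw [sq_oct, basis_wt b hb]
    norm_num

/-- The vector `(-3, 1, ..., 1)`. -/
def v0 : GolayPt → ℤ := fun i => if i = none then -3 else 1

theorem v0_mem : v0 ∈ K := by
  apply AddSubgroup.subset_closure
  refine ⟨?_, ?_⟩
  · refine Leech.mem_leech_of_struct v0 1 (fun i => if i = none then -2 else 0) ?_ ?_ ?_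
    · intro i
      unfold v0
      split_ifs <;> norm_num
    · have : zword (fun i : GolayPt => if i = none then (-2 : ℤ) else 0) = 0 := by
        funext i
        refine (Leech.zword_eq_zero _ i).2 ?_
        split_ifs <;> norm_num
      rw [this]
      exact Submodule.zero_mem _
    · have h : ∑ i, v0 i = 20 := Leech.sum_odd
      rw [h]
      decide
  · have : sqNorm v0 = 32 := by
      unfold sqNorm v0
      decide +kernel
    exact this

/-- Reduction of a vector with code word in the span of a list of octads. -/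
theorem list_red (L : List ℕ) (hL : ∀ b ∈ L, b ∈ basis) :
    ∀ y : GolayPt → ℤ, zword y ∈ sp L →
      ∃ u ∈ K, (8 : ℤ) ∣ ∑ i, u i ∧ ∃ z : GolayPt → ℤ, ∀ i, 2 * y i - u i = 4 * z i := by
  induction L with
  | nil =>
    intro y hy
    rw [sp_nil, Submodule.mem_bot] at hy
    refine ⟨0, K.zero_mem, by simp, fun i => y i / 2, fun i => ?_⟩
    have h2 : (2 : ℤ) ∣ y i := (Leech.zword_eq_zero y i).1 (congrFun hy i)
    show 2 * y i - 0 = 4 * (y i / 2)
    omega
  | cons b bs ih =>
    intro y hy
    have hbs : ∀ c ∈ bs, c ∈ basis := fun c hc => hL c (List.mem_cons_of_mem _ hc)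
    obtain ⟨w, hw, h | h⟩ := mem_sp_cons.1 hy
    · rw [h] at hy
      exact ih hbs y (h ▸ hw)
    · -- subtract the indicator
      have hy' : zword (fun i => y i - (if word b i = 1 then 1 else 0)) ∈ sp bs := by
        have e : zword (fun i => y i - (if word b i = 1 then 1 else 0)) = w := by
          have e1 : (fun i => y i - (if word b i = 1 then (1 : ℤ) else 0)) =
              y + -(fun i => if word b i = 1 then (1 : ℤ) else 0) := by
            funext i
            rw [Pi.add_apply, Pi.neg_apply]
            ring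
          rw [e1, zword_add, zword_neg, zword_ind, h]
          funext i
          rw [Pi.add_apply, Pi.add_apply, Pi.neg_apply]
          rcases z2_cases (word b i) with h1 | h1 <;> rcases z2_cases (w i) with h2 | h2 <;>
            rw [h1, h2] <;> decide
        rw [e]
        exact hw
      obtain ⟨u, hu, hu8, z, hz⟩ := ih hbs _ hy'
      refine ⟨u + oct b, K.add_mem hu (oct_mem (hL b List.mem_cons_self)), ?_, z, fun i => ?_⟩
      · have : ∑ i, (u + oct b) i = ∑ i, u i + ∑ i, oct b i := by
          simp only [Pi.add_apply]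
          exact Finset.sum_add_distrib
        rw [this, sum_oct, basis_wt b (hL b List.mem_cons_self)]
        exact dvd_add hu8 (by norm_num)
      · have h1 := hz i
        rw [Pi.add_apply]
        unfold oct
        split_ifs at h1 ⊢ <;> omega

theorem gen_le : leechLattice ≤ K := by
  intro x hx
  obtain ⟨m, y, hxy, hc, hsum⟩ := leech_struct x hx
  -- the corrected half vector
  have hy' : zword (fun i => y i + (if i = none then 2 * m else 0)) ∈ sp basis := by
    have e : zword (fun i => y i + (if i = none then 2 * m else 0)) = zword y := by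
      funext i
      show ((y i + (if i = none then 2 * m else 0) : ℤ) : ZMod 2) = ((y i : ℤ) : ZMod 2)
      split_ifs
      · push_cast
        have : (2 : ZMod 2) = 0 := by decide
        rw [this, zero_mul, add_zero]
      · rw [add_zero]
    rw [e, ← golay_eq]
    exact hc
  obtain ⟨u, hu, hu8, z, hz⟩ := list_red basis (fun b hb => hb) _ hy'
  -- the decomposition
  have hx_eq : x = m • v0 + u + (fun i => 4 * z i) := by
    funext i
    have h1 := hz i
    rw [Pi.add_apply, Pi.add_apply, Pi.smul_apply, smul_eq_mul, hxy i]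
    unfold v0
    split_ifs at h1 ⊢ <;> linarith
  -- the sum of z is even
  have hsumz : ∑ i, (2 * (y i + (if i = none then 2 * m else 0)) - u i) = ∑ i, 4 * z i :=
    Finset.sum_congr rfl (fun i _ => hz i)
  have hsx : ∑ i, x i = 24 * m + 2 * ∑ i, y i := by
    rw [Finset.sum_congr rfl (fun i _ => hxy i), Finset.sum_add_distrib, ← Finset.mul_sum,
      Finset.sum_const, Finset.card_univ, card_golayPt]
    simp
  have hsz : ∑ i, (2 * (y i + (if i = none then 2 * m else 0)) - u i) =
      2 * ∑ i, y i + 4 * m - ∑ i, u i := by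
    rw [Finset.sum_sub_distrib, ← Finset.mul_sum, Finset.sum_add_distrib,
      Finset.sum_ite_eq' Finset.univ none (fun _ => 2 * m)]
    simp only [Finset.mem_univ, if_true]
    ring
  rw [hsz, ← Finset.mul_sum] at hsumz
  obtain ⟨a, ha⟩ := hu8
  have hev : ∃ t, ∑ i, z i = 2 * t := by
    unfold Int.ModEq at hsum
    refine ⟨(∑ i, z i) / 2, ?_⟩
    omega
  obtain ⟨t, ht⟩ := hev
  rw [hx_eq]
  exact K.add_mem (K.add_mem (K.zsmul_mem v0_mem m) hu) (four_mem z t ht)

theorem gen_min : AddSubgroup.closure {x : GolayPt → ℤ | x ∈ leechLattice ∧ sqNorm x = 32} =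
    leechLattice := by
  apply le_antisymm
  · rw [AddSubgroup.closure_le]
    intro x hx
    exact hx.1
  · exact gen_le

end LeechGen
end Cfsg.Agent.Lib.Helper4
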