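import Cfsg.Agent.Lib.Helper4.LeechGen

set_option autoImplicit false

namespace Cfsg.Agent.Lib.Helper4
namespace LeechGen

open Cfsg Cfsg.Agent.Lib.Helper28 Cfsg.Agent.Lib.Helper4.Golay

/-- Four times a vector of even coordinate sum lies in `K`. -/
theorem four_mem' (K : AddSubgroup (GolayPt → ℤ)) (hq : ∀ k, qq k ∈ K) (he : e8 none ∈ K)
    (z : GolayPt → ℤ) (t : ℤ) (hz : ∑ i, z i = 2 * t) :
    (fun i => 4 * z i) ∈ K := by
  have h : (fun i => 4 * z i) = ∑ k, z k • qq k + t • e8 none := by
    funext j
    rw [Pi.add_apply, Finset.sum_apply]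
    simp only [Pi.smul_apply, smul_eq_mul]
    unfold qq e8
    have h1 : ∀ k : GolayPt, z k * ((if j = k then (4 : ℤ) else 0) - (if j = none then 4 else 0)) =
        (if j = k then 4 * z k else 0) - z k * (if j = none then 4 else 0) := by
      intro k
      split_ifs <;> ring
    rw [Finset.sum_congr rfl (fun k _ => h1 k), Finset.sum_sub_distrib,
      Finset.sum_ite_eq Finset.univ j (fun k => 4 * z k), ← Finset.sum_mul, hz]
    simp only [Finset.mem_univ, if_true]
    split_ifs <;> ring
  rw [h]
  exact K.add_mem (AddSubgroup.sum_mem _ (fun k _ => K.zsmul_mem (hq k) _))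
    (K.zsmul_mem he _)

/-- Reduction of a vector with code word in the span of a list of octads. -/
theorem list_red' (K : AddSubgroup (GolayPt → ℤ)) (ho : ∀ b ∈ basis, oct b ∈ K)
    (L : List ℕ) (hL : ∀ b ∈ L, b ∈ basis) :
    ∀ y : GolayPt → ℤ, zword y ∈ sp L →
      ∃ u ∈ K, (8 : ℤ) ∣ ∑ i, u i ∧ ∃ z : GolayPt → ℤ, ∀ i, 2 * y i - u i = 4 * z i := by
  induction L with
  | nil =>
    intro y hy
    rw [sp_nil, Submodule.mem_bot] at hy
    refine ⟨0, K.zero_mem, by simp, fun i => y i / 2, fun i => ?_⟩
    have h2 : (2 : ℤ) ∣ y i := (Leech.zword_eq_zero y i).1 (congrFun hy i)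
    show 2 * y i - 0 = 4 * (y i / 2)
    omega
  | cons b bs ih =>
    intro y hy
    have hbs : ∀ c ∈ bs, c ∈ basis := fun c hc => hL c (List.mem_cons_of_mem _ hc)
    obtain ⟨w, hw, h | h⟩ := mem_sp_cons.1 hy
    · rw [h] at hy
      exact ih hbs y (h ▸ hw)
    · -- subtract the indicator
      have hy' : zword (fun i => y i - (if word b i = 1 then 1 else 0)) ∈ sp bs := by
        have e : zword (fun i => y i - (if word b i = 1 then 1 else 0)) = w := by
          have e1 : (fun i => y i - (if word b i = 1 then (1 : ℤ) else 0)) =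
              y + -(fun i => if word b i = 1 then (1 : ℤ) else 0) := by
            funext i
            rw [Pi.add_apply, Pi.neg_apply]
            ring
          rw [e1, zword_add, zword_neg, zword_ind, h]
          funext i
          rw [Pi.add_apply, Pi.add_apply, Pi.neg_apply]
          rcases z2_cases (word b i) with h1 | h1 <;> rcases z2_cases (w i) with h2 | h2 <;>
            rw [h1, h2] <;> decide
        rw [e]
        exact hw
      obtain ⟨u, hu, hu8, z, hz⟩ := ih hbs _ hy'
      refine ⟨u + oct b, K.add_mem hu (ho b (hL b List.mem_cons_self)), ?_, z, fun i => ?_⟩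
      · have : ∑ i, (u + oct b) i = ∑ i, u i + ∑ i, oct b i := by
          simp only [Pi.add_apply]
          exact Finset.sum_add_distrib
        rw [this, sum_oct, basis_wt b (hL b List.mem_cons_self)]
        exact dvd_add hu8 (by norm_num)
      · have h1 := hz i
        rw [Pi.add_apply]
        unfold oct
        split_ifs at h1 ⊢ <;> omega

theorem gen_le' (K : AddSubgroup (GolayPt → ℤ)) (hv : v0 ∈ K) (ho : ∀ b ∈ basis, oct b ∈ K)
    (hq : ∀ k, qq k ∈ K) (he : e8 none ∈ K) : leechLattice ≤ K := by
  intro x hx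
  obtain ⟨m, y, hxy, hc, hsum⟩ := leech_struct x hx
  -- the corrected half vector
  have hy' : zword (fun i => y i + (if i = none then 2 * m else 0)) ∈ sp basis := by
    have e : zword (fun i => y i + (if i = none then 2 * m else 0)) = zword y := by
      funext i
      show ((y i + (if i = none then 2 * m else 0) : ℤ) : ZMod 2) = ((y i : ℤ) : ZMod 2)
      split_ifs
      · push_cast
        have : (2 : ZMod 2) = 0 := by decide
        rw [this, zero_mul, add_zero]
      · rw [add_zero]
    rw [e, ← golay_eq]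
    exact hc
  obtain ⟨u, hu, hu8, z, hz⟩ := list_red' K ho basis (fun b hb => hb) _ hy'
  -- the decomposition
  have hx_eq : x = m • v0 + u + (fun i => 4 * z i) := by
    funext i
    have h1 := hz i
    rw [Pi.add_apply, Pi.add_apply, Pi.smul_apply, smul_eq_mul, hxy i]
    unfold v0
    split_ifs at h1 ⊢ <;> linarith
  -- the sum of z is even
  have hsumz : ∑ i, (2 * (y i + (if i = none then 2 * m else 0)) - u i) = ∑ i, 4 * z i :=
    Finset.sum_congr rfl (fun i _ => hz i)
  have hsx : ∑ i, x i = 24 * m + 2 * ∑ i, y i := by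
    rw [Finset.sum_congr rfl (fun i _ => hxy i), Finset.sum_add_distrib, ← Finset.mul_sum,
      Finset.sum_const, Finset.card_univ, card_golayPt]
    simp
  have hsz : ∑ i, (2 * (y i + (if i = none then 2 * m else 0)) - u i) =
      2 * ∑ i, y i + 4 * m - ∑ i, u i := by
    rw [Finset.sum_sub_distrib, ← Finset.mul_sum, Finset.sum_add_distrib,
      Finset.sum_ite_eq' Finset.univ none (fun _ => 2 * m)]
    simp only [Finset.mem_univ, if_true]
    ring
  rw [hsz, ← Finset.mul_sum] at hsumz
  obtain ⟨a, ha⟩ := hu8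
  have hev : ∃ t, ∑ i, z i = 2 * t := by
    unfold Int.ModEq at hsum
    refine ⟨(∑ i, z i) / 2, ?_⟩
    omega
  obtain ⟨t, ht⟩ := hev
  rw [hx_eq]
  exact K.add_mem (K.add_mem (K.zsmul_mem hv m) hu) (four_mem' K hq he z t ht)

end LeechGen
end Cfsg.Agent.Lib.Helper4
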