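import Cfsg.Agent.Lib.Helper4.Leech

set_option autoImplicit false

namespace Cfsg.Agent.Lib.Helper4
namespace Leech

open Cfsg.Agent.Lib.Helper28

/-- Reduction modulo two of integer vectors. -/
def red2 : (GolayPt → ℤ) →+ (GolayPt → ZMod 2) where
  toFun y := zword y
  map_zero' := zword_zero
  map_add' := zword_add

theorem red2_surj : Function.Surjective red2 := by
  intro w
  refine ⟨fun i => ((w i).val : ℤ), ?_⟩
  funext i
  show ((((w i).val : ℕ) : ℤ) : ZMod 2) = w i
  simp

/-- Doubling of integer vectors. -/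
def dbl : (GolayPt → ℤ) →+ (GolayPt → ℤ) where
  toFun y := fun i => 2 * y i
  map_zero' := by
    funext i
    simp
  map_add' := by
    intro a b
    funext i
    simp [mul_add]

theorem dbl_apply (y : GolayPt → ℤ) (i : GolayPt) : dbl y i = 2 * y i := rfl

theorem dbl_inj : Function.Injective dbl := by
  intro a b h
  funext i
  have := congrFun h i
  rw [dbl_apply, dbl_apply] at this
  omega

theorem range_dbl : dbl.range = red2.ker := by
  ext x
  rw [AddMonoidHom.mem_range, AddMonoidHom.mem_ker]
  constructor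
  · rintro ⟨y, rfl⟩
    funext i
    exact (zword_eq_zero (dbl y) i).2 ⟨y i, rfl⟩
  · intro h
    have h2 : ∀ i, (2 : ℤ) ∣ x i := fun i => (zword_eq_zero x i).1 (congrFun h i)
    refine ⟨fun i => x i / 2, ?_⟩
    funext i
    exact Int.mul_ediv_cancel' (h2 i)

theorem card_words : Nat.card (GolayPt → ZMod 2) = 16777216 := by
  rw [Nat.card_eq_fintype_card, Fintype.card_fun, Golay.card_pts, ZMod.card]
  norm_num

theorem index_range_dbl : dbl.range.index = 16777216 := by
  rw [range_dbl, AddSubgroup.index_ker, AddMonoidHom.range_eq_top.2 red2_surj,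
    AddSubgroup.card_top]
  exact card_words

/-- The quotient map by the code. -/
def qC : (GolayPt → ZMod 2) →+ (GolayPt → ZMod 2) ⧸ golayCode :=
  (golayCode.mkQ).toAddMonoidHom

/-- The integer vectors whose reduction modulo two is a code word. -/
def VC : AddSubgroup (GolayPt → ℤ) := (qC.comp red2).ker

theorem mem_VC {y : GolayPt → ℤ} : y ∈ VC ↔ zword y ∈ golayCode := by
  rw [VC, AddMonoidHom.mem_ker]
  show golayCode.mkQ (zword y) = 0 ↔ _
  rw [Submodule.mkQ_apply, Submodule.Quotient.mk_eq_zero]

theorem index_VC : VC.index = 4096 := by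
  have hs : Function.Surjective (qC.comp red2) := by
    intro z
    obtain ⟨w, rfl⟩ := Submodule.mkQ_surjective golayCode z
    obtain ⟨y, rfl⟩ := red2_surj w
    exact ⟨y, rfl⟩
  rw [VC, AddSubgroup.index_ker, AddMonoidHom.range_eq_top.2 hs, AddSubgroup.card_top]
  have h := Submodule.card_eq_card_quotient_mul_card golayCode
  rw [Golay.card_code, card_words] at h
  omega

/-- The coordinate sum modulo four. -/
def sum4 : (GolayPt → ℤ) →+ ZMod 4 where
  toFun y := ((∑ i, y i : ℤ) : ZMod 4)
  map_zero' := by simp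
  map_add' := by
    intro a b
    simp [Finset.sum_add_distrib]

theorem even_sum {y : GolayPt → ℤ} (hy : zword y ∈ golayCode) : (2 : ℤ) ∣ ∑ i, y i := by
  apply (ZMod.intCast_zmod_eq_zero_iff_dvd _ 2).1
  rw [Int.cast_sum]
  have h1 : ∑ i, ((y i : ℤ) : ZMod 2) = ∑ i, zword y i := rfl
  rw [h1, Golay.sum_eq_norm]
  rcases Golay.weights _ hy with h | h | h | h | h <;> rw [h] <;> decide

theorem map_sum4 : Nat.card (VC.map sum4) = 2 := by
  have hset : ((VC.map sum4 : AddSubgroup (ZMod 4)) : Set (ZMod 4)) = {0, 2} := by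
    ext z
    simp only [AddSubgroup.coe_map, Set.mem_image, SetLike.mem_coe, Set.mem_insert_iff,
      Set.mem_singleton_iff]
    constructor
    · rintro ⟨y, hy, rfl⟩
      obtain ⟨k, hk⟩ := even_sum (mem_VC.1 hy)
      show ((∑ i, y i : ℤ) : ZMod 4) = 0 ∨ ((∑ i, y i : ℤ) : ZMod 4) = 2
      rw [hk]
      push_cast
      have : ∀ t : ZMod 4, 2 * t = 0 ∨ 2 * t = 2 := by decide
      exact this _
    · rintro (rfl | rfl)
      · exact ⟨0, VC.zero_mem, map_zero sum4⟩
      · refine ⟨fun i => if i = none then 2 else 0, ?_, ?_⟩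
        · rw [mem_VC]
          have : zword (fun i : GolayPt => if i = none then (2 : ℤ) else 0) = 0 := by
            funext i
            rw [Pi.zero_apply, zword_eq_zero]
            by_cases hi : i = none <;> simp [hi]
          rw [this]
          exact Submodule.zero_mem _
        · show ((∑ i : GolayPt, (if i = none then (2 : ℤ) else 0) : ℤ) : ZMod 4) = 2
          rw [Finset.sum_ite_eq' Finset.univ none (fun _ => (2 : ℤ))]
          simp
  rw [← SetLike.coe_sort_coe, Nat.card_coe_set_eq, hset, Set.ncard_pair (by decide)]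

/-- The vectors with reduction in the code and coordinate sum divisible by four. -/
def E' : AddSubgroup (GolayPt → ℤ) := sum4.ker ⊓ VC

theorem index_E' : E'.index = 8192 := by
  have h1 : E'.relIndex VC = 2 := by
    rw [E', AddSubgroup.inf_relIndex_right, AddSubgroup.relIndex_ker]
    exact map_sum4
  have h2 : E'.relIndex VC * VC.index = E'.index :=
    AddSubgroup.relIndex_mul_index (inf_le_right : E' ≤ VC)
  rw [h1, index_VC] at h2
  omega

/-- The even part of the lattice. -/
def E : AddSubgroup (GolayPt → ℤ) := E'.map dbl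

theorem index_E : E.index = 137438953472 := by
  rw [E, AddSubgroup.index_map_of_injective E' dbl_inj, index_E', index_range_dbl]

/-- The parity of one coordinate. -/
def par : (GolayPt → ℤ) →+ ZMod 2 where
  toFun x := ((x none : ℤ) : ZMod 2)
  map_zero' := by simp
  map_add' := by
    intro a b
    simp

theorem E_eq : E = par.ker ⊓ leechLattice := by
  ext x
  rw [AddSubgroup.mem_inf, AddMonoidHom.mem_ker]
  constructor
  · rintro ⟨y, hy, rfl⟩
    have hy1 : sum4 y = 0 := hy.1
    have hy2 := mem_VC.1 hy.2
    refine ⟨?_, ?_⟩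
    · show (((2 * y none : ℤ)) : ZMod 2) = 0
      rw [ZMod.intCast_zmod_eq_zero_iff_dvd]
      exact ⟨y none, rfl⟩
    · apply mem_leech_of_struct (dbl y) 0 y (fun i => by rw [dbl_apply]; ring) hy2
      have h4 : (4 : ℤ) ∣ ∑ i, y i := by
        have : ((∑ i, y i : ℤ) : ZMod 4) = 0 := hy1
        exact (ZMod.intCast_zmod_eq_zero_iff_dvd _ 4).1 this
      obtain ⟨k, hk⟩ := h4
      have hs : ∑ i, dbl y i = 2 * ∑ i, y i := by
        rw [Finset.mul_sum]
        rfl
      rw [hs, hk]
      exact Int.modEq_iff_dvd.2 ⟨-k, by ring⟩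
  · rintro ⟨hpar, hx⟩
    obtain ⟨m, y, hxy, hc, hsum⟩ := leech_struct x hx
    have hm : (2 : ℤ) ∣ m := by
      have h2 : (2 : ℤ) ∣ x none := (ZMod.intCast_zmod_eq_zero_iff_dvd _ 2).1 hpar
      rw [hxy none] at h2
      omega
    obtain ⟨m', rfl⟩ := hm
    refine ⟨fun i => m' + y i, AddSubgroup.mem_inf.2 ⟨AddMonoidHom.mem_ker.2 ?_, mem_VC.2 ?_⟩, ?_⟩
    · show ((∑ i, (m' + y i) : ℤ) : ZMod 4) = 0
      apply (ZMod.intCast_zmod_eq_zero_iff_dvd _ 4).2
      show (4 : ℤ) ∣ _
      have hs : ∑ i, x i = 2 * ∑ i, (m' + y i) := by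
        rw [Finset.mul_sum]
        apply Finset.sum_congr rfl
        intro i _
        rw [hxy i]
        ring
      rw [hs] at hsum
      have := Int.modEq_iff_dvd.1 hsum
      obtain ⟨k, hk⟩ := this
      exact ⟨m' - k, by linarith⟩
    · rw [zword_const_add]
      exact Submodule.add_mem _ (Submodule.smul_mem _ _ one_mem_golay) hc
    · funext i
      rw [dbl_apply, hxy i]
      ring

theorem E_le : E ≤ leechLattice := by
  rw [E_eq]
  exact inf_le_right

theorem sum_odd : ∑ i : GolayPt, (if i = none then (-3 : ℤ) else 1) = 20 := by decide +kernel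

theorem map_par : Nat.card (leechLattice.map par) = 2 := by
  have htop : leechLattice.map par = ⊤ := by
    rw [eq_top_iff]
    intro z _
    have hz : ∀ z : ZMod 2, z = 0 ∨ z = 1 := by decide
    rcases hz z with rfl | rfl
    · exact ⟨0, leechLattice.zero_mem, map_zero par⟩
    · refine ⟨fun i => if i = none then -3 else 1, ?_, ?_⟩
      · apply mem_leech_of_struct _ 1 (fun i => if i = none then -2 else 0)
        · intro i
          by_cases hi : i = none <;> simp [hi]
        · have : zword (fun i : GolayPt => if i = none then (-2 : ℤ) else 0) = 0 := by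
            funext i
            rw [Pi.zero_apply, zword_eq_zero]
            by_cases hi : i = none <;> simp [hi]
          rw [this]
          exact Submodule.zero_mem _
        · rw [sum_odd]
          decide
      · show (((if (none : GolayPt) = none then (-3 : ℤ) else 1) : ℤ) : ZMod 2) = 1
        rw [if_pos rfl]
        decide
  rw [htop, AddSubgroup.card_top, Nat.card_eq_fintype_card, ZMod.card]

theorem leech_index : leechLattice.index = 2 ^ 36 := by
  have h1 : E.relIndex leechLattice = 2 := by
    rw [E_eq, AddSubgroup.inf_relIndex_right, AddSubgroup.relIndex_ker]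
    exact map_par
  have h2 := AddSubgroup.relIndex_mul_index E_le
  rw [h1, index_E] at h2
  have : (2 : ℕ) ^ 36 = 68719476736 := by norm_num
  omega

end Leech
end Cfsg.Agent.Lib.Helper4
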