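import Cfsg.Agent.Lib.Helper4.Xi2
import Cfsg.Agent.Lib.Helper4.CoA
import Cfsg.Agent.Lib.Helper4.Cnt2

set_option autoImplicit false

namespace Cfsg.Agent.Lib.Helper4
namespace Orb

open Cfsg Cfsg.Agent.Lib.Helper28 Cfsg.Agent.Lib.Helper4.Golay

/-- Two lattice vectors in the same orbit of the automorphism group. -/
def Rel (v w : leechLattice) : Prop := ∃ g ∈ Co0, g v = w

theorem Rel.refl (v : leechLattice) : Rel v v := ⟨1, Co0.one_mem, rfl⟩

theorem Rel.symm {v w : leechLattice} (h : Rel v w) : Rel w v := by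
  obtain ⟨g, hg, rfl⟩ := h
  exact ⟨g⁻¹, Co0.inv_mem hg, by simp⟩

theorem Rel.trans {u v w : leechLattice} (h1 : Rel u v) (h2 : Rel v w) : Rel u w := by
  obtain ⟨g, hg, rfl⟩ := h1
  obtain ⟨h, hh, rfl⟩ := h2
  exact ⟨h * g, Co0.mul_mem hh hg, rfl⟩

theorem rel_sgn (c : GolayPt → ZMod 2) (hc : c ∈ golayCode) (v : leechLattice) :
    Rel v (CoA.sgnP c hc v) := ⟨_, CoA.sgnP_mem c hc, rfl⟩

theorem rel_prm (g : Equiv.Perm GolayPt) (hg : g ∈ M24) (v : leechLattice) :
    Rel v (CoA.prmP g hg v) := ⟨_, CoA.prmP_mem g hg, rfl⟩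

theorem rel_xi (v : leechLattice) : Rel v (Xi.xiV v) := ⟨Xi.xiP, Xi.xiP_mem, rfl⟩

theorem Rel.norm {v w : leechLattice} (h : Rel v w) :
    sqNorm (w : GolayPt → ℤ) = sqNorm (v : GolayPt → ℤ) := by
  obtain ⟨g, hg, rfl⟩ := h
  exact hg.2 v

theorem m24_two (a b c d : GolayPt) (hab : a ≠ b) (hcd : c ≠ d) :
    ∃ g ∈ M24, g a = c ∧ g b = d := by
  have h5 : MulAction.IsMultiplyPretransitive M24 GolayPt 5 := Golay.M24_5trans
  have h2 : MulAction.IsMultiplyPretransitive M24 GolayPt 2 :=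
    MulAction.isMultiplyPretransitive_of_le (n := 5) (by norm_num) (by
      rw [Nat.card_eq_fintype_card, Golay.card_pts]
      norm_num)
  obtain ⟨g, h1, h2'⟩ := MulAction.is_two_pretransitive_iff.1 h2 hab hcd
  exact ⟨g.1, g.2, h1, h2'⟩

theorem m24_one (a c : GolayPt) : ∃ g ∈ M24, g a = c := by
  obtain ⟨b, hb⟩ := LeechGen.exists_ne_pt a
  obtain ⟨d, hd⟩ := LeechGen.exists_ne_pt c
  obtain ⟨g, hg, h1, -⟩ := m24_two a b c d hb hd
  exact ⟨g, hg, h1⟩

/-- The standard odd minimal vector. -/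
def cStar : leechLattice :=
  ⟨LeechGen.v0, (AddSubgroup.closure_le _).2 (fun _ hx => hx.1) LeechGen.v0_mem⟩

theorem sum_sq_sub_one (x : GolayPt → ℤ) (N : ℤ) (hn : sqNorm x = N) :
    ∑ k, (x k ^ 2 - 1) = N - 24 := by
  rw [Finset.sum_sub_distrib]
  have h1 : ∑ k, x k ^ 2 = N := hn
  rw [h1]
  simp [card_golayPt]

theorem odd_shape (x : GolayPt → ℤ) (h4 : ∀ i, x i % 4 = 1) (hn : sqNorm x = 32) :
    ∃ i0, ∀ k, x k = if k = i0 then -3 else 1 := by
  classical
  have hsum := sum_sq_sub_one x 32 hn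
  have hnn : ∀ k, 0 ≤ x k ^ 2 - 1 := by
    intro k
    have h0 : x k ≠ 0 := by
      intro h
      have := h4 k
      rw [h] at this
      norm_num at this
    have := int_one_le_sq (x k) h0
    omega
  have hex : ∃ i0, x i0 ≠ 1 := by
    by_contra hcon
    push Not at hcon
    have : ∑ k, (x k ^ 2 - 1) = 0 := by
      apply Finset.sum_eq_zero
      intro k _
      rw [hcon k]
      norm_num
    omega
  obtain ⟨i0, hi0⟩ := hex
  have h9 : 9 ≤ x i0 ^ 2 := by
    have := h4 i0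
    rcases lt_or_gt_of_ne hi0 with h | h
    · have : x i0 ≤ -3 := by omega
      nlinarith
    · have : 5 ≤ x i0 := by omega
      nlinarith
  have hsingle : x i0 ^ 2 - 1 ≤ 8 := by
    have h0 : x i0 ^ 2 - 1 ≤ ∑ k, (x k ^ 2 - 1) :=
      Finset.single_le_sum (f := fun k => x k ^ 2 - 1) (fun k _ => hnn k) (Finset.mem_univ i0)
    omega
  have hother : ∀ k, k ≠ i0 → x k = 1 := by
    intro k hk
    have h1 : ∑ j ∈ ({k, i0} : Finset GolayPt), (x j ^ 2 - 1) ≤ ∑ j, (x j ^ 2 - 1) :=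
      Finset.sum_le_sum_of_subset_of_nonneg (Finset.subset_univ _) (fun j _ _ => hnn j)
    rw [Finset.sum_pair hk, hsum] at h1
    have h2 : x k ^ 2 ≤ 1 := by omega
    have h3 : -1 ≤ x k := by nlinarith
    have h5 : x k ≤ 1 := by nlinarith
    have := h4 k
    omega
  refine ⟨i0, fun k => ?_⟩
  by_cases hk : k = i0
  · rw [if_pos hk, hk]
    have h3 : -3 ≤ x i0 := by nlinarith
    have h5 : x i0 ≤ 3 := by nlinarith
    have := h4 i0
    omega
  · rw [if_neg hk]
    exact hother k hk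

/-- Structure data of a minimal vector. -/
theorem min_data (v : leechLattice) (hn : sqNorm (v : GolayPt → ℤ) = 32) :
    ∃ (b : Bool) (c : GolayPt → ZMod 2), c ∈ golayCode ∧
      ∀ i, (v : GolayPt → ℤ) i % 4 = Cnt.pz b + 2 * (if c i = 1 then 1 else 0) := by
  have h := (Cnt.mem_iff (N := 32) (by norm_num) (v : GolayPt → ℤ)).1 ⟨v.2, by exact_mod_cast hn⟩
  obtain ⟨b, c, hc, hx⟩ := h
  rw [Cnt.mem_FibF (by norm_num)] at hx
  exact ⟨b, c, hc, hx.1⟩

theorem normC (v : leechLattice) (hn : sqNorm (v : GolayPt → ℤ) = 32)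
    (hodd : ∀ i, (v : GolayPt → ℤ) i % 2 = 1) : Rel v cStar := by
  obtain ⟨b, c, hc, h1⟩ := min_data v hn
  have hb : b = true := by
    cases b
    · exfalso
      have h2 := h1 none
      have h3 := hodd none
      rw [Cnt.pz_false] at h2
      split_ifs at h2 <;> omega
    · rfl
  subst hb
  rw [Cnt.pz_true] at h1
  -- after the sign change all coordinates are 1 modulo 4
  have h4 : ∀ i, ((CoA.sgnP c hc v : leechLattice) : GolayPt → ℤ) i % 4 = 1 := by
    intro i
    rw [CoA.sgnP_apply]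
    unfold CoA.sgn
    have h2 := h1 i
    by_cases hci : c i = 1
    · rw [if_pos hci] at h2 ⊢
      omega
    · rw [if_neg hci] at h2 ⊢
      omega
  have hn' : sqNorm ((CoA.sgnP c hc v : leechLattice) : GolayPt → ℤ) = 32 := by
    rw [(CoA.sgnP_mem c hc).2 v, hn]
  obtain ⟨i0, hi0⟩ := odd_shape _ h4 hn'
  obtain ⟨g, hg, hgi⟩ := m24_one none i0
  have hfin : CoA.prmP g hg (CoA.sgnP c hc v) = cStar := by
    apply Subtype.ext
    funext k
    rw [CoA.prmP_apply, hi0 (g k)]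
    show _ = if k = none then (-3 : ℤ) else 1
    by_cases hk : k = none
    · rw [if_pos hk, if_pos (by rw [hk, hgi])]
    · rw [if_neg hk, if_neg]
      intro h
      apply hk
      apply g.injective
      rw [h, hgi]
  exact (rel_sgn c hc v).trans (hfin ▸ rel_prm g hg _)

end Orb
end Cfsg.Agent.Lib.Helper4
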