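import Cfsg.Agent.Lib.Helper4.Orb1
import Cfsg.Agent.Lib.Helper4.GolayOct
import Cfsg.Agent.Lib.Helper4.GolayTrans

set_option autoImplicit false

namespace Cfsg.Agent.Lib.Helper4
namespace Orb

open Cfsg Cfsg.Agent.Lib.Helper28 Cfsg.Agent.Lib.Helper4.Golay

/-- Even lattice vectors have coordinate sum divisible by 8. -/
theorem even_sum (x : GolayPt → ℤ) (hx : x ∈ leechLattice) (i : GolayPt) (h : x i % 2 = 0) :
    (∑ k, x k) % 8 = 0 := by
  obtain ⟨m, y, hxy, -, hsum⟩ := leech_struct x hx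
  have h1 := hxy i
  have hm : m % 2 = 0 := by omega
  unfold Int.ModEq at hsum
  omega

def p0 : GolayPt := some 0

def p1 : GolayPt := some 1

/-- The standard minimal vector with two coordinates 4. -/
def aStar : leechLattice := ⟨LeechGen.pp p0 p1 4, LeechGen.pp_mem p0 p1 4 (Or.inl rfl)⟩

theorem flipAt (v : leechLattice) (a b : GolayPt) (hab : a ≠ b) :
    ∃ v' : leechLattice, Rel v v' ∧ (v' : GolayPt → ℤ) a = - (v : GolayPt → ℤ) a ∧
      (v' : GolayPt → ℤ) b = (v : GolayPt → ℤ) b ∧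
      ∀ k, (v : GolayPt → ℤ) k = 0 → (v' : GolayPt → ℤ) k = 0 := by
  obtain ⟨c, hc, h1, h0⟩ := CoA.sep b a hab.symm
  refine ⟨CoA.sgnP c hc v, rel_sgn c hc v, ?_, ?_, ?_⟩
  · rw [CoA.sgnP_apply]
    unfold CoA.sgn
    rw [if_pos h1]
  · rw [CoA.sgnP_apply]
    unfold CoA.sgn
    rw [if_neg (by rw [h0]; decide)]
  · intro k hk
    rw [CoA.sgnP_apply]
    unfold CoA.sgn
    split_ifs
    · rw [hk]
      rfl
    · exact hk

theorem shapeA (x : GolayPt → ℤ) (h4 : ∀ i, x i % 4 = 0) (hn : sqNorm x = 32) :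
    ∃ a b, a ≠ b ∧ (x a = 4 ∨ x a = -4) ∧ (x b = 4 ∨ x b = -4) ∧
      ∀ k, k ≠ a → k ≠ b → x k = 0 := by
  classical
  have hsum : ∑ k, x k ^ 2 = 32 := hn
  have hnn : ∀ k, 0 ≤ x k ^ 2 := fun k => sq_nonneg _
  have hsq : ∀ k, x k ≠ 0 → 16 ≤ x k ^ 2 := by
    intro k hk
    have := h4 k
    rcases lt_or_gt_of_ne hk with h | h
    · have : x k ≤ -4 := by omega
      nlinarith
    · have : 4 ≤ x k := by omega
      nlinarith
  have hex : ∃ a, x a ≠ 0 := by
    by_contra hcon
    push Not at hcon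
    have : ∑ k, x k ^ 2 = 0 := Finset.sum_eq_zero (fun k _ => by rw [hcon k]; norm_num)
    omega
  obtain ⟨a, ha⟩ := hex
  have ha16 := hsq a ha
  have hale : x a ^ 2 ≤ 32 := by
    have h0 : x a ^ 2 ≤ ∑ k, x k ^ 2 :=
      Finset.single_le_sum (f := fun k => x k ^ 2) (fun k _ => hnn k) (Finset.mem_univ a)
    omega
  have ha4 : x a = 4 ∨ x a = -4 := by
    have h1 : -6 ≤ x a := by nlinarith
    have h2 : x a ≤ 6 := by nlinarith
    have := h4 a
    omega
  have ha2 : x a ^ 2 = 16 := by rcases ha4 with h | h <;> rw [h] <;> norm_num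
  have hex2 : ∃ b, b ≠ a ∧ x b ≠ 0 := by
    by_contra hcon
    push Not at hcon
    have : ∑ k, x k ^ 2 = x a ^ 2 := by
      apply Finset.sum_eq_single a
      · intro k _ hk
        rw [hcon k hk]
        norm_num
      · intro h
        exact absurd (Finset.mem_univ a) h
    omega
  obtain ⟨b, hba, hb⟩ := hex2
  have hb16 := hsq b hb
  have hpair : x b ^ 2 + x a ^ 2 ≤ 32 := by
    have h1 : ∑ j ∈ ({b, a} : Finset GolayPt), x j ^ 2 ≤ ∑ j, x j ^ 2 :=
      Finset.sum_le_sum_of_subset_of_nonneg (Finset.subset_univ _) (fun j _ _ => hnn j)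
    rw [Finset.sum_pair hba, hsum] at h1
    exact h1
  have hb4 : x b = 4 ∨ x b = -4 := by
    have h1 : -6 ≤ x b := by nlinarith
    have h2 : x b ≤ 6 := by nlinarith
    have := h4 b
    omega
  have hb2 : x b ^ 2 = 16 := by rcases hb4 with h | h <;> rw [h] <;> norm_num
  refine ⟨a, b, hba.symm, ha4, hb4, fun k hka hkb => ?_⟩
  by_contra hk
  have hk16 := hsq k hk
  have h1 : ∑ j ∈ ({k, b, a} : Finset GolayPt), x j ^ 2 ≤ ∑ j, x j ^ 2 :=
    Finset.sum_le_sum_of_subset_of_nonneg (Finset.subset_univ _) (fun j _ _ => hnn j)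
  rw [Finset.sum_insert (by simp [hka, hkb]), Finset.sum_pair hba, hsum] at h1
  omega

theorem normA (v : leechLattice) (hn : sqNorm (v : GolayPt → ℤ) = 32)
    (h4 : ∀ i, (v : GolayPt → ℤ) i % 4 = 0) : Rel v aStar := by
  obtain ⟨a, b, hab, ha, hb, h0⟩ := shapeA _ h4 hn
  obtain ⟨v1, hr1, ha1, hb1, h01⟩ : ∃ v1 : leechLattice, Rel v v1 ∧ (v1 : GolayPt → ℤ) a = 4 ∧
      ((v1 : GolayPt → ℤ) b = 4 ∨ (v1 : GolayPt → ℤ) b = -4) ∧
      ∀ k, k ≠ a → k ≠ b → (v1 : GolayPt → ℤ) k = 0 := by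
    rcases ha with ha | ha
    · exact ⟨v, Rel.refl v, ha, hb, h0⟩
    · obtain ⟨v', hr, h1, h2, h3⟩ := flipAt v a b hab
      exact ⟨v', hr, by rw [h1, ha]; norm_num, by rw [h2]; exact hb,
        fun k hka hkb => h3 k (h0 k hka hkb)⟩
  obtain ⟨v2, hr2, ha2, hb2, h02⟩ : ∃ v2 : leechLattice, Rel v1 v2 ∧ (v2 : GolayPt → ℤ) a = 4 ∧
      (v2 : GolayPt → ℤ) b = 4 ∧ ∀ k, k ≠ a → k ≠ b → (v2 : GolayPt → ℤ) k = 0 := by
    rcases hb1 with hb1 | hb1
    · exact ⟨v1, Rel.refl v1, ha1, hb1, h01⟩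
    · obtain ⟨v', hr, h1, h2, h3⟩ := flipAt v1 b a hab.symm
      exact ⟨v', hr, by rw [h2]; exact ha1, by rw [h1, hb1]; norm_num,
        fun k hka hkb => h3 k (h01 k hka hkb)⟩
  obtain ⟨g, hg, hg0, hg1⟩ := m24_two p0 p1 a b (by decide) hab
  have hfin : CoA.prmP g hg v2 = aStar := by
    apply Subtype.ext
    funext k
    rw [CoA.prmP_apply]
    show _ = LeechGen.pp p0 p1 4 k
    unfold LeechGen.pp
    by_cases hk0 : k = p0
    · rw [hk0, hg0, ha2]
      decide
    · by_cases hk1 : k = p1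
      · rw [hk1, hg1, hb2]
        decide
      · rw [if_neg hk0, if_neg hk1, h02 (g k)]
        · norm_num
        · intro h
          apply hk0
          apply g.injective
          rw [h, hg0]
        · intro h
          apply hk1
          apply g.injective
          rw [h, hg1]
  exact hr1.trans (hr2.trans (hfin ▸ rel_prm g hg v2))

/-- Membership in the lattice from a certificate for the doubled vector. -/
theorem mem_of_double (x : GolayPt → ℤ) (m : ℤ) (a : ℕ) (h : Xi.inD (fun k => 2 * x k) m a) :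
    x ∈ leechLattice := by
  obtain ⟨y, hy, e⟩ := LeechCross.mem_D.1 (Xi.mem_D_of_inD h)
  have : x = y := by
    funext k
    have := congrFun e k
    rw [Pi.smul_apply, two_nsmul] at this
    omega
  rw [this]
  exact hy

/-- The standard even minimal vector of octad shape. -/
def bVec : GolayPt → ℤ := fun k => if word 5279 k = 1 then 2 else 0

set_option maxRecDepth 100000 in
theorem bVec_chk : Xi.inD (fun k => 2 * bVec k) 0 5279 := by decide +kernel

def bStar : leechLattice := ⟨bVec, mem_of_double bVec 0 5279 bVec_chk⟩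

def pmL : List ℕ := [0, 352547, 52005, 213833, 442481, 0, 0, 493953, 0, 0, 175681, 0, 334433,
  0, 0, 0, 0, 0, 0, 0, 0, 0, 0, 0]

def pm (a : GolayPt) : ℕ := pmL.getD (code a) 0

set_option maxRecDepth 100000 in
theorem pm_red : ∀ a : GolayPt, red basisP (pm a) = 0 := by decide +kernel

set_option maxRecDepth 100000 in
theorem pm_spec : ∀ a i : GolayPt, word 5279 a = 1 → a ≠ p0 → word 5279 i = 1 → i ≠ p0 →
    (word (pm a) i = 1 ↔ a = i) := by decide +kernel

theorem normB0 (v : leechLattice)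
    (h2 : ∀ k, word 5279 k = 1 → ((v : GolayPt → ℤ) k = 2 ∨ (v : GolayPt → ℤ) k = -2))
    (h0 : ∀ k, word 5279 k ≠ 1 → (v : GolayPt → ℤ) k = 0) : Rel v bStar := by
  classical
  obtain ⟨F, hF⟩ : ∃ F : Finset GolayPt, F = Finset.univ.filter
      (fun a => word 5279 a = 1 ∧ a ≠ p0 ∧ (v : GolayPt → ℤ) a < 0) := ⟨_, rfl⟩
  obtain ⟨c, hc⟩ : ∃ c : GolayPt → ZMod 2, c = ∑ a ∈ F, word (pm a) := ⟨_, rfl⟩
  have hcm : c ∈ golayCode := by
    rw [hc]
    exact Submodule.sum_mem _ (fun a _ => Xi.word_mem_of_red (pm_red a))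
  have hci : ∀ i, word 5279 i = 1 → i ≠ p0 → (c i = 1 ↔ (v : GolayPt → ℤ) i < 0) := by
    intro i hi hi0
    have e : c i = ∑ a ∈ F, (if a = i then (1 : ZMod 2) else 0) := by
      rw [hc, Finset.sum_apply]
      apply Finset.sum_congr rfl
      intro a ha
      rw [hF, Finset.mem_filter] at ha
      have := pm_spec a i ha.2.1 ha.2.2.1 hi hi0
      by_cases hai : a = i
      · rw [if_pos hai]
        exact this.2 hai
      · rw [if_neg hai]
        rcases z2_cases (word (pm a) i) with h | h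
        · exact h
        · exact absurd (this.1 h) hai
    rw [e, Finset.sum_ite_eq' F i (fun _ => (1 : ZMod 2))]
    have hiF : i ∈ F ↔ (v : GolayPt → ℤ) i < 0 := by
      rw [hF, Finset.mem_filter]
      exact ⟨fun hh => hh.2.2.2, fun h => ⟨Finset.mem_univ _, hi, hi0, h⟩⟩
    constructor
    · intro h
      by_contra hcon
      rw [if_neg (fun hh => hcon (hiF.1 hh))] at h
      exact absurd h (by decide)
    · intro h
      rw [if_pos (hiF.2 h)]
  have hv'k : ∀ k, k ≠ p0 → ((CoA.sgnP c hcm v : leechLattice) : GolayPt → ℤ) k = bVec k := by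
    intro k hk
    rw [CoA.sgnP_apply]
    unfold CoA.sgn bVec
    by_cases hO : word 5279 k = 1
    · rw [if_pos hO]
      by_cases hneg : (v : GolayPt → ℤ) k < 0
      · rw [if_pos ((hci k hO hk).2 hneg)]
        rcases h2 k hO with h | h <;> omega
      · rw [if_neg (fun h => hneg ((hci k hO hk).1 h))]
        rcases h2 k hO with h | h <;> omega
    · rw [if_neg hO, h0 k hO]
      split_ifs <;> rfl
  have hz : ((CoA.sgnP c hcm v : leechLattice) : GolayPt → ℤ) p0 = 2 ∨
      ((CoA.sgnP c hcm v : leechLattice) : GolayPt → ℤ) p0 = -2 := by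
    rw [CoA.sgnP_apply]
    unfold CoA.sgn
    have := h2 p0 (by decide)
    split_ifs <;> omega
  have hs1 := even_sum _ (CoA.sgnP c hcm v).2 p0 (by rcases hz with h | h <;> rw [h] <;> norm_num)
  have hs2 : (∑ k, bVec k) % 8 = 0 := even_sum _ bStar.2 p0 (by decide)
  have hdiff : ∑ k, (((CoA.sgnP c hcm v : leechLattice) : GolayPt → ℤ) k - bVec k) =
      ((CoA.sgnP c hcm v : leechLattice) : GolayPt → ℤ) p0 - bVec p0 := by
    apply Finset.sum_eq_single p0
    · intro k _ hk
      rw [hv'k k hk, sub_self]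
    · intro h
      exact absurd (Finset.mem_univ _) h
  rw [Finset.sum_sub_distrib] at hdiff
  have hb0 : bVec p0 = 2 := by decide
  have hzz : ((CoA.sgnP c hcm v : leechLattice) : GolayPt → ℤ) p0 = 2 := by
    rcases hz with h | h
    · exact h
    · rw [h, hb0] at hdiff
      omega
  have hfin : CoA.sgnP c hcm v = bStar := by
    apply Subtype.ext
    funext k
    by_cases hk : k = p0
    · rw [hk, hzz]
      exact hb0.symm
    · exact hv'k k hk
  rw [← hfin]
  exact rel_sgn c hcm v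

theorem normB (v : leechLattice) (hn : sqNorm (v : GolayPt → ℤ) = 32)
    (i0 : GolayPt) (h0 : (v : GolayPt → ℤ) i0 % 4 = 2) : Rel v bStar := by
  classical
  obtain ⟨b, c, hc, h1⟩ := min_data v hn
  have hb : b = false := by
    cases b
    · rfl
    · exfalso
      have := h1 i0
      rw [Cnt.pz_true] at this
      split_ifs at this <;> omega
  subst hb
  rw [Cnt.pz_false] at h1
  have hci0 : c i0 = 1 := by
    by_contra hcon
    have := h1 i0
    rw [if_neg hcon] at this
    omega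
  have hterm : ∀ k, 0 ≤ (v : GolayPt → ℤ) k ^ 2 - (if c k ≠ 0 then 4 else 0) := by
    intro k
    have := h1 k
    by_cases hk : c k = 1
    · rw [if_pos hk] at this
      rw [if_pos (by rw [hk]; decide)]
      have h2 : (v : GolayPt → ℤ) k ≠ 0 := by
        intro h
        rw [h] at this
        norm_num at this
      rcases lt_or_gt_of_ne h2 with h | h
      · have : (v : GolayPt → ℤ) k ≤ -2 := by omega
        nlinarith
      · have : 2 ≤ (v : GolayPt → ℤ) k := by omega
        nlinarith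
    · have hk0 : c k = 0 := by
        rcases z2_cases (c k) with h | h
        · exact h
        · exact absurd h hk
      rw [if_neg (by rw [hk0]; decide)]
      have := sq_nonneg ((v : GolayPt → ℤ) k)
      omega
  have hsumterm : ∑ k, ((v : GolayPt → ℤ) k ^ 2 - (if c k ≠ 0 then (4 : ℤ) else 0)) =
      32 - 4 * (hammingNorm c : ℤ) := by
    rw [Finset.sum_sub_distrib]
    have e1 : ∑ k, (v : GolayPt → ℤ) k ^ 2 = 32 := hn
    have e2 : ∑ k, (if c k ≠ 0 then (4 : ℤ) else 0) = 4 * (hammingNorm c : ℤ) := by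
      unfold hammingNorm
      rw [Finset.card_filter]
      push_cast
      rw [Finset.mul_sum]
      apply Finset.sum_congr rfl
      intro k _
      split_ifs <;> norm_num
    rw [e1, e2]
  have hge : 0 ≤ ∑ k, ((v : GolayPt → ℤ) k ^ 2 - (if c k ≠ 0 then (4 : ℤ) else 0)) :=
    Finset.sum_nonneg (fun k _ => hterm k)
  have hw8 : hammingNorm c = 8 := by
    have hne : hammingNorm c ≠ 0 := by
      rw [Ne, hammingNorm_eq_zero]
      intro h
      rw [h, Pi.zero_apply] at hci0
      exact absurd hci0 (by decide)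
    rcases Golay.weights c hc with h | h | h | h | h
    · exact absurd h hne
    · exact h
    all_goals (rw [hsumterm, h] at hge; norm_num at hge)
  have hzero : ∀ k, (v : GolayPt → ℤ) k ^ 2 - (if c k ≠ 0 then (4 : ℤ) else 0) = 0 := by
    have hs0 : ∑ k, ((v : GolayPt → ℤ) k ^ 2 - (if c k ≠ 0 then (4 : ℤ) else 0)) = 0 := by
      rw [hsumterm, hw8]
      norm_num
    intro k
    exact (Finset.sum_eq_zero_iff_of_nonneg (fun k _ => hterm k)).1 hs0 k (Finset.mem_univ k)
  have hoct : support₂ c ∈ octads := ⟨⟨c, hc, rfl⟩, hw8⟩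
  obtain ⟨g, hg, hgo⟩ := Golay.octad_trans _ _ hoct Golay.O0s_octad
  have hginv : g⁻¹ ∈ M24 := Subgroup.inv_mem _ hg
  have hmem : ∀ k, word 5279 k = 1 ↔ c (g⁻¹ k) = 1 := by
    intro k
    rw [← mem_support₂, ← mem_support₂]
    show k ∈ Golay.O0s ↔ _
    rw [← hgo, Finset.mem_smul_finset]
    constructor
    · rintro ⟨y, hy, rfl⟩
      simpa using hy
    · intro h
      exact ⟨g⁻¹ k, h, by simp⟩
  apply (rel_prm g⁻¹ hginv v).trans
  apply normB0
  · intro k hk
    rw [CoA.prmP_apply]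
    have hck := (hmem k).1 hk
    have := hzero (g⁻¹ k)
    rw [if_pos (by rw [hck]; decide)] at this
    have h4 : (v : GolayPt → ℤ) (g⁻¹ k) ^ 2 = 4 := by omega
    have h5 : -2 ≤ (v : GolayPt → ℤ) (g⁻¹ k) := by nlinarith
    have h6 : (v : GolayPt → ℤ) (g⁻¹ k) ≤ 2 := by nlinarith
    have h7 := h1 (g⁻¹ k)
    rw [if_pos hck] at h7
    omega
  · intro k hk
    rw [CoA.prmP_apply]
    have hck : ¬ c (g⁻¹ k) = 1 := fun h => hk ((hmem k).2 h)
    have hck0 : c (g⁻¹ k) = 0 := by
      rcases z2_cases (c (g⁻¹ k)) with h | h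
      · exact h
      · exact absurd h hck
    have := hzero (g⁻¹ k)
    rw [if_neg (by rw [hck0]; decide)] at this
    have h4 : (v : GolayPt → ℤ) (g⁻¹ k) ^ 2 = 0 := by omega
    exact (pow_eq_zero_iff (by norm_num)).1 h4

def b1L : List ℤ := [2, 2, 2, -2, 2, 0, 0, 2, 0, 0, 2, 0, -2, 0, 0, 0, 0, 0, 0, 0, 0, 0, 0, 0]

def c1L : List ℤ := [3, 1, -1, -1, 1, -1, -1, -1, -1, 1, 1, 1, 1, 1, 1, 1, 1, 1, -1, 1, 1, 1, 1, 1]

def vecL (L : List ℤ) : GolayPt → ℤ := fun p => L.getD (code p) 0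

set_option maxRecDepth 100000 in
theorem b1_chk : Xi.inD (fun k => 2 * vecL b1L k) 0 5279 := by decide +kernel

set_option maxRecDepth 100000 in
theorem c1_chk : Xi.inD (fun k => 2 * vecL c1L k) 1 262637 := by decide +kernel

def b1 : leechLattice := ⟨vecL b1L, mem_of_double _ 0 5279 b1_chk⟩

def c1 : leechLattice := ⟨vecL c1L, mem_of_double _ 1 262637 c1_chk⟩

set_option maxRecDepth 100000 in
theorem b1_norm : sqNorm (b1 : GolayPt → ℤ) = 32 := by decide +kernel

set_option maxRecDepth 100000 in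
theorem c1_norm : sqNorm (c1 : GolayPt → ℤ) = 32 := by decide +kernel

set_option maxRecDepth 100000 in
theorem b1_xi : ∀ i, Xi.E2 (vecL b1L) i % 8 = 0 := by decide +kernel

set_option maxRecDepth 100000 in
theorem c1_xi : Xi.E2 (vecL c1L) (some 0) % 8 = 4 := by decide +kernel

set_option maxRecDepth 100000 in
theorem c1_odd : ∀ i, vecL c1L i % 2 = 1 := by decide +kernel

theorem link_ba : Rel bStar aStar := by
  have h1 : Rel b1 bStar := normB b1 b1_norm (some 0) (by decide)
  have h2 : Rel (Xi.xiV b1) aStar := by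
    apply normA _ (by rw [Xi.xiV_norm]; exact b1_norm)
    intro i
    have h3 := Xi.xiV_spec' b1 i
    have h4 : Xi.E2 ((b1 : leechLattice) : GolayPt → ℤ) i % 8 = 0 := b1_xi i
    omega
  exact h1.symm.trans ((rel_xi b1).trans h2)

theorem link_cb : Rel cStar bStar := by
  have h1 : Rel c1 cStar := normC c1 c1_norm c1_odd
  have h2 : Rel (Xi.xiV c1) bStar := by
    apply normB _ (by rw [Xi.xiV_norm]; exact c1_norm) (some 0)
    have h3 := Xi.xiV_spec' c1 (some 0)
    have h4 : Xi.E2 ((c1 : leechLattice) : GolayPt → ℤ) (some 0) % 8 = 4 := c1_xi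
    omega
  exact h1.symm.trans ((rel_xi c1).trans h2)

/-- Every minimal vector is in the orbit of the standard one. -/
theorem all_rel (v : leechLattice) (hn : sqNorm (v : GolayPt → ℤ) = 32) : Rel v aStar := by
  obtain ⟨b, c, hc, h1⟩ := min_data v hn
  cases b
  · rw [Cnt.pz_false] at h1
    by_cases hex : ∃ i0, c i0 = 1
    · obtain ⟨i0, hi0⟩ := hex
      have := h1 i0
      rw [if_pos hi0] at this
      exact (normB v hn i0 (by omega)).trans link_ba
    · push Not at hex
      apply normA v hn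
      intro i
      have := h1 i
      rw [if_neg (hex i)] at this
      omega
  · rw [Cnt.pz_true] at h1
    have hodd : ∀ i, (v : GolayPt → ℤ) i % 2 = 1 := by
      intro i
      have := h1 i
      split_ifs at this <;> omega
    exact (normC v hn hodd).trans (link_cb.trans link_ba)

/-- The automorphism group is transitive on minimal vectors. -/
theorem trans32 (v w : leechLattice) (hv : sqNorm (v : GolayPt → ℤ) = 32)
    (hw : sqNorm (w : GolayPt → ℤ) = 32) : ∃ g : Co0, g • v = w := by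
  obtain ⟨g, hg, e⟩ := (all_rel v hv).trans (all_rel w hw).symm
  exact ⟨⟨g, hg⟩, e⟩

end Orb
end Cfsg.Agent.Lib.Helper4
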