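import Cfsg.Agent.Lib.Helper4.Rk1

set_option autoImplicit false

namespace Cfsg.Agent.Lib.Helper4
namespace Punct

open Golay

/-- Restriction of a word to the 23 finite points. -/
def rho (w : GolayPt → ZMod 2) : ZMod 23 → ZMod 2 := fun x => w (some x)

theorem rho_add (v w : GolayPt → ZMod 2) : rho (v + w) = rho v + rho w := rfl

theorem rho_sub (v w : GolayPt → ZMod 2) : rho (v - w) = rho v - rho w := rfl

theorem norm_rho (w : GolayPt → ZMod 2) :
    hammingNorm w = hammingNorm (rho w) + (if w none = 0 then 0 else 1) := by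
  unfold hammingNorm
  rw [Finset.card_filter, Finset.card_filter, Fintype.sum_option]
  unfold rho
  by_cases h : w none = 0
  · simp [h]
  · simp only [h, ne_eq, not_false_eq_true, if_true, if_false]
    omega

theorem word_none (a : ℕ) : word a none = if a.testBit 23 then 1 else 0 := by
  rw [word_apply]
  rfl

theorem norm_rho_word (a : ℕ) :
    hammingNorm (rho (word a)) = pc a - cond (a.testBit 23) 1 0 := by
  have h := norm_rho (word a)
  rw [hammingNorm_word, word_none] at h
  cases hb : a.testBit 23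
  · rw [hb] at h
    simp at h
    simp [h]
  · rw [hb] at h
    simp at h
    simp [h]

theorem rho_injOn : Set.InjOn rho (golayCode : Set (GolayPt → ZMod 2)) := by
  intro v hv w hw h
  have hd : v - w ∈ golayCode := golayCode.sub_mem hv hw
  have h0 : rho (v - w) = 0 := by rw [rho_sub, h, sub_self]
  have h1 := norm_rho (v - w)
  rw [h0, hammingNorm_zero] at h1
  have h2 : hammingNorm (v - w) ≤ 1 := by
    rw [h1]
    split_ifs <;> omega
  have h3 : hammingNorm (v - w) = 0 := by
    rcases weights (v - w) hd with h | h | h | h | h <;> omega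
  exact sub_eq_zero.1 (hammingNorm_eq_zero.1 h3)

/-- The punctured code. -/
def P : Set (ZMod 23 → ZMod 2) := {u | ∃ w ∈ golayCode, ∀ x : ZMod 23, u x = w (some x)}

theorem P_eq : P = rho '' (golayCode : Set (GolayPt → ZMod 2)) := by
  ext u
  constructor
  · rintro ⟨w, hw, h⟩
    exact ⟨w, hw, (funext h).symm⟩
  · rintro ⟨w, hw, rfl⟩
    exact ⟨w, hw, fun _ => rfl⟩

theorem ncard_P : P.ncard = 4096 := by
  rw [P_eq, Set.InjOn.ncard_image rho_injOn, ← card_code]
  exact (Nat.card_coe_set_eq _).symm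

/-- Weight enumerator of the punctured code by enumeration. -/
theorem ncard_P_weight (k : ℕ) : {u | u ∈ P ∧ hammingNorm u = k}.ncard
    = countComb (fun a => Nat.beq (pc a - cond (a.testBit 23) 1 0) k) basis 0 := by
  rw [← countComb_sound (fun a => Nat.beq (pc a - cond (a.testBit 23) 1 0) k)
    (fun w => hammingNorm (rho w) = k) (fun a => by rw [norm_rho_word, Nat.beq_eq]) basis
    indep_basis 0]
  have h1 : {u | u ∈ P ∧ hammingNorm u = k}
      = rho '' {w | (∃ v ∈ sp basis, w = word 0 + v) ∧ hammingNorm (rho w) = k} := by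
    ext u
    simp only [P_eq, Set.mem_ofPred_eq, Set.mem_image, word_zero, zero_add, ← golay_eq,
      SetLike.mem_coe]
    constructor
    · rintro ⟨⟨w, hw, rfl⟩, hk⟩
      exact ⟨w, ⟨⟨w, hw, rfl⟩, hk⟩, rfl⟩
    · rintro ⟨w, ⟨⟨v, hv, e⟩, hk⟩, rfl⟩
      subst e
      exact ⟨⟨_, hv, rfl⟩, hk⟩
  rw [h1]
  apply Set.InjOn.ncard_image
  apply rho_injOn.mono
  rintro w ⟨⟨v, hv, e⟩, -⟩
  rw [word_zero, zero_add] at e
  rw [e, SetLike.mem_coe, golay_eq]
  exact hv

theorem min_weight (u : ZMod 23 → ZMod 2) (hu : u ∈ P) (h0 : u ≠ 0) : 7 ≤ hammingNorm u := by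
  rw [P_eq] at hu
  obtain ⟨w, hw, rfl⟩ := hu
  have hw0 : hammingNorm w ≠ 0 := by
    intro h
    rw [hammingNorm_eq_zero] at h
    exact h0 (by rw [h]; rfl)
  have h1 := norm_rho w
  have h2 : hammingNorm w ≤ hammingNorm (rho w) + 1 := by
    rw [h1]
    split_ifs <;> omega
  rcases weights w hw with h | h | h | h | h <;> omega

end Punct
end Cfsg.Agent.Lib.Helper4
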