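import Cfsg.Agent.Lib.Helper4.Punct

set_option autoImplicit false

namespace Cfsg.Agent.Lib.Helper4
namespace Punct

open Golay

/-- Words over the field with two elements correspond to their supports. -/
def suppEquiv : (ZMod 23 → ZMod 2) ≃ Finset (ZMod 23) where
  toFun e := Finset.univ.filter (fun x => e x ≠ 0)
  invFun s := fun x => if x ∈ s then 1 else 0
  left_inv e := by
    funext x
    have : ∀ y : ZMod 2, (if y ≠ 0 then (1 : ZMod 2) else 0) = y := by decide
    simp only [Finset.mem_filter, Finset.mem_univ, true_and]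
    exact this (e x)
  right_inv s := by
    ext x
    simp

theorem card_suppEquiv (e : ZMod 23 → ZMod 2) : (suppEquiv e).card = hammingNorm e := rfl

theorem card_small_sets :
    Fintype.card {s : Finset (ZMod 23) // s.card ≤ 3} = 2048 := by
  rw [Fintype.card_subtype]
  rw [Finset.card_eq_sum_card_fiberwise (f := Finset.card) (t := Finset.range 4) (by
    intro x hx
    rw [Finset.mem_coe, Finset.mem_filter] at hx
    rw [Finset.mem_coe, Finset.mem_range]
    omega)]
  have key : ∀ k ∈ Finset.range 4,
      ((Finset.univ.filter (fun s : Finset (ZMod 23) => s.card ≤ 3)).filter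
        (fun s => s.card = k)).card = Nat.choose 23 k := by
    intro k hk
    rw [Finset.mem_range] at hk
    have : (Finset.univ.filter (fun s : Finset (ZMod 23) => s.card ≤ 3)).filter
        (fun s => s.card = k) = Finset.powersetCard k Finset.univ := by
      ext s
      simp only [Finset.mem_filter, Finset.mem_univ, true_and, Finset.mem_powersetCard,
        Finset.subset_univ]
      omega
    rw [this, Finset.card_powersetCard, Finset.card_univ, ZMod.card]
  rw [Finset.sum_congr rfl key]
  decide

/-- The ball of radius three. -/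
def Ball : Set (ZMod 23 → ZMod 2) := {e | hammingNorm e ≤ 3}

theorem card_Ball : Nat.card ↥Ball = 2048 := by
  rw [← card_small_sets, ← Nat.card_eq_fintype_card]
  exact Nat.card_congr (suppEquiv.subtypeEquiv (fun e => Iff.rfl))

theorem P_sub {c c' : ZMod 23 → ZMod 2} (hc : c ∈ P) (hc' : c' ∈ P) : c - c' ∈ P := by
  rw [P_eq] at hc hc' ⊢
  obtain ⟨w, hw, rfl⟩ := hc
  obtain ⟨w', hw', rfl⟩ := hc'
  exact ⟨w - w', golayCode.sub_mem hw hw', rfl⟩

theorem eq_of_close {c c' : ZMod 23 → ZMod 2} (hc : c ∈ P) (hc' : c' ∈ P)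
    (h : hammingDist c c' ≤ 6) : c = c' := by
  by_contra hne
  have h1 := min_weight (c - c') (P_sub hc hc') (sub_ne_zero.2 hne)
  rw [← neg_add_eq_sub, ← hammingDist_eq_hammingNorm, hammingDist_comm] at h1
  omega

theorem phi_inj : Function.Injective (fun x : ↥P × ↥Ball => (x.1 : ZMod 23 → ZMod 2) + x.2) := by
  rintro ⟨⟨c, hc⟩, ⟨e, he⟩⟩ ⟨⟨c', hc'⟩, ⟨e', he'⟩⟩ h
  have h' : c + e = c' + e' := h
  have hd : hammingDist c c' ≤ 6 := by
    have h1 : hammingDist c (c + e) = hammingNorm e := by
      rw [hammingDist_eq_hammingNorm, neg_add_cancel_left]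
    have h2 : hammingDist (c + e) c' = hammingNorm e' := by
      rw [h', hammingDist_comm, hammingDist_eq_hammingNorm, neg_add_cancel_left]
    have h3 := hammingDist_triangle c (c + e) c'
    have he1 : hammingNorm e ≤ 3 := he
    have he2 : hammingNorm e' ≤ 3 := he'
    omega
  have hcc : c = c' := eq_of_close hc hc' hd
  subst hcc
  have hee : e = e' := add_left_cancel h'
  subst hee
  rfl

theorem card_P : Nat.card ↥P = 4096 := by
  rw [Nat.card_coe_set_eq]
  exact ncard_P

theorem phi_surj : Function.Surjective (fun x : ↥P × ↥Ball => (x.1 : ZMod 23 → ZMod 2) + x.2) := by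
  have hfin : Finite (↥P × ↥Ball) := inferInstance
  refine (Function.Injective.bijective_of_nat_card_le phi_inj ?_).2
  rw [Nat.card_prod, card_P, card_Ball, Nat.card_eq_fintype_card, Fintype.card_fun, ZMod.card,
    ZMod.card]
  norm_num

/-- The punctured code is perfect. -/
theorem perfect (u : ZMod 23 → ZMod 2) : ∃! c : ZMod 23 → ZMod 2, c ∈ P ∧ hammingDist u c ≤ 3 := by
  obtain ⟨⟨⟨c, hc⟩, ⟨e, he⟩⟩, h⟩ := phi_surj u
  have h' : c + e = u := h
  have hdist : hammingDist u c ≤ 3 := by
    rw [← h', hammingDist_comm, hammingDist_eq_hammingNorm, neg_add_cancel_left]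
    exact he
  refine ⟨c, ⟨hc, hdist⟩, ?_⟩
  rintro c' ⟨hc', hd'⟩
  apply eq_of_close hc' hc
  have h3 := hammingDist_triangle c' u c
  rw [hammingDist_comm c' u] at h3
  omega

end Punct
end Cfsg.Agent.Lib.Helper4
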