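import Cfsg.Agent.Lib.Helper4.Tr1
import Cfsg.Agent.Lib.Helper4.GolayM12
import Cfsg.Agent.S0363

set_option autoImplicit false

namespace Cfsg.Agent.Lib.Helper4
namespace Qt

open Pointwise Golay Sx

theorem qt_disjoint {d : Finset GolayPt} {Q : Finset (Finset GolayPt)} (hQ : Q ∈ quartets d)
    {t u : Finset GolayPt} (ht : t ∈ Q) (hu : u ∈ Q) (hne : t ≠ u) : Disjoint t u := by
  have h6 := (hQ.2.2 t ht u hu hne).1
  rw [← Finset.card_union_eq_card_add_card, h6, (hQ.2.1 t ht).1, (hQ.2.1 u hu).1]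

theorem qt_cover {d : Finset GolayPt} (hd : d.card = 12) {Q : Finset (Finset GolayPt)}
    (hQ : Q ∈ quartets d) {p : GolayPt} (hp : p ∈ d) : ∃ t ∈ Q, p ∈ t := by
  classical
  have hcard : (Q.biUnion (fun t => t)).card = 12 := by
    rw [Finset.card_biUnion (fun t ht u hu hne => qt_disjoint hQ ht hu hne),
      Finset.sum_congr rfl (fun t ht => (hQ.2.1 t ht).1), Finset.sum_const, hQ.1]
    rfl
  have hsub : Q.biUnion (fun t => t) ⊆ d := by
    intro x hx
    obtain ⟨t, ht, hxt⟩ := Finset.mem_biUnion.1 hx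
    exact (hQ.2.1 t ht).2 hxt
  have heq : Q.biUnion (fun t => t) = d :=
    Finset.eq_of_subset_of_card_le hsub (by rw [hcard, hd])
  rw [← heq] at hp
  obtain ⟨t, ht, hpt⟩ := Finset.mem_biUnion.1 hp
  exact ⟨t, ht, hpt⟩

/-- Two hexads on a set sharing five points are equal. -/
theorem hexad_eq {d h h' : Finset GolayPt} (hh : h ∈ hexadsOn d) (hh' : h' ∈ hexadsOn d)
    (h5 : 5 ≤ (h ∩ h').card) : h = h' := by
  obtain ⟨-, o, ho, rfl⟩ := hh
  obtain ⟨-, o', ho', rfl⟩ := hh'
  have : o = o' := Steiner.eq_of_le_inter Cfsg.Agent.S0363.result ho ho'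
    (le_trans h5 (Finset.card_le_card (by
      intro x hx
      rw [Finset.mem_inter, Finset.mem_inter, Finset.mem_inter] at hx
      exact Finset.mem_inter.2 ⟨hx.1.1, hx.2.1⟩)))
  rw [this]

theorem quartet_sub {d : Finset GolayPt} (hd : d.card = 12) {Q Q' : Finset (Finset GolayPt)}
    (hQ : Q ∈ quartets d) (hQ' : Q' ∈ quartets d) {t u : Finset GolayPt} (ht : t ∈ Q)
    (hu : u ∈ Q) (hne : t ≠ u) (ht' : t ∈ Q') (hu' : u ∈ Q') : Q ⊆ Q' := by
  classical
  intro v hv
  by_cases hvt : v = t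
  · rw [hvt]
    exact ht'
  by_cases hvu : v = u
  · rw [hvu]
    exact hu'
  have dvt := qt_disjoint hQ hv ht hvt
  have dvu := qt_disjoint hQ hv hu hvu
  have hv3 := (hQ.2.1 v hv).1
  have hvd := (hQ.2.1 v hv).2
  have hE : ((Q'.erase t).erase u).card = 2 := by
    rw [Finset.card_erase_of_mem (Finset.mem_erase.2 ⟨Ne.symm hne, hu'⟩),
      Finset.card_erase_of_mem ht', hQ'.1]
  have hsub : v ⊆ ((Q'.erase t).erase u).biUnion (fun w => v ∩ w) := by
    intro x hx
    obtain ⟨w, hw, hxw⟩ := qt_cover hd hQ' (hvd hx)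
    refine Finset.mem_biUnion.2 ⟨w, ?_, Finset.mem_inter.2 ⟨hx, hxw⟩⟩
    rw [Finset.mem_erase, Finset.mem_erase]
    refine ⟨?_, ?_, hw⟩
    · rintro rfl
      exact Finset.disjoint_left.1 dvu hx hxw
    · rintro rfl
      exact Finset.disjoint_left.1 dvt hx hxw
  have hex : ∃ w ∈ (Q'.erase t).erase u, 2 ≤ (v ∩ w).card := by
    by_contra hcon
    have hcon' : ∀ w ∈ (Q'.erase t).erase u, (v ∩ w).card ≤ 1 := by
      intro w hw
      by_contra hlt
      exact hcon ⟨w, hw, by omega⟩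
    have h1 : v.card ≤ ∑ w ∈ (Q'.erase t).erase u, (v ∩ w).card :=
      (Finset.card_le_card hsub).trans Finset.card_biUnion_le
    have h2 : ∑ w ∈ (Q'.erase t).erase u, (v ∩ w).card ≤ ((Q'.erase t).erase u).card • 1 :=
      Finset.sum_le_card_nsmul _ _ _ (fun w hw => hcon' w hw)
    rw [hE] at h2
    rw [hv3] at h1
    simp at h2
    omega
  obtain ⟨w, hw, h2⟩ := hex
  rw [Finset.mem_erase, Finset.mem_erase] at hw
  obtain ⟨hwu, hwt, hwQ⟩ := hw
  have dwt := qt_disjoint hQ' hwQ ht' hwt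
  have hh1 := hQ.2.2 t ht v hv (Ne.symm hvt)
  have hh2 := hQ'.2.2 t ht' w hwQ (Ne.symm hwt)
  have h5 : 5 ≤ ((t ∪ v) ∩ (t ∪ w)).card := by
    have hs : t ∪ (v ∩ w) ⊆ (t ∪ v) ∩ (t ∪ w) := by
      rw [← Finset.union_inter_distrib_left]
    have hdj : Disjoint t (v ∩ w) :=
      Finset.disjoint_of_subset_right Finset.inter_subset_left dvt.symm
    have hc : (t ∪ (v ∩ w)).card = t.card + (v ∩ w).card :=
      Finset.card_union_eq_card_add_card.2 hdj
    have := Finset.card_le_card hs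
    rw [hc, (hQ.2.1 t ht).1] at this
    omega
  have e := hexad_eq hh1 hh2 h5
  have : v = w := by
    rw [← Finset.union_sdiff_cancel_left dvt.symm, ← Finset.union_sdiff_cancel_left dwt.symm, e]
  rw [this]
  exact hwQ

/-- A quartet is determined by two of its members. -/
theorem quartet_unique {d : Finset GolayPt} (hd : d.card = 12) {Q Q' : Finset (Finset GolayPt)}
    (hQ : Q ∈ quartets d) (hQ' : Q' ∈ quartets d) {t u : Finset GolayPt} (ht : t ∈ Q)
    (hu : u ∈ Q) (hne : t ≠ u) (ht' : t ∈ Q') (hu' : u ∈ Q') : Q = Q' :=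
  Finset.eq_of_subset_of_card_le (quartet_sub hd hQ hQ' ht hu hne ht' hu')
    (by rw [hQ.1, hQ'.1])

theorem smul_hexad {g : Equiv.Perm GolayPt} (hg : g ∈ M24) {d h : Finset GolayPt}
    (hh : h ∈ hexadsOn d) : g • h ∈ hexadsOn (g • d) := by
  obtain ⟨h6, o, ho, rfl⟩ := hh
  refine ⟨by rw [Finset.card_smul_finset]; exact h6, g • o, smul_mem_weight hg ho, ?_⟩
  rw [Finset.smul_finset_inter]

theorem smul_quartet {g : Equiv.Perm GolayPt} (hg : g ∈ M24) {d : Finset GolayPt}
    {Q : Finset (Finset GolayPt)} (hQ : Q ∈ quartets d) : g • Q ∈ quartets (g • d) := by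
  refine ⟨by rw [Finset.card_smul_finset]; exact hQ.1, ?_, ?_⟩
  · intro t ht
    obtain ⟨t0, ht0, rfl⟩ := Finset.mem_smul_finset.1 ht
    exact ⟨by rw [Finset.card_smul_finset]; exact (hQ.2.1 t0 ht0).1,
      Finset.smul_finset_subset_smul_finset (hQ.2.1 t0 ht0).2⟩
  · intro t ht u hu hne
    obtain ⟨t0, ht0, rfl⟩ := Finset.mem_smul_finset.1 ht
    obtain ⟨u0, hu0, rfl⟩ := Finset.mem_smul_finset.1 hu
    rw [← Finset.smul_finset_union]
    exact smul_hexad hg (hQ.2.2 t0 ht0 u0 hu0 (fun e => hne (by rw [e])))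

theorem D0_lt : D0 < 16777216 := by decide

theorem card_D0s : D0s.card = 12 := D0_dod.2

set_option maxRecDepth 100000 in
/-- The hexads on the standard dodecad, as masks, each with an octad cutting it, in buckets. -/
def hexB : List (List (ℕ × ℕ)) := [
  [(123, 2162811), (1394, 267634), (165394, 427666)],
  [(131119, 8536111), (131406, 2232654), (164124, 180636), (164165, 12747077)],
  [(1355, 8398155), (1806, 280334), (33130, 4243818), (131448, 9568632), (132186, 150618)],
  [(33869, 2147405), (34074, 3179802), (132433, 2229713), (132720, 722544), (164618, 8555274), (165192, 951624)],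
  [(131614, 1245726), (132147, 1188915)],
  [(33912, 42232), (34404, 4490852), (132394, 198058), (164948, 1217620)],
  [(34118, 36294), (34569, 4229001), (131165, 663645), (165441, 175681)],
  [(1319, 6292775), (1811, 69395), (132888, 145176), (164704, 168928)],
  [(132684, 8521420), (132930, 5375810)],
  [(870, 8455014), (33875, 4752467)],
  [(1896, 2101096), (33835, 298027), (164625, 1737489)],
  [(33385, 8946281), (132646, 138790), (164134, 1474854)],
  [(33140, 2654580), (164422, 705094)],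
  [(33592, 361272), (132156, 2491452)],
  [(164137, 2269481), (164178, 237906)],
  [(343, 1065303), (33307, 57883), (34332, 560668)],
  [(1861, 530245), (131667, 8524371), (131913, 213833), (132897, 8783649), (165123, 185603)],
  [(591, 4196943), (131381, 201013), (132201, 4330601), (132365, 1182989), (164878, 4367374)],
  [(797, 10486557), (164387, 4424227)],
  [(1372, 4261212), (164962, 10650722)],
  [(881, 4203377), (33394, 1084018), (33558, 4231958), (34378, 104010), (165168, 4361520)],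
  [(636, 21116), (32862, 8683614), (33846, 115766), (34092, 8426796), (163898, 692282)],
  [(131427, 657763), (132452, 157028), (165416, 1230376)],
  [(1581, 75309), (1622, 2106966)],
  [(33603, 2392899), (132167, 459847)],
  [(1337, 542009), (132619, 2754059)],
  [(1625, 1312345), (33113, 39257), (132374, 9045270)],
  [(1134, 1573998), (131924, 396116), (163863, 2263063)],
  [(131884, 4850476), (164889, 8619033)],
  [(32829, 5275709), (33075, 8421811)],
  [(1055, 5279), (32871, 45159), (163948, 231532), (164440, 6455896)],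
  [(318, 10558), (34594, 567074), (131190, 4325622), (131641, 133817)],
  [(811, 1053483), (33365, 99029), (131355, 4587803), (131847, 140167)],
  [(33612, 1090380), (34145, 1148257)],
  [(567, 786999), (1141, 8391797), (33039, 622863), (33326, 2130606), (131685, 3277413), (131890, 2245426)],
  [(33573, 52005), (34311, 9471495), (132629, 4343317), (163953, 442481), (164404, 8561204)],
  [(1594, 12584506), (1635, 18147), (34353, 2135601), (34640, 8439632)],
  [(365, 262637), (164365, 430605), (165636, 2328324)],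
  [(858, 525274), (163915, 1212619)],
  [(34069, 304405), (131690, 402026)],
  [(1844, 1050548), (164901, 689317)]]

/-- Check of an entry of the list of hexads. -/
def hexChk (e : ℕ × ℕ) : Bool :=
  and (and (Nat.beq (e.2 &&& D0) e.1) (Nat.beq (pc e.1) 6))
    (and (Nat.beq (red basisP e.2) 0) (Nat.beq (pc e.2) 8))

set_option maxRecDepth 100000 in
theorem hexB_ok : hexB.all (fun B => B.all hexChk) = true := by decide +kernel

/-- A mask is a hexad on the standard dodecad. -/
def isHex (m : ℕ) : Bool := (hexB.getD (m % 41) []).any (fun e => Nat.beq e.1 m)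

theorem isHex_spec {m : ℕ} (h : isHex m = true) : support₂ (word m) ∈ hexadsOn D0s := by
  rw [isHex, List.any_eq_true] at h
  obtain ⟨e, he, hm⟩ := h
  rw [Nat.beq_eq] at hm
  have hall := hexB_ok
  rw [List.all_eq_true] at hall
  have hb : hexB.getD (m % 41) [] ∈ hexB := by
    by_cases hi : m % 41 < hexB.length
    · rw [List.getD_eq_getElem _ _ hi]
      exact List.getElem_mem hi
    · rw [List.getD_eq_default _ _ (by omega)] at he
      simp at he
  have h1 := hall _ hb
  rw [List.all_eq_true] at h1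
  have h2 := h1 e he
  simp only [hexChk, Bool.and_eq_true, Nat.beq_eq] at h2
  obtain ⟨⟨e1, e2⟩, e3, e4⟩ := h2
  rw [← hm]
  refine ⟨by rw [card_support, hammingNorm_word]; exact e2, support₂ (word e.2),
    Stv.mask_octad _ e3 e4, ?_⟩
  rw [D0s, Rk.inter_word, e1]

/-- Every hexad of the standard dodecad is listed. -/
def Hc (c : ℕ) : Bool :=
  or (not (and (Nat.beq (pc c) 8) (Nat.beq (pc (c &&& D0)) 6))) (isHex (c &&& D0))

set_option maxRecDepth 100000 in
theorem hex_complete : allComb Hc basis 0 = true := by decide +kernel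

theorem isHex_of {m : ℕ} (hm : m < 16777216) (h : support₂ (word m) ∈ hexadsOn D0s) :
    isHex m = true := by
  obtain ⟨h6, o, ho, e⟩ := h
  obtain ⟨⟨w, hw, rfl⟩, hc⟩ := ho
  obtain ⟨c, hHc, rfl⟩ := exists_word hw Hc hex_complete
  have pcc : pc c = 8 := by
    rw [← hammingNorm_word, ← card_support]
    exact hc
  rw [D0s, Rk.inter_word] at e
  have e' : c &&& D0 = m := word_inj (lt_of_le_of_lt Nat.and_le_right D0_lt) hm e
  have p6 : pc m = 6 := by
    rw [← hammingNorm_word, ← card_support]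
    exact h6
  rw [Hc, pcc, e', p6] at hHc
  simpa using hHc

/-- Check that a list of masks is a quartet of the standard dodecad. -/
def quartChk (L : List ℕ) : Bool :=
  and (and (and (Nat.beq L.length 4) (decide L.Nodup))
    (L.all (fun a => and (Nat.blt a 16777216)
      (and (Nat.beq (pc a) 3) (Nat.beq (a &&& D0) a)))))
    (L.all (fun a => L.all (fun b => or (Nat.beq a b) (isHex (a ||| b)))))

theorem quartChk_lt {L : List ℕ} (h : quartChk L = true) : ∀ a ∈ L, a < 16777216 := by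
  simp only [quartChk, Bool.and_eq_true, Nat.beq_eq, decide_eq_true_eq, List.all_eq_true,
    Nat.blt_eq, Bool.or_eq_true] at h
  exact fun a ha => (h.1.2 a ha).1

theorem mkSys_quartet {L : List ℕ} (h : quartChk L = true) : mkSys L ∈ quartets D0s := by
  simp only [quartChk, Bool.and_eq_true, Nat.beq_eq, decide_eq_true_eq, List.all_eq_true,
    Nat.blt_eq, Bool.or_eq_true] at h
  obtain ⟨⟨⟨h4, hnd⟩, h3⟩, hx⟩ := h
  refine ⟨?_, ?_, ?_⟩
  · rw [mkSys, Finset.card_image_of_injOn, List.toFinset_card_of_nodup hnd, h4]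
    intro a ha b hb e
    rw [Finset.mem_coe, List.mem_toFinset] at ha hb
    exact word_inj (h3 a ha).1 (h3 b hb).1 e
  · intro t ht
    obtain ⟨a, ha, rfl⟩ := mem_mkSys.1 ht
    refine ⟨by rw [card_support, hammingNorm_word]; exact (h3 a ha).2.1, ?_⟩
    rw [← (h3 a ha).2.2, ← Rk.inter_word]
    exact Finset.inter_subset_right
  · intro t ht u hu hne
    obtain ⟨a, ha, rfl⟩ := mem_mkSys.1 ht
    obtain ⟨b, hb, rfl⟩ := mem_mkSys.1 hu
    rcases hx a ha b hb with e | e
    · exact absurd (by rw [e]) hne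
    · rw [← support_or]
      exact isHex_spec e

theorem smul_D0 {l l' : List ℕ} (hc : chk l l' = true) (hD : pmL l D0 = D0) :
    mkPerm l l' hc • D0s = D0s := smul_support_word hc hD

theorem smul_mkSysQ {g : Equiv.Perm GolayPt} (hg : g ∈ M24) (hD : g • D0s = D0s)
    {L L' : List ℕ} (hL : mkSys L ∈ quartets D0s) (hL' : quartChk L' = true) {a b : ℕ}
    (ha : a ∈ L') (hb : b ∈ L') (hab : a ≠ b)
    (h1 : ∃ x ∈ L, g • support₂ (word x) = support₂ (word a))
    (h2 : ∃ y ∈ L, g • support₂ (word y) = support₂ (word b)) : g • mkSys L = mkSys L' := by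
  obtain ⟨x, hx, e1⟩ := h1
  obtain ⟨y, hy, e2⟩ := h2
  have hq := smul_quartet hg hL
  rw [hD] at hq
  apply quartet_unique card_D0s hq (mkSys_quartet hL') (t := support₂ (word a))
    (u := support₂ (word b))
  · rw [← e1]
    exact Finset.smul_mem_smul_finset (mem_mkSys.2 ⟨x, hx, rfl⟩)
  · rw [← e2]
    exact Finset.smul_mem_smul_finset (mem_mkSys.2 ⟨y, hy, rfl⟩)
  · intro e
    exact hab (word_inj (quartChk_lt hL' a ha) (quartChk_lt hL' b hb) e)
  · exact mem_mkSys.2 ⟨a, ha, rfl⟩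
  · exact mem_mkSys.2 ⟨b, hb, rfl⟩

theorem map_specQ {l l' : List ℕ} (hc : chk l l' = true) (hm : memChk l = true)
    (hD : pmL l D0 = D0) {L L' : List ℕ} (hL : mkSys L ∈ quartets D0s)
    (hL' : quartChk L' = true) (h : Tr.mapChk l L L' = true) :
    mkPerm l l' hc • mkSys L = mkSys L' := by
  simp only [Tr.mapChk, List.any_eq_true, Bool.and_eq_true, Nat.beq_eq] at h
  obtain ⟨a, ha, b, hb, hab, ⟨x, hx, e1⟩, ⟨y, hy, e2⟩⟩ := h
  refine smul_mkSysQ (mkPerm_mem l l' hc hm) (smul_D0 hc hD) hL hL' ha hb ?_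
    ⟨x, hx, smul_support_word hc e1⟩ ⟨y, hy, smul_support_word hc e2⟩
  rintro rfl
  rw [Nat.beq_refl] at hab
  exact absurd hab (by decide)

/-- Some member of the second system meets no member of the first in two points. -/
def E1 (S X : Finset (Finset GolayPt)) : Prop :=
  ∃ t ∈ X, ∀ u ∈ S, (t ∩ u).card ≠ 2

/-- Two disjoint members of the second system each meet a member of the first in two points. -/
def E2 (S X : Finset (Finset GolayPt)) : Prop :=
  ∃ t ∈ X, ∃ t' ∈ X, (t ∩ t').card = 0 ∧ (∃ u ∈ S, (t ∩ u).card = 2) ∧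
    ∃ u' ∈ S, (t' ∩ u').card = 2

theorem E1_smul {g : Equiv.Perm GolayPt} {S : Finset (Finset GolayPt)} (hg : g • S = S)
    (X : Finset (Finset GolayPt)) : E1 S (g • X) ↔ E1 S X := by
  constructor
  · rintro ⟨t, ht, h⟩
    obtain ⟨t0, ht0, rfl⟩ := Finset.mem_smul_finset.1 ht
    refine ⟨t0, ht0, fun u hu => ?_⟩
    have := h (g • u) (by rw [← hg]; exact Finset.smul_mem_smul_finset hu)
    rwa [Rk.card_inter_smul] at this
  · rintro ⟨t, ht, h⟩
    refine ⟨g • t, Finset.smul_mem_smul_finset ht, fun u hu => ?_⟩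
    rw [← hg] at hu
    obtain ⟨u0, hu0, rfl⟩ := Finset.mem_smul_finset.1 hu
    rw [Rk.card_inter_smul]
    exact h u0 hu0

theorem E2_smul {g : Equiv.Perm GolayPt} {S : Finset (Finset GolayPt)} (hg : g • S = S)
    (X : Finset (Finset GolayPt)) : E2 S (g • X) ↔ E2 S X := by
  constructor
  · rintro ⟨t, ht, t', ht', h0, ⟨u, hu, e⟩, ⟨u', hu', e'⟩⟩
    obtain ⟨t0, ht0, rfl⟩ := Finset.mem_smul_finset.1 ht
    obtain ⟨t0', ht0', rfl⟩ := Finset.mem_smul_finset.1 ht'
    rw [← hg] at hu hu'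
    obtain ⟨u0, hu0, rfl⟩ := Finset.mem_smul_finset.1 hu
    obtain ⟨u0', hu0', rfl⟩ := Finset.mem_smul_finset.1 hu'
    rw [Rk.card_inter_smul] at h0 e e'
    exact ⟨t0, ht0, t0', ht0', h0, ⟨u0, hu0, e⟩, ⟨u0', hu0', e'⟩⟩
  · rintro ⟨t, ht, t', ht', h0, ⟨u, hu, e⟩, ⟨u', hu', e'⟩⟩
    refine ⟨g • t, Finset.smul_mem_smul_finset ht, g • t', Finset.smul_mem_smul_finset ht',
      by rw [Rk.card_inter_smul]; exact h0, ⟨g • u, ?_, by rw [Rk.card_inter_smul]; exact e⟩,
      ⟨g • u', ?_, by rw [Rk.card_inter_smul]; exact e'⟩⟩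
    · rw [← hg]
      exact Finset.smul_mem_smul_finset hu
    · rw [← hg]
      exact Finset.smul_mem_smul_finset hu'

/-- Computable version of `E1` on lists of masks. -/
def anyE1 (L0 L : List ℕ) : Bool :=
  L.any (fun a => L0.all (fun b => not (Nat.beq (pc (a &&& b)) 2)))

/-- Computable version of `E2` on lists of masks. -/
def anyE2 (L0 L : List ℕ) : Bool :=
  L.any (fun a => L.any (fun a' => and (Nat.beq (pc (a &&& a')) 0)
    (and (L0.any (fun b => Nat.beq (pc (a &&& b)) 2))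
      (L0.any (fun b => Nat.beq (pc (a' &&& b)) 2)))))

theorem anyE1_iff (L0 L : List ℕ) : anyE1 L0 L = true ↔ E1 (mkSys L0) (mkSys L) := by
  simp only [anyE1, List.any_eq_true, List.all_eq_true, Bool.not_eq_true', E1]
  constructor
  · rintro ⟨a, ha, h⟩
    refine ⟨_, mem_mkSys.2 ⟨a, ha, rfl⟩, fun u hu => ?_⟩
    obtain ⟨b, hb, rfl⟩ := mem_mkSys.1 hu
    rw [Rk.card_inter_word]
    intro e
    have := h b hb
    rw [e, Nat.beq_refl] at this
    exact absurd this (by decide)
  · rintro ⟨t, ht, h⟩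
    obtain ⟨a, ha, rfl⟩ := mem_mkSys.1 ht
    refine ⟨a, ha, fun b hb => ?_⟩
    have := h _ (mem_mkSys.2 ⟨b, hb, rfl⟩)
    rw [Rk.card_inter_word] at this
    exact Tr.beq_false this

theorem anyE2_iff (L0 L : List ℕ) : anyE2 L0 L = true ↔ E2 (mkSys L0) (mkSys L) := by
  simp only [anyE2, List.any_eq_true, Bool.and_eq_true, Nat.beq_eq, E2]
  constructor
  · rintro ⟨a, ha, a', ha', h0, ⟨b, hb, e⟩, ⟨b', hb', e'⟩⟩
    exact ⟨_, mem_mkSys.2 ⟨a, ha, rfl⟩, _, mem_mkSys.2 ⟨a', ha', rfl⟩,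
      by rw [Rk.card_inter_word]; exact h0,
      ⟨_, mem_mkSys.2 ⟨b, hb, rfl⟩, by rw [Rk.card_inter_word]; exact e⟩,
      ⟨_, mem_mkSys.2 ⟨b', hb', rfl⟩, by rw [Rk.card_inter_word]; exact e'⟩⟩
  · rintro ⟨t, ht, t', ht', h0, ⟨u, hu, e⟩, ⟨u', hu', e'⟩⟩
    obtain ⟨a, ha, rfl⟩ := mem_mkSys.1 ht
    obtain ⟨a', ha', rfl⟩ := mem_mkSys.1 ht'
    obtain ⟨b, hb, rfl⟩ := mem_mkSys.1 hu
    obtain ⟨b', hb', rfl⟩ := mem_mkSys.1 hu'
    rw [Rk.card_inter_word] at h0 e e'
    exact ⟨a, ha, a', ha', h0, ⟨b, hb, e⟩, ⟨b', hb', e'⟩⟩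

open Classical in
/-- The class of a set system relative to a fixed one (for quartets). -/
noncomputable def clsQ (S X : Finset (Finset GolayPt)) : ℕ :=
  if PI 3 S X then (if PI 1 S X then 1 else 0)
  else if E1 S X then (if E2 S X then 3 else 4) else 2

/-- Computable version of the class. -/
def clsQL (L0 L : List ℕ) : ℕ :=
  cond (anyInt 3 L0 L) (cond (anyInt 1 L0 L) 1 0)
    (cond (anyE1 L0 L) (cond (anyE2 L0 L) 3 4) 2)

theorem clsQ_mkSys (L0 L : List ℕ) : clsQ (mkSys L0) (mkSys L) = clsQL L0 L := by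
  have h3 := anyInt_iff 3 L0 L
  have h1 := anyInt_iff 1 L0 L
  have k1 := anyE1_iff L0 L
  have k2 := anyE2_iff L0 L
  unfold clsQ clsQL
  cases e3 : anyInt 3 L0 L <;> cases e1 : anyInt 1 L0 L <;> cases f1 : anyE1 L0 L <;>
    cases f2 : anyE2 L0 L <;>
    simp [e3, e1, f1, f2] at h3 h1 k1 k2 <;> simp [h3, h1, k1, k2]

theorem clsQ_smul {g : Equiv.Perm GolayPt} {S : Finset (Finset GolayPt)} (hg : g • S = S)
    (X : Finset (Finset GolayPt)) : clsQ S (g • X) = clsQ S X := by
  unfold clsQ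
  rw [PI_smul hg 3 X, PI_smul hg 1 X, E1_smul hg X, E2_smul hg X]

theorem clsQ_lt (S X : Finset (Finset GolayPt)) : clsQ S X < 5 := by
  unfold clsQ
  split_ifs <;> norm_num

/-- The mask of a triple. -/
def tm3 (i j k : ℕ) : ℕ := 2 ^ i ||| 2 ^ j ||| 2 ^ k

theorem support_tm3 (i j k : ℕ) (x y z : GolayPt) (hi : code x = i) (hj : code y = j)
    (hk : code z = k) : support₂ (word (tm3 i j k)) = {x, y, z} := by
  ext p
  rw [mem_support_word, tm3, Nat.testBit_or, Nat.testBit_or,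
    Nat.testBit_two_pow, Nat.testBit_two_pow, Nat.testBit_two_pow]
  simp only [Bool.or_eq_true, decide_eq_true_eq, Finset.mem_insert, Finset.mem_singleton]
  have hc : ∀ q : GolayPt, ∀ n, code q = n → (n = code p ↔ p = q) := by
    intro q n hq
    constructor
    · intro h
      rw [← pt_code p, ← h, ← hq, pt_code]
    · intro h
      rw [h, hq]
  rw [hc x i hi, hc y j hj, hc z k hk]
  tauto

theorem code_ne {a b : GolayPt} (h : a ≠ b) : code a ≠ code b := by
  intro e
  apply h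
  rw [← pt_code a, ← pt_code b, e]

/-- The orbit relation of the joint stabiliser of a set and a set system. -/
def Orb2 (d : Finset GolayPt) (Q R Z : Finset (Finset GolayPt)) : Prop :=
  ∃ g ∈ M24, g • d = d ∧ g • Q = Q ∧ g • R = Z

theorem mem_orbit_iff2 (d : Finset GolayPt) (Q R Z : Finset (Finset GolayPt)) :
    Z ∈ MulAction.orbit ↥(MulAction.stabilizer M24 d ⊓ MulAction.stabilizer M24 Q) R
      ↔ Orb2 d Q R Z := by
  constructor
  · rintro ⟨g, rfl⟩
    exact ⟨g.1.1, g.1.2, (Subgroup.mem_inf.1 g.2).1, (Subgroup.mem_inf.1 g.2).2, rfl⟩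
  · rintro ⟨g, hg, gd, gQ, rfl⟩
    exact ⟨⟨⟨g, hg⟩, Subgroup.mem_inf.2 ⟨gd, gQ⟩⟩, rfl⟩

theorem orb2_quartet {d : Finset GolayPt} {Q R Z : Finset (Finset GolayPt)}
    (hR : R ∈ quartets d) (h : Orb2 d Q R Z) : Z ∈ quartets d := by
  obtain ⟨g, hg, gd, -, rfl⟩ := h
  have := smul_quartet hg hR
  rwa [gd] at this

theorem orb2_transport {h : Equiv.Perm GolayPt} (hh : h ∈ M24) (d : Finset GolayPt)
    (Q R Z : Finset (Finset GolayPt)) :
    Orb2 d Q (h⁻¹ • R) Z ↔ Orb2 (h • d) (h • Q) R (h • Z) := by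
  constructor
  · rintro ⟨g, hg, gd, gQ, rfl⟩
    refine ⟨h * g * h⁻¹, M24.mul_mem (M24.mul_mem hh hg) (M24.inv_mem hh), ?_, ?_, ?_⟩
    · rw [mul_smul, mul_smul, inv_smul_smul, gd]
    · rw [mul_smul, mul_smul, inv_smul_smul, gQ]
    · rw [mul_smul, mul_smul]
  · rintro ⟨g, hg, gd, gQ, e⟩
    refine ⟨h⁻¹ * g * h, M24.mul_mem (M24.mul_mem (M24.inv_mem hh) hg) hh, ?_, ?_, ?_⟩
    · rw [mul_smul, mul_smul, gd, inv_smul_smul]
    · rw [mul_smul, mul_smul, gQ, inv_smul_smul]
    · rw [mul_smul, mul_smul, smul_inv_smul, e, inv_smul_smul]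

end Qt
end Cfsg.Agent.Lib.Helper4
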