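import Cfsg.Agent.Lib.Helper4.Qt1

set_option autoImplicit false

namespace Cfsg.Agent.Lib.Helper4
namespace Qt

open Pointwise Golay Sx

/-- The standard quartet of the standard dodecad, as masks. -/
def Q0L : List ℕ := [7, 336, 34304, 131112]

/-- Representatives of the four other classes of quartets. -/
def P1L : List ℕ := [7, 560, 33032, 132160]

def P2L : List ℕ := [11, 1344, 33296, 131108]

def P3L : List ℕ := [11, 112, 33028, 132608]

def P4L : List ℕ := [11, 800, 1044, 163904]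

/-- Representative of a class. -/
def repL : ℕ → List ℕ := fun c =>
  cond (Nat.beq c 1) P1L (cond (Nat.beq c 2) P2L (cond (Nat.beq c 3) P3L (cond (Nat.beq c 4) P4L Q0L)))

set_option maxRecDepth 100000 in
theorem rep_ok : ∀ c < 5, quartChk (repL c) = true ∧ clsQL Q0L (repL c) = c := by decide +kernel

/-- The standard quartet. -/
def Q0 : Finset (Finset GolayPt) := mkSys Q0L

theorem Q0_quartet : Q0 ∈ quartets D0s := mkSys_quartet (rep_ok 0 (by norm_num)).1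

theorem rep_quartet (c : ℕ) (hc : c < 5) : mkSys (repL c) ∈ quartets D0s :=
  mkSys_quartet (rep_ok c hc).1

theorem cls_rep (c : ℕ) (hc : c < 5) : clsQ Q0 (mkSys (repL c)) = c := by
  rw [Q0, clsQ_mkSys]
  exact (rep_ok c hc).2

/-- Check of a table entry `(m1, m2, c, l, l')`: a code automorphism stabilising the standard
dodecad and the standard quartet and carrying two members of the representative of class `c`
to the masks `m1`, `m2`. -/
def qChk (e : ℕ × ℕ × ℕ × List ℕ × List ℕ) : Bool :=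
  and (and (and (chk e.2.2.2.1 e.2.2.2.2) (memChk e.2.2.2.1)) (Nat.beq (pmL e.2.2.2.1 D0) D0))
    (and (Tr.mapChk e.2.2.2.1 Q0L Q0L)
      (and (and ((repL e.2.2.1).any (fun b => Nat.beq (pmL e.2.2.2.1 e.1) b))
        ((repL e.2.2.1).any (fun b => Nat.beq (pmL e.2.2.2.1 e.2.1) b))) (Nat.blt e.2.2.1 5)))

theorem q_spec (e : ℕ × ℕ × ℕ × List ℕ × List ℕ) (h : qChk e = true) :
    e.2.2.1 < 5 ∧ ∃ g ∈ M24, g • D0s = D0s ∧ g • Q0 = Q0 ∧
      support₂ (word e.1) ∈ g • mkSys (repL e.2.2.1) ∧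
      support₂ (word e.2.1) ∈ g • mkSys (repL e.2.2.1) := by
  simp only [qChk, Bool.and_eq_true, List.any_eq_true, Nat.beq_eq, Nat.blt_eq] at h
  obtain ⟨⟨⟨hc, hm⟩, hD⟩, hmap, ⟨⟨b, hb, e1⟩, ⟨b', hb', e2⟩⟩, h5⟩ := h
  refine ⟨h5, mkPerm e.2.2.2.1 e.2.2.2.2 hc, mkPerm_mem _ _ hc hm, smul_D0 hc hD, ?_, ?_, ?_⟩
  · exact map_specQ hc hm hD Q0_quartet (rep_ok 0 (by norm_num)).1 hmap
  · rw [← smul_support_word hc e1]
    exact Finset.smul_mem_smul_finset (mem_mkSys.2 ⟨b, hb, rfl⟩)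
  · rw [← smul_support_word hc e2]
    exact Finset.smul_mem_smul_finset (mem_mkSys.2 ⟨b', hb', rfl⟩)

/-- Check of a witness carrying the standard quartet to a class representative inside the
stabiliser of the standard dodecad. -/
def stdChk (c : ℕ) (w : List ℕ × List ℕ) : Bool :=
  and (and (and (chk w.1 w.2) (memChk w.1)) (Nat.beq (pmL w.1 D0) D0))
    (Tr.mapChk w.1 Q0L (repL c))

theorem std_spec (c : ℕ) (hc : c < 5) (w : List ℕ × List ℕ) (h : stdChk c w = true) :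
    ∃ k ∈ M24, k • D0s = D0s ∧ k • Q0 = mkSys (repL c) := by
  simp only [stdChk, Bool.and_eq_true, Nat.beq_eq] at h
  obtain ⟨⟨⟨hchk, hm⟩, hD⟩, hmap⟩ := h
  exact ⟨mkPerm w.1 w.2 hchk, mkPerm_mem _ _ hchk hm, smul_D0 hchk hD,
    map_specQ hchk hm hD Q0_quartet (rep_ok c hc).1 hmap⟩

set_option maxRecDepth 100000 in
theorem std1 : stdChk 1 ([3, 15, 8, 9, 1, 4, 0, 23, 2, 10, 17, 22, 11, 12, 16, 6, 13, 5, 21, 20, 19, 14, 7, 18], [6, 4, 8, 0, 5, 17, 15, 22, 2, 3, 9, 12, 13, 16, 21, 1, 14, 10, 23, 20, 19, 18, 11, 7]) = true := by decide +kernel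

set_option maxRecDepth 100000 in
theorem std2 : stdChk 2 ([8, 10, 6, 4, 1, 15, 3, 12, 0, 2, 5, 22, 18, 19, 23, 17, 21, 9, 11, 7, 13, 20, 16, 14], [8, 4, 9, 6, 3, 10, 2, 19, 0, 17, 1, 18, 7, 20, 23, 5, 22, 15, 12, 13, 21, 16, 11, 14]) = true := by decide +kernel

set_option maxRecDepth 100000 in
theorem std3 : stdChk 3 ([17, 10, 9, 5, 8, 4, 15, 23, 2, 3, 0, 20, 18, 7, 16, 1, 11, 6, 13, 12, 21, 22, 14, 19], [10, 15, 8, 9, 5, 3, 17, 13, 4, 2, 1, 16, 19, 18, 22, 6, 14, 0, 12, 23, 11, 20, 21, 7]) = true := by decide +kernel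

set_option maxRecDepth 100000 in
theorem std4 : stdChk 4 ([1, 3, 0, 5, 4, 8, 2, 21, 10, 17, 6, 14, 16, 19, 12, 15, 11, 9, 22, 18, 7, 13, 23, 20], [2, 0, 6, 1, 4, 3, 10, 20, 5, 17, 8, 16, 14, 21, 11, 15, 12, 9, 19, 13, 23, 7, 18, 22]) = true := by decide +kernel

theorem rep_std (c : ℕ) (hc : c < 5) : ∃ k ∈ M24, k • D0s = D0s ∧ k • Q0 = mkSys (repL c) := by
  interval_cases c
  · exact ⟨1, M24.one_mem, one_smul _ _, one_smul _ _⟩
  · exact std_spec 1 (by norm_num) _ std1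
  · exact std_spec 2 (by norm_num) _ std2
  · exact std_spec 3 (by norm_num) _ std3
  · exact std_spec 4 (by norm_num) _ std4

end Qt
end Cfsg.Agent.Lib.Helper4
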