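import Cfsg.Agent.Lib.Helper4.QtT

set_option autoImplicit false

namespace Cfsg.Agent.Lib.Helper4
namespace Qt

open Pointwise Golay Sx

/-- Table of elements of the joint stabiliser of the standard dodecad and quartet. -/
def tblQ : List (ℕ × ℕ × ℕ × List ℕ × List ℕ) := bkQ.flatten

theorem tblQ_ok' (e : ℕ × ℕ × ℕ × List ℕ × List ℕ) (he : e ∈ tblQ) : qChk e = true := by
  have h : tblQ.all qChk = true := by
    apply Rk.all_flatten'
    exact bkQ_ok
  rw [List.all_eq_true] at h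
  exact h e he

/-- The first position of the standard dodecad at which a mask has no bit. -/
def foD (m : ℕ) : ℕ :=
  ((List.range 24).find? (fun i => and (D0.testBit i) (not (m.testBit i)))).getD 0

/-- Completeness check, inner part: the second triple. -/
def Qc2 (i j q i' j' : ℕ) : Bool :=
  or (or (or (Nat.beq i' 0) (or (Nat.beq i' i) (or (Nat.beq i' j) (Nat.beq i' q))))
    (or (or (Nat.beq j' 0) (or (Nat.beq j' i) (or (Nat.beq j' j) (Nat.beq j' q))))
      (Nat.beq i' j')))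
    (or (not (and (D0.testBit i') (D0.testBit j')))
      (and (Nat.blt (tm3 0 i j ||| tm3 q i' j') 16777216)
        (or (not (isHex (tm3 0 i j ||| tm3 q i' j')))
          ((bkQ.getD ((tm3 0 i j + 3 * tm3 q i' j') % 37) []).any
            (fun e => and (Nat.beq e.1 (tm3 0 i j)) (Nat.beq e.2.1 (tm3 q i' j')))))))

/-- Completeness check, outer part: the first triple. -/
def Pc2 (i j : ℕ) : Bool :=
  or (or (Nat.beq i 0) (or (Nat.beq j 0) (Nat.beq i j)))
    (or (not (and (D0.testBit i) (D0.testBit j)))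
      (and (and (D0.testBit (foD (tm3 0 i j) % 24))
        (not ((tm3 0 i j).testBit (foD (tm3 0 i j) % 24))))
        ((List.range 24).all (fun i' => (List.range 24).all (fun j' =>
          Qc2 i j (foD (tm3 0 i j) % 24) i' j')))))

set_option maxRecDepth 100000 in
theorem completeQ : (List.range 24).all (fun i => (List.range 24).all (fun j => Pc2 i j))
    = true := by decide +kernel

theorem mem_D0s_iff {p : GolayPt} : p ∈ D0s ↔ D0.testBit (code p) = true := by
  rw [D0s, mem_support_word]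

theorem pt0_mem : pt 0 ∈ D0s := by
  rw [mem_D0s_iff, code_pt 0 (by norm_num)]
  decide

/-- A three-element set containing a point. -/
theorem triple_eq {t : Finset GolayPt} (ht : t.card = 3) {p : GolayPt} (hp : p ∈ t) :
    ∃ x y, x ≠ p ∧ y ≠ p ∧ x ≠ y ∧ t = {p, x, y} := by
  classical
  have h2 : (t.erase p).card = 2 := by rw [Finset.card_erase_of_mem hp, ht]
  obtain ⟨x, y, hxy, e⟩ := Finset.card_eq_two.1 h2
  have hx : x ∈ t.erase p := by rw [e]; simp
  have hy : y ∈ t.erase p := by rw [e]; simp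
  exact ⟨x, y, (Finset.mem_erase.1 hx).1, (Finset.mem_erase.1 hy).1, hxy, by
    rw [← e, Finset.insert_erase hp]⟩

/-- Every quartet of the standard dodecad has a key in the table. -/
theorem exists_entry {X : Finset (Finset GolayPt)} (hX : X ∈ quartets D0s) :
    ∃ e ∈ tblQ, support₂ (word e.1) ∈ X ∧ support₂ (word e.2.1) ∈ X ∧
      support₂ (word e.1) ≠ support₂ (word e.2.1) := by
  classical
  have c0 : code (pt 0) = 0 := code_pt 0 (by norm_num)
  obtain ⟨t1, ht1, h0⟩ := qt_cover card_D0s hX pt0_mem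
  obtain ⟨x, y, hx0, hy0, hxy, e1⟩ := triple_eq (hX.2.1 t1 ht1).1 h0
  have hxD : x ∈ D0s := (hX.2.1 t1 ht1).2 (by rw [e1]; simp)
  have hyD : y ∈ D0s := (hX.2.1 t1 ht1).2 (by rw [e1]; simp)
  have hcomp := completeQ
  simp only [List.all_eq_true, List.mem_range] at hcomp
  have h1 := hcomp (code x) (code_lt x) (code y) (code_lt y)
  have bx0 : Nat.beq (code x) 0 = false := Tr.beq_false (by rw [← c0]; exact code_ne hx0)
  have by0 : Nat.beq (code y) 0 = false := Tr.beq_false (by rw [← c0]; exact code_ne hy0)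
  rw [Pc2, bx0, by0, Tr.beq_false (code_ne hxy), mem_D0s_iff.1 hxD, mem_D0s_iff.1 hyD] at h1
  simp only [Bool.or_self, Bool.false_or, Bool.and_self, Bool.not_true, Bool.and_eq_true,
    Bool.not_eq_true', List.all_eq_true, List.mem_range] at h1
  obtain ⟨⟨hqD, hq1⟩, hin⟩ := h1
  have s1 : support₂ (word (tm3 0 (code x) (code y))) = t1 := by
    rw [e1]
    exact support_tm3 _ _ _ (pt 0) x y c0 rfl rfl
  have hq : foD (tm3 0 (code x) (code y)) % 24 < 24 := Nat.mod_lt _ (by norm_num)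
  have cq := code_pt _ hq
  have hqm : pt (foD (tm3 0 (code x) (code y)) % 24) ∈ D0s := by
    rw [mem_D0s_iff, cq]
    exact hqD
  obtain ⟨t2, ht2, hqt2⟩ := qt_cover card_D0s hX hqm
  have hq1' : pt (foD (tm3 0 (code x) (code y)) % 24) ∉ t1 := by
    rw [← s1, mem_support_word, cq, hq1]
    decide
  have hne : t1 ≠ t2 := by
    rintro rfl
    exact hq1' hqt2
  have hdj := qt_disjoint hX ht1 ht2 hne
  obtain ⟨x', y', hxq, hyq, hxy', e2⟩ := triple_eq (hX.2.1 t2 ht2).1 hqt2
  have hx'2 : x' ∈ t2 := by rw [e2]; simp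
  have hy'2 : y' ∈ t2 := by rw [e2]; simp
  have hx'D : x' ∈ D0s := (hX.2.1 t2 ht2).2 hx'2
  have hy'D : y' ∈ D0s := (hX.2.1 t2 ht2).2 hy'2
  have nx : x' ∉ t1 := fun h => Finset.disjoint_left.1 hdj h hx'2
  have ny : y' ∉ t1 := fun h => Finset.disjoint_left.1 hdj h hy'2
  rw [e1] at nx ny
  simp only [Finset.mem_insert, Finset.mem_singleton, not_or] at nx ny
  have h2 := hin (code x') (code_lt x') (code y') (code_lt y')
  rw [Qc2, Tr.beq_false (by rw [← c0]; exact code_ne nx.1), Tr.beq_false (code_ne nx.2.1),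
    Tr.beq_false (code_ne nx.2.2), Tr.beq_false (by rw [← cq]; exact code_ne hxq),
    Tr.beq_false (by rw [← c0]; exact code_ne ny.1), Tr.beq_false (code_ne ny.2.1),
    Tr.beq_false (code_ne ny.2.2), Tr.beq_false (by rw [← cq]; exact code_ne hyq),
    Tr.beq_false (code_ne hxy'), mem_D0s_iff.1 hx'D, mem_D0s_iff.1 hy'D] at h2
  simp only [Bool.or_self, Bool.false_or, Bool.and_self, Bool.not_true, Bool.and_eq_true,
    Nat.blt_eq, Bool.or_eq_true, Bool.not_eq_true', List.any_eq_true, Nat.beq_eq] at h2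
  obtain ⟨hlt, hor⟩ := h2
  have s2 : support₂ (word (tm3 (foD (tm3 0 (code x) (code y)) % 24) (code x') (code y')))
      = t2 := by
    rw [e2]
    exact support_tm3 _ _ _ _ x' y' cq rfl rfl
  have hhex : isHex (tm3 0 (code x) (code y)
      ||| tm3 (foD (tm3 0 (code x) (code y)) % 24) (code x') (code y')) = true := by
    apply isHex_of hlt
    rw [support_or, s1, s2]
    exact hX.2.2 t1 ht1 t2 ht2 hne
  rcases hor with hor | hor
  · rw [hhex] at hor
    exact absurd hor (by decide)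
  · obtain ⟨e, he, k1, k2⟩ := hor
    refine ⟨e, Tr.mem_flatten_of_getD he, ?_, ?_, ?_⟩
    · rw [k1, s1]
      exact ht1
    · rw [k2, s2]
      exact ht2
    · rw [k1, k2, s1, s2]
      exact hne

/-- Every quartet of the standard dodecad is the image of a class representative under an
element of the joint stabiliser. -/
theorem exists_class {X : Finset (Finset GolayPt)} (hX : X ∈ quartets D0s) :
    ∃ c < 5, ∃ g ∈ M24, g • D0s = D0s ∧ g • Q0 = Q0 ∧ g • mkSys (repL c) = X := by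
  obtain ⟨e, he, h1, h2, hne⟩ := exists_entry hX
  obtain ⟨h5, g, hg, gD, gQ, m1, m2⟩ := q_spec e (tblQ_ok' e he)
  have hq := smul_quartet hg (rep_quartet _ h5)
  rw [gD] at hq
  exact ⟨e.2.2.1, h5, g, hg, gD, gQ, quartet_unique card_D0s hq hX m1 m2 hne h1 h2⟩

theorem class_eq {X : Finset (Finset GolayPt)} (hX : X ∈ quartets D0s) {c : ℕ} (hc : c < 5) :
    Orb2 D0s Q0 (mkSys (repL c)) X ↔ clsQ Q0 X = c := by
  constructor
  · rintro ⟨g, hg, gD, gS, rfl⟩
    rw [clsQ_smul gS, cls_rep c hc]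
  · intro h
    obtain ⟨c', hc', g, hg, gD, gS, rfl⟩ := exists_class hX
    rw [clsQ_smul gS, cls_rep c' hc'] at h
    subst h
    exact ⟨g, hg, gD, gS, rfl⟩

/-- The quartet through the two triples of a key. -/
noncomputable def qtOf (k : ℕ × ℕ) : Finset (Finset GolayPt) :=
  Classical.epsilon (fun X => X ∈ quartets D0s ∧ support₂ (word k.1) ∈ X ∧
    support₂ (word k.2) ∈ X)

theorem qtOf_spec {k : ℕ × ℕ}
    (h : ∃ X, X ∈ quartets D0s ∧ support₂ (word k.1) ∈ X ∧ support₂ (word k.2) ∈ X) :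
    qtOf k ∈ quartets D0s ∧ support₂ (word k.1) ∈ qtOf k ∧ support₂ (word k.2) ∈ qtOf k :=
  Classical.epsilon_spec h

theorem qtOf_eq {k : ℕ × ℕ} {X : Finset (Finset GolayPt)} (hX : X ∈ quartets D0s)
    (h1 : support₂ (word k.1) ∈ X) (h2 : support₂ (word k.2) ∈ X)
    (hne : support₂ (word k.1) ≠ support₂ (word k.2)) : qtOf k = X := by
  have h := qtOf_spec ⟨X, hX, h1, h2⟩
  exact quartet_unique card_D0s h.1 hX h.2.1 h.2.2 hne h1 h2

set_option maxRecDepth 100000 in
theorem keys_ok : tblQ.all (fun e => and (and (Nat.blt e.1 16777216) (Nat.blt e.2.1 16777216))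
    (and (e.1.testBit 0) (and (e.2.1.testBit (foD e.1 % 24))
      (not (e.1.testBit (foD e.1 % 24)))))) = true := by
  decide +kernel

theorem keys_ok' (e : ℕ × ℕ × ℕ × List ℕ × List ℕ) (he : e ∈ tblQ) :
    (e.1 < 16777216 ∧ e.2.1 < 16777216) ∧ e.1.testBit 0 = true ∧
      e.2.1.testBit (foD e.1 % 24) = true ∧ e.1.testBit (foD e.1 % 24) = false := by
  have hk := keys_ok
  rw [List.all_eq_true] at hk
  have k1 := hk e he
  simp only [Bool.and_eq_true, Nat.blt_eq, Bool.not_eq_true'] at k1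
  exact k1

theorem key_ne (e : ℕ × ℕ × ℕ × List ℕ × List ℕ) (he : e ∈ tblQ) :
    support₂ (word e.1) ≠ support₂ (word e.2.1) := by
  obtain ⟨-, -, t2, t1⟩ := keys_ok' e he
  intro h
  have hq : foD e.1 % 24 < 24 := Nat.mod_lt _ (by norm_num)
  have h2 : pt (foD e.1 % 24) ∈ support₂ (word e.2.1) := by
    rw [mem_support_word, code_pt _ hq]
    exact t2
  rw [← h, mem_support_word, code_pt _ hq, t1] at h2
  exact absurd h2 (by decide)

/-- The quartet attached to a table entry. -/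
theorem entry_quartet (e : ℕ × ℕ × ℕ × List ℕ × List ℕ) (he : e ∈ tblQ) :
    qtOf (e.1, e.2.1) ∈ quartets D0s ∧ support₂ (word e.1) ∈ qtOf (e.1, e.2.1) ∧
      support₂ (word e.2.1) ∈ qtOf (e.1, e.2.1) ∧ clsQ Q0 (qtOf (e.1, e.2.1)) = e.2.2.1 := by
  obtain ⟨h5, g, hg, gD, gT, m1, m2⟩ := q_spec e (tblQ_ok' e he)
  have hs := smul_quartet hg (rep_quartet _ h5)
  rw [gD] at hs
  have e1 : qtOf (e.1, e.2.1) = g • mkSys (repL e.2.2.1) := qtOf_eq hs m1 m2 (key_ne e he)
  rw [e1]
  exact ⟨hs, m1, m2, by rw [clsQ_smul gT, cls_rep _ h5]⟩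

theorem class_image (c : ℕ) :
    {X | X ∈ quartets D0s ∧ clsQ Q0 X = c}
      = qtOf '' {k | ∃ e ∈ tblQ, (e.1, e.2.1) = k ∧ e.2.2.1 = c} := by
  ext X
  constructor
  · rintro ⟨hX, hcls⟩
    obtain ⟨e, he, h1, h2, hne⟩ := exists_entry hX
    have e1 : qtOf (e.1, e.2.1) = X := qtOf_eq hX h1 h2 hne
    refine ⟨(e.1, e.2.1), ⟨e, he, rfl, ?_⟩, e1⟩
    rw [← (entry_quartet e he).2.2.2, e1]
    exact hcls
  · rintro ⟨k, ⟨e, he, rfl, rfl⟩, rfl⟩
    exact ⟨(entry_quartet e he).1, (entry_quartet e he).2.2.2⟩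

theorem all_image :
    quartets D0s = qtOf '' {k | ∃ e ∈ tblQ, (e.1, e.2.1) = k} := by
  ext X
  constructor
  · intro hX
    obtain ⟨e, he, h1, h2, hne⟩ := exists_entry hX
    exact ⟨(e.1, e.2.1), ⟨e, he, rfl⟩, qtOf_eq hX h1 h2 hne⟩
  · rintro ⟨k, ⟨e, he, rfl⟩, rfl⟩
    exact (entry_quartet e he).1

theorem qtOf_injOn : Set.InjOn qtOf {k | ∃ e ∈ tblQ, (e.1, e.2.1) = k} := by
  rintro k ⟨e, he, rfl⟩ k' ⟨e', he', rfl⟩ h
  obtain ⟨⟨b1, b2⟩, t0, t2, -⟩ := keys_ok' e he
  obtain ⟨⟨b1', b2'⟩, t0', t2', -⟩ := keys_ok' e' he'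
  obtain ⟨hs, m1, m2, -⟩ := entry_quartet e he
  obtain ⟨hs', m1', m2', -⟩ := entry_quartet e' he'
  have h' : qtOf (e.1, e.2.1) = qtOf (e'.1, e'.2.1) := h
  rw [← h'] at m1' m2'
  have p1 : pt 0 ∈ support₂ (word e.1) := by
    rw [mem_support_word, code_pt 0 (by norm_num)]
    exact t0
  have p1' : pt 0 ∈ support₂ (word e'.1) := by
    rw [mem_support_word, code_pt 0 (by norm_num)]
    exact t0'
  have k1 : e.1 = e'.1 := by
    by_contra hne
    have hsup : support₂ (word e.1) ≠ support₂ (word e'.1) := fun hh => hne (word_inj b1 b1' hh)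
    exact Finset.disjoint_left.1 (qt_disjoint hs m1 m1' hsup) p1 p1'
  have hq : foD e.1 % 24 < 24 := Nat.mod_lt _ (by norm_num)
  have p2 : pt (foD e.1 % 24) ∈ support₂ (word e.2.1) := by
    rw [mem_support_word, code_pt _ hq]
    exact t2
  have p2' : pt (foD e.1 % 24) ∈ support₂ (word e'.2.1) := by
    rw [mem_support_word, code_pt _ hq, k1]
    exact t2'
  have k2 : e.2.1 = e'.2.1 := by
    by_contra hne
    have hsup : support₂ (word e.2.1) ≠ support₂ (word e'.2.1) :=
      fun hh => hne (word_inj b2 b2' hh)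
    exact Finset.disjoint_left.1 (qt_disjoint hs m2 m2' hsup) p2 p2'
  exact Prod.ext k1 k2

set_option maxRecDepth 100000 in
theorem bk_keys : (List.range 37).all (fun i =>
    and (Tr.nodupB2 ((bkQ.getD i []).map (fun e => (e.1, e.2.1))))
      ((bkQ.getD i []).all (fun e => Nat.beq ((e.1 + 3 * e.2.1) % 37) i))) = true := by
  decide +kernel

set_option maxRecDepth 100000 in
theorem bkQ_length : bkQ.length = 37 := by decide +kernel

theorem keys_nodup : (tblQ.map (fun e => (e.1, e.2.1))).Nodup := by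
  have hb := bk_keys
  simp only [List.all_eq_true, List.mem_range, Bool.and_eq_true, Nat.beq_eq] at hb
  rw [tblQ, List.map_flatten, List.nodup_flatten]
  constructor
  · intro l hl
    rw [List.mem_map] at hl
    obtain ⟨b, hb', rfl⟩ := hl
    obtain ⟨i, hi, rfl⟩ := List.getElem_of_mem hb'
    have h1 := (hb i (by rw [← bkQ_length]; exact hi)).1
    rw [List.getD_eq_getElem _ _ hi] at h1
    exact Tr.nodupB2_spec _ h1
  · rw [List.pairwise_map, List.pairwise_iff_getElem]
    intro i j hi hj hij m hm1 hm2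
    rw [List.mem_map] at hm1 hm2
    obtain ⟨e1, he1, rfl⟩ := hm1
    obtain ⟨e2, he2, h12⟩ := hm2
    have h1 := (hb i (by rw [← bkQ_length]; exact hi)).2 e1
      (by rw [List.getD_eq_getElem _ _ hi]; exact he1)
    have h2 := (hb j (by rw [← bkQ_length]; exact hj)).2 e2
      (by rw [List.getD_eq_getElem _ _ hj]; exact he2)
    have h3 : e2.1 = e1.1 := (Prod.mk.inj h12).1
    have h4 : e2.2.1 = e1.2.1 := (Prod.mk.inj h12).2
    rw [h3, h4] at h2
    omega

theorem ncard_class (c : ℕ) : {X | X ∈ quartets D0s ∧ clsQ Q0 X = c}.ncard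
    = ((tblQ.filter (fun e => Nat.beq e.2.2.1 c)).map (fun e => (e.1, e.2.1))).length := by
  classical
  rw [class_image c, Set.InjOn.ncard_image (qtOf_injOn.mono (fun m hm => by
    obtain ⟨e, he, h1, -⟩ := hm
    exact ⟨e, he, h1⟩))]
  have : {k | ∃ e ∈ tblQ, (e.1, e.2.1) = k ∧ e.2.2.1 = c}
      = ((((tblQ.filter (fun e => Nat.beq e.2.2.1 c)).map (fun e => (e.1, e.2.1))).toFinset :
        Finset (ℕ × ℕ)) : Set (ℕ × ℕ)) := by
    ext m
    simp only [Set.mem_ofPred_eq, Finset.mem_coe, List.mem_toFinset, List.mem_map,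
      List.mem_filter, Nat.beq_eq]
    constructor
    · rintro ⟨e, he, h1, h2⟩
      exact ⟨e, ⟨he, h2⟩, h1⟩
    · rintro ⟨e, ⟨he, h2⟩, h1⟩
      exact ⟨e, he, h1, h2⟩
  rw [this, Set.ncard_coe_finset, List.toFinset_card_of_nodup
    (keys_nodup.sublist (List.Sublist.map _ List.filter_sublist))]

set_option maxRecDepth 100000 in
theorem counts : ∀ c < 5,
    ((tblQ.filter (fun e => Nat.beq e.2.2.1 c)).map (fun e => (e.1, e.2.1))).length
      = [1, 12, 27, 72, 108].getD c 0 := by decide +kernel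

set_option maxRecDepth 100000 in
theorem tblQ_length : tblQ.length = 220 := by decide +kernel

theorem ncard_std : (quartets D0s).ncard = 220 := by
  classical
  rw [all_image, Set.InjOn.ncard_image qtOf_injOn]
  have : {k | ∃ e ∈ tblQ, (e.1, e.2.1) = k}
      = (((tblQ.map (fun e => (e.1, e.2.1))).toFinset : Finset (ℕ × ℕ)) : Set (ℕ × ℕ)) := by
    ext m
    simp only [Set.mem_ofPred_eq, Finset.mem_coe, List.mem_toFinset, List.mem_map]
  rw [this, Set.ncard_coe_finset, List.toFinset_card_of_nodup keys_nodup, List.length_map,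
    tblQ_length]

/-- The stabiliser of the standard dodecad is transitive on its quartets. -/
theorem exists_stdQ {Q : Finset (Finset GolayPt)} (hQ : Q ∈ quartets D0s) :
    ∃ h ∈ M24, h • D0s = D0s ∧ h • Q = Q0 := by
  obtain ⟨c, hc, g, hg, gD, gQ, rfl⟩ := exists_class hQ
  obtain ⟨k, hk, kD, e⟩ := rep_std c hc
  refine ⟨(g * k)⁻¹, M24.inv_mem (M24.mul_mem hg hk), ?_, ?_⟩
  · rw [inv_smul_eq_iff, mul_smul, kD, gD]
  · rw [← e, ← mul_smul g k, inv_smul_smul]

/-- A dodecad with a quartet can be moved to the standard position. -/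
theorem exists_std2 {d : Finset GolayPt} (hd : d ∈ dodecads) {Q : Finset (Finset GolayPt)}
    (hQ : Q ∈ quartets d) : ∃ k ∈ M24, k • d = D0s ∧ k • Q = Q0 := by
  obtain ⟨g, hg, gd⟩ := dod_trans hd D0_dod
  have hQ' := smul_quartet hg hQ
  rw [gd] at hQ'
  obtain ⟨h, hh, hD, hQ0⟩ := exists_stdQ hQ'
  refine ⟨h * g, M24.mul_mem hh hg, ?_, ?_⟩
  · rw [mul_smul, gd]
    exact hD
  · rw [mul_smul, hQ0]

end Qt
end Cfsg.Agent.Lib.Helper4
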