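import Cfsg.Agent.Lib.Helper4.Qt3

set_option autoImplicit false

namespace Cfsg.Agent.Lib.Helper4
namespace Qt

open Pointwise Golay Sx

theorem orb2_zero {Z : Finset (Finset GolayPt)} (h : Orb2 D0s Q0 (mkSys (repL 0)) Z) :
    Z = Q0 := by
  obtain ⟨g, hg, gD, gS, rfl⟩ := h
  exact gS

/-- The facts about the action of a quartet stabiliser on the quartets of its dodecad. -/
theorem mainQ {d : Finset GolayPt} (hd : d ∈ dodecads) {Q : Finset (Finset GolayPt)}
    (hQ : Q ∈ quartets d) :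
    ∃ X : ℕ → Finset (Finset GolayPt), (∀ c, X c ∈ quartets d) ∧
      {Z | Orb2 d Q (X 1) Z}.ncard = 12 ∧ {Z | Orb2 d Q (X 2) Z}.ncard = 27 ∧
      {Z | Orb2 d Q (X 3) Z}.ncard = 72 ∧ {Z | Orb2 d Q (X 4) Z}.ncard = 108 ∧
      (∀ Z ∈ quartets d, Z = Q ∨ Orb2 d Q (X 1) Z ∨ Orb2 d Q (X 2) Z ∨ Orb2 d Q (X 3) Z ∨
        Orb2 d Q (X 4) Z) := by
  obtain ⟨h, hh, hd0, hQ0⟩ := exists_std2 hd hQ
  have hi : h⁻¹ ∈ M24 := M24.inv_mem hh
  have hdi : h⁻¹ • D0s = d := by rw [← hd0, inv_smul_smul]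
  have hrep : ∀ c, mkSys (repL c) ∈ quartets D0s := by
    intro c
    by_cases hc : c < 5
    · exact rep_quartet c hc
    · have : repL c = Q0L := by
        unfold repL
        rw [Tr.beq_false (by omega), Tr.beq_false (by omega), Tr.beq_false (by omega),
          Tr.beq_false (by omega)]
        rfl
      rw [this]
      exact Q0_quartet
  have key : ∀ c, ∀ Z, Orb2 d Q (h⁻¹ • mkSys (repL c)) Z
      ↔ Orb2 D0s Q0 (mkSys (repL c)) (h • Z) := by
    intro c Z
    rw [orb2_transport hh, hd0, hQ0]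
  have hqZ : ∀ Z, Z ∈ quartets d → h • Z ∈ quartets D0s := by
    intro Z hZ
    have := smul_quartet hh hZ
    rwa [hd0] at this
  have hn : ∀ c, c < 5 → {Z | Orb2 d Q (h⁻¹ • mkSys (repL c)) Z}.ncard
      = [1, 12, 27, 72, 108].getD c 0 := by
    intro c hc
    rw [← counts c hc, ← ncard_class c]
    have : {Z | Orb2 d Q (h⁻¹ • mkSys (repL c)) Z}
        = (fun Y => h⁻¹ • Y) '' {X | X ∈ quartets D0s ∧ clsQ Q0 X = c} := by
      ext Z
      simp only [Set.mem_ofPred_eq, Set.mem_image]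
      rw [key]
      constructor
      · intro hZ
        have hq := orb2_quartet (rep_quartet c hc) hZ
        exact ⟨h • Z, ⟨hq, (class_eq hq hc).1 hZ⟩, inv_smul_smul h Z⟩
      · rintro ⟨Y, ⟨hY, hcls⟩, rfl⟩
        rw [smul_inv_smul]
        exact (class_eq hY hc).2 hcls
    rw [this, Set.ncard_image_of_injective _ (MulAction.injective h⁻¹)]
  refine ⟨fun c => h⁻¹ • mkSys (repL c), fun c => ?_, hn 1 (by norm_num),
    hn 2 (by norm_num), hn 3 (by norm_num), hn 4 (by norm_num), ?_⟩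
  · have := smul_quartet hi (hrep c)
    rwa [hdi] at this
  · intro Z hZ
    have hZ' := hqZ Z hZ
    have hlt := clsQ_lt Q0 (h • Z)
    have h0 := (class_eq hZ' (c := 0) (by norm_num)).2
    have h1 := (class_eq hZ' (c := 1) (by norm_num)).2
    have h2 := (class_eq hZ' (c := 2) (by norm_num)).2
    have h3 := (class_eq hZ' (c := 3) (by norm_num)).2
    have h4 := (class_eq hZ' (c := 4) (by norm_num)).2
    simp only [key]
    have hcases : clsQ Q0 (h • Z) = 0 ∨ clsQ Q0 (h • Z) = 1 ∨ clsQ Q0 (h • Z) = 2 ∨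
        clsQ Q0 (h • Z) = 3 ∨ clsQ Q0 (h • Z) = 4 := by omega
    rcases hcases with e | e | e | e | e
    · left
      have := orb2_zero (h0 e)
      rw [← hQ0] at this
      exact MulAction.injective h this
    · exact Or.inr (Or.inl (h1 e))
    · exact Or.inr (Or.inr (Or.inl (h2 e)))
    · exact Or.inr (Or.inr (Or.inr (Or.inl (h3 e))))
    · exact Or.inr (Or.inr (Or.inr (Or.inr (h4 e))))

/-- A dodecad has 220 quartets. -/
theorem ncard_quartets {d : Finset GolayPt} (hd : d ∈ dodecads) : (quartets d).ncard = 220 := by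
  obtain ⟨g, hg, gd⟩ := dod_trans hd D0_dod
  have gd' : g • d = D0s := gd
  have hdi : g⁻¹ • D0s = d := by rw [← gd', inv_smul_smul]
  have : quartets d = (fun Y => g⁻¹ • Y) '' quartets D0s := by
    ext Z
    constructor
    · intro hZ
      have := smul_quartet hg hZ
      rw [gd'] at this
      exact ⟨g • Z, this, inv_smul_smul g Z⟩
    · rintro ⟨Y, hY, rfl⟩
      have := smul_quartet (M24.inv_mem hg) hY
      rwa [hdi] at this
  rw [this, Set.ncard_image_of_injective _ (MulAction.injective g⁻¹), ncard_std]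

/-- The stabiliser of a dodecad is transitive on its quartets. -/
theorem quartet_trans {d : Finset GolayPt} (hd : d ∈ dodecads) {Q Q' : Finset (Finset GolayPt)}
    (hQ : Q ∈ quartets d) (hQ' : Q' ∈ quartets d) : ∃ g ∈ M24, g • d = d ∧ g • Q = Q' := by
  obtain ⟨k, hk, kd, kQ⟩ := exists_std2 hd hQ
  obtain ⟨k', hk', kd', kQ'⟩ := exists_std2 hd hQ'
  refine ⟨k'⁻¹ * k, M24.mul_mem (M24.inv_mem hk') hk, ?_, ?_⟩
  · rw [mul_smul, kd, inv_smul_eq_iff, kd']
  · rw [mul_smul, kQ, inv_smul_eq_iff, kQ']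

/-- The embedding given by a list of five distinct points. -/
def emb5 (l : List GolayPt) (hl : l.Nodup) (h5 : l.length = 5) : Fin 5 ↪ GolayPt :=
  ⟨fun i => l.get (Fin.cast h5.symm i), fun i j h => by
    have := (List.Nodup.get_inj_iff hl).1 h
    exact Fin.cast_injective _ this⟩

theorem emb5_mem (l : List GolayPt) (hl : l.Nodup) (h5 : l.length = 5) (i : Fin 5) :
    emb5 l hl h5 i ∈ l := List.get_mem _ _

theorem s7 : support₂ (word 7) = {pt 0, pt 1, pt 2} :=
  support_tm3 0 1 2 (pt 0) (pt 1) (pt 2) (code_pt 0 (by norm_num)) (code_pt 1 (by norm_num))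
    (code_pt 2 (by norm_num))

/-- Two disjoint triples of the standard dodecad uniting to a hexad lie in a quartet. -/
theorem exists_quartet_std {t u : Finset GolayPt} (ht : t.card = 3) (hu : u.card = 3)
    (htu : Disjoint t u) (hh : t ∪ u ∈ hexadsOn D0s) :
    ∃ Q ∈ quartets D0s, t ∈ Q ∧ u ∈ Q := by
  classical
  have hsub : t ∪ u ⊆ D0s := by
    obtain ⟨-, o, -, e⟩ := hh
    rw [← e]
    exact Finset.inter_subset_right
  obtain ⟨x1, x2, x3, h12, h13, h23, rfl⟩ := Finset.card_eq_three.1 ht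
  obtain ⟨y1, y2, y3, k12, k13, k23, rfl⟩ := Finset.card_eq_three.1 hu
  have hx1 : x1 ∉ ({y1, y2, y3} : Finset GolayPt) :=
    fun h => Finset.disjoint_left.1 htu (by simp) h
  have hx2 : x2 ∉ ({y1, y2, y3} : Finset GolayPt) :=
    fun h => Finset.disjoint_left.1 htu (by simp) h
  have hx3 : x3 ∉ ({y1, y2, y3} : Finset GolayPt) :=
    fun h => Finset.disjoint_left.1 htu (by simp) h
  simp only [Finset.mem_insert, Finset.mem_singleton, not_or] at hx1 hx2 hx3
  have hnd : [x1, x2, x3, y1, y2].Nodup := by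
    simp only [List.nodup_cons, List.mem_cons, List.not_mem_nil, or_false, not_or,
      List.nodup_nil, and_true, not_false_eq_true]
    exact ⟨⟨h12, h13, hx1.1, hx1.2.1⟩, ⟨h23, hx2.1, hx2.2.1⟩, ⟨hx3.1, hx3.2.1⟩, k12⟩
  have hnd' : [pt 0, pt 1, pt 2, pt 4, pt 6].Nodup := by decide
  have hxm : ∀ i, emb5 [x1, x2, x3, y1, y2] hnd rfl i ∈ D0s := by
    intro i
    have := emb5_mem [x1, x2, x3, y1, y2] hnd rfl i
    apply hsub
    simp only [List.mem_cons, List.not_mem_nil, or_false] at this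
    simp only [Finset.mem_union, Finset.mem_insert, Finset.mem_singleton]
    tauto
  have hym : ∀ i, emb5 [pt 0, pt 1, pt 2, pt 4, pt 6] hnd' rfl i ∈ D0s := by
    intro i
    have := emb5_mem [pt 0, pt 1, pt 2, pt 4, pt 6] hnd' rfl i
    have hall : ∀ p ∈ [pt 0, pt 1, pt 2, pt 4, pt 6], p ∈ D0s := by
      intro p hp
      rw [mem_D0s_iff]
      revert p
      decide
    exact hall _ this
  obtain ⟨g, hg, gD, hmap⟩ := dod_map D0_dod _ _ hxm hym
  have g1 : g x1 = pt 0 := hmap 0
  have g2 : g x2 = pt 1 := hmap 1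
  have g3 : g x3 = pt 2 := hmap 2
  have g4 : g y1 = pt 4 := hmap 3
  have g5 : g y2 = pt 6 := hmap 4
  have gD' : g • D0s = D0s := gD
  have et : g • ({x1, x2, x3} : Finset GolayPt) = support₂ (word 7) := by
    rw [s7, Finset.smul_finset_insert, Finset.smul_finset_insert, Finset.smul_finset_singleton,
      Equiv.Perm.smul_def, Equiv.Perm.smul_def, Equiv.Perm.smul_def, g1, g2, g3]
  have hhex := smul_hexad hg hh
  rw [gD'] at hhex
  have h343 : support₂ (word 343) ∈ hexadsOn D0s := isHex_spec (by decide +kernel)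
  have e343 : support₂ (word 343) = support₂ (word 7) ∪ support₂ (word 336) := by
    rw [← support_or]
    rfl
  have d0 : Disjoint (support₂ (word 7)) (support₂ (word 336)) := by
    rw [Finset.disjoint_iff_inter_eq_empty, ← Finset.card_eq_zero, Rk.card_inter_word]
    decide
  have p4 : pt 4 ∈ support₂ (word 336) := by
    rw [mem_support_word, code_pt 4 (by norm_num)]
    decide
  have p6 : pt 6 ∈ support₂ (word 336) := by
    rw [mem_support_word, code_pt 6 (by norm_num)]
    decide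
  have hF : ({pt 0, pt 1, pt 2, pt 4, pt 6} : Finset GolayPt)
      ⊆ g • ({x1, x2, x3} ∪ {y1, y2, y3} : Finset GolayPt) ∩ support₂ (word 343) := by
    intro p hp
    simp only [Finset.mem_insert, Finset.mem_singleton] at hp
    rw [Finset.mem_inter, e343, Finset.mem_union, s7]
    rcases hp with rfl | rfl | rfl | rfl | rfl
    · exact ⟨by rw [← g1]; exact Finset.smul_mem_smul_finset (by simp), Or.inl (by simp)⟩
    · exact ⟨by rw [← g2]; exact Finset.smul_mem_smul_finset (by simp), Or.inl (by simp)⟩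
    · exact ⟨by rw [← g3]; exact Finset.smul_mem_smul_finset (by simp), Or.inl (by simp)⟩
    · exact ⟨by rw [← g4]; exact Finset.smul_mem_smul_finset (by simp), Or.inr p4⟩
    · exact ⟨by rw [← g5]; exact Finset.smul_mem_smul_finset (by simp), Or.inr p6⟩
  have hF5 : ({pt 0, pt 1, pt 2, pt 4, pt 6} : Finset GolayPt).card = 5 := by decide
  have e1 : g • ({x1, x2, x3} ∪ {y1, y2, y3} : Finset GolayPt) = support₂ (word 343) :=
    hexad_eq hhex h343 (by rw [← hF5]; exact Finset.card_le_card hF)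
  have eu : g • ({y1, y2, y3} : Finset GolayPt) = support₂ (word 336) := by
    have hd' : Disjoint (g • ({x1, x2, x3} : Finset GolayPt)) (g • ({y1, y2, y3} : Finset GolayPt)) :=
      (Rk.disjoint_smul_iff g _ _).2 htu
    rw [← Finset.union_sdiff_cancel_left hd', ← Finset.smul_finset_union, e1, et, e343,
      Finset.union_sdiff_cancel_left d0]
  have hq := smul_quartet (M24.inv_mem hg) Q0_quartet
  have hdi : g⁻¹ • D0s = D0s := by rw [inv_smul_eq_iff, gD']
  rw [hdi] at hq
  refine ⟨g⁻¹ • Q0, hq, ?_, ?_⟩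
  · rw [Finset.mem_inv_smul_finset_iff, et]
    exact mem_mkSys.2 ⟨7, by decide, rfl⟩
  · rw [Finset.mem_inv_smul_finset_iff, eu]
    exact mem_mkSys.2 ⟨336, by decide, rfl⟩

/-- Two disjoint triples of a dodecad uniting to a hexad lie in exactly one quartet. -/
theorem exists_unique_quartet {d : Finset GolayPt} (hd : d ∈ dodecads) {t u : Finset GolayPt}
    (ht : t.card = 3) (hu : u.card = 3) (htu : Disjoint t u) (hh : t ∪ u ∈ hexadsOn d) :
    ∃! Q : Finset (Finset GolayPt), Q ∈ quartets d ∧ t ∈ Q ∧ u ∈ Q := by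
  obtain ⟨g, hg, gd⟩ := dod_trans hd D0_dod
  have gd' : g • d = D0s := gd
  have hdi : g⁻¹ • D0s = d := by rw [← gd', inv_smul_smul]
  have hh' := smul_hexad hg hh
  rw [gd', Finset.smul_finset_union] at hh'
  obtain ⟨Q, hQ, htQ, huQ⟩ := exists_quartet_std (t := g • t) (u := g • u)
    (by rw [Finset.card_smul_finset]; exact ht) (by rw [Finset.card_smul_finset]; exact hu)
    ((Rk.disjoint_smul_iff g _ _).2 htu) hh'
  have hq := smul_quartet (M24.inv_mem hg) hQ
  rw [hdi] at hq
  have hne : t ≠ u := by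
    rintro rfl
    rw [disjoint_self, Finset.bot_eq_empty] at htu
    rw [htu] at ht
    simp at ht
  refine ⟨g⁻¹ • Q, ⟨hq, ?_, ?_⟩, ?_⟩
  · rw [Finset.mem_inv_smul_finset_iff]
    exact htQ
  · rw [Finset.mem_inv_smul_finset_iff]
    exact huQ
  · rintro Q' ⟨hQ', ht', hu'⟩
    exact quartet_unique hd.2 hQ' hq ht' hu' hne
      (by rw [Finset.mem_inv_smul_finset_iff]; exact htQ)
      (by rw [Finset.mem_inv_smul_finset_iff]; exact huQ)

end Qt
end Cfsg.Agent.Lib.Helper4
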