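import Cfsg.Agent.Lib.Helper4.Stv9
import Cfsg.Agent.Lib.Helper4.GolayDod

set_option autoImplicit false
set_option linter.unnecessarySeqFocus false

namespace Cfsg.Agent.Lib.Helper4
namespace Rk

open Pointwise Golay

theorem inter_word (a b : ℕ) :
    support₂ (word a) ∩ support₂ (word b) = support₂ (word (a &&& b)) := by
  ext p
  rw [Finset.mem_inter, mem_support_word, mem_support_word, mem_support_word, Nat.testBit_and,
    Bool.and_eq_true]

theorem card_inter_word (a b : ℕ) :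
    (support₂ (word a) ∩ support₂ (word b)).card = pc (a &&& b) := by
  rw [inter_word, card_support, hammingNorm_word]

/-- Counting the octads with a property by enumeration of the code. -/
theorem ncard_octads_pred (P : ℕ → Bool) (Q : Finset GolayPt → Prop)
    (hPQ : ∀ a, P a = true ↔ (pc a = 8 ∧ Q (support₂ (word a)))) :
    {s | s ∈ octads ∧ Q s}.ncard = countComb P basis 0 := by
  rw [← countComb_sound P (fun w => hammingNorm w = 8 ∧ Q (support₂ w))
    (fun a => by rw [hPQ, hammingNorm_word]) basis indep_basis 0,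
    ← Set.ncard_image_of_injective _ support_injective]
  congr 1
  ext s
  simp only [Set.mem_ofPred_eq, Set.mem_image, word_zero, zero_add, ← golay_eq]
  constructor
  · rintro ⟨⟨⟨w, hw, rfl⟩, hc⟩, hQ⟩
    exact ⟨w, ⟨⟨w, hw, rfl⟩, hc, hQ⟩, rfl⟩
  · rintro ⟨w, ⟨⟨v, hv, e⟩, hc, hQ⟩, rfl⟩
    subst e
    exact ⟨⟨⟨_, hv, rfl⟩, hc⟩, hQ⟩

theorem smul_octad_iff {h : Equiv.Perm GolayPt} (hh : h ∈ M24) (s : Finset GolayPt) :
    h • s ∈ octads ↔ s ∈ octads := by
  constructor
  · intro hs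
    have := smul_mem_weight (M24.inv_mem hh) hs
    rwa [inv_smul_smul] at this
  · exact fun hs => smul_mem_weight hh hs

/-- Transport of a count of octads along an element of the group. -/
theorem ncard_transport {h : Equiv.Perm GolayPt} (hh : h ∈ M24) (Q Q' : Finset GolayPt → Prop)
    (hQ : ∀ s, Q s ↔ Q' (h • s)) :
    {s | s ∈ octads ∧ Q s}.ncard = {s | s ∈ octads ∧ Q' s}.ncard := by
  have : {s | s ∈ octads ∧ Q' s} = (fun s => h • s) '' {s | s ∈ octads ∧ Q s} := by
    ext t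
    simp only [Set.mem_ofPred_eq, Set.mem_image]
    constructor
    · rintro ⟨ht, hq⟩
      refine ⟨h⁻¹ • t, ⟨?_, ?_⟩, smul_inv_smul h t⟩
      · rw [← smul_octad_iff hh, smul_inv_smul]
        exact ht
      · rw [hQ, smul_inv_smul]
        exact hq
    · rintro ⟨s, ⟨hs, hq⟩, rfl⟩
      exact ⟨(smul_octad_iff hh s).2 hs, (hQ s).1 hq⟩
  rw [this, Set.ncard_image_of_injective _ (MulAction.injective h)]

theorem card_inter_smul (h : Equiv.Perm GolayPt) (s t : Finset GolayPt) :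
    (h • s ∩ h • t).card = (s ∩ t).card := by
  rw [← Finset.smul_finset_inter, Finset.card_smul_finset]

theorem conj_smul {h g0 : Equiv.Perm GolayPt} {s t : Finset GolayPt}
    (e : g0 • (h • s) = h • t) : (h⁻¹ * g0 * h) • s = t := by
  rw [mul_smul, mul_smul, e, inv_smul_smul]

theorem conj_pt {h g0 : Equiv.Perm GolayPt} {x : GolayPt} (e : g0 (h x) = h x) :
    (h⁻¹ * g0 * h) x = x := by
  rw [Equiv.Perm.mul_apply, Equiv.Perm.mul_apply, e]
  exact h.symm_apply_apply x

/-- Check of a table entry `(target, l, l')`: a code automorphism fixing the points of `fx` and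
the set `Om`, mapping the representative of the class of the target to the target. -/
def rkChk (Om : ℕ) (fx : List ℕ) (rep : ℕ → ℕ) (e : ℕ × List ℕ × List ℕ) : Bool :=
  and (and (chk e.2.1 e.2.2) (memChk e.2.1))
    (and (and (Nat.beq (pmL e.2.1 Om) Om) (Nat.beq (pmL e.2.1 e.1) (rep (pc (e.1 &&& Om)))))
      (fx.all (fun f => Nat.beq (nth e.2.1 f) f)))

theorem rk_spec (Om : ℕ) (fx : List ℕ) (hfx : ∀ f ∈ fx, f < 24) (rep : ℕ → ℕ)
    (T : List (ℕ × List ℕ × List ℕ)) (hT : T.all (rkChk Om fx rep) = true)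
    (e : ℕ × List ℕ × List ℕ) (he : e ∈ T) :
    ∃ g ∈ M24, (∀ f ∈ fx, g (pt f) = pt f) ∧ g • support₂ (word Om) = support₂ (word Om) ∧
      g • support₂ (word (rep (pc (e.1 &&& Om)))) = support₂ (word e.1) := by
  rw [List.all_eq_true] at hT
  have h1 := hT e he
  simp only [rkChk, Bool.and_eq_true, List.all_eq_true, Nat.beq_eq] at h1
  obtain ⟨⟨hc, hm⟩, ⟨hO, hr⟩, hfix⟩ := h1
  refine ⟨mkPerm e.2.1 e.2.2 hc, mkPerm_mem _ _ _ hm, ?_, smul_support_word hc hO,
    smul_support_word hc hr⟩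
  intro f hf
  rw [mkPerm_pt _ _ _ f (hfx f hf), hfix f hf]

/-- Transitivity of a stabiliser on the octads of a selected family with a given intersection
size with a fixed octad, from a table. -/
theorem rk_trans (Om : ℕ) (fx : List ℕ) (hfx : ∀ f ∈ fx, f < 24) (rep : ℕ → ℕ)
    (sel : ℕ → Bool) (T : List (ℕ × List ℕ × List ℕ)) (hT : T.all (rkChk Om fx rep) = true)
    (hC : allComb (fun a => or (not (sel a)) (T.any (fun e => Nat.beq e.1 a))) basis 0 = true)
    (o' o'' : Finset GolayPt) (ho' : o' ∈ octads) (ho'' : o'' ∈ octads)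
    (hs' : ∀ a, pc a = 8 → o' = support₂ (word a) → sel a = true)
    (hs'' : ∀ a, pc a = 8 → o'' = support₂ (word a) → sel a = true)
    (hk : (support₂ (word Om) ∩ o').card = (support₂ (word Om) ∩ o'').card) :
    ∃ g ∈ M24, (∀ f ∈ fx, g (pt f) = pt f) ∧ g • support₂ (word Om) = support₂ (word Om) ∧
      g • o' = o'' := by
  obtain ⟨⟨v', hv', rfl⟩, h8'⟩ := ho'
  obtain ⟨⟨v'', hv'', rfl⟩, h8''⟩ := ho''
  obtain ⟨a, ha, rfl⟩ := exists_word hv' _ hC
  obtain ⟨b, hb, rfl⟩ := exists_word hv'' _ hC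
  rw [card_support, hammingNorm_word] at h8' h8''
  have sa := hs' a h8' rfl
  have sb := hs'' b h8'' rfl
  simp only [sa, sb, Bool.not_true, Bool.false_or, List.any_eq_true, Nat.beq_eq] at ha hb
  obtain ⟨ea, hea, rfl⟩ := ha
  obtain ⟨eb, heb, rfl⟩ := hb
  obtain ⟨ga, hga, fa, Oa, ra⟩ := rk_spec Om fx hfx rep T hT ea hea
  obtain ⟨gb, hgb, fb, Ob, rb⟩ := rk_spec Om fx hfx rep T hT eb heb
  rw [card_inter_word, card_inter_word, Nat.land_comm Om, Nat.land_comm Om] at hk
  rw [hk] at ra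
  refine ⟨gb * ga⁻¹, M24.mul_mem hgb (M24.inv_mem hga), ?_, ?_, ?_⟩
  · intro f hf
    rw [Equiv.Perm.mul_apply, Equiv.Perm.inv_eq_iff_eq.2 (fa f hf).symm, fb f hf]
  · rw [mul_smul, inv_smul_eq_iff.2 Oa.symm, Ob]
  · rw [mul_smul, inv_smul_eq_iff.2 ra.symm, rb]

end Rk
end Cfsg.Agent.Lib.Helper4
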