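import Cfsg.Agent.Lib.Helper4.Rk1

set_option autoImplicit false

namespace Cfsg.Agent.Lib.Helper4
namespace Rk

open Pointwise Golay

theorem mem_smul_iff (h : Equiv.Perm GolayPt) (x : GolayPt) (s : Finset GolayPt) :
    h x ∈ h • s ↔ x ∈ s := by
  show h • x ∈ h • s ↔ x ∈ s
  exact Finset.smul_mem_smul_finset_iff h

theorem smul_eq_of_fix {g : Equiv.Perm GolayPt} {o : Finset GolayPt} (h : ∀ x ∈ o, g x = x) :
    g • o = o := by
  apply Finset.eq_of_subset_of_card_le
  · intro y hy
    obtain ⟨x, hx, rfl⟩ := Finset.mem_smul_finset.1 hy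
    show g x ∈ o
    rw [h x hx]
    exact hx
  · rw [Finset.card_smul_finset]

end Rk
end Cfsg.Agent.Lib.Helper4
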