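import Cfsg.Agent.Lib.Helper4.Rk2

set_option autoImplicit false
set_option linter.unnecessarySeqFocus false

namespace Cfsg.Agent.Lib.Helper4
namespace Rk

open Pointwise Golay

/-- Counting the words of a given weight with a property by enumeration of the code. -/
theorem ncard_weight_pred (n : ℕ) (P : ℕ → Bool) (Q : Finset GolayPt → Prop)
    (hPQ : ∀ a, P a = true ↔ (pc a = n ∧ Q (support₂ (word a)))) :
    {s | s ∈ wordsOfWeight (golayCode : Set (GolayPt → ZMod 2)) n ∧ Q s}.ncard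
      = countComb P basis 0 := by
  rw [← countComb_sound P (fun w => hammingNorm w = n ∧ Q (support₂ w))
    (fun a => by rw [hPQ, hammingNorm_word]) basis indep_basis 0,
    ← Set.ncard_image_of_injective _ support_injective]
  congr 1
  ext s
  simp only [Set.mem_ofPred_eq, Set.mem_image, word_zero, zero_add, ← golay_eq]
  constructor
  · rintro ⟨⟨⟨w, hw, rfl⟩, hc⟩, hQ⟩
    exact ⟨w, ⟨⟨w, hw, rfl⟩, hc, hQ⟩, rfl⟩
  · rintro ⟨w, ⟨⟨v, hv, e⟩, hc, hQ⟩, rfl⟩
    subst e
    exact ⟨⟨⟨_, hv, rfl⟩, hc⟩, hQ⟩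

theorem smul_weight_iff (n : ℕ) {h : Equiv.Perm GolayPt} (hh : h ∈ M24) (s : Finset GolayPt) :
    h • s ∈ wordsOfWeight (golayCode : Set (GolayPt → ZMod 2)) n
      ↔ s ∈ wordsOfWeight (golayCode : Set (GolayPt → ZMod 2)) n := by
  constructor
  · intro hs
    have := smul_mem_weight (M24.inv_mem hh) hs
    rwa [inv_smul_smul] at this
  · exact fun hs => smul_mem_weight hh hs

/-- Transport of a count of words of a given weight along an element of the group. -/
theorem ncard_transportW (n : ℕ) {h : Equiv.Perm GolayPt} (hh : h ∈ M24)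
    (Q Q' : Finset GolayPt → Prop) (hQ : ∀ s, Q s ↔ Q' (h • s)) :
    {s | s ∈ wordsOfWeight (golayCode : Set (GolayPt → ZMod 2)) n ∧ Q s}.ncard
      = {s | s ∈ wordsOfWeight (golayCode : Set (GolayPt → ZMod 2)) n ∧ Q' s}.ncard := by
  have : {s | s ∈ wordsOfWeight (golayCode : Set (GolayPt → ZMod 2)) n ∧ Q' s}
      = (fun s => h • s) ''
        {s | s ∈ wordsOfWeight (golayCode : Set (GolayPt → ZMod 2)) n ∧ Q s} := by
    ext t
    simp only [Set.mem_ofPred_eq, Set.mem_image]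
    constructor
    · rintro ⟨ht, hq⟩
      refine ⟨h⁻¹ • t, ⟨?_, ?_⟩, smul_inv_smul h t⟩
      · rw [← smul_weight_iff n hh, smul_inv_smul]
        exact ht
      · rw [hQ, smul_inv_smul]
        exact hq
    · rintro ⟨s, ⟨hs, hq⟩, rfl⟩
      exact ⟨(smul_weight_iff n hh s).2 hs, (hQ s).1 hq⟩
  rw [this, Set.ncard_image_of_injective _ (MulAction.injective h)]

/-- Transitivity of a stabiliser on the words of a given weight of a selected family with a
given intersection size with a fixed set, from a table. -/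
theorem rk_transW (n : ℕ) (Om : ℕ) (fx : List ℕ) (hfx : ∀ f ∈ fx, f < 24) (rep : ℕ → ℕ)
    (sel : ℕ → Bool) (T : List (ℕ × List ℕ × List ℕ)) (hT : T.all (rkChk Om fx rep) = true)
    (hC : allComb (fun a => or (not (sel a)) (T.any (fun e => Nat.beq e.1 a))) basis 0 = true)
    (o' o'' : Finset GolayPt) (ho' : o' ∈ wordsOfWeight (golayCode : Set (GolayPt → ZMod 2)) n)
    (ho'' : o'' ∈ wordsOfWeight (golayCode : Set (GolayPt → ZMod 2)) n)
    (hs' : ∀ a, pc a = n → o' = support₂ (word a) → sel a = true)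
    (hs'' : ∀ a, pc a = n → o'' = support₂ (word a) → sel a = true)
    (hk : (support₂ (word Om) ∩ o').card = (support₂ (word Om) ∩ o'').card) :
    ∃ g ∈ M24, (∀ f ∈ fx, g (pt f) = pt f) ∧ g • support₂ (word Om) = support₂ (word Om) ∧
      g • o' = o'' := by
  obtain ⟨⟨v', hv', rfl⟩, h8'⟩ := ho'
  obtain ⟨⟨v'', hv'', rfl⟩, h8''⟩ := ho''
  obtain ⟨a, ha, rfl⟩ := exists_word hv' _ hC
  obtain ⟨b, hb, rfl⟩ := exists_word hv'' _ hC
  rw [card_support, hammingNorm_word] at h8' h8''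
  have sa := hs' a h8' rfl
  have sb := hs'' b h8'' rfl
  simp only [sa, sb, Bool.not_true, Bool.false_or, List.any_eq_true, Nat.beq_eq] at ha hb
  obtain ⟨ea, hea, rfl⟩ := ha
  obtain ⟨eb, heb, rfl⟩ := hb
  obtain ⟨ga, hga, fa, Oa, ra⟩ := rk_spec Om fx hfx rep T hT ea hea
  obtain ⟨gb, hgb, fb, Ob, rb⟩ := rk_spec Om fx hfx rep T hT eb heb
  rw [card_inter_word, card_inter_word, Nat.land_comm Om, Nat.land_comm Om] at hk
  rw [hk] at ra
  refine ⟨gb * ga⁻¹, M24.mul_mem hgb (M24.inv_mem hga), ?_, ?_, ?_⟩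
  · intro f hf
    rw [Equiv.Perm.mul_apply, Equiv.Perm.inv_eq_iff_eq.2 (fa f hf).symm, fb f hf]
  · rw [mul_smul, inv_smul_eq_iff.2 Oa.symm, Ob]
  · rw [mul_smul, inv_smul_eq_iff.2 ra.symm, rb]

end Rk
end Cfsg.Agent.Lib.Helper4
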