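import Cfsg.Agent.Lib.Helper4.Rk4

set_option autoImplicit false

namespace Cfsg.Agent.Lib.Helper4
namespace Rk

open Pointwise Golay

theorem allComb_mono {P P' : ℕ → Bool} (h : ∀ a, P a = true → P' a = true) (L : List ℕ)
    (acc : ℕ) (hP : allComb P L acc = true) : allComb P' L acc = true := by
  induction L generalizing acc with
  | nil => exact h acc hP
  | cons b bs ih =>
    rw [allComb_cons, Bool.and_eq_true] at hP ⊢
    exact ⟨ih acc hP.1, ih _ hP.2⟩

theorem any_flatten_of_getD {α : Type*} (L : List (List α)) (i : ℕ) (f : α → Bool)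
    (h : (L.getD i []).any f = true) : L.flatten.any f = true := by
  rw [List.any_eq_true] at h ⊢
  obtain ⟨x, hx, hfx⟩ := h
  refine ⟨x, ?_, hfx⟩
  rw [List.mem_flatten]
  by_cases hi : i < L.length
  · refine ⟨L.getD i [], ?_, hx⟩
    rw [List.getD_eq_getElem _ _ hi]
    exact List.getElem_mem hi
  · rw [List.getD_eq_default _ _ (by omega)] at hx
    simp at hx

theorem all_flatten' {α : Type*} (L : List (List α)) (f : α → Bool)
    (h : L.all (fun B => B.all f) = true) : L.flatten.all f = true := by
  rw [List.all_eq_true] at h ⊢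
  intro x hx
  rw [List.mem_flatten] at hx
  obtain ⟨B, hB, hxB⟩ := hx
  have := h B hB
  rw [List.all_eq_true] at this
  exact this x hxB

/-- Completeness of a table from a bucketed check. -/
theorem complete_of_buckets (sel : ℕ → Bool) (L : List (List (ℕ × List ℕ × List ℕ))) (m : ℕ)
    (h : allComb (fun a => or (not (sel a))
      ((L.getD (a % m) []).any (fun e => Nat.beq e.1 a))) basis 0 = true) :
    allComb (fun a => or (not (sel a)) (L.flatten.any (fun e => Nat.beq e.1 a))) basis 0
      = true := by
  refine allComb_mono (fun a ha => ?_) basis 0 h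
  rw [Bool.or_eq_true] at ha ⊢
  rcases ha with ha | ha
  · exact Or.inl ha
  · exact Or.inr (any_flatten_of_getD L _ _ ha)

end Rk
end Cfsg.Agent.Lib.Helper4
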