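import Cfsg.Agent.Lib.Helper4.Rk7

set_option autoImplicit false

namespace Cfsg.Agent.Lib.Helper4
namespace Rk

open Pointwise Golay

/-- Transport of a count of sets of points along a permutation. -/
theorem ncard_transport_gen (h : Equiv.Perm GolayPt) (P P' : Finset GolayPt → Prop)
    (hP : ∀ t, P t ↔ P' (h • t)) : {t | P t}.ncard = {t | P' t}.ncard := by
  have : {t | P' t} = (fun t => h • t) '' {t | P t} := by
    ext t
    simp only [Set.mem_ofPred_eq, Set.mem_image]
    constructor
    · intro ht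
      exact ⟨h⁻¹ • t, (hP _).2 (by rw [smul_inv_smul]; exact ht), smul_inv_smul h t⟩
    · rintro ⟨u, hu, rfl⟩
      exact (hP u).1 hu
  rw [this, Set.ncard_image_of_injective _ (MulAction.injective h)]

theorem disjoint_smul_iff (h : Equiv.Perm GolayPt) (s t : Finset GolayPt) :
    Disjoint (h • s) (h • t) ↔ Disjoint s t := by
  rw [Finset.disjoint_iff_inter_eq_empty, Finset.disjoint_iff_inter_eq_empty,
    ← Finset.card_eq_zero, ← Finset.card_eq_zero, card_inter_smul]

theorem oct_transport {h : Equiv.Perm GolayPt} (hh : h ∈ M24) (p q : GolayPt)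
    (s t : Finset GolayPt) :
    (∃ o ∈ octads, h p ∈ o ∧ h q ∈ o ∧ h • s ∪ h • t ⊆ o) ↔
      (∃ o ∈ octads, p ∈ o ∧ q ∈ o ∧ s ∪ t ⊆ o) := by
  constructor
  · rintro ⟨o, ho, hp, hq, hsub⟩
    refine ⟨h⁻¹ • o, smul_mem_weight (M24.inv_mem hh) ho, ?_, ?_, ?_⟩
    · rw [Finset.mem_inv_smul_finset_iff]
      exact hp
    · rw [Finset.mem_inv_smul_finset_iff]
      exact hq
    · rw [← Finset.smul_finset_subset_iff, Finset.smul_finset_union]
      exact hsub
  · rintro ⟨o, ho, hp, hq, hsub⟩
    refine ⟨h • o, smul_mem_weight hh ho, (mem_smul_iff h p o).2 hp, (mem_smul_iff h q o).2 hq, ?_⟩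
    rw [← Finset.smul_finset_union, Finset.smul_finset_subset_smul_finset_iff]
    exact hsub

end Rk
end Cfsg.Agent.Lib.Helper4
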