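import Cfsg.Agent.Lib.Helper4.Census
import Cfsg.Agent.Lib.Helper4.GolayPerm

set_option autoImplicit false

namespace Cfsg.Agent.Lib.Helper4
namespace Stv

open Cfsg Cfsg.Agent.Lib.Helper28 Cfsg.Agent.Lib.Helper4.Golay
open scoped Pointwise

def a : GolayPt := some 5

def b : GolayPt := some 14

theorem ab : a ≠ b := by decide

/-- The standard minimal vector. -/
def vStar : leechLattice := ⟨LeechGen.pp a b 4, LeechGen.pp_mem a b 4 (Or.inl rfl)⟩

theorem vStar_norm : sqNorm (vStar : GolayPt → ℤ) = 32 := by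
  show sqNorm (LeechGen.pp a b 4) = 32
  rw [LeechGen.sq_pp a b ab]
  norm_num

theorem dot_vStar (w : GolayPt → ℤ) :
    dotInt ((vStar : leechLattice) : GolayPt → ℤ) w = 4 * (w a + w b) := by
  show dotInt (LeechGen.pp a b 4) w = _
  unfold dotInt LeechGen.pp
  simp only [add_mul, ite_mul, zero_mul]
  rw [Finset.sum_add_distrib, Finset.sum_ite_eq' Finset.univ a (fun k => 4 * w k),
    Finset.sum_ite_eq' Finset.univ b (fun k => 4 * w k), if_pos (Finset.mem_univ _),
    if_pos (Finset.mem_univ _)]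
  ring

/-- Same orbit under the stabiliser of the standard vector. -/
def RelV (w w' : leechLattice) : Prop := ∃ g ∈ Co0, g vStar = vStar ∧ g w = w'

theorem RelV.refl (w : leechLattice) : RelV w w := ⟨1, Co0.one_mem, rfl, rfl⟩

theorem RelV.symm {w w' : leechLattice} (h : RelV w w') : RelV w' w := by
  obtain ⟨g, hg, hv, rfl⟩ := h
  refine ⟨g⁻¹, Co0.inv_mem hg, ?_, by simp⟩
  rw [Equiv.Perm.inv_eq_iff_eq]
  exact hv.symm

theorem RelV.trans {u v w : leechLattice} (h1 : RelV u v) (h2 : RelV v w) : RelV u w := by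
  obtain ⟨g, hg, hgv, rfl⟩ := h1
  obtain ⟨h, hh, hhv, rfl⟩ := h2
  exact ⟨h * g, Co0.mul_mem hh hg, by rw [Equiv.Perm.mul_apply, hgv, hhv], rfl⟩

theorem RelV.neg {w w' : leechLattice} (h : RelV w w') : RelV (-w) (-w') := by
  obtain ⟨g, hg, hv, rfl⟩ := h
  exact ⟨g, hg, hv, CoA.map_neg_of_add g hg.1 w⟩

theorem RelV.norm {w w' : leechLattice} (h : RelV w w') :
    sqNorm (w' : GolayPt → ℤ) = sqNorm (w : GolayPt → ℤ) := by
  obtain ⟨g, hg, -, rfl⟩ := h
  exact hg.2 w

theorem RelV.dot {w w' : leechLattice} (h : RelV w w') :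
    (w' : GolayPt → ℤ) a + (w' : GolayPt → ℤ) b = (w : GolayPt → ℤ) a + (w : GolayPt → ℤ) b := by
  obtain ⟨g, hg, hv, rfl⟩ := h
  have h1 := Orb.dot_pres g hg vStar w
  rw [hv, dot_vStar, dot_vStar] at h1
  omega

/-- Same orbit up to sign. -/
def RelPM (w w' : leechLattice) : Prop := RelV w w' ∨ RelV w (-w')

theorem RelPM.refl (w : leechLattice) : RelPM w w := Or.inl (RelV.refl w)

theorem RelPM.symm {w w' : leechLattice} (h : RelPM w w') : RelPM w' w := by
  rcases h with h | h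
  · exact Or.inl h.symm
  · right
    have := h.symm.neg
    rwa [neg_neg] at this

theorem RelPM.trans {u v w : leechLattice} (h1 : RelPM u v) (h2 : RelPM v w) : RelPM u w := by
  rcases h1 with h1 | h1 <;> rcases h2 with h2 | h2
  · exact Or.inl (h1.trans h2)
  · exact Or.inr (h1.trans h2)
  · exact Or.inr (h1.trans h2.neg)
  · left
    have := h1.trans h2.neg
    rwa [neg_neg] at this

theorem relPM_neg (w : leechLattice) : RelPM (-w) w := Or.inr (RelV.refl _)

theorem sgn_vStar (c : GolayPt → ZMod 2) (hc : c ∈ golayCode) (ha : c a = 0) (hb : c b = 0) :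
    CoA.sgnP c hc vStar = vStar := by
  apply Subtype.ext
  funext k
  rw [CoA.sgnP_apply]
  unfold CoA.sgn
  by_cases hk : c k = 1
  · rw [if_pos hk]
    have hka : k ≠ a := by
      rintro rfl
      rw [ha] at hk
      exact absurd hk (by decide)
    have hkb : k ≠ b := by
      rintro rfl
      rw [hb] at hk
      exact absurd hk (by decide)
    show -(LeechGen.pp a b 4 k) = LeechGen.pp a b 4 k
    unfold LeechGen.pp
    rw [if_neg hka, if_neg hkb]
    norm_num
  · rw [if_neg hk]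

theorem relV_sgn (c : GolayPt → ZMod 2) (hc : c ∈ golayCode) (ha : c a = 0) (hb : c b = 0)
    (w : leechLattice) : RelV w (CoA.sgnP c hc w) :=
  ⟨_, CoA.sgnP_mem c hc, sgn_vStar c hc ha hb, rfl⟩

theorem prm_vStar (g : Equiv.Perm GolayPt) (hg : g ∈ M24) (ha : g a = a) (hb : g b = b) :
    CoA.prmP g hg vStar = vStar := by
  apply Subtype.ext
  funext k
  rw [CoA.prmP_apply]
  show LeechGen.pp a b 4 (g k) = LeechGen.pp a b 4 k
  unfold LeechGen.pp
  have e1 : (g k = a) ↔ (k = a) := by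
    constructor
    · intro h
      apply g.injective
      rw [h, ha]
    · intro h
      rw [h, ha]
  have e2 : (g k = b) ↔ (k = b) := by
    constructor
    · intro h
      apply g.injective
      rw [h, hb]
    · intro h
      rw [h, hb]
  simp only [e1, e2]

theorem relV_prm (g : Equiv.Perm GolayPt) (hg : g ∈ M24) (ha : g a = a) (hb : g b = b)
    (w : leechLattice) : RelV w (CoA.prmP g hg w) :=
  ⟨_, CoA.prmP_mem g hg, prm_vStar g hg ha hb, rfl⟩

def c1m : ℕ := 280334

theorem c1_mem : word c1m ∈ golayCode := Xi.word_mem_of_red (by decide +kernel)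

theorem c1_a : word c1m a = 0 := by decide

theorem c1_b : word c1m b = 1 := by decide

/-- The extra element of the stabiliser. -/
noncomputable def g1 : Equiv.Perm leechLattice :=
  CoA.sgnP (word c1m) c1_mem * Xi.xiP * CoA.sgnP (word c1m) c1_mem

theorem g1_mem : g1 ∈ Co0 :=
  Co0.mul_mem (Co0.mul_mem (CoA.sgnP_mem _ _) Xi.xiP_mem) (CoA.sgnP_mem _ _)

theorem g1_apply (w : leechLattice) :
    g1 w = CoA.sgnP (word c1m) c1_mem (Xi.xiV (CoA.sgnP (word c1m) c1_mem w)) := rfl

/-- Explicit formula for twice the image. -/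
def G1 (u : GolayPt → ℤ) (i : GolayPt) : ℤ :=
  (if word c1m i = 1 then -1 else 1) * Xi.E2 (CoA.sgn (word c1m) u) i

theorem g1_coord (w : leechLattice) (i : GolayPt) :
    2 * ((g1 w : leechLattice) : GolayPt → ℤ) i = G1 (w : GolayPt → ℤ) i := by
  rw [g1_apply, CoA.sgnP_apply]
  have h := Xi.xiV_spec' (CoA.sgnP (word c1m) c1_mem w) i
  rw [CoA.sgnP_apply] at h
  unfold G1
  rw [← h]
  unfold CoA.sgn
  split_ifs <;> ring

set_option maxRecDepth 100000 in
theorem G1_vStar : ∀ i, G1 (LeechGen.pp a b 4) i = 2 * LeechGen.pp a b 4 i := by decide +kernel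

theorem g1_vStar : g1 vStar = vStar := by
  apply Subtype.ext
  funext i
  have h := g1_coord vStar i
  have h2 : G1 (vStar : GolayPt → ℤ) i = 2 * (vStar : GolayPt → ℤ) i := G1_vStar i
  omega

theorem relV_g1 (w : leechLattice) : RelV w (g1 w) := ⟨g1, g1_mem, g1_vStar, rfl⟩

/-- Every minimal vector is the image of the standard one. -/
theorem exists_std (v : leechLattice) (hv : sqNorm (v : GolayPt → ℤ) = 32) :
    ∃ h ∈ Co0, h vStar = v :=
  (Orb.all_rel vStar vStar_norm).trans (Orb.all_rel v hv).symm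

theorem exists_not_mem (s : Finset GolayPt) (h : s.card < 24) : ∃ p, p ∉ s := by
  by_contra hcon
  push Not at hcon
  have : s = Finset.univ := Finset.eq_univ_iff_forall.2 hcon
  rw [this, Finset.card_univ, card_golayPt] at h
  omega

theorem map5 (x0 x1 x2 x3 x4 y0 y1 y2 y3 y4 : GolayPt) (hx : [x0, x1, x2, x3, x4].Nodup)
    (hy : [y0, y1, y2, y3, y4].Nodup) :
    ∃ g ∈ M24, g x0 = y0 ∧ g x1 = y1 ∧ g x2 = y2 ∧ g x3 = y3 ∧ g x4 = y4 := by
  let x : Fin 5 ↪ GolayPt := ⟨[x0, x1, x2, x3, x4].get, List.nodup_iff_injective_get.1 hx⟩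
  let y : Fin 5 ↪ GolayPt := ⟨[y0, y1, y2, y3, y4].get, List.nodup_iff_injective_get.1 hy⟩
  obtain ⟨g, hg, h⟩ := Golay.exists_map x y
  exact ⟨g, hg, h 0, h 1, h 2, h 3, h 4⟩

theorem map4 (x0 x1 x2 x3 y0 y1 y2 y3 : GolayPt) (hx : [x0, x1, x2, x3].Nodup)
    (hy : [y0, y1, y2, y3].Nodup) :
    ∃ g ∈ M24, g x0 = y0 ∧ g x1 = y1 ∧ g x2 = y2 ∧ g x3 = y3 := by
  classical
  obtain ⟨x4, hx4⟩ := exists_not_mem [x0, x1, x2, x3].toFinset
    (lt_of_le_of_lt (List.toFinset_card_le _) (by simp))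
  obtain ⟨y4, hy4⟩ := exists_not_mem [y0, y1, y2, y3].toFinset
    (lt_of_le_of_lt (List.toFinset_card_le _) (by simp))
  rw [List.mem_toFinset] at hx4 hy4
  obtain ⟨g, hg, -, h0, h1, h2, h3⟩ := map5 x4 x0 x1 x2 x3 y4 y0 y1 y2 y3
    (List.nodup_cons.2 ⟨hx4, hx⟩) (List.nodup_cons.2 ⟨hy4, hy⟩)
  exact ⟨g, hg, h0, h1, h2, h3⟩

theorem map3 (x0 x1 x2 y0 y1 y2 : GolayPt) (hx : [x0, x1, x2].Nodup)
    (hy : [y0, y1, y2].Nodup) :
    ∃ g ∈ M24, g x0 = y0 ∧ g x1 = y1 ∧ g x2 = y2 := by
  classical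
  obtain ⟨x4, hx4⟩ := exists_not_mem [x0, x1, x2].toFinset
    (lt_of_le_of_lt (List.toFinset_card_le _) (by simp))
  obtain ⟨y4, hy4⟩ := exists_not_mem [y0, y1, y2].toFinset
    (lt_of_le_of_lt (List.toFinset_card_le _) (by simp))
  rw [List.mem_toFinset] at hx4 hy4
  obtain ⟨g, hg, -, h0, h1, h2⟩ := map4 x4 x0 x1 x2 y4 y0 y1 y2
    (List.nodup_cons.2 ⟨hx4, hx⟩) (List.nodup_cons.2 ⟨hy4, hy⟩)
  exact ⟨g, hg, h0, h1, h2⟩

theorem nodup5 (x0 x1 x2 x3 x4 : GolayPt) (h01 : x0 ≠ x1) (h02 : x0 ≠ x2) (h03 : x0 ≠ x3)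
    (h04 : x0 ≠ x4) (h12 : x1 ≠ x2) (h13 : x1 ≠ x3) (h14 : x1 ≠ x4) (h23 : x2 ≠ x3)
    (h24 : x2 ≠ x4) (h34 : x3 ≠ x4) : [x0, x1, x2, x3, x4].Nodup := by
  simp [*]

/-- Octads through two points are permuted transitively by the stabiliser of the two points. -/
theorem octad_pq (o o' : Finset GolayPt) (ho : o ∈ octads) (ho' : o' ∈ octads) (p q : GolayPt)
    (hpq : p ≠ q) (hp : p ∈ o) (hq : q ∈ o) (hp' : p ∈ o') (hq' : q ∈ o') :
    ∃ g ∈ M24, g p = p ∧ g q = q ∧ g • o = o' := by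
  classical
  have hc : 3 ≤ ((o.erase p).erase q).card := by
    rw [Finset.card_erase_of_mem (Finset.mem_erase.2 ⟨hpq.symm, hq⟩),
      Finset.card_erase_of_mem hp, ho.2]
    norm_num
  have hc' : 3 ≤ ((o'.erase p).erase q).card := by
    rw [Finset.card_erase_of_mem (Finset.mem_erase.2 ⟨hpq.symm, hq'⟩),
      Finset.card_erase_of_mem hp', ho'.2]
    norm_num
  obtain ⟨t, hto, ht⟩ := Finset.exists_subset_card_eq hc
  obtain ⟨t', hto', ht'⟩ := Finset.exists_subset_card_eq hc'
  obtain ⟨x1, x2, x3, h12, h13, h23, rfl⟩ := Finset.card_eq_three.1 ht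
  obtain ⟨y1, y2, y3, k12, k13, k23, rfl⟩ := Finset.card_eq_three.1 ht'
  have hx : ∀ x ∈ ({x1, x2, x3} : Finset GolayPt), p ≠ x ∧ q ≠ x ∧ x ∈ o := by
    intro x hx
    have := hto hx
    rw [Finset.mem_erase, Finset.mem_erase] at this
    exact ⟨this.2.1.symm, this.1.symm, this.2.2⟩
  have hy : ∀ x ∈ ({y1, y2, y3} : Finset GolayPt), p ≠ x ∧ q ≠ x ∧ x ∈ o' := by
    intro x hx
    have := hto' hx
    rw [Finset.mem_erase, Finset.mem_erase] at this
    exact ⟨this.2.1.symm, this.1.symm, this.2.2⟩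
  have a1 := hx x1 (by simp)
  have a2 := hx x2 (by simp)
  have a3 := hx x3 (by simp)
  have b1 := hy y1 (by simp)
  have b2 := hy y2 (by simp)
  have b3 := hy y3 (by simp)
  have hny : [p, q, y1, y2, y3].Nodup :=
    nodup5 p q y1 y2 y3 hpq b1.1 b2.1 b3.1 b1.2.1 b2.2.1 b3.2.1 k12 k13 k23
  obtain ⟨g, hg, gp, gq, g1, g2, g3⟩ := map5 p q x1 x2 x3 p q y1 y2 y3
    (nodup5 p q x1 x2 x3 hpq a1.1 a2.1 a3.1 a1.2.1 a2.2.1 a3.2.1 h12 h13 h23) hny
  refine ⟨g, hg, gp, gq, ?_⟩
  obtain ⟨bb, -, huniq⟩ := Cfsg.Agent.S0363.result.2 [p, q, y1, y2, y3].toFinset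
    (by rw [List.toFinset_card_of_nodup hny]; rfl)
  have h1 : g • o = bb := huniq _ ⟨smul_mem_weight hg ho, by
    intro z hz
    rw [List.mem_toFinset] at hz
    simp only [List.mem_cons, List.not_mem_nil, or_false] at hz
    rcases hz with rfl | rfl | rfl | rfl | rfl
    · rw [← gp]
      exact Finset.smul_mem_smul_finset hp
    · rw [← gq]
      exact Finset.smul_mem_smul_finset hq
    · rw [← g1]
      exact Finset.smul_mem_smul_finset a1.2.2
    · rw [← g2]
      exact Finset.smul_mem_smul_finset a2.2.2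
    · rw [← g3]
      exact Finset.smul_mem_smul_finset a3.2.2⟩
  rw [h1]
  refine (huniq o' ⟨ho', ?_⟩).symm
  intro z hz
  rw [List.mem_toFinset] at hz
  simp only [List.mem_cons, List.not_mem_nil, or_false] at hz
  rcases hz with rfl | rfl | rfl | rfl | rfl
  · exact hp'
  · exact hq'
  · exact b1.2.2
  · exact b2.2.2
  · exact b3.2.2

theorem mask_octad (m : ℕ) (h : red basisP m = 0) (h8 : pc m = 8) :
    support₂ (word m) ∈ octads :=
  ⟨⟨word m, Xi.word_mem_of_red h, rfl⟩, by rw [card_support, hammingNorm_word]; exact h8⟩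

/-- The shape of an even minimal vector with a coordinate that is 2 modulo 4. -/
theorem shapeB (v : leechLattice) (hn : sqNorm (v : GolayPt → ℤ) = 32)
    (i0 : GolayPt) (h0 : (v : GolayPt → ℤ) i0 % 4 = 2) :
    ∃ c ∈ golayCode, support₂ c ∈ octads ∧
      (∀ k, c k = 1 → ((v : GolayPt → ℤ) k = 2 ∨ (v : GolayPt → ℤ) k = -2)) ∧
      (∀ k, c k ≠ 1 → (v : GolayPt → ℤ) k = 0) := by
  classical
  obtain ⟨b, c, hc, h1⟩ := Orb.min_data v hn
  have hb : b = false := by
    cases b
    · rfl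
    · exfalso
      have := h1 i0
      rw [Cnt.pz_true] at this
      split_ifs at this <;> omega
  subst hb
  rw [Cnt.pz_false] at h1
  have hci0 : c i0 = 1 := by
    by_contra hcon
    have := h1 i0
    rw [if_neg hcon] at this
    omega
  have hterm : ∀ k, 0 ≤ (v : GolayPt → ℤ) k ^ 2 - (if c k ≠ 0 then 4 else 0) := by
    intro k
    have := h1 k
    by_cases hk : c k = 1
    · rw [if_pos hk] at this
      rw [if_pos (by rw [hk]; decide)]
      have h2 : (v : GolayPt → ℤ) k ≠ 0 := by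
        intro h
        rw [h] at this
        norm_num at this
      rcases lt_or_gt_of_ne h2 with h | h
      · have : (v : GolayPt → ℤ) k ≤ -2 := by omega
        nlinarith
      · have : 2 ≤ (v : GolayPt → ℤ) k := by omega
        nlinarith
    · have hk0 : c k = 0 := by
        rcases z2_cases (c k) with h | h
        · exact h
        · exact absurd h hk
      rw [if_neg (by rw [hk0]; decide)]
      have := sq_nonneg ((v : GolayPt → ℤ) k)
      omega
  have hsumterm : ∑ k, ((v : GolayPt → ℤ) k ^ 2 - (if c k ≠ 0 then (4 : ℤ) else 0)) =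
      32 - 4 * (hammingNorm c : ℤ) := by
    rw [Finset.sum_sub_distrib]
    have e1 : ∑ k, (v : GolayPt → ℤ) k ^ 2 = 32 := hn
    have e2 : ∑ k, (if c k ≠ 0 then (4 : ℤ) else 0) = 4 * (hammingNorm c : ℤ) := by
      unfold hammingNorm
      rw [Finset.card_filter]
      push_cast
      rw [Finset.mul_sum]
      apply Finset.sum_congr rfl
      intro k _
      split_ifs <;> norm_num
    rw [e1, e2]
  have hge : 0 ≤ ∑ k, ((v : GolayPt → ℤ) k ^ 2 - (if c k ≠ 0 then (4 : ℤ) else 0)) :=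
    Finset.sum_nonneg (fun k _ => hterm k)
  have hw8 : hammingNorm c = 8 := by
    have hne : hammingNorm c ≠ 0 := by
      rw [Ne, hammingNorm_eq_zero]
      intro h
      rw [h, Pi.zero_apply] at hci0
      exact absurd hci0 (by decide)
    rcases Golay.weights c hc with h | h | h | h | h
    · exact absurd h hne
    · exact h
    all_goals (rw [hsumterm, h] at hge; norm_num at hge)
  have hzero : ∀ k, (v : GolayPt → ℤ) k ^ 2 - (if c k ≠ 0 then (4 : ℤ) else 0) = 0 := by
    have hs0 : ∑ k, ((v : GolayPt → ℤ) k ^ 2 - (if c k ≠ 0 then (4 : ℤ) else 0)) = 0 := by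
      rw [hsumterm, hw8]
      norm_num
    intro k
    exact (Finset.sum_eq_zero_iff_of_nonneg (fun k _ => hterm k)).1 hs0 k (Finset.mem_univ k)
  refine ⟨c, hc, ⟨⟨c, hc, rfl⟩, hw8⟩, ?_, ?_⟩
  · intro k hck
    have := hzero k
    rw [if_pos (by rw [hck]; decide)] at this
    have h4 : (v : GolayPt → ℤ) k ^ 2 = 4 := by omega
    have h5 : -2 ≤ (v : GolayPt → ℤ) k := by nlinarith
    have h6 : (v : GolayPt → ℤ) k ≤ 2 := by nlinarith
    have h7 := h1 k
    rw [if_pos hck] at h7
    omega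
  · intro k hck
    have hck0 : c k = 0 := by
      rcases z2_cases (c k) with h | h
      · exact h
      · exact absurd h hck
    have := hzero k
    rw [if_neg (by rw [hck0]; decide)] at this
    have h4 : (v : GolayPt → ℤ) k ^ 2 = 0 := by omega
    exact (pow_eq_zero_iff (by norm_num)).1 h4

/-- Fixing the signs of a vector against a target by code words, within the stabiliser. -/
theorem signfix (z : GolayPt) (pm : GolayPt → ℕ) (hred : ∀ x, red basisP (pm x) = 0)
    (P : GolayPt → Prop)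
    (hspec : ∀ x i, P x → P i → (word (pm x) i = 1 ↔ x = i))
    (hab : ∀ x, P x → word (pm x) a = 0 ∧ word (pm x) b = 0)
    (w t : leechLattice)
    (hP : ∀ i, P i → ((w : GolayPt → ℤ) i = (t : GolayPt → ℤ) i ∨
      (w : GolayPt → ℤ) i = - (t : GolayPt → ℤ) i))
    (hN : ∀ i, ¬ P i → i ≠ z → (w : GolayPt → ℤ) i = (t : GolayPt → ℤ) i ∧
      ((w : GolayPt → ℤ) i = 0 ∨ i = a ∨ i = b))
    (hz : (w : GolayPt → ℤ) z = (t : GolayPt → ℤ) z ∨
      (w : GolayPt → ℤ) z = - (t : GolayPt → ℤ) z)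
    (htz : (t : GolayPt → ℤ) z % 4 = 2) : RelV w t := by
  classical
  obtain ⟨F, hF⟩ : ∃ F : Finset GolayPt, F = Finset.univ.filter
      (fun x => P x ∧ (w : GolayPt → ℤ) x ≠ (t : GolayPt → ℤ) x) := ⟨_, rfl⟩
  obtain ⟨c, hc⟩ : ∃ c : GolayPt → ZMod 2, c = ∑ x ∈ F, word (pm x) := ⟨_, rfl⟩
  have hcm : c ∈ golayCode := by
    rw [hc]
    exact Submodule.sum_mem _ (fun x _ => Xi.word_mem_of_red (hred x))
  have hca : c a = 0 := by
    rw [hc, Finset.sum_apply]
    apply Finset.sum_eq_zero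
    intro x hx
    rw [hF, Finset.mem_filter] at hx
    exact (hab x hx.2.1).1
  have hcb : c b = 0 := by
    rw [hc, Finset.sum_apply]
    apply Finset.sum_eq_zero
    intro x hx
    rw [hF, Finset.mem_filter] at hx
    exact (hab x hx.2.1).2
  have hci : ∀ i, P i → (c i = 1 ↔ (w : GolayPt → ℤ) i ≠ (t : GolayPt → ℤ) i) := by
    intro i hi
    have e : c i = ∑ x ∈ F, (if x = i then (1 : ZMod 2) else 0) := by
      rw [hc, Finset.sum_apply]
      apply Finset.sum_congr rfl
      intro x hx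
      rw [hF, Finset.mem_filter] at hx
      have := hspec x i hx.2.1 hi
      by_cases hxi : x = i
      · rw [if_pos hxi]
        exact this.2 hxi
      · rw [if_neg hxi]
        rcases z2_cases (word (pm x) i) with h | h
        · exact h
        · exact absurd (this.1 h) hxi
    rw [e, Finset.sum_ite_eq' F i (fun _ => (1 : ZMod 2))]
    have hiF : i ∈ F ↔ (w : GolayPt → ℤ) i ≠ (t : GolayPt → ℤ) i := by
      rw [hF, Finset.mem_filter]
      exact ⟨fun hh => hh.2.2, fun h => ⟨Finset.mem_univ _, hi, h⟩⟩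
    constructor
    · intro h heq
      rw [if_neg (fun hh => hiF.1 hh heq)] at h
      exact absurd h (by decide)
    · intro h
      rw [if_pos (hiF.2 h)]
  have hk : ∀ k, k ≠ z →
      ((CoA.sgnP c hcm w : leechLattice) : GolayPt → ℤ) k = (t : GolayPt → ℤ) k := by
    intro k hkz
    rw [CoA.sgnP_apply]
    unfold CoA.sgn
    by_cases hPk : P k
    · by_cases hne : (w : GolayPt → ℤ) k = (t : GolayPt → ℤ) k
      · rw [if_neg (fun h => (hci k hPk).1 h hne)]
        exact hne
      · rw [if_pos ((hci k hPk).2 hne)]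
        rcases hP k hPk with h | h
        · exact absurd h hne
        · rw [h, neg_neg]
    · obtain ⟨h1, h2⟩ := hN k hPk hkz
      rcases h2 with h2 | h2 | h2
      · rw [← h1, h2]
        split_ifs <;> rfl
      · rw [h2, if_neg (by rw [hca]; decide), ← h2]
        exact h1
      · rw [h2, if_neg (by rw [hcb]; decide), ← h2]
        exact h1
  have hzz : ((CoA.sgnP c hcm w : leechLattice) : GolayPt → ℤ) z = (t : GolayPt → ℤ) z ∨
      ((CoA.sgnP c hcm w : leechLattice) : GolayPt → ℤ) z = - (t : GolayPt → ℤ) z := by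
    rw [CoA.sgnP_apply]
    unfold CoA.sgn
    split_ifs
    · rcases hz with h | h
      · right
        rw [h]
      · left
        rw [h, neg_neg]
    · exact hz
  have hs1 := Orb.even_sum _ (CoA.sgnP c hcm w).2 z (by rcases hzz with h | h <;> rw [h] <;> omega)
  have hs2 := Orb.even_sum _ t.2 z (by omega)
  have hdiff : ∑ k, (((CoA.sgnP c hcm w : leechLattice) : GolayPt → ℤ) k - (t : GolayPt → ℤ) k) =
      ((CoA.sgnP c hcm w : leechLattice) : GolayPt → ℤ) z - (t : GolayPt → ℤ) z := by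
    apply Finset.sum_eq_single z
    · intro k _ hk'
      rw [hk k hk', sub_self]
    · intro h
      exact absurd (Finset.mem_univ _) h
  rw [Finset.sum_sub_distrib] at hdiff
  have hfinz : ((CoA.sgnP c hcm w : leechLattice) : GolayPt → ℤ) z = (t : GolayPt → ℤ) z := by
    rcases hzz with h | h
    · exact h
    · rw [h] at hdiff
      omega
  have hfin : CoA.sgnP c hcm w = t := by
    apply Subtype.ext
    funext k
    by_cases hkz : k = z
    · rw [hkz]
      exact hfinz
    · exact hk k hkz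
  rw [← hfin]
  exact relV_sgn c hcm hca hcb w

end Stv
end Cfsg.Agent.Lib.Helper4
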