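import Cfsg.Agent.Lib.Helper4.Stv1
import Cfsg.Agent.Lib.Helper4.GolayOct

set_option autoImplicit false

namespace Cfsg.Agent.Lib.Helper4
namespace Stv

open Cfsg Cfsg.Agent.Lib.Helper28 Cfsg.Agent.Lib.Helper4.Golay
open scoped Pointwise

/-- Elements preserving the standard octad and fixing the point 5, by the image of 14. -/
def tbl2 : List (ℕ × List ℕ × List ℕ) := [
  (6, [3, 0, 7, 2, 1, 5, 17, 12, 20, 22, 10, 16, 4, 11, 6, 9, 14, 18, 13, 19, 15, 23, 21, 8], [1, 4, 3, 0, 12, 5, 14, 2, 23, 15, 10, 13, 7, 18, 16, 20, 11, 6, 17, 19, 8, 22, 9, 21]),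
  (8, [12, 4, 10, 1, 0, 5, 22, 7, 20, 21, 3, 17, 2, 13, 8, 19, 14, 18, 15, 9, 23, 11, 16, 6], [4, 3, 12, 10, 1, 5, 23, 7, 14, 19, 2, 21, 0, 13, 16, 18, 22, 11, 17, 15, 8, 9, 6, 20]),
  (9, [0, 12, 10, 4, 7, 5, 20, 1, 17, 8, 3, 23, 2, 14, 9, 18, 19, 15, 13, 11, 16, 6, 22, 21], [0, 7, 12, 10, 3, 5, 21, 4, 9, 14, 2, 19, 1, 18, 13, 17, 20, 8, 15, 16, 6, 23, 22, 11]),
  (11, [7, 4, 0, 3, 12, 5, 21, 10, 23, 19, 1, 18, 2, 13, 11, 14, 22, 9, 20, 6, 16, 8, 15, 17], [2, 10, 12, 3, 1, 5, 19, 0, 21, 17, 7, 14, 4, 13, 15, 22, 20, 23, 11, 9, 18, 6, 16, 8]),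
  (13, [0, 12, 4, 3, 2, 5, 11, 7, 9, 8, 10, 6, 1, 14, 13, 22, 19, 18, 17, 16, 20, 21, 15, 23], [0, 12, 4, 3, 2, 5, 11, 7, 9, 8, 10, 6, 1, 14, 13, 22, 19, 18, 17, 16, 20, 21, 15, 23]),
  (14, [0, 1, 2, 3, 4, 5, 6, 7, 8, 9, 10, 11, 12, 13, 14, 15, 16, 17, 18, 19, 20, 21, 22, 23], [0, 1, 2, 3, 4, 5, 6, 7, 8, 9, 10, 11, 12, 13, 14, 15, 16, 17, 18, 19, 20, 21, 22, 23]),
  (15, [0, 3, 7, 12, 2, 5, 11, 10, 13, 18, 1, 20, 4, 17, 15, 9, 21, 14, 8, 6, 23, 19, 22, 16], [0, 10, 4, 1, 12, 5, 19, 2, 18, 15, 7, 6, 3, 8, 17, 14, 23, 13, 9, 21, 11, 16, 22, 20]),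
  (16, [12, 1, 4, 7, 2, 5, 19, 0, 6, 23, 10, 22, 3, 17, 16, 15, 14, 9, 20, 21, 11, 8, 18, 13], [7, 1, 4, 12, 2, 5, 8, 3, 21, 17, 10, 20, 0, 23, 16, 15, 14, 13, 22, 6, 18, 19, 11, 9]),
  (17, [2, 3, 12, 7, 0, 5, 18, 4, 15, 21, 10, 14, 1, 16, 17, 22, 6, 13, 11, 19, 9, 8, 23, 20], [4, 12, 0, 1, 7, 5, 16, 3, 21, 20, 10, 18, 2, 17, 11, 8, 13, 14, 6, 19, 23, 9, 15, 22]),
  (18, [12, 7, 4, 2, 10, 5, 21, 1, 20, 17, 0, 9, 3, 8, 18, 22, 16, 11, 23, 14, 13, 6, 19, 15], [10, 7, 3, 12, 2, 5, 21, 1, 13, 11, 4, 17, 0, 20, 19, 23, 16, 9, 14, 22, 8, 6, 15, 18]),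
  (19, [1, 3, 0, 7, 10, 5, 17, 12, 21, 15, 4, 20, 2, 23, 19, 14, 8, 22, 18, 11, 9, 16, 6, 13], [2, 0, 12, 1, 10, 5, 22, 3, 16, 20, 4, 19, 7, 23, 15, 9, 21, 6, 18, 14, 11, 8, 17, 13]),
  (20, [4, 1, 10, 0, 3, 5, 21, 12, 15, 23, 2, 18, 7, 11, 20, 19, 6, 13, 9, 22, 8, 16, 14, 17], [3, 1, 10, 4, 0, 5, 16, 12, 20, 18, 2, 13, 7, 17, 22, 8, 21, 23, 11, 15, 14, 6, 19, 9]),
  (21, [7, 1, 4, 10, 0, 5, 9, 2, 20, 15, 3, 17, 12, 13, 21, 16, 6, 19, 8, 23, 22, 14, 18, 11], [4, 1, 7, 10, 2, 5, 16, 0, 18, 6, 3, 23, 12, 13, 21, 9, 15, 11, 22, 17, 8, 14, 20, 19]),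
  (22, [12, 0, 2, 7, 3, 5, 14, 1, 8, 11, 4, 6, 10, 18, 22, 20, 15, 23, 19, 21, 13, 16, 17, 9], [1, 7, 2, 4, 10, 5, 11, 3, 8, 23, 12, 9, 0, 20, 6, 16, 21, 22, 13, 18, 15, 19, 14, 17]),
  (23, [12, 0, 1, 10, 3, 5, 22, 7, 15, 9, 2, 18, 4, 11, 23, 14, 17, 19, 20, 8, 21, 6, 13, 16], [1, 2, 10, 4, 12, 5, 21, 7, 19, 9, 3, 13, 0, 22, 15, 8, 23, 16, 11, 17, 18, 20, 6, 14])]

/-- Check of a table entry: preserves the standard octad, fixes 5, maps 14 to the target. -/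
def entry2Chk (e : ℕ × List ℕ × List ℕ) : Bool :=
  and (and (chk e.2.1 e.2.2) (memChk e.2.1))
    (and (and (Nat.beq (nth e.2.1 5) 5) (Nat.beq (nth e.2.1 14) e.1))
      ([0, 1, 2, 3, 4, 7, 10, 12].all (fun f =>
        [0, 1, 2, 3, 4, 7, 10, 12].any (fun f' => Nat.beq (nth e.2.1 f) f'))))

set_option maxRecDepth 100000 in
theorem tbl2_ok : (tbl2.all entry2Chk &&
    [6, 8, 9, 11, 13, 14, 15, 16, 17, 18, 19, 20, 21, 22, 23].all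
      (fun j => tbl2.any (fun e => Nat.beq e.1 j))) = true := by decide +kernel

theorem lvl2 : ∀ j ∈ [6, 8, 9, 11, 13, 14, 15, 16, 17, 18, 19, 20, 21, 22, 23],
    ∃ s ∈ M24, s (pt 5) = pt 5 ∧ s (pt 14) = pt j ∧ s • O0s = O0s := by
  have h := tbl2_ok
  simp only [Bool.and_eq_true, List.all_eq_true, List.any_eq_true, Nat.beq_eq] at h
  intro j hj
  obtain ⟨e, he, rfl⟩ := h.2 j hj
  have h1 := h.1 e he
  simp only [entry2Chk, Bool.and_eq_true, List.all_eq_true, List.any_eq_true, Nat.beq_eq] at h1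
  refine ⟨mkPerm e.2.1 e.2.2 h1.1.1, mkPerm_mem _ _ _ h1.1.2, ?_, ?_, ?_⟩
  · rw [mkPerm_pt _ _ _ 5 (by norm_num), h1.2.1.1]
  · rw [mkPerm_pt _ _ _ 14 (by norm_num), h1.2.1.2]
  · apply Finset.eq_of_subset_of_card_le
    · intro p hp
      obtain ⟨y, hy, rfl⟩ := Finset.mem_smul_finset.1 hp
      rw [mem_O0s] at hy
      obtain ⟨f', hf', e'⟩ := h1.2.2 (code y) hy
      show mkPerm e.2.1 e.2.2 h1.1.1 y ∈ O0s
      have hlt : ∀ f' ∈ [0, 1, 2, 3, 4, 7, 10, 12], f' < 24 := by decide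
      rw [mkPerm_apply, e', mem_O0s, code_pt f' (hlt f' hf')]
      exact hf'
    · rw [Finset.card_smul_finset]

theorem a_eq : a = pt 5 := by decide

theorem b_eq : b = pt 14 := by decide

/-- Octads avoiding the two standard points are permuted transitively by their stabiliser. -/
theorem octad_ab0 (o : Finset GolayPt) (ho : o ∈ octads) (ha : a ∉ o) (hb : b ∉ o) :
    ∃ g ∈ M24, g a = a ∧ g b = b ∧ g • O0s = o := by
  obtain ⟨g1, hg1, e1⟩ := octad_trans O0s o O0s_octad ho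
  have hout : ∀ p : GolayPt, p ∉ O0s →
      code p ∈ [5, 6, 8, 9, 11, 13, 14, 15, 16, 17, 18, 19, 20, 21, 22, 23] := by
    intro p hp
    rw [mem_O0s] at hp
    revert p
    decide
  have hmem : ∀ p : GolayPt, g1⁻¹ p ∈ O0s → p ∈ o := by
    intro p h
    rw [← e1]
    have := Finset.smul_mem_smul_finset (a := g1) h
    simpa using this
  have ha' : g1⁻¹ a ∉ O0s := fun h => ha (hmem a h)
  have hb' : g1⁻¹ b ∉ O0s := fun h => hb (hmem b h)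
  obtain ⟨r, hr, rfix, r5, -⟩ := octA _ (hout _ ha')
  rw [pt_code] at r5
  have rO : ∀ p, p ∈ O0s → r p = p := by
    intro p hp
    have := rfix (code p) (mem_O0s.1 hp)
    rwa [pt_code] at this
  have rOs : r • O0s = O0s := by
    ext p
    rw [Finset.mem_smul_finset]
    constructor
    · rintro ⟨y, hy, rfl⟩
      rw [Equiv.Perm.smul_def, rO y hy]
      exact hy
    · intro hp
      exact ⟨p, hp, rO p hp⟩
  have hb'' : r⁻¹ (g1⁻¹ b) ∉ O0s := by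
    intro h
    have h2 := rO _ h
    have h3 : r (r⁻¹ (g1⁻¹ b)) = g1⁻¹ b := by simp
    rw [h3] at h2
    rw [← h2] at h
    exact hb' h
  have hne : r⁻¹ (g1⁻¹ b) ≠ pt 5 := by
    intro h
    have h2 : g1⁻¹ b = r (pt 5) := by
      rw [← h]
      simp
    rw [r5] at h2
    exact ab (g1⁻¹.injective h2).symm
  have hj : code (r⁻¹ (g1⁻¹ b)) ∈ [6, 8, 9, 11, 13, 14, 15, 16, 17, 18, 19, 20, 21, 22, 23] := by
    have h1 := hout _ hb''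
    have h2 : code (r⁻¹ (g1⁻¹ b)) ≠ 5 := by
      intro h
      apply hne
      rw [← pt_code (r⁻¹ (g1⁻¹ b)), h]
    rcases List.mem_cons.1 h1 with h | h
    · exact absurd h h2
    · exact h
  obtain ⟨s, hs, s5, s14, sO⟩ := lvl2 _ hj
  rw [pt_code] at s14
  refine ⟨g1 * r * s, Subgroup.mul_mem _ (Subgroup.mul_mem _ hg1 hr) hs, ?_, ?_, ?_⟩
  · show g1 (r (s a)) = a
    rw [a_eq, s5, r5, ← a_eq]
    simp
  · show g1 (r (s b)) = b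
    rw [b_eq, s14]
    simpa using b_eq
  · rw [mul_smul, mul_smul, sO, rOs, e1]

end Stv
end Cfsg.Agent.Lib.Helper4
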