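import Cfsg.Agent.Lib.Helper4.Stv2

set_option autoImplicit false

namespace Cfsg.Agent.Lib.Helper4
namespace Stv

open Cfsg Cfsg.Agent.Lib.Helper28 Cfsg.Agent.Lib.Helper4.Golay
open scoped Pointwise

/-- The standard orthogonal vector supported on the two standard points. -/
def wA1 : leechLattice := ⟨LeechGen.pp a b (-4), LeechGen.pp_mem a b (-4) (Or.inr rfl)⟩

def j0 : GolayPt := some 0

def k0 : GolayPt := some 1

/-- The standard orthogonal vector with two coordinates 4 elsewhere. -/
def wA2 : leechLattice := ⟨LeechGen.pp j0 k0 4, LeechGen.pp_mem j0 k0 4 (Or.inl rfl)⟩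

theorem normA1 (w : leechLattice) (hn : sqNorm (w : GolayPt → ℤ) = 32)
    (hd : (w : GolayPt → ℤ) a + (w : GolayPt → ℤ) b = 0)
    (h4 : ∀ i, (w : GolayPt → ℤ) i % 4 = 0) (ha : (w : GolayPt → ℤ) a ≠ 0) : RelPM w wA1 := by
  obtain ⟨j, k, hjk, hj, hk, h0⟩ := Orb.shapeA _ h4 hn
  have hb : (w : GolayPt → ℤ) b ≠ 0 := by omega
  have haj : a = j ∨ a = k := by
    by_contra hcon
    push Not at hcon
    exact ha (h0 a hcon.1 hcon.2)
  have hbj : b = j ∨ b = k := by
    by_contra hcon
    push Not at hcon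
    exact hb (h0 b hcon.1 hcon.2)
  have hother : ∀ i, i ≠ a → i ≠ b → (w : GolayPt → ℤ) i = 0 := by
    intro i hia hib
    apply h0
    · rintro rfl
      rcases haj with h | h
      · exact hia h.symm
      · rcases hbj with h' | h'
        · exact hib h'.symm
        · exact ab (h.trans h'.symm)
    · rintro rfl
      rcases haj with h | h
      · rcases hbj with h' | h'
        · exact ab (h.trans h'.symm)
        · exact hib h'.symm
      · exact hia h.symm
  have ha4 : (w : GolayPt → ℤ) a = 4 ∨ (w : GolayPt → ℤ) a = -4 := by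
    rcases haj with h | h
    · rw [h]
      exact hj
    · rw [h]
      exact hk
  rcases ha4 with h | h
  · have e : w = wA1 := by
      apply Subtype.ext
      funext i
      show _ = LeechGen.pp a b (-4) i
      unfold LeechGen.pp
      by_cases hia : i = a
      · rw [hia, h, if_pos rfl, if_neg ab]
        norm_num
      · by_cases hib : i = b
        · rw [hib, if_neg ab.symm, if_pos rfl]
          omega
        · rw [if_neg hia, if_neg hib, hother i hia hib]
          norm_num
    rw [e]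
    exact RelPM.refl _
  · have e : w = -wA1 := by
      apply Subtype.ext
      funext i
      show _ = -(LeechGen.pp a b (-4) i)
      unfold LeechGen.pp
      by_cases hia : i = a
      · rw [hia, h, if_pos rfl, if_neg ab]
        norm_num
      · by_cases hib : i = b
        · rw [hib, if_neg ab.symm, if_pos rfl]
          omega
        · rw [if_neg hia, if_neg hib, hother i hia hib]
          norm_num
    rw [e]
    exact relPM_neg _

def mjm : ℕ := 39257

def mkm : ℕ := 36294

set_option maxRecDepth 100000 in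
theorem mj_props : red basisP mjm = 0 ∧ word mjm j0 = 1 ∧ word mjm k0 = 0 ∧ word mjm a = 0 ∧
    word mjm b = 0 := by decide +kernel

set_option maxRecDepth 100000 in
theorem mk_props : red basisP mkm = 0 ∧ word mkm k0 = 1 ∧ word mkm j0 = 0 ∧ word mkm a = 0 ∧
    word mkm b = 0 := by decide +kernel

/-- Flip signs on a code word inside the stabiliser. -/
theorem flipV (m : ℕ) (hm : red basisP m = 0) (ha : word m a = 0) (hb : word m b = 0)
    (w : leechLattice) :
    ∃ w' : leechLattice, RelV w w' ∧ ∀ k, (w' : GolayPt → ℤ) k =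
      if word m k = 1 then - (w : GolayPt → ℤ) k else (w : GolayPt → ℤ) k :=
  ⟨CoA.sgnP (word m) (Xi.word_mem_of_red hm) w, relV_sgn _ _ ha hb w, fun _ => rfl⟩

theorem normA2 (w : leechLattice) (hn : sqNorm (w : GolayPt → ℤ) = 32)
    (hd : (w : GolayPt → ℤ) a + (w : GolayPt → ℤ) b = 0)
    (h4 : ∀ i, (w : GolayPt → ℤ) i % 4 = 0) (ha : (w : GolayPt → ℤ) a = 0) : RelPM w wA2 := by
  obtain ⟨j, k, hjk, hj, hk, h0⟩ := Orb.shapeA _ h4 hn
  have hb : (w : GolayPt → ℤ) b = 0 := by omega
  have haj : a ≠ j := by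
    rintro rfl
    rcases hj with h | h <;> omega
  have hak : a ≠ k := by
    rintro rfl
    rcases hk with h | h <;> omega
  have hbj : b ≠ j := by
    rintro rfl
    rcases hj with h | h <;> omega
  have hbk : b ≠ k := by
    rintro rfl
    rcases hk with h | h <;> omega
  obtain ⟨g, hg, ga, gb, gj, gk⟩ := map4 a b j0 k0 a b j k (by decide)
    (by simp [ab, haj, hak, hbj, hbk, hjk])
  have r1 := relV_prm g hg ga gb w
  have c1 : ∀ i, ((CoA.prmP g hg w : leechLattice) : GolayPt → ℤ) i = (w : GolayPt → ℤ) (g i) :=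
    fun _ => rfl
  have hz1 : ∀ i, i ≠ j0 → i ≠ k0 → (w : GolayPt → ℤ) (g i) = 0 := by
    intro i hi0 hi1
    apply h0
    · intro hh
      apply hi0
      apply g.injective
      rw [hh, gj]
    · intro hh
      apply hi1
      apply g.injective
      rw [hh, gk]
  obtain ⟨w2, r2, h2j, h2k, h2o⟩ : ∃ w2 : leechLattice, RelV w w2 ∧
      (w2 : GolayPt → ℤ) j0 = 4 ∧ ((w2 : GolayPt → ℤ) k0 = 4 ∨ (w2 : GolayPt → ℤ) k0 = -4) ∧
      ∀ i, i ≠ j0 → i ≠ k0 → (w2 : GolayPt → ℤ) i = 0 := by
    rcases hj with h | h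
    · refine ⟨CoA.prmP g hg w, r1, ?_, ?_, ?_⟩
      · rw [c1, gj]
        exact h
      · rw [c1, gk]
        exact hk
      · intro i hi0 hi1
        rw [c1]
        exact hz1 i hi0 hi1
    · obtain ⟨w', rr, hw'⟩ := flipV mjm mj_props.1 mj_props.2.2.2.1 mj_props.2.2.2.2
        (CoA.prmP g hg w)
      refine ⟨w', r1.trans rr, ?_, ?_, ?_⟩
      · rw [hw', if_pos mj_props.2.1, c1, gj, h]
        norm_num
      · rw [hw', if_neg (by rw [mj_props.2.2.1]; decide), c1, gk]
        exact hk
      · intro i hi0 hi1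
        rw [hw', c1, hz1 i hi0 hi1]
        split_ifs <;> rfl
  obtain ⟨w3, r3, h3j, h3k, h3o⟩ : ∃ w3 : leechLattice, RelV w2 w3 ∧
      (w3 : GolayPt → ℤ) j0 = 4 ∧ (w3 : GolayPt → ℤ) k0 = 4 ∧
      ∀ i, i ≠ j0 → i ≠ k0 → (w3 : GolayPt → ℤ) i = 0 := by
    rcases h2k with h | h
    · exact ⟨w2, RelV.refl _, h2j, h, h2o⟩
    · obtain ⟨w', rr, hw'⟩ := flipV mkm mk_props.1 mk_props.2.2.2.1 mk_props.2.2.2.2 w2
      refine ⟨w', rr, ?_, ?_, ?_⟩
      · rw [hw', if_neg (by rw [mk_props.2.2.1]; decide)]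
        exact h2j
      · rw [hw', if_pos mk_props.2.1, h]
        norm_num
      · intro i hi0 hi1
        rw [hw', h2o i hi0 hi1]
        split_ifs <;> rfl
  have e : w3 = wA2 := by
    apply Subtype.ext
    funext i
    show _ = LeechGen.pp j0 k0 4 i
    unfold LeechGen.pp
    by_cases hi0 : i = j0
    · rw [hi0, h3j]
      decide
    · by_cases hi1 : i = k0
      · rw [hi1, h3k]
        decide
      · rw [if_neg hi0, if_neg hi1, h3o i hi0 hi1]
        norm_num
  rw [← e]
  exact Or.inl (r2.trans r3)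

end Stv
end Cfsg.Agent.Lib.Helper4
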