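import Cfsg.Agent.Lib.Helper4.Stv3

set_option autoImplicit false

namespace Cfsg.Agent.Lib.Helper4
namespace Stv

open Cfsg Cfsg.Agent.Lib.Helper28 Cfsg.Agent.Lib.Helper4.Golay
open scoped Pointwise

/-- The standard octad through the two standard points. -/
def O1m : ℕ := 8536111

def O1s : Finset GolayPt := support₂ (word O1m)

theorem O1s_octad : O1s ∈ octads := mask_octad O1m (by decide +kernel) (by decide +kernel)

def z1 : GolayPt := some 0

def wB1L : List ℤ := [-2, 2, 2, 2, 0, 2, 0, 0, 0, 0, 0, 0, 0, 0, -2, 0, 0, 2, 0, 0, 0, 0, 0, 2]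

set_option maxRecDepth 100000 in
theorem wB1_chk : Xi.inD (fun k => 2 * Orb.vecL wB1L k) 0 O1m := by decide +kernel

def wB1 : leechLattice := ⟨Orb.vecL wB1L, Orb.mem_of_double _ 0 O1m wB1_chk⟩

def pm1L : List ℕ := [0, 69395, 99029, 39257, 0, 0, 0, 0, 0, 0, 0, 0, 0, 0, 0, 0, 0, 175681, 0,
  0, 0, 0, 0, 8499969]

def pm1 (x : GolayPt) : ℕ := pm1L.getD (code x) 0

def P1 (i : GolayPt) : Prop := word O1m i = 1 ∧ i ≠ a ∧ i ≠ b ∧ i ≠ z1

instance : DecidablePred P1 := fun i => by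
  unfold P1
  infer_instance

set_option maxRecDepth 100000 in
theorem pm1_red : ∀ x : GolayPt, red basisP (pm1 x) = 0 := by decide +kernel

set_option maxRecDepth 100000 in
theorem pm1_spec : ∀ x i : GolayPt, P1 x → P1 i → (word (pm1 x) i = 1 ↔ x = i) := by
  decide +kernel

set_option maxRecDepth 100000 in
theorem pm1_ab : ∀ x : GolayPt, P1 x → word (pm1 x) a = 0 ∧ word (pm1 x) b = 0 := by
  decide +kernel

set_option maxRecDepth 100000 in
theorem wB1_vals : ∀ i : GolayPt, (P1 i → Orb.vecL wB1L i = 2) ∧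
    (word O1m i ≠ 1 → Orb.vecL wB1L i = 0) := by decide +kernel

theorem wB1_pts : Orb.vecL wB1L a = 2 ∧ Orb.vecL wB1L b = -2 ∧ Orb.vecL wB1L z1 = -2 ∧
    word O1m z1 = 1 ∧ a ∈ O1s ∧ b ∈ O1s := by decide +kernel

theorem normB1' (w1 : leechLattice)
    (hsupp : ∀ k, word O1m k = 1 → ((w1 : GolayPt → ℤ) k = 2 ∨ (w1 : GolayPt → ℤ) k = -2))
    (hoff : ∀ k, word O1m k ≠ 1 → (w1 : GolayPt → ℤ) k = 0)
    (ha : (w1 : GolayPt → ℤ) a = 2) (hb : (w1 : GolayPt → ℤ) b = -2) : RelV w1 wB1 := by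
  apply signfix z1 pm1 pm1_red P1 pm1_spec pm1_ab w1 wB1
  · intro i hi
    have e : (wB1 : GolayPt → ℤ) i = 2 := (wB1_vals i).1 hi
    rw [e]
    exact hsupp i hi.1
  · intro i hi hiz
    by_cases hO : word O1m i = 1
    · have hiab : i = a ∨ i = b := by
        by_contra hc
        push Not at hc
        exact hi ⟨hO, hc.1, hc.2, hiz⟩
      rcases hiab with rfl | rfl
      · exact ⟨by rw [ha]; exact wB1_pts.1.symm, Or.inr (Or.inl rfl)⟩
      · exact ⟨by rw [hb]; exact wB1_pts.2.1.symm, Or.inr (Or.inr rfl)⟩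
    · have e : (wB1 : GolayPt → ℤ) i = 0 := (wB1_vals i).2 hO
      exact ⟨by rw [hoff i hO, e], Or.inl (hoff i hO)⟩
  · have e : (wB1 : GolayPt → ℤ) z1 = -2 := wB1_pts.2.2.1
    rw [e]
    rcases hsupp z1 wB1_pts.2.2.2.1 with h | h
    · right
      rw [h]
      norm_num
    · left
      exact h
  · have e : (wB1 : GolayPt → ℤ) z1 = -2 := wB1_pts.2.2.1
    rw [e]
    norm_num

theorem normB1 (w : leechLattice) (hn : sqNorm (w : GolayPt → ℤ) = 32)
    (hd : (w : GolayPt → ℤ) a + (w : GolayPt → ℤ) b = 0)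
    (i0 : GolayPt) (h0 : (w : GolayPt → ℤ) i0 % 4 = 2) (ha : (w : GolayPt → ℤ) a ≠ 0) :
    RelPM w wB1 := by
  obtain ⟨c, hc, hoct, hon, hoff⟩ := shapeB w hn i0 h0
  have hca : c a = 1 := by
    by_contra h
    exact ha (hoff a h)
  have hb : (w : GolayPt → ℤ) b ≠ 0 := by omega
  have hcb : c b = 1 := by
    by_contra h
    exact hb (hoff b h)
  obtain ⟨g, hg, ga, gb, go⟩ := octad_pq O1s (support₂ c) O1s_octad hoct a b ab
    wB1_pts.2.2.2.2.1 wB1_pts.2.2.2.2.2 ((mem_support₂ c a).2 hca) ((mem_support₂ c b).2 hcb)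
  have hmem : ∀ k, word O1m k = 1 ↔ c (g k) = 1 := by
    intro k
    rw [← mem_support₂, ← mem_support₂, ← go]
    show k ∈ O1s ↔ g k ∈ g • O1s
    exact (Finset.smul_mem_smul_finset_iff g).symm
  have r1 := relV_prm g hg ga gb w
  have c1 : ∀ i, ((CoA.prmP g hg w : leechLattice) : GolayPt → ℤ) i = (w : GolayPt → ℤ) (g i) :=
    fun _ => rfl
  have hsupp : ∀ k, word O1m k = 1 → (((CoA.prmP g hg w : leechLattice) : GolayPt → ℤ) k = 2 ∨
      ((CoA.prmP g hg w : leechLattice) : GolayPt → ℤ) k = -2) := by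
    intro k hk
    rw [c1]
    exact hon _ ((hmem k).1 hk)
  have hoff' : ∀ k, word O1m k ≠ 1 → ((CoA.prmP g hg w : leechLattice) : GolayPt → ℤ) k = 0 := by
    intro k hk
    rw [c1]
    exact hoff _ (fun h => hk ((hmem k).2 h))
  have ha1 : ((CoA.prmP g hg w : leechLattice) : GolayPt → ℤ) a = (w : GolayPt → ℤ) a := by
    rw [c1, ga]
  have hb1 : ((CoA.prmP g hg w : leechLattice) : GolayPt → ℤ) b = (w : GolayPt → ℤ) b := by
    rw [c1, gb]
  rcases hon a hca with h | h
  · exact Or.inl (r1.trans (normB1' _ hsupp hoff' (by rw [ha1, h]) (by rw [hb1]; omega)))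
  · have hneg := normB1' (-(CoA.prmP g hg w))
      (by
        intro k hk
        show -((CoA.prmP g hg w : leechLattice) : GolayPt → ℤ) k = 2 ∨
          -((CoA.prmP g hg w : leechLattice) : GolayPt → ℤ) k = -2
        rcases hsupp k hk with h' | h' <;> omega)
      (by
        intro k hk
        show -((CoA.prmP g hg w : leechLattice) : GolayPt → ℤ) k = 0
        rw [hoff' k hk]
        rfl)
      (by
        show -((CoA.prmP g hg w : leechLattice) : GolayPt → ℤ) a = 2
        rw [ha1, h]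
        rfl)
      (by
        show -((CoA.prmP g hg w : leechLattice) : GolayPt → ℤ) b = -2
        rw [hb1]
        omega)
    have h2 := hneg.neg
    rw [neg_neg] at h2
    exact Or.inr (r1.trans h2)

def z2 : GolayPt := some 0

def pm2L : List ℕ := [0, 1647171, 1869893, 797449, 1737489, 0, 0, 493953, 0, 0, 175681, 0,
  1454401, 0, 0, 0, 0, 0, 0, 0, 0, 0, 0, 0]

def pm2 (x : GolayPt) : ℕ := pm2L.getD (code x) 0

def P2 (i : GolayPt) : Prop := word 5279 i = 1 ∧ i ≠ z2

instance : DecidablePred P2 := fun i => by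
  unfold P2
  infer_instance

set_option maxRecDepth 100000 in
theorem pm2_red : ∀ x : GolayPt, red basisP (pm2 x) = 0 := by decide +kernel

set_option maxRecDepth 100000 in
theorem pm2_spec : ∀ x i : GolayPt, P2 x → P2 i → (word (pm2 x) i = 1 ↔ x = i) := by
  decide +kernel

set_option maxRecDepth 100000 in
theorem pm2_ab : ∀ x : GolayPt, P2 x → word (pm2 x) a = 0 ∧ word (pm2 x) b = 0 := by
  decide +kernel

theorem normB2 (w : leechLattice) (hn : sqNorm (w : GolayPt → ℤ) = 32)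
    (hd : (w : GolayPt → ℤ) a + (w : GolayPt → ℤ) b = 0)
    (i0 : GolayPt) (h0 : (w : GolayPt → ℤ) i0 % 4 = 2) (ha : (w : GolayPt → ℤ) a = 0) :
    RelPM w Orb.bStar := by
  obtain ⟨c, hc, hoct, hon, hoff⟩ := shapeB w hn i0 h0
  have hb : (w : GolayPt → ℤ) b = 0 := by omega
  have hca : c a ≠ 1 := by
    intro h
    rcases hon a h with h' | h' <;> omega
  have hcb : c b ≠ 1 := by
    intro h
    rcases hon b h with h' | h' <;> omega
  obtain ⟨g, hg, ga, gb, go⟩ := octad_ab0 (support₂ c) hoct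
    (by rw [mem_support₂]; exact hca) (by rw [mem_support₂]; exact hcb)
  have hmem : ∀ k, word 5279 k = 1 ↔ c (g k) = 1 := by
    intro k
    rw [← mem_support₂, ← mem_support₂, ← go]
    show k ∈ O0s ↔ g k ∈ g • O0s
    exact (Finset.smul_mem_smul_finset_iff g).symm
  have r1 := relV_prm g hg ga gb w
  refine Or.inl (r1.trans ?_)
  have c1 : ∀ i, ((CoA.prmP g hg w : leechLattice) : GolayPt → ℤ) i = (w : GolayPt → ℤ) (g i) :=
    fun _ => rfl
  apply signfix z2 pm2 pm2_red P2 pm2_spec pm2_ab _ Orb.bStar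
  · intro i hi
    have e : (Orb.bStar : GolayPt → ℤ) i = 2 := by
      show Orb.bVec i = 2
      unfold Orb.bVec
      rw [if_pos hi.1]
    rw [e, c1]
    exact hon _ ((hmem i).1 hi.1)
  · intro i hi hiz
    have hO : word 5279 i ≠ 1 := fun h => hi ⟨h, hiz⟩
    have e1 : ((CoA.prmP g hg w : leechLattice) : GolayPt → ℤ) i = 0 := by
      rw [c1]
      exact hoff _ (fun h => hO ((hmem i).2 h))
    have e2 : (Orb.bStar : GolayPt → ℤ) i = 0 := by
      show Orb.bVec i = 0
      unfold Orb.bVec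
      rw [if_neg hO]
    exact ⟨by rw [e1, e2], Or.inl e1⟩
  · have hz : word 5279 z2 = 1 := by decide
    have e : (Orb.bStar : GolayPt → ℤ) z2 = 2 := by
      show Orb.bVec z2 = 2
      unfold Orb.bVec
      rw [if_pos hz]
    rw [e, c1]
    exact hon _ ((hmem z2).1 hz)
  · show Orb.bVec z2 % 4 = 2
    decide

end Stv
end Cfsg.Agent.Lib.Helper4
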