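import Cfsg.Agent.Lib.Helper4.Stv4

set_option autoImplicit false

namespace Cfsg.Agent.Lib.Helper4
namespace Stv

open Cfsg Cfsg.Agent.Lib.Helper28 Cfsg.Agent.Lib.Helper4.Golay
open scoped Pointwise

/-- The standard odd orthogonal vector. -/
def wC : leechLattice := CoA.sgnP (word c1m) c1_mem Orb.cStar

theorem sgn_comb (x y : ZMod 2) (t : ℤ) :
    (if x + y = 1 then -(if x = 1 then -t else t) else (if x = 1 then -t else t)) =
      (if y = 1 then -t else t) := by
  rcases z2_cases x with rfl | rfl <;> rcases z2_cases y with rfl | rfl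
  · simp
  · simp
  · simp
  · have h : ¬ ((1 : ZMod 2) + 1 = 1) := by decide
    rw [if_neg h]

theorem sgn_one (y : ZMod 2) (t : ℤ) :
    (if 1 + y = 1 then -t else t) = -(if y = 1 then -t else t) := by
  rcases z2_cases y with rfl | rfl
  · simp
  · have h : ¬ ((1 : ZMod 2) + 1 = 1) := by decide
    rw [if_neg h]
    simp

theorem normCc (w : leechLattice) (hn : sqNorm (w : GolayPt → ℤ) = 32)
    (hd : (w : GolayPt → ℤ) a + (w : GolayPt → ℤ) b = 0)
    (hodd : ∀ i, (w : GolayPt → ℤ) i % 2 = 1) : RelPM w wC := by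
  obtain ⟨bb, c, hc, h1⟩ := Orb.min_data w hn
  have hbb : bb = true := by
    cases bb
    · exfalso
      have h2 := h1 none
      have h3 := hodd none
      rw [Cnt.pz_false] at h2
      split_ifs at h2 <;> omega
    · rfl
  subst hbb
  rw [Cnt.pz_true] at h1
  have h4 : ∀ i, ((CoA.sgnP c hc w : leechLattice) : GolayPt → ℤ) i % 4 = 1 := by
    intro i
    rw [CoA.sgnP_apply]
    unfold CoA.sgn
    have h2 := h1 i
    by_cases hci : c i = 1
    · rw [if_pos hci] at h2 ⊢
      omega
    · rw [if_neg hci] at h2 ⊢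
      omega
  have hn' : sqNorm ((CoA.sgnP c hc w : leechLattice) : GolayPt → ℤ) = 32 := by
    rw [(CoA.sgnP_mem c hc).2 w, hn]
  obtain ⟨i0, hi0⟩ := Orb.odd_shape _ h4 hn'
  have hw : ∀ k, (w : GolayPt → ℤ) k =
      if c k = 1 then -(if k = i0 then (-3 : ℤ) else 1) else (if k = i0 then (-3 : ℤ) else 1) := by
    intro k
    have := hi0 k
    rw [CoA.sgnP_apply] at this
    unfold CoA.sgn at this
    by_cases hk : c k = 1
    · rw [if_pos hk] at this ⊢
      omega
    · rw [if_neg hk] at this ⊢
      exact this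
  have ha0 : a ≠ i0 := by
    intro h
    have hb0 : b ≠ i0 := fun h' => ab (h.trans h'.symm)
    have ea := hw a
    have eb := hw b
    rw [if_pos h] at ea
    rw [if_neg hb0] at eb
    split_ifs at ea eb <;> omega
  have hb0 : b ≠ i0 := by
    intro h
    have ea := hw a
    have eb := hw b
    rw [if_neg ha0] at ea
    rw [if_pos h] at eb
    split_ifs at ea eb <;> omega
  have ea : (w : GolayPt → ℤ) a = if c a = 1 then -1 else 1 := by
    have := hw a
    rw [if_neg ha0] at this
    exact this
  have eb : (w : GolayPt → ℤ) b = if c b = 1 then -1 else 1 := by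
    have := hw b
    rw [if_neg hb0] at this
    exact this
  have hcab : (c a = 1 ∧ c b = 0) ∨ (c a = 0 ∧ c b = 1) := by
    rcases z2_cases (c a) with h1 | h1 <;> rcases z2_cases (c b) with h2 | h2
    · exfalso
      rw [h1] at ea
      rw [h2] at eb
      simp at ea eb
      omega
    · exact Or.inr ⟨h1, h2⟩
    · exact Or.inl ⟨h1, h2⟩
    · exfalso
      rw [h1] at ea
      rw [h2] at eb
      simp at ea eb
      omega
  obtain ⟨g, hg, ga, gb, gi⟩ := map3 a b none a b i0 (by decide) (by simp [ab, ha0, hb0])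
  have r1 := relV_prm g hg ga gb w
  have hc' : c ∘ g ∈ golayCode := Golay.comp_mem_of_mem_M24 hg hc
  have hw1 : ∀ k, ((CoA.prmP g hg w : leechLattice) : GolayPt → ℤ) k =
      if c (g k) = 1 then -((Orb.cStar : leechLattice) : GolayPt → ℤ) k
        else ((Orb.cStar : leechLattice) : GolayPt → ℤ) k := by
    intro k
    show (w : GolayPt → ℤ) (g k) = if c (g k) = 1 then -(if k = none then (-3 : ℤ) else 1)
      else (if k = none then (-3 : ℤ) else 1)
    rw [hw (g k)]
    have e : (g k = i0) ↔ (k = none) :=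
      ⟨fun h => g.injective (h.trans gi.symm), fun h => by rw [h, gi]⟩
    simp only [e]
  rcases hcab with ⟨h1, h2⟩ | ⟨h1, h2⟩
  · have hc'' : c ∘ g + (1 + word c1m) ∈ golayCode :=
      Submodule.add_mem _ hc' (Submodule.add_mem _ one_mem_golay c1_mem)
    have hca : (c ∘ g + (1 + word c1m)) a = 0 := by
      show c (g a) + (1 + word c1m a) = 0
      rw [ga, h1, c1_a]
      decide
    have hcb : (c ∘ g + (1 + word c1m)) b = 0 := by
      show c (g b) + (1 + word c1m b) = 0
      rw [gb, h2, c1_b]
      decide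
    have r2 := relV_sgn _ hc'' hca hcb (CoA.prmP g hg w)
    have e : CoA.sgnP _ hc'' (CoA.prmP g hg w) = -wC := by
      apply Subtype.ext
      funext k
      rw [CoA.sgnP_apply]
      unfold CoA.sgn
      show (if c (g k) + (1 + word c1m k) = 1 then
          -((CoA.prmP g hg w : leechLattice) : GolayPt → ℤ) k
        else ((CoA.prmP g hg w : leechLattice) : GolayPt → ℤ) k) =
        -(if word c1m k = 1 then -((Orb.cStar : leechLattice) : GolayPt → ℤ) k
          else ((Orb.cStar : leechLattice) : GolayPt → ℤ) k)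
      rw [hw1 k, sgn_comb, sgn_one]
    rw [e] at r2
    exact Or.inr (r1.trans r2)
  · have hc'' : c ∘ g + word c1m ∈ golayCode := Submodule.add_mem _ hc' c1_mem
    have hca : (c ∘ g + word c1m) a = 0 := by
      show c (g a) + word c1m a = 0
      rw [ga, h1, c1_a]
      decide
    have hcb : (c ∘ g + word c1m) b = 0 := by
      show c (g b) + word c1m b = 0
      rw [gb, h2, c1_b]
      decide
    have r2 := relV_sgn _ hc'' hca hcb (CoA.prmP g hg w)
    have e : CoA.sgnP _ hc'' (CoA.prmP g hg w) = wC := by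
      apply Subtype.ext
      funext k
      rw [CoA.sgnP_apply]
      unfold CoA.sgn
      show (if c (g k) + word c1m k = 1 then
          -((CoA.prmP g hg w : leechLattice) : GolayPt → ℤ) k
        else ((CoA.prmP g hg w : leechLattice) : GolayPt → ℤ) k) =
        (if word c1m k = 1 then -((Orb.cStar : leechLattice) : GolayPt → ℤ) k
          else ((Orb.cStar : leechLattice) : GolayPt → ℤ) k)
      rw [hw1 k, sgn_comb]
    rw [e] at r2
    exact Or.inl (r1.trans r2)

end Stv
end Cfsg.Agent.Lib.Helper4
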