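import Cfsg.Agent.Lib.Helper4.Stv5

set_option autoImplicit false

namespace Cfsg.Agent.Lib.Helper4
namespace Stv

open Cfsg Cfsg.Agent.Lib.Helper28 Cfsg.Agent.Lib.Helper4.Golay
open scoped Pointwise

theorem g1_norm (u : leechLattice) :
    sqNorm ((g1 u : leechLattice) : GolayPt → ℤ) = sqNorm (u : GolayPt → ℤ) := g1_mem.2 u

theorem g1_dot (u : leechLattice) :
    ((g1 u : leechLattice) : GolayPt → ℤ) a + ((g1 u : leechLattice) : GolayPt → ℤ) b =
      (u : GolayPt → ℤ) a + (u : GolayPt → ℤ) b := (relV_g1 u).dot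

theorem relPM_g1 (u : leechLattice) : RelPM u (g1 u) := Or.inl (relV_g1 u)

def u1 : leechLattice :=
  ⟨LeechGen.pp (some 17) none 4, LeechGen.pp_mem (some 17) none 4 (Or.inl rfl)⟩

def u2 : leechLattice :=
  ⟨LeechGen.pp (some 8) (some 20) 4, LeechGen.pp_mem (some 8) (some 20) 4 (Or.inl rfl)⟩

def u3 : leechLattice :=
  ⟨LeechGen.pp (some 9) none (-4), LeechGen.pp_mem (some 9) none (-4) (Or.inr rfl)⟩

def u4L : List ℤ := [0, 0, 0, -2, 0, 0, 0, 2, 0, 0, 2, 2, -2, 0, 0, 2, 0, -2, 0, 0, 0, -2, 0, 0]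

set_option maxRecDepth 100000 in
theorem u4_chk : Xi.inD (fun k => 2 * Orb.vecL u4L k) 0 2268296 := by decide +kernel

def u4 : leechLattice := ⟨Orb.vecL u4L, Orb.mem_of_double _ 0 2268296 u4_chk⟩

theorem u1_norm : sqNorm (u1 : GolayPt → ℤ) = 32 := by
  show sqNorm (LeechGen.pp (some 17) none 4) = 32
  rw [LeechGen.sq_pp _ _ (by decide)]
  norm_num

theorem u2_norm : sqNorm (u2 : GolayPt → ℤ) = 32 := by
  show sqNorm (LeechGen.pp (some 8) (some 20) 4) = 32
  rw [LeechGen.sq_pp _ _ (by decide)]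
  norm_num

theorem u3_norm : sqNorm (u3 : GolayPt → ℤ) = 32 := by
  show sqNorm (LeechGen.pp (some 9) none (-4)) = 32
  rw [LeechGen.sq_pp _ _ (by decide)]
  norm_num

set_option maxRecDepth 100000 in
theorem u4_norm : sqNorm (u4 : GolayPt → ℤ) = 32 := by decide +kernel

set_option maxRecDepth 100000 in
theorem u1_chk : (∀ i, LeechGen.pp (some 17) none 4 i % 4 = 0) ∧
    LeechGen.pp (some 17) none 4 a = 0 ∧ LeechGen.pp (some 17) none 4 b = 0 ∧
    (∀ i, G1 (LeechGen.pp (some 17) none 4) i % 8 = 0) ∧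
    G1 (LeechGen.pp (some 17) none 4) a ≠ 0 := by decide +kernel

set_option maxRecDepth 100000 in
theorem u2_chk : (∀ i, LeechGen.pp (some 8) (some 20) 4 i % 4 = 0) ∧
    LeechGen.pp (some 8) (some 20) 4 a = 0 ∧ LeechGen.pp (some 8) (some 20) 4 b = 0 ∧
    G1 (LeechGen.pp (some 8) (some 20) 4) (some 8) % 8 = 4 ∧
    G1 (LeechGen.pp (some 8) (some 20) 4) a = 0 := by decide +kernel

set_option maxRecDepth 100000 in
theorem u3_chk : (∀ i, LeechGen.pp (some 9) none (-4) i % 4 = 0) ∧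
    LeechGen.pp (some 9) none (-4) a = 0 ∧ LeechGen.pp (some 9) none (-4) b = 0 ∧
    G1 (LeechGen.pp (some 9) none (-4)) a % 8 = 4 := by decide +kernel

set_option maxRecDepth 100000 in
theorem u4_chk2 : Orb.vecL u4L (some 3) % 4 = 2 ∧ Orb.vecL u4L a = 0 ∧ Orb.vecL u4L b = 0 ∧
    (∀ i, G1 (Orb.vecL u4L) i % 4 = 2) := by decide +kernel

theorem link1 : RelPM wA2 wA1 := by
  have s1 : RelPM u1 wA2 := normA2 u1 u1_norm
    (by
      show LeechGen.pp (some 17) none 4 a + LeechGen.pp (some 17) none 4 b = 0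
      rw [u1_chk.2.1, u1_chk.2.2.1]
      rfl)
    u1_chk.1 u1_chk.2.1
  have s2 : RelPM (g1 u1) wA1 := by
    apply normA1 (g1 u1) (by rw [g1_norm]; exact u1_norm)
    · rw [g1_dot]
      show LeechGen.pp (some 17) none 4 a + LeechGen.pp (some 17) none 4 b = 0
      rw [u1_chk.2.1, u1_chk.2.2.1]
      rfl
    · intro i
      have h1 := g1_coord u1 i
      have h2 : G1 (u1 : GolayPt → ℤ) i % 8 = 0 := u1_chk.2.2.2.1 i
      omega
    · have h1 := g1_coord u1 a
      have h2 : G1 (u1 : GolayPt → ℤ) a ≠ 0 := u1_chk.2.2.2.2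
      omega
  exact s1.symm.trans ((relPM_g1 u1).trans s2)

theorem link2 : RelPM wA2 Orb.bStar := by
  have s1 : RelPM u2 wA2 := normA2 u2 u2_norm
    (by
      show LeechGen.pp (some 8) (some 20) 4 a + LeechGen.pp (some 8) (some 20) 4 b = 0
      rw [u2_chk.2.1, u2_chk.2.2.1]
      rfl)
    u2_chk.1 u2_chk.2.1
  have s2 : RelPM (g1 u2) Orb.bStar := by
    apply normB2 (g1 u2) (by rw [g1_norm]; exact u2_norm) _ (some 8)
    · have h1 := g1_coord u2 (some 8)
      have h2 : G1 (u2 : GolayPt → ℤ) (some 8) % 8 = 4 := u2_chk.2.2.2.1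
      omega
    · have h1 := g1_coord u2 a
      have h2 : G1 (u2 : GolayPt → ℤ) a = 0 := u2_chk.2.2.2.2
      omega
    · rw [g1_dot]
      show LeechGen.pp (some 8) (some 20) 4 a + LeechGen.pp (some 8) (some 20) 4 b = 0
      rw [u2_chk.2.1, u2_chk.2.2.1]
      rfl
  exact s1.symm.trans ((relPM_g1 u2).trans s2)

theorem link3 : RelPM wA2 wB1 := by
  have s1 : RelPM u3 wA2 := normA2 u3 u3_norm
    (by
      show LeechGen.pp (some 9) none (-4) a + LeechGen.pp (some 9) none (-4) b = 0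
      rw [u3_chk.2.1, u3_chk.2.2.1]
      rfl)
    u3_chk.1 u3_chk.2.1
  have s2 : RelPM (g1 u3) wB1 := by
    have h1 := g1_coord u3 a
    have h2 : G1 (u3 : GolayPt → ℤ) a % 8 = 4 := u3_chk.2.2.2
    apply normB1 (g1 u3) (by rw [g1_norm]; exact u3_norm) _ a
    · omega
    · omega
    · rw [g1_dot]
      show LeechGen.pp (some 9) none (-4) a + LeechGen.pp (some 9) none (-4) b = 0
      rw [u3_chk.2.1, u3_chk.2.2.1]
      rfl
  exact s1.symm.trans ((relPM_g1 u3).trans s2)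

theorem link4 : RelPM Orb.bStar wC := by
  have hd4 : (u4 : GolayPt → ℤ) a + (u4 : GolayPt → ℤ) b = 0 := by
    show Orb.vecL u4L a + Orb.vecL u4L b = 0
    rw [u4_chk2.2.1, u4_chk2.2.2.1]
    rfl
  have s1 : RelPM u4 Orb.bStar := normB2 u4 u4_norm hd4 (some 3) u4_chk2.1 u4_chk2.2.1
  have s2 : RelPM (g1 u4) wC := by
    apply normCc (g1 u4) (by rw [g1_norm]; exact u4_norm)
    · rw [g1_dot]
      exact hd4
    · intro i
      have h1 := g1_coord u4 i
      have h2 : G1 (u4 : GolayPt → ℤ) i % 4 = 2 := u4_chk2.2.2.2 i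
      omega
  exact s1.symm.trans ((relPM_g1 u4).trans s2)

/-- All minimal vectors orthogonal to the standard one are in one orbit up to sign. -/
theorem all_relPM (w : leechLattice) (hn : sqNorm (w : GolayPt → ℤ) = 32)
    (hd : (w : GolayPt → ℤ) a + (w : GolayPt → ℤ) b = 0) : RelPM w wA2 := by
  obtain ⟨bb, c, hc, h1⟩ := Orb.min_data w hn
  cases bb
  · rw [Cnt.pz_false] at h1
    by_cases hex : ∃ i0, c i0 = 1
    · obtain ⟨i0, hi0⟩ := hex
      have h2 : (w : GolayPt → ℤ) i0 % 4 = 2 := by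
        have := h1 i0
        rw [if_pos hi0] at this
        omega
      by_cases ha : (w : GolayPt → ℤ) a = 0
      · exact (normB2 w hn hd i0 h2 ha).trans link2.symm
      · exact (normB1 w hn hd i0 h2 ha).trans link3.symm
    · push Not at hex
      have h4 : ∀ i, (w : GolayPt → ℤ) i % 4 = 0 := by
        intro i
        have := h1 i
        rw [if_neg (hex i)] at this
        omega
      by_cases ha : (w : GolayPt → ℤ) a = 0
      · exact normA2 w hn hd h4 ha
      · exact (normA1 w hn hd h4 ha).trans link1.symm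
  · rw [Cnt.pz_true] at h1
    have hodd : ∀ i, (w : GolayPt → ℤ) i % 2 = 1 := by
      intro i
      have := h1 i
      split_ifs at this <;> omega
    exact (normCc w hn hd hodd).trans (link4.symm.trans link2.symm)

/-- The stabiliser of a minimal vector is transitive on the pairs of opposite minimal vectors
orthogonal to it. -/
theorem stab_orth (v w w' : leechLattice) (hv : sqNorm (v : GolayPt → ℤ) = 32)
    (hw : sqNorm (w : GolayPt → ℤ) = 32) (hw' : sqNorm (w' : GolayPt → ℤ) = 32)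
    (hd : dotInt (v : GolayPt → ℤ) (w : GolayPt → ℤ) = 0)
    (hd' : dotInt (v : GolayPt → ℤ) (w' : GolayPt → ℤ) = 0) :
    ∃ g : Co0, g • v = v ∧ (g • w = w' ∨ g • w = -w') := by
  obtain ⟨h, hh, hhv⟩ := exists_std v hv
  have key : ∀ x : leechLattice, sqNorm (x : GolayPt → ℤ) = 32 →
      dotInt (v : GolayPt → ℤ) (x : GolayPt → ℤ) = 0 →
      sqNorm ((h.symm x : leechLattice) : GolayPt → ℤ) = 32 ∧
      ((h.symm x : leechLattice) : GolayPt → ℤ) a + ((h.symm x : leechLattice) : GolayPt → ℤ) b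
        = 0 := by
    intro x hx hdx
    have e : h (h.symm x) = x := h.apply_symm_apply x
    refine ⟨?_, ?_⟩
    · rw [← hh.2 (h.symm x), e]
      exact hx
    · have h2 := Orb.dot_pres h hh vStar (h.symm x)
      rw [hhv, e, hdx, dot_vStar] at h2
      omega
  obtain ⟨n1, d1⟩ := key w hw hd
  obtain ⟨n2, d2⟩ := key w' hw' hd'
  have r : RelPM (h.symm w) (h.symm w') := (all_relPM _ n1 d1).trans (all_relPM _ n2 d2).symm
  have hneg : ∀ x, h (-x) = -h x := CoA.map_neg_of_add h hh.1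
  have hv0 : h⁻¹ v = vStar := by
    rw [Equiv.Perm.inv_eq_iff_eq]
    exact hhv.symm
  rcases r with ⟨g0, hg0, gv, gw⟩ | ⟨g0, hg0, gv, gw⟩
  · refine ⟨⟨h * g0 * h⁻¹, Co0.mul_mem (Co0.mul_mem hh hg0) (Co0.inv_mem hh)⟩, ?_, Or.inl ?_⟩
    · show h (g0 (h⁻¹ v)) = v
      rw [hv0, gv, hhv]
    · show h (g0 (h.symm w)) = w'
      rw [gw]
      exact h.apply_symm_apply w'
  · refine ⟨⟨h * g0 * h⁻¹, Co0.mul_mem (Co0.mul_mem hh hg0) (Co0.inv_mem hh)⟩, ?_, Or.inr ?_⟩
    · show h (g0 (h⁻¹ v)) = v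
      rw [hv0, gv, hhv]
    · show h (g0 (h.symm w)) = -w'
      rw [gw, hneg, h.apply_symm_apply w']

end Stv
end Cfsg.Agent.Lib.Helper4
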