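import Cfsg.Agent.Lib.Helper4.Stv6

set_option autoImplicit false

namespace Cfsg.Agent.Lib.Helper4
namespace Stv

open Cfsg Cfsg.Agent.Lib.Helper28 Cfsg.Agent.Lib.Helper4.Golay
open scoped Pointwise

theorem prm_vStar_swap (g : Equiv.Perm GolayPt) (hg : g ∈ M24) (ha : g a = b) (hb : g b = a) :
    CoA.prmP g hg vStar = vStar := by
  apply Subtype.ext
  funext k
  rw [CoA.prmP_apply]
  show LeechGen.pp a b 4 (g k) = LeechGen.pp a b 4 k
  unfold LeechGen.pp
  have e1 : (g k = a) ↔ (k = b) := by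
    constructor
    · intro h
      apply g.injective
      rw [h, hb]
    · intro h
      rw [h, hb]
  have e2 : (g k = b) ↔ (k = a) := by
    constructor
    · intro h
      apply g.injective
      rw [h, ha]
    · intro h
      rw [h, ha]
  simp only [e1, e2]
  ring

theorem relV_swap (g : Equiv.Perm GolayPt) (hg : g ∈ M24) (ha : g a = b) (hb : g b = a)
    (w : leechLattice) : RelV w (CoA.prmP g hg w) :=
  ⟨_, CoA.prmP_mem g hg, prm_vStar_swap g hg ha hb, rfl⟩

theorem exists_swap : ∃ g ∈ M24, g a = b ∧ g b = a := Orb.m24_two a b b a ab ab.symm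

/-- The shape of a minimal vector with all coordinates divisible by 4, around a nonzero
coordinate. -/
theorem shapeA1 (x : GolayPt → ℤ) (h4 : ∀ i, x i % 4 = 0) (hn : sqNorm x = 32) (p : GolayPt)
    (hp : x p ≠ 0) : ∃ k, k ≠ p ∧ (x p = 4 ∨ x p = -4) ∧ (x k = 4 ∨ x k = -4) ∧
      ∀ i, i ≠ p → i ≠ k → x i = 0 := by
  obtain ⟨j, k, hjk, hj, hk, h0⟩ := Orb.shapeA x h4 hn
  have hpj : p = j ∨ p = k := by
    by_contra hcon
    push Not at hcon
    exact hp (h0 p hcon.1 hcon.2)
  rcases hpj with rfl | rfl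
  · exact ⟨k, hjk.symm, hj, hk, h0⟩
  · exact ⟨j, hjk, hk, hj, fun i h1 h2 => h0 i h2 h1⟩

theorem valsA (x : GolayPt → ℤ) (h4 : ∀ i, x i % 4 = 0) (hn : sqNorm x = 32) (p : GolayPt) :
    x p = 0 ∨ x p = 4 ∨ x p = -4 := by
  obtain ⟨j, k, hjk, hj, hk, h0⟩ := Orb.shapeA x h4 hn
  by_cases h1 : p = j
  · rw [h1]
    exact Or.inr hj
  · by_cases h2 : p = k
    · rw [h2]
      exact Or.inr hk
    · exact Or.inl (h0 p h1 h2)

/-- The standard vector of inner product -2 with two coordinates of size 4. -/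
def tA : leechLattice := ⟨LeechGen.pp j0 a (-4), LeechGen.pp_mem j0 a (-4) (Or.inr rfl)⟩

theorem normA4' (w : leechLattice) (hn : sqNorm (w : GolayPt → ℤ) = 32)
    (h4 : ∀ i, (w : GolayPt → ℤ) i % 4 = 0) (ha : (w : GolayPt → ℤ) a = -4)
    (hb : (w : GolayPt → ℤ) b = 0) : RelV w tA := by
  obtain ⟨k, hka, -, hk, h0⟩ := shapeA1 _ h4 hn a (by rw [ha]; norm_num)
  have hkb : k ≠ b := by
    rintro rfl
    rcases hk with h | h <;> omega
  obtain ⟨g, hg, ga, gb, gk⟩ := map3 a b j0 a b k (by decide) (by simp [ab, hka.symm, hkb.symm])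
  have r1 := relV_prm g hg ga gb w
  have c1 : ∀ i, ((CoA.prmP g hg w : leechLattice) : GolayPt → ℤ) i = (w : GolayPt → ℤ) (g i) :=
    fun _ => rfl
  have hz1 : ∀ i, i ≠ a → i ≠ j0 → (w : GolayPt → ℤ) (g i) = 0 := by
    intro i hi0 hi1
    apply h0
    · intro hh
      apply hi0
      apply g.injective
      rw [hh, ga]
    · intro hh
      apply hi1
      apply g.injective
      rw [hh, gk]
  obtain ⟨w2, r2, h2a, h2k, h2o⟩ : ∃ w2 : leechLattice, RelV w w2 ∧
      (w2 : GolayPt → ℤ) a = -4 ∧ (w2 : GolayPt → ℤ) j0 = 4 ∧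
      ∀ i, i ≠ a → i ≠ j0 → (w2 : GolayPt → ℤ) i = 0 := by
    rcases hk with h | h
    · refine ⟨CoA.prmP g hg w, r1, ?_, ?_, ?_⟩
      · rw [c1, ga]
        exact ha
      · rw [c1, gk]
        exact h
      · intro i hi0 hi1
        rw [c1]
        exact hz1 i hi0 hi1
    · obtain ⟨w', rr, hw'⟩ := flipV mjm mj_props.1 mj_props.2.2.2.1 mj_props.2.2.2.2
        (CoA.prmP g hg w)
      refine ⟨w', r1.trans rr, ?_, ?_, ?_⟩
      · rw [hw', if_neg (by rw [mj_props.2.2.2.1]; decide), c1, ga]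
        exact ha
      · rw [hw', if_pos mj_props.2.1, c1, gk, h]
        norm_num
      · intro i hi0 hi1
        rw [hw', c1, hz1 i hi0 hi1]
        split_ifs <;> rfl
  have e : w2 = tA := by
    apply Subtype.ext
    funext i
    show _ = LeechGen.pp j0 a (-4) i
    unfold LeechGen.pp
    by_cases hi0 : i = a
    · rw [hi0, h2a]
      decide
    · by_cases hi1 : i = j0
      · rw [hi1, h2k]
        decide
      · rw [if_neg hi1, if_neg hi0, h2o i hi0 hi1]
        norm_num
  rw [← e]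
  exact r2

theorem normA4 (w : leechLattice) (hn : sqNorm (w : GolayPt → ℤ) = 32)
    (hd : (w : GolayPt → ℤ) a + (w : GolayPt → ℤ) b = -4)
    (h4 : ∀ i, (w : GolayPt → ℤ) i % 4 = 0) : RelV w tA := by
  have va := valsA _ h4 hn a
  have vb := valsA _ h4 hn b
  have hcase : ((w : GolayPt → ℤ) a = -4 ∧ (w : GolayPt → ℤ) b = 0) ∨
      ((w : GolayPt → ℤ) a = 0 ∧ (w : GolayPt → ℤ) b = -4) := by omega
  rcases hcase with ⟨h1, h2⟩ | ⟨h1, h2⟩
  · exact normA4' w hn h4 h1 h2
  · obtain ⟨s, hs, sa, sb⟩ := exists_swap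
    have r1 := relV_swap s hs sa sb w
    refine r1.trans (normA4' _ (by rw [r1.norm]; exact hn) (fun i => h4 (s i)) ?_ ?_)
    · show (w : GolayPt → ℤ) (s a) = -4
      rw [sa]
      exact h2
    · show (w : GolayPt → ℤ) (s b) = 0
      rw [sb]
      exact h1

def tBL : List ℤ := [2, 2, 2, 2, 0, -2, 0, 0, 0, 0, 0, 0, 0, 0, -2, 0, 0, 2, 0, 0, 0, 0, 0, 2]

set_option maxRecDepth 100000 in
theorem tB_chk : Xi.inD (fun k => 2 * Orb.vecL tBL k) 0 O1m := by decide +kernel

/-- The standard vector of inner product -2 of octad shape. -/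
def tB : leechLattice := ⟨Orb.vecL tBL, Orb.mem_of_double _ 0 O1m tB_chk⟩

set_option maxRecDepth 100000 in
theorem tB_vals : ∀ i : GolayPt, (P1 i → Orb.vecL tBL i = 2) ∧
    (word O1m i ≠ 1 → Orb.vecL tBL i = 0) := by decide +kernel

theorem tB_pts : Orb.vecL tBL a = -2 ∧ Orb.vecL tBL b = -2 ∧ Orb.vecL tBL z1 = 2 := by
  decide +kernel

theorem normB4 (w : leechLattice) (hn : sqNorm (w : GolayPt → ℤ) = 32)
    (hd : (w : GolayPt → ℤ) a + (w : GolayPt → ℤ) b = -4)
    (i0 : GolayPt) (h0 : (w : GolayPt → ℤ) i0 % 4 = 2) : RelV w tB := by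
  obtain ⟨c, hc, hoct, hon, hoff⟩ := shapeB w hn i0 h0
  have va : (w : GolayPt → ℤ) a = 0 ∨ (w : GolayPt → ℤ) a = 2 ∨ (w : GolayPt → ℤ) a = -2 := by
    by_cases h : c a = 1
    · exact Or.inr (hon a h)
    · exact Or.inl (hoff a h)
  have vb : (w : GolayPt → ℤ) b = 0 ∨ (w : GolayPt → ℤ) b = 2 ∨ (w : GolayPt → ℤ) b = -2 := by
    by_cases h : c b = 1
    · exact Or.inr (hon b h)
    · exact Or.inl (hoff b h)
  have ha : (w : GolayPt → ℤ) a = -2 := by omega
  have hb : (w : GolayPt → ℤ) b = -2 := by omega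
  have hca : c a = 1 := by
    by_contra h
    have := hoff a h
    omega
  have hcb : c b = 1 := by
    by_contra h
    have := hoff b h
    omega
  obtain ⟨g, hg, ga, gb, go⟩ := octad_pq O1s (support₂ c) O1s_octad hoct a b ab
    wB1_pts.2.2.2.2.1 wB1_pts.2.2.2.2.2 ((mem_support₂ c a).2 hca) ((mem_support₂ c b).2 hcb)
  have hmem : ∀ k, word O1m k = 1 ↔ c (g k) = 1 := by
    intro k
    rw [← mem_support₂, ← mem_support₂, ← go]
    show k ∈ O1s ↔ g k ∈ g • O1s
    exact (Finset.smul_mem_smul_finset_iff g).symm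
  have r1 := relV_prm g hg ga gb w
  have c1 : ∀ i, ((CoA.prmP g hg w : leechLattice) : GolayPt → ℤ) i = (w : GolayPt → ℤ) (g i) :=
    fun _ => rfl
  refine r1.trans ?_
  apply signfix z1 pm1 pm1_red P1 pm1_spec pm1_ab _ tB
  · intro i hi
    have e : (tB : GolayPt → ℤ) i = 2 := (tB_vals i).1 hi
    rw [e, c1]
    exact hon _ ((hmem i).1 hi.1)
  · intro i hi hiz
    by_cases hO : word O1m i = 1
    · have hiab : i = a ∨ i = b := by
        by_contra hc'
        push Not at hc'
        exact hi ⟨hO, hc'.1, hc'.2, hiz⟩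
      rcases hiab with rfl | rfl
      · exact ⟨by rw [c1, ga, ha]; exact tB_pts.1.symm, Or.inr (Or.inl rfl)⟩
      · exact ⟨by rw [c1, gb, hb]; exact tB_pts.2.1.symm, Or.inr (Or.inr rfl)⟩
    · have e : (tB : GolayPt → ℤ) i = 0 := (tB_vals i).2 hO
      have e1 : ((CoA.prmP g hg w : leechLattice) : GolayPt → ℤ) i = 0 := by
        rw [c1]
        exact hoff _ (fun h => hO ((hmem i).2 h))
      exact ⟨by rw [e1, e], Or.inl e1⟩
  · have e : (tB : GolayPt → ℤ) z1 = 2 := tB_pts.2.2
    rw [e, c1]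
    exact hon _ ((hmem z1).1 wB1_pts.2.2.2.1)
  · have e : (tB : GolayPt → ℤ) z1 = 2 := tB_pts.2.2
    rw [e]
    norm_num

def uAL : List ℤ := [1, 1, 1, 1, 1, -3, 1, 1, 1, 1, 1, 1, 1, 1, 1, 1, 1, 1, 1, 1, 1, 1, 1, 1]

set_option maxRecDepth 100000 in
theorem uA_chk : Xi.inD (fun k => 2 * Orb.vecL uAL k) 1 0 := by decide +kernel

/-- The odd minimal vector with -3 at the first standard point. -/
def uA : leechLattice := ⟨Orb.vecL uAL, Orb.mem_of_double _ 1 0 uA_chk⟩

theorem uA_val : ∀ k : GolayPt, Orb.vecL uAL k = if k = a then -3 else 1 := by decide +kernel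

/-- The standard odd vector of inner product -2. -/
def tC : leechLattice := CoA.sgnP (word c1m) c1_mem uA

theorem normC4a (w : leechLattice) (c : GolayPt → ZMod 2) (hc : c ∈ golayCode)
    (hw : ∀ k, (w : GolayPt → ℤ) k =
      if c k = 1 then -(uA : GolayPt → ℤ) k else (uA : GolayPt → ℤ) k)
    (hca : c a = 0) (hcb : c b = 1) : RelV w tC := by
  have hc'' : c + word c1m ∈ golayCode := Submodule.add_mem _ hc c1_mem
  have h1 : (c + word c1m) a = 0 := by
    show c a + word c1m a = 0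
    rw [hca, c1_a]
    decide
  have h2 : (c + word c1m) b = 0 := by
    show c b + word c1m b = 0
    rw [hcb, c1_b]
    decide
  have r2 := relV_sgn _ hc'' h1 h2 w
  have e : CoA.sgnP _ hc'' w = tC := by
    apply Subtype.ext
    funext k
    rw [CoA.sgnP_apply]
    unfold CoA.sgn
    show (if c k + word c1m k = 1 then -(w : GolayPt → ℤ) k else (w : GolayPt → ℤ) k) =
      (if word c1m k = 1 then -(uA : GolayPt → ℤ) k else (uA : GolayPt → ℤ) k)
    rw [hw k, sgn_comb]
  rw [e] at r2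
  exact r2

theorem normC4 (w : leechLattice) (hn : sqNorm (w : GolayPt → ℤ) = 32)
    (hd : (w : GolayPt → ℤ) a + (w : GolayPt → ℤ) b = -4)
    (hodd : ∀ i, (w : GolayPt → ℤ) i % 2 = 1) : RelV w tC := by
  obtain ⟨bb, c, hc, h1⟩ := Orb.min_data w hn
  have hbb : bb = true := by
    cases bb
    · exfalso
      have h2 := h1 none
      have h3 := hodd none
      rw [Cnt.pz_false] at h2
      split_ifs at h2 <;> omega
    · rfl
  subst hbb
  rw [Cnt.pz_true] at h1
  have h4 : ∀ i, ((CoA.sgnP c hc w : leechLattice) : GolayPt → ℤ) i % 4 = 1 := by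
    intro i
    rw [CoA.sgnP_apply]
    unfold CoA.sgn
    have h2 := h1 i
    by_cases hci : c i = 1
    · rw [if_pos hci] at h2 ⊢
      omega
    · rw [if_neg hci] at h2 ⊢
      omega
  have hn' : sqNorm ((CoA.sgnP c hc w : leechLattice) : GolayPt → ℤ) = 32 := by
    rw [(CoA.sgnP_mem c hc).2 w, hn]
  obtain ⟨i0, hi0⟩ := Orb.odd_shape _ h4 hn'
  have hw : ∀ k, (w : GolayPt → ℤ) k =
      if c k = 1 then -(if k = i0 then (-3 : ℤ) else 1) else (if k = i0 then (-3 : ℤ) else 1) := by
    intro k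
    have := hi0 k
    rw [CoA.sgnP_apply] at this
    unfold CoA.sgn at this
    by_cases hk : c k = 1
    · rw [if_pos hk] at this ⊢
      omega
    · rw [if_neg hk] at this ⊢
      exact this
  have ea := hw a
  have eb := hw b
  by_cases ha0 : a = i0
  · have hb0 : b ≠ i0 := fun h' => ab (ha0.trans h'.symm)
    rw [if_pos ha0] at ea
    rw [if_neg hb0] at eb
    have hca : c a = 0 := by
      rcases z2_cases (c a) with h | h
      · exact h
      · exfalso
        rw [if_pos h] at ea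
        split_ifs at eb <;> omega
    have hcb : c b = 1 := by
      by_contra h
      rw [if_neg h] at eb
      split_ifs at ea <;> omega
    apply normC4a w c hc _ hca hcb
    intro k
    rw [hw k]
    have e : (uA : GolayPt → ℤ) k = if k = a then -3 else 1 := uA_val k
    rw [e, ha0]
  · have hb0 : b = i0 := by
      by_contra hb0
      rw [if_neg ha0] at ea
      rw [if_neg hb0] at eb
      split_ifs at ea eb <;> omega
    rw [if_neg ha0] at ea
    rw [if_pos hb0] at eb
    have hcb : c b = 0 := by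
      rcases z2_cases (c b) with h | h
      · exact h
      · exfalso
        rw [if_pos h] at eb
        split_ifs at ea <;> omega
    have hca : c a = 1 := by
      by_contra h
      rw [if_neg h] at ea
      split_ifs at eb <;> omega
    obtain ⟨s, hs, sa, sb⟩ := exists_swap
    have r1 := relV_swap s hs sa sb w
    refine r1.trans (normC4a _ (c ∘ s) (Golay.comp_mem_of_mem_M24 hs hc) ?_ ?_ ?_)
    · intro k
      show (w : GolayPt → ℤ) (s k) = if c (s k) = 1 then -(uA : GolayPt → ℤ) k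
        else (uA : GolayPt → ℤ) k
      rw [hw (s k)]
      have e : (uA : GolayPt → ℤ) k = if k = a then -3 else 1 := uA_val k
      have e2 : (s k = i0) ↔ (k = a) := by
        rw [← hb0]
        constructor
        · intro h
          apply s.injective
          rw [h, sa]
        · intro h
          rw [h, sa]
      rw [e]
      simp only [e2]
    · show c (s a) = 0
      rw [sa]
      exact hcb
    · show c (s b) = 1
      rw [sb]
      exact hca

end Stv
end Cfsg.Agent.Lib.Helper4
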