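import Cfsg.Agent.Lib.Helper4.Stv7

set_option autoImplicit false

namespace Cfsg.Agent.Lib.Helper4
namespace Stv

open Cfsg Cfsg.Agent.Lib.Helper28 Cfsg.Agent.Lib.Helper4.Golay
open scoped Pointwise

def sA : leechLattice := ⟨LeechGen.pp j0 b (-4), LeechGen.pp_mem j0 b (-4) (Or.inr rfl)⟩

def sBL : List ℤ := [2, 0, 0, 0, 2, -2, 0, 0, 0, -2, 0, 0, 0, 0, -2, 0, -2, 0, 0, 0, -2, 0, 0, -2]

set_option maxRecDepth 100000 in
theorem sB_chk : Xi.inD (fun k => 2 * Orb.vecL sBL k) 0 9519665 := by decide +kernel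

def sB : leechLattice := ⟨Orb.vecL sBL, Orb.mem_of_double _ 0 9519665 sB_chk⟩

theorem sA_norm : sqNorm (sA : GolayPt → ℤ) = 32 := by
  show sqNorm (LeechGen.pp j0 b (-4)) = 32
  rw [LeechGen.sq_pp _ _ (by decide)]
  norm_num

set_option maxRecDepth 100000 in
theorem sB_norm : sqNorm (sB : GolayPt → ℤ) = 32 := by decide +kernel

set_option maxRecDepth 100000 in
theorem sA_chk : (∀ i, LeechGen.pp j0 b (-4) i % 4 = 0) ∧
    LeechGen.pp j0 b (-4) a + LeechGen.pp j0 b (-4) b = -4 ∧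
    G1 (LeechGen.pp j0 b (-4)) (some 0) % 8 = 4 := by decide +kernel

set_option maxRecDepth 100000 in
theorem sB_chk2 : Orb.vecL sBL (some 0) % 4 = 2 ∧ Orb.vecL sBL a + Orb.vecL sBL b = -4 ∧
    (∀ i, G1 (Orb.vecL sBL) i % 4 = 2) := by decide +kernel

theorem link4AB : RelV tA tB := by
  have hd : (sA : GolayPt → ℤ) a + (sA : GolayPt → ℤ) b = -4 := sA_chk.2.1
  have s1 : RelV sA tA := normA4 sA sA_norm hd sA_chk.1
  have s2 : RelV (g1 sA) tB := by
    apply normB4 (g1 sA) (by rw [g1_norm]; exact sA_norm) (by rw [g1_dot]; exact hd) (some 0)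
    have h1 := g1_coord sA (some 0)
    have h2 : G1 (sA : GolayPt → ℤ) (some 0) % 8 = 4 := sA_chk.2.2
    omega
  exact s1.symm.trans ((relV_g1 sA).trans s2)

theorem link4BC : RelV tB tC := by
  have hd : (sB : GolayPt → ℤ) a + (sB : GolayPt → ℤ) b = -4 := sB_chk2.2.1
  have s1 : RelV sB tB := normB4 sB sB_norm hd (some 0) sB_chk2.1
  have s2 : RelV (g1 sB) tC := by
    apply normC4 (g1 sB) (by rw [g1_norm]; exact sB_norm) (by rw [g1_dot]; exact hd)
    intro i
    have h1 := g1_coord sB i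
    have h2 : G1 (sB : GolayPt → ℤ) i % 4 = 2 := sB_chk2.2.2 i
    omega
  exact s1.symm.trans ((relV_g1 sB).trans s2)

/-- All minimal vectors with inner product -16 with the standard one are in one orbit of its
stabiliser. -/
theorem all_rel4 (w : leechLattice) (hn : sqNorm (w : GolayPt → ℤ) = 32)
    (hd : (w : GolayPt → ℤ) a + (w : GolayPt → ℤ) b = -4) : RelV w tA := by
  obtain ⟨bb, c, hc, h1⟩ := Orb.min_data w hn
  cases bb
  · rw [Cnt.pz_false] at h1
    by_cases hex : ∃ i0, c i0 = 1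
    · obtain ⟨i0, hi0⟩ := hex
      have h2 : (w : GolayPt → ℤ) i0 % 4 = 2 := by
        have := h1 i0
        rw [if_pos hi0] at this
        omega
      exact (normB4 w hn hd i0 h2).trans link4AB.symm
    · push Not at hex
      have h4 : ∀ i, (w : GolayPt → ℤ) i % 4 = 0 := by
        intro i
        have := h1 i
        rw [if_neg (hex i)] at this
        omega
      exact normA4 w hn hd h4
  · rw [Cnt.pz_true] at h1
    have hodd : ∀ i, (w : GolayPt → ℤ) i % 2 = 1 := by
      intro i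
      have := h1 i
      split_ifs at this <;> omega
    exact (normC4 w hn hd hodd).trans (link4BC.symm.trans link4AB.symm)

/-- Transfer of a transitivity statement for the stabiliser of the standard vector to an
arbitrary minimal vector. -/
theorem stab_transfer (t : ℤ)
    (hall : ∀ x y : leechLattice, sqNorm (x : GolayPt → ℤ) = 32 →
      sqNorm (y : GolayPt → ℤ) = 32 → (x : GolayPt → ℤ) a + (x : GolayPt → ℤ) b = t →
      (y : GolayPt → ℤ) a + (y : GolayPt → ℤ) b = t → RelV x y)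
    (v w w' : leechLattice) (hv : sqNorm (v : GolayPt → ℤ) = 32)
    (hw : sqNorm (w : GolayPt → ℤ) = 32) (hw' : sqNorm (w' : GolayPt → ℤ) = 32)
    (hd : dotInt (v : GolayPt → ℤ) (w : GolayPt → ℤ) = 4 * t)
    (hd' : dotInt (v : GolayPt → ℤ) (w' : GolayPt → ℤ) = 4 * t) :
    ∃ g : Co0, g • v = v ∧ g • w = w' := by
  obtain ⟨h, hh, hhv⟩ := exists_std v hv
  have key : ∀ x : leechLattice, sqNorm (x : GolayPt → ℤ) = 32 →
      dotInt (v : GolayPt → ℤ) (x : GolayPt → ℤ) = 4 * t →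
      sqNorm ((h.symm x : leechLattice) : GolayPt → ℤ) = 32 ∧
      ((h.symm x : leechLattice) : GolayPt → ℤ) a + ((h.symm x : leechLattice) : GolayPt → ℤ) b
        = t := by
    intro x hx hdx
    have e : h (h.symm x) = x := h.apply_symm_apply x
    refine ⟨?_, ?_⟩
    · rw [← hh.2 (h.symm x), e]
      exact hx
    · have h2 := Orb.dot_pres h hh vStar (h.symm x)
      rw [hhv, e, hdx, dot_vStar] at h2
      omega
  obtain ⟨n1, d1⟩ := key w hw hd
  obtain ⟨n2, d2⟩ := key w' hw' hd'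
  obtain ⟨g0, hg0, gv, gw⟩ := hall _ _ n1 n2 d1 d2
  have hv0 : h⁻¹ v = vStar := by
    rw [Equiv.Perm.inv_eq_iff_eq]
    exact hhv.symm
  refine ⟨⟨h * g0 * h⁻¹, Co0.mul_mem (Co0.mul_mem hh hg0) (Co0.inv_mem hh)⟩, ?_, ?_⟩
  · show h (g0 (h⁻¹ v)) = v
    rw [hv0, gv, hhv]
  · show h (g0 (h.symm w)) = w'
    rw [gw]
    exact h.apply_symm_apply w'

/-- The stabiliser of a minimal vector is transitive on the minimal vectors of inner product
-16 with it. -/
theorem stab_m16 (v w w' : leechLattice) (hv : sqNorm (v : GolayPt → ℤ) = 32)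
    (hw : sqNorm (w : GolayPt → ℤ) = 32) (hw' : sqNorm (w' : GolayPt → ℤ) = 32)
    (hd : dotInt (v : GolayPt → ℤ) (w : GolayPt → ℤ) = -16)
    (hd' : dotInt (v : GolayPt → ℤ) (w' : GolayPt → ℤ) = -16) :
    ∃ g : Co0, g • v = v ∧ g • w = w' :=
  stab_transfer (-4) (fun x y hx hy dx dy => (all_rel4 x hx dx).trans (all_rel4 y hy dy).symm)
    v w w' hv hw hw' (by rw [hd]; norm_num) (by rw [hd']; norm_num)

end Stv
end Cfsg.Agent.Lib.Helper4
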