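import Cfsg.Agent.Lib.Helper4.Stv8

set_option autoImplicit false

namespace Cfsg.Agent.Lib.Helper4
namespace Stv

open Cfsg Cfsg.Agent.Lib.Helper28 Cfsg.Agent.Lib.Helper4.Golay
open scoped Pointwise

/-- The pointwise stabiliser of an octad is transitive on the points outside it. -/
theorem oct_fix_trans (o : Finset GolayPt) (ho : o ∈ octads) (p q : GolayPt) (hp : p ∉ o)
    (hq : q ∉ o) : ∃ g ∈ M24, (∀ x ∈ o, g x = x) ∧ g p = q := by
  obtain ⟨g1, hg1, e1⟩ := octad_trans O0s o O0s_octad ho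
  have hout : ∀ x : GolayPt, x ∉ O0s →
      code x ∈ [5, 6, 8, 9, 11, 13, 14, 15, 16, 17, 18, 19, 20, 21, 22, 23] := by
    intro x hx
    rw [mem_O0s] at hx
    revert x
    decide
  have hmem : ∀ x : GolayPt, g1⁻¹ x ∈ O0s → x ∈ o := by
    intro x h
    rw [← e1]
    have := Finset.smul_mem_smul_finset (a := g1) h
    simpa using this
  have hp' : g1⁻¹ p ∉ O0s := fun h => hp (hmem p h)
  have hq' : g1⁻¹ q ∉ O0s := fun h => hq (hmem q h)
  obtain ⟨rp, hrp, rpfix, rp5, -⟩ := octA _ (hout _ hp')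
  obtain ⟨rq, hrq, rqfix, rq5, -⟩ := octA _ (hout _ hq')
  rw [pt_code] at rp5 rq5
  have fixO : ∀ (r : Equiv.Perm GolayPt),
      (∀ f ∈ [0, 1, 2, 3, 4, 7, 10, 12], r (pt f) = pt f) → ∀ x ∈ O0s, r x = x := by
    intro r hr x hx
    have := hr (code x) (mem_O0s.1 hx)
    rwa [pt_code] at this
  refine ⟨g1 * rq * rp⁻¹ * g1⁻¹, Subgroup.mul_mem _ (Subgroup.mul_mem _
    (Subgroup.mul_mem _ hg1 hrq) (Subgroup.inv_mem _ hrp)) (Subgroup.inv_mem _ hg1), ?_, ?_⟩
  · intro x hx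
    have hx' : g1⁻¹ x ∈ O0s := by
      rw [← e1] at hx
      obtain ⟨y, hy, rfl⟩ := Finset.mem_smul_finset.1 hx
      simpa using hy
    show g1 (rq (rp⁻¹ (g1⁻¹ x))) = x
    have e2 : rp⁻¹ (g1⁻¹ x) = g1⁻¹ x := by
      rw [Equiv.Perm.inv_eq_iff_eq]
      exact (fixO rp rpfix _ hx').symm
    rw [e2, fixO rq rqfix _ hx']
    simp
  · show g1 (rq (rp⁻¹ (g1⁻¹ p))) = q
    have e2 : rp⁻¹ (g1⁻¹ p) = pt 5 := by
      rw [Equiv.Perm.inv_eq_iff_eq]
      exact rp5.symm
    rw [e2, rq5]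
    simp

/-- Octads through a point are permuted transitively by the stabiliser of the point. -/
theorem octad_p (o o' : Finset GolayPt) (ho : o ∈ octads) (ho' : o' ∈ octads) (p : GolayPt)
    (hp : p ∈ o) (hp' : p ∈ o') : ∃ g ∈ M24, g p = p ∧ g • o = o' := by
  classical
  have hc : 0 < (o.erase p).card := by
    rw [Finset.card_erase_of_mem hp, ho.2]
    norm_num
  obtain ⟨q, hq⟩ := Finset.card_pos.1 hc
  have hc' : 0 < (o'.erase p).card := by
    rw [Finset.card_erase_of_mem hp', ho'.2]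
    norm_num
  obtain ⟨q', hq'⟩ := Finset.card_pos.1 hc'
  rw [Finset.mem_erase] at hq hq'
  obtain ⟨h, hh, h1, h2⟩ := Orb.m24_two p q p q' hq.1.symm hq'.1.symm
  have ho2 : h • o ∈ octads := smul_mem_weight hh ho
  have hp2 : p ∈ h • o := by
    have := Finset.smul_mem_smul_finset (a := h) hp
    rwa [Equiv.Perm.smul_def, h1] at this
  have hq2 : q' ∈ h • o := by
    have := Finset.smul_mem_smul_finset (a := h) hq.2
    rwa [Equiv.Perm.smul_def, h2] at this
  obtain ⟨g2, hg2, g2p, -, e⟩ := octad_pq (h • o) o' ho2 ho' p q' hq'.1.symm hp2 hq2 hp' hq'.2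
  refine ⟨g2 * h, Subgroup.mul_mem _ hg2 hh, ?_, ?_⟩
  · show g2 (h p) = p
    rw [h1, g2p]
  · rw [mul_smul, e]

/-- Octads through one point and avoiding another are permuted transitively by the stabiliser
of the two points. -/
theorem octad_p_notq (o o' : Finset GolayPt) (ho : o ∈ octads) (ho' : o' ∈ octads)
    (p q : GolayPt) (hp : p ∈ o) (hp' : p ∈ o') (hq : q ∉ o) (hq' : q ∉ o') :
    ∃ g ∈ M24, g p = p ∧ g q = q ∧ g • o = o' := by
  obtain ⟨g1, hg1, g1p, e1⟩ := octad_p o o' ho ho' p hp hp'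
  have hq1 : g1⁻¹ q ∉ o := by
    intro h
    apply hq'
    rw [← e1]
    have := Finset.smul_mem_smul_finset (a := g1) h
    simpa using this
  obtain ⟨r, hr, rfix, rq⟩ := oct_fix_trans o ho q (g1⁻¹ q) hq hq1
  refine ⟨g1 * r, Subgroup.mul_mem _ hg1 hr, ?_, ?_, ?_⟩
  · show g1 (r p) = p
    rw [rfix p hp, g1p]
  · show g1 (r q) = q
    rw [rq]
    simp
  · rw [mul_smul]
    have : r • o = o := by
      ext x
      rw [Finset.mem_smul_finset]
      constructor
      · rintro ⟨y, hy, rfl⟩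
        rw [Equiv.Perm.smul_def, rfix y hy]
        exact hy
      · intro hx
        exact ⟨x, hx, rfix x hx⟩
    rw [this, e1]

/-- The data of an odd minimal vector: a code word of signs and the position of the 3. -/
theorem odd_data (w : leechLattice) (hn : sqNorm (w : GolayPt → ℤ) = 32)
    (hodd : ∀ i, (w : GolayPt → ℤ) i % 2 = 1) :
    ∃ c ∈ golayCode, ∃ i0 : GolayPt, ∀ k, (w : GolayPt → ℤ) k =
      if c k = 1 then -(if k = i0 then (-3 : ℤ) else 1) else (if k = i0 then (-3 : ℤ) else 1) := by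
  obtain ⟨bb, c, hc, h1⟩ := Orb.min_data w hn
  have hbb : bb = true := by
    cases bb
    · exfalso
      have h2 := h1 none
      have h3 := hodd none
      rw [Cnt.pz_false] at h2
      split_ifs at h2 <;> omega
    · rfl
  subst hbb
  rw [Cnt.pz_true] at h1
  have h4 : ∀ i, ((CoA.sgnP c hc w : leechLattice) : GolayPt → ℤ) i % 4 = 1 := by
    intro i
    rw [CoA.sgnP_apply]
    unfold CoA.sgn
    have h2 := h1 i
    by_cases hci : c i = 1
    · rw [if_pos hci] at h2 ⊢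
      omega
    · rw [if_neg hci] at h2 ⊢
      omega
  have hn' : sqNorm ((CoA.sgnP c hc w : leechLattice) : GolayPt → ℤ) = 32 := by
    rw [(CoA.sgnP_mem c hc).2 w, hn]
  obtain ⟨i0, hi0⟩ := Orb.odd_shape _ h4 hn'
  refine ⟨c, hc, i0, ?_⟩
  intro k
  have := hi0 k
  rw [CoA.sgnP_apply] at this
  unfold CoA.sgn at this
  by_cases hk : c k = 1
  · rw [if_pos hk] at this ⊢
    omega
  · rw [if_neg hk] at this ⊢
    exact this

/-- The standard octad through the first standard point and avoiding the second. -/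
def O3m : ℕ := 10558

def O3s : Finset GolayPt := support₂ (word O3m)

theorem O3s_octad : O3s ∈ octads := mask_octad O3m (by decide +kernel) (by decide +kernel)

def z3 : GolayPt := some 1

def pm3L : List ℕ := [0, 0, 459847, 104010, 427666, 0, 0, 0, 987906, 0, 0, 563843, 0, 668866,
  0, 0, 0, 0, 0, 0, 0, 0, 0, 0]

def pm3 (x : GolayPt) : ℕ := pm3L.getD (code x) 0

def P3 (i : GolayPt) : Prop := word O3m i = 1 ∧ i ≠ a ∧ i ≠ z3

instance : DecidablePred P3 := fun i => by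
  unfold P3
  infer_instance

set_option maxRecDepth 100000 in
theorem pm3_red : ∀ x : GolayPt, red basisP (pm3 x) = 0 := by decide +kernel

set_option maxRecDepth 100000 in
theorem pm3_spec : ∀ x i : GolayPt, P3 x → P3 i → (word (pm3 x) i = 1 ↔ x = i) := by
  decide +kernel

set_option maxRecDepth 100000 in
theorem pm3_ab : ∀ x : GolayPt, P3 x → word (pm3 x) a = 0 ∧ word (pm3 x) b = 0 := by
  decide +kernel

def tB3L : List ℤ := [0, -2, 2, 2, 2, -2, 0, 0, 2, 0, 0, 2, 0, 2, 0, 0, 0, 0, 0, 0, 0, 0, 0, 0]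

set_option maxRecDepth 100000 in
theorem tB3_chk : Xi.inD (fun k => 2 * Orb.vecL tB3L k) 0 O3m := by decide +kernel

/-- The standard vector of inner product -1 of octad shape. -/
def tB3 : leechLattice := ⟨Orb.vecL tB3L, Orb.mem_of_double _ 0 O3m tB3_chk⟩

set_option maxRecDepth 100000 in
theorem tB3_vals : ∀ i : GolayPt, (P3 i → Orb.vecL tB3L i = 2) ∧
    (word O3m i ≠ 1 → Orb.vecL tB3L i = 0) := by decide +kernel

theorem tB3_pts : Orb.vecL tB3L a = -2 ∧ Orb.vecL tB3L z3 = -2 ∧ word O3m z3 = 1 ∧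
    a ∈ O3s ∧ b ∉ O3s := by decide +kernel

theorem normB2a (w : leechLattice) (hn : sqNorm (w : GolayPt → ℤ) = 32)
    (i0 : GolayPt) (h0 : (w : GolayPt → ℤ) i0 % 4 = 2) (ha : (w : GolayPt → ℤ) a = -2)
    (hb : (w : GolayPt → ℤ) b = 0) : RelV w tB3 := by
  obtain ⟨c, hc, hoct, hon, hoff⟩ := shapeB w hn i0 h0
  have hca : c a = 1 := by
    by_contra h
    have := hoff a h
    omega
  have hcb : c b ≠ 1 := by
    intro h
    rcases hon b h with h' | h' <;> omega
  obtain ⟨g, hg, ga, gb, go⟩ := octad_p_notq O3s (support₂ c) O3s_octad hoct a b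
    tB3_pts.2.2.2.1 ((mem_support₂ c a).2 hca) tB3_pts.2.2.2.2
    (by rw [mem_support₂]; exact hcb)
  have hmem : ∀ k, word O3m k = 1 ↔ c (g k) = 1 := by
    intro k
    rw [← mem_support₂, ← mem_support₂, ← go]
    show k ∈ O3s ↔ g k ∈ g • O3s
    exact (Finset.smul_mem_smul_finset_iff g).symm
  have r1 := relV_prm g hg ga gb w
  have c1 : ∀ i, ((CoA.prmP g hg w : leechLattice) : GolayPt → ℤ) i = (w : GolayPt → ℤ) (g i) :=
    fun _ => rfl
  refine r1.trans ?_
  apply signfix z3 pm3 pm3_red P3 pm3_spec pm3_ab _ tB3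
  · intro i hi
    have e : (tB3 : GolayPt → ℤ) i = 2 := (tB3_vals i).1 hi
    rw [e, c1]
    exact hon _ ((hmem i).1 hi.1)
  · intro i hi hiz
    by_cases hO : word O3m i = 1
    · have hia : i = a := by
        by_contra hc'
        exact hi ⟨hO, hc', hiz⟩
      rw [hia]
      exact ⟨by rw [c1, ga, ha]; exact tB3_pts.1.symm, Or.inr (Or.inl rfl)⟩
    · have e : (tB3 : GolayPt → ℤ) i = 0 := (tB3_vals i).2 hO
      have e1 : ((CoA.prmP g hg w : leechLattice) : GolayPt → ℤ) i = 0 := by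
        rw [c1]
        exact hoff _ (fun h => hO ((hmem i).2 h))
      exact ⟨by rw [e1, e], Or.inl e1⟩
  · have e : (tB3 : GolayPt → ℤ) z3 = -2 := tB3_pts.2.1
    rw [e, c1]
    rcases hon _ ((hmem z3).1 tB3_pts.2.2.1) with h | h
    · right
      rw [h]
      norm_num
    · left
      exact h
  · have e : (tB3 : GolayPt → ℤ) z3 = -2 := tB3_pts.2.1
    rw [e]
    norm_num

theorem normB2' (w : leechLattice) (hn : sqNorm (w : GolayPt → ℤ) = 32)
    (hd : (w : GolayPt → ℤ) a + (w : GolayPt → ℤ) b = -2)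
    (i0 : GolayPt) (h0 : (w : GolayPt → ℤ) i0 % 4 = 2) : RelV w tB3 := by
  obtain ⟨c, hc, hoct, hon, hoff⟩ := shapeB w hn i0 h0
  have va : (w : GolayPt → ℤ) a = 0 ∨ (w : GolayPt → ℤ) a = 2 ∨ (w : GolayPt → ℤ) a = -2 := by
    by_cases h : c a = 1
    · exact Or.inr (hon a h)
    · exact Or.inl (hoff a h)
  have vb : (w : GolayPt → ℤ) b = 0 ∨ (w : GolayPt → ℤ) b = 2 ∨ (w : GolayPt → ℤ) b = -2 := by
    by_cases h : c b = 1
    · exact Or.inr (hon b h)
    · exact Or.inl (hoff b h)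
  have hcase : ((w : GolayPt → ℤ) a = -2 ∧ (w : GolayPt → ℤ) b = 0) ∨
      ((w : GolayPt → ℤ) a = 0 ∧ (w : GolayPt → ℤ) b = -2) := by omega
  rcases hcase with ⟨h1, h2⟩ | ⟨h1, h2⟩
  · exact normB2a w hn i0 h0 h1 h2
  · obtain ⟨s, hs, sa, sb⟩ := exists_swap
    have r1 := relV_swap s hs sa sb w
    refine r1.trans (normB2a _ (by rw [r1.norm]; exact hn) (s⁻¹ i0) ?_ ?_ ?_)
    · show (w : GolayPt → ℤ) (s (s⁻¹ i0)) % 4 = 2
      have e : s (s⁻¹ i0) = i0 := by simp
      rw [e]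
      exact h0
    · show (w : GolayPt → ℤ) (s a) = -2
      rw [sa]
      exact h2
    · show (w : GolayPt → ℤ) (s b) = 0
      rw [sb]
      exact h1

end Stv
end Cfsg.Agent.Lib.Helper4
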