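import Mathlib

set_option autoImplicit false

namespace Cfsg.Agent.Lib.Helper4
namespace Suz

open Matrix
open scoped Pointwise

/-- The data of a Tits endomorphism on a field of characteristic two, with a square root. -/
structure Dat (F : Type*) [Field F] where
  σ : F →+* F
  τ : F →+* F
  hσ : ∀ x, σ (σ x) = x ^ 2
  hτ : ∀ x, τ x ^ 2 = σ x
  two : (2 : F) = 0

variable {F : Type*} [Field F] (D : Dat F)

/-- The affine equation of the ovoid. -/
def Dat.f (x y : F) : F := x * y + x ^ 2 * D.σ x + D.σ y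

theorem Dat.f_zero : D.f 0 0 = 0 := by simp [Dat.f]

theorem Dat.neg_eq (D : Dat F) (x : F) : -x = x := by
  have h2 := D.two
  linear_combination (-x) * h2

theorem Dat.add_self (D : Dat F) (x : F) : x + x = 0 := by
  have h2 := D.two
  linear_combination x * h2

theorem Dat.f_eq_zero {x y : F} (h : D.f x y = 0) : x = 0 ∧ y = 0 := by
  have h2 := D.two
  have E2 : D.σ (D.f x y) = 0 := by rw [h, map_zero]
  simp only [Dat.f, map_add, map_mul, map_pow, D.hσ] at E2 h
  have key : y * (x * D.σ x + y) = 0 := by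
    linear_combination E2 - D.σ x * h + (x * y * D.σ x) * h2
  rcases mul_eq_zero.1 key with hy | hy
  · subst hy
    simp only [mul_zero, map_zero, add_zero, zero_add] at h
    rcases mul_eq_zero.1 h with hx | hx
    · exact ⟨pow_eq_zero_iff (by norm_num) |>.1 hx, rfl⟩
    · exact ⟨(map_eq_zero D.σ).1 hx, rfl⟩
  · have hy' : y = x * D.σ x := by linear_combination hy - (x * D.σ x) * h2
    subst hy'
    simp only [map_mul, D.hσ] at h
    have h3 : D.σ x * x ^ 2 = 0 := by linear_combination h - (x ^ 2 * D.σ x) * h2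
    rcases mul_eq_zero.1 h3 with hx | hx
    · have := (map_eq_zero D.σ).1 hx
      subst this
      simp
    · have := pow_eq_zero_iff (by norm_num) |>.1 hx
      subst this
      simp

/-- The affine ovoid vectors. -/
def Dat.vec (x y : F) : Fin 4 → F := ![D.f x y, y, x, 1]

theorem Dat.vec_ne (x y : F) : D.vec x y ≠ 0 := fun h => by
  have := congrFun h 3
  simp [Dat.vec] at this

/-- The affine ovoid points. -/
def Dat.pt (x y : F) : Projectivization F (Fin 4 → F) :=
  Projectivization.mk F (D.vec x y) (D.vec_ne x y)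

theorem e0_ne : (![1, 0, 0, 0] : Fin 4 → F) ≠ 0 := fun h => by
  have := congrFun h 0
  simp at this

/-- The point at infinity. -/
def inf (F : Type*) [Field F] : Projectivization F (Fin 4 → F) :=
  Projectivization.mk F ![1, 0, 0, 0] e0_ne

/-- The ovoid. -/
def Dat.ovoid : Set (Projectivization F (Fin 4 → F)) :=
  {p | p = inf F ∨ ∃ x y, p = D.pt x y}

theorem Dat.inf_mem : inf F ∈ D.ovoid := Or.inl rfl

theorem Dat.pt_mem (x y : F) : D.pt x y ∈ D.ovoid := Or.inr ⟨x, y, rfl⟩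

theorem Dat.pt_ne_inf (x y : F) : D.pt x y ≠ inf F := by
  intro h
  rw [Dat.pt, inf, Projectivization.mk_eq_mk_iff'] at h
  obtain ⟨a, ha⟩ := h
  have h3 := congrFun ha 3
  simp [Dat.vec] at h3

theorem Dat.pt_inj {x y x' y' : F} (h : D.pt x y = D.pt x' y') : x = x' ∧ y = y' := by
  rw [Dat.pt, Dat.pt, Projectivization.mk_eq_mk_iff'] at h
  obtain ⟨a, ha⟩ := h
  have h3 := congrFun ha 3
  have h2 := congrFun ha 2
  have h1 := congrFun ha 1
  simp [Dat.vec] at h1 h2 h3
  subst h3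
  simp at h1 h2
  exact ⟨h2.symm, h1.symm⟩

/-- Computing the action on a point from the action on a representative. -/
theorem smul_mk_eq (M : SpecialLinearGroup (Fin 4) F) {v v' : Fin 4 → F} (hv : v ≠ 0)
    (hv' : v' ≠ 0) (c : F) (h : M.1 *ᵥ v = c • v') :
    M • Projectivization.mk F v hv = Projectivization.mk F v' hv' := by
  rw [Projectivization.smul_mk, Projectivization.mk_eq_mk_iff']
  exact ⟨c, h.symm⟩

theorem exists_of_smul_mk_eq (M : SpecialLinearGroup (Fin 4) F) {v v' : Fin 4 → F} (hv : v ≠ 0)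
    (hv' : v' ≠ 0)
    (h : M • Projectivization.mk F v hv = Projectivization.mk F v' hv') :
    ∃ c : Fˣ, M.1 *ᵥ v = (c : F) • v' := by
  rw [Projectivization.smul_mk, Projectivization.mk_eq_mk_iff] at h
  obtain ⟨c, hc⟩ := h
  exact ⟨c, hc.symm⟩

/-! ### The unipotent elements -/

/-- The matrix of a unipotent element. -/
def Dat.uMat (a b : F) : Matrix (Fin 4) (Fin 4) F :=
  !![1, a, b + a * D.σ a, D.f a b; 0, 1, D.σ a, b; 0, 0, 1, a; 0, 0, 0, 1]

theorem Dat.det_uMat (a b : F) : (D.uMat a b).det = 1 := by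
  rw [Matrix.det_of_isUpperTriangular]
  · simp [Fin.prod_univ_four, Dat.uMat]
  · intro i j hij
    fin_cases i <;> fin_cases j <;> simp_all [Dat.uMat]

/-- The unipotent elements. -/
def Dat.u (a b : F) : SpecialLinearGroup (Fin 4) F := ⟨D.uMat a b, D.det_uMat a b⟩

theorem Dat.u_inf (a b : F) : D.u a b • inf F = inf F := by
  apply smul_mk_eq _ _ _ 1
  ext i
  fin_cases i <;> simp [Dat.u, Dat.uMat, Matrix.mulVec, dotProduct, Fin.sum_univ_four]

theorem Dat.f_add (x y a b : F) :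
    D.f (x + a) (y + D.σ a * x + b) = D.f x y + a * y + (b + a * D.σ a) * x + D.f a b := by
  have h2 := D.two
  simp only [Dat.f, map_add, map_mul, D.hσ]
  rw [← sub_eq_zero]
  ring_nf
  simp [h2]

theorem Dat.u_pt (a b x y : F) : D.u a b • D.pt x y = D.pt (x + a) (y + D.σ a * x + b) := by
  apply smul_mk_eq _ _ _ 1
  ext i
  fin_cases i
  · simp [Dat.u, Dat.uMat, Matrix.mulVec, dotProduct, Fin.sum_univ_four, Dat.vec, D.f_add]
  · simp [Dat.u, Dat.uMat, Matrix.mulVec, dotProduct, Fin.sum_univ_four, Dat.vec]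
  · simp [Dat.u, Dat.uMat, Matrix.mulVec, dotProduct, Fin.sum_univ_four, Dat.vec]
  · simp [Dat.u, Dat.uMat, Matrix.mulVec, dotProduct, Fin.sum_univ_four, Dat.vec]

theorem Dat.u_zero (a b : F) : D.u a b • D.pt 0 0 = D.pt a b := by
  rw [D.u_pt]
  simp

/-! ### The torus -/

/-- The matrix of a torus element. -/
def Dat.hMat (k : Fˣ) : Matrix (Fin 4) (Fin 4) F :=
  !![(k : F) * D.τ k, 0, 0, 0; 0, D.τ k, 0, 0; 0, 0, (D.τ k)⁻¹, 0; 0, 0, 0, ((k : F) * D.τ k)⁻¹]

theorem Dat.τ_ne (k : Fˣ) : D.τ (k : F) ≠ 0 := (map_ne_zero D.τ).2 k.ne_zero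

theorem Dat.det_hMat (k : Fˣ) : (D.hMat k).det = 1 := by
  have h1 := D.τ_ne k
  have h2 := k.ne_zero
  rw [Matrix.det_of_isUpperTriangular]
  · simp [Fin.prod_univ_four, Dat.hMat]
    field_simp
  · intro i j hij
    fin_cases i <;> fin_cases j <;> simp_all [Dat.hMat]

/-- The torus elements. -/
def Dat.h (k : Fˣ) : SpecialLinearGroup (Fin 4) F := ⟨D.hMat k, D.det_hMat k⟩

theorem Dat.h_inf (k : Fˣ) : D.h k • inf F = inf F := by
  apply smul_mk_eq _ _ _ ((k : F) * D.τ k)
  ext i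
  fin_cases i <;> simp [Dat.h, Dat.hMat, Matrix.mulVec, dotProduct, Fin.sum_univ_four]

theorem Dat.f_mul (k x y : F) : D.f (k * x) (k * D.σ k * y) = k ^ 2 * D.σ k * D.f x y := by
  simp only [Dat.f, map_mul, D.hσ]
  ring

theorem Dat.h_pt (k : Fˣ) (x y : F) :
    D.h k • D.pt x y = D.pt ((k : F) * x) ((k : F) * D.σ k * y) := by
  have h1 := D.τ_ne k
  have h2 := k.ne_zero
  have h3 := D.hτ (k : F)
  apply smul_mk_eq _ _ _ (((k : F) * D.τ k)⁻¹)
  ext i
  fin_cases i
  · simp [Dat.h, Dat.hMat, Matrix.mulVec, dotProduct, Fin.sum_univ_four, Dat.vec, D.f_mul]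
    rw [← h3]
    field_simp
  · simp [Dat.h, Dat.hMat, Matrix.mulVec, dotProduct, Fin.sum_univ_four, Dat.vec]
    rw [← h3]
    field_simp
  · simp [Dat.h, Dat.hMat, Matrix.mulVec, dotProduct, Fin.sum_univ_four, Dat.vec]
    field_simp
  · simp [Dat.h, Dat.hMat, Matrix.mulVec, dotProduct, Fin.sum_univ_four, Dat.vec]

/-! ### The involution -/

/-- The matrix of the involution interchanging the two base points. -/
def wMat (F : Type*) [Field F] : Matrix (Fin 4) (Fin 4) F :=
  !![0, 0, 0, 1; 0, 0, 1, 0; 0, 1, 0, 0; 1, 0, 0, 0]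

theorem det_wMat : (wMat F).det = 1 := by
  simp [Matrix.det_succ_row_zero, Fin.sum_univ_succ, Fin.succAbove, wMat]
  ring

/-- The involution interchanging the two base points. -/
def w (F : Type*) [Field F] : SpecialLinearGroup (Fin 4) F := ⟨wMat F, det_wMat⟩

theorem Dat.w_inf : w F • inf F = D.pt 0 0 := by
  apply smul_mk_eq _ _ _ 1
  ext i
  fin_cases i <;> simp [w, wMat, Matrix.mulVec, dotProduct, Fin.sum_univ_four, Dat.vec, D.f_zero]

theorem Dat.w_zero : w F • D.pt 0 0 = inf F := by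
  apply smul_mk_eq _ _ _ 1
  ext i
  fin_cases i <;> simp [w, wMat, Matrix.mulVec, dotProduct, Fin.sum_univ_four, Dat.vec, D.f_zero]

theorem Dat.f_swap (x y : F) :
    x * y * D.σ (D.f x y) + y ^ 2 * D.σ y + D.σ x * D.f x y ^ 2 = D.f x y * D.σ (D.f x y) := by
  have h2 := D.two
  simp only [Dat.f, map_add, map_mul, map_pow, D.hσ]
  rw [← sub_eq_zero]
  ring_nf
  simp [h2]

theorem Dat.f_div (x y z : F) (hz : z ≠ 0) :
    D.f (y / z) (x / z) =
      (x * y * D.σ z + y ^ 2 * D.σ y + D.σ x * z ^ 2) / (z ^ 2 * D.σ z) := by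
  have hσz : D.σ z ≠ 0 := (map_ne_zero D.σ).2 hz
  simp only [Dat.f, map_div₀]
  field_simp

theorem Dat.f_inv (x y : F) (hz : D.f x y ≠ 0) :
    D.f x y * D.f (y / D.f x y) (x / D.f x y) = 1 := by
  have hσz : D.σ (D.f x y) ≠ 0 := (map_ne_zero D.σ).2 hz
  rw [D.f_div _ _ _ hz, D.f_swap]
  field_simp

theorem Dat.w_pt (x y : F) (hz : D.f x y ≠ 0) :
    w F • D.pt x y = D.pt (y / D.f x y) (x / D.f x y) := by
  apply smul_mk_eq _ _ _ (D.f x y)
  ext i
  fin_cases i
  · simp [w, wMat, Matrix.mulVec, dotProduct, Fin.sum_univ_four, Dat.vec]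
    exact (D.f_inv x y hz).symm
  · simp [w, wMat, Matrix.mulVec, dotProduct, Fin.sum_univ_four, Dat.vec]
    field_simp
  · simp [w, wMat, Matrix.mulVec, dotProduct, Fin.sum_univ_four, Dat.vec]
    field_simp
  · simp [w, wMat, Matrix.mulVec, dotProduct, Fin.sum_univ_four, Dat.vec]

/-! ### The group of the ovoid -/

/-- The stabiliser of the ovoid. -/
def Dat.G : Subgroup (SpecialLinearGroup (Fin 4) F) :=
  MulAction.stabilizer (SpecialLinearGroup (Fin 4) F) D.ovoid

theorem Dat.mem_G_iff [Finite F] {g : SpecialLinearGroup (Fin 4) F} :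
    g ∈ D.G ↔ ∀ p ∈ D.ovoid, g • p ∈ D.ovoid := by
  rw [Dat.G, MulAction.mem_stabilizer_set' (Set.toFinite _)]

theorem Dat.smul_mem [Finite F] {g : SpecialLinearGroup (Fin 4) F} (hg : g ∈ D.G)
    {p : Projectivization F (Fin 4 → F)} (hp : p ∈ D.ovoid) : g • p ∈ D.ovoid :=
  D.mem_G_iff.1 hg p hp

theorem Dat.u_mem [Finite F] (a b : F) : D.u a b ∈ D.G := by
  rw [D.mem_G_iff]
  rintro p (rfl | ⟨x, y, rfl⟩)
  · rw [D.u_inf]
    exact D.inf_mem
  · rw [D.u_pt]
    exact D.pt_mem _ _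

theorem Dat.h_mem [Finite F] (k : Fˣ) : D.h k ∈ D.G := by
  rw [D.mem_G_iff]
  rintro p (rfl | ⟨x, y, rfl⟩)
  · rw [D.h_inf]
    exact D.inf_mem
  · rw [D.h_pt]
    exact D.pt_mem _ _

theorem Dat.w_mem [Finite F] : w F ∈ D.G := by
  rw [D.mem_G_iff]
  rintro p (rfl | ⟨x, y, rfl⟩)
  · rw [D.w_inf]
    exact D.pt_mem _ _
  · by_cases hz : D.f x y = 0
    · obtain ⟨rfl, rfl⟩ := D.f_eq_zero hz
      rw [D.w_zero]
      exact D.inf_mem
    · rw [D.w_pt x y hz]
      exact D.pt_mem _ _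

theorem Dat.exists_to_inf [Finite F] {p : Projectivization F (Fin 4 → F)} (hp : p ∈ D.ovoid) :
    ∃ g ∈ D.G, g • p = inf F := by
  rcases hp with rfl | ⟨x, y, rfl⟩
  · exact ⟨1, D.G.one_mem, one_smul _ _⟩
  · refine ⟨w F * (D.u x y)⁻¹, D.G.mul_mem D.w_mem (D.G.inv_mem (D.u_mem x y)), ?_⟩
    rw [mul_smul, inv_smul_eq_iff.2 (D.u_zero x y).symm, D.w_zero]

theorem Dat.exists_two [Finite F] {p q : Projectivization F (Fin 4 → F)} (hp : p ∈ D.ovoid)
    (hq : q ∈ D.ovoid) (hpq : p ≠ q) : ∃ g ∈ D.G, g • p = inf F ∧ g • q = D.pt 0 0 := by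
  obtain ⟨g1, hg1, e1⟩ := D.exists_to_inf hp
  rcases D.smul_mem hg1 hq with e | ⟨x, y, e⟩
  · exfalso
    rw [← e1] at e
    exact hpq (MulAction.injective g1 e).symm
  · refine ⟨(D.u x y)⁻¹ * g1, D.G.mul_mem (D.G.inv_mem (D.u_mem x y)) hg1, ?_, ?_⟩
    · rw [mul_smul, e1, inv_smul_eq_iff, D.u_inf]
    · rw [mul_smul, e, inv_smul_eq_iff, D.u_zero]

/-! ### Independence -/

theorem indep_smul (M : SpecialLinearGroup (Fin 4) F) {ι : Type*}
    {q : ι → Projectivization F (Fin 4 → F)} (h : Projectivization.Independent q) :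
    Projectivization.Independent (fun i => M • q i) := by
  obtain ⟨v, hv, hl⟩ := h
  have hker : LinearMap.ker (Matrix.mulVecLin M.1) = ⊥ := by
    rw [Matrix.ker_mulVecLin_eq_bot_iff]
    intro x hx
    exact Matrix.eq_zero_of_mulVec_eq_zero (by rw [M.2]; exact one_ne_zero) hx
  have hl' := hl.map' (Matrix.mulVecLin M.1) hker
  exact Projectivization.Independent.mk (fun i => M.1 *ᵥ v i)
    (fun i => (smul_ne_zero_iff_ne M).mpr (hv i)) hl'

theorem Dat.indep3 [Finite F] (p : Fin 3 → Projectivization F (Fin 4 → F))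
    (hp : ∀ i, p i ∈ D.ovoid) (hinj : Function.Injective p) : Projectivization.Independent p := by
  obtain ⟨g, hg, e0, e1⟩ := D.exists_two (hp 0) (hp 1) (fun h => by simpa using hinj h)
  have h2 : ∃ x y, g • p 2 = D.pt x y ∧ ¬ (x = 0 ∧ y = 0) := by
    rcases D.smul_mem hg (hp 2) with e | ⟨x, y, e⟩
    · exfalso
      rw [← e0] at e
      simpa using hinj (MulAction.injective g e)
    · refine ⟨x, y, e, ?_⟩
      rintro ⟨rfl, rfl⟩
      rw [← e1] at e
      simpa using hinj (MulAction.injective g e)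
  obtain ⟨x, y, e2, hxy⟩ := h2
  have hv : ∀ i : Fin 3, (![![1, 0, 0, 0], D.vec 0 0, D.vec x y] : Fin 3 → Fin 4 → F) i ≠ 0 := by
    intro i
    fin_cases i
    · exact e0_ne
    · exact D.vec_ne 0 0
    · exact D.vec_ne x y
  have hl : LinearIndependent F (![![1, 0, 0, 0], D.vec 0 0, D.vec x y] : Fin 3 → Fin 4 → F) := by
    rw [Fintype.linearIndependent_iff]
    intro c hc
    rw [Fin.sum_univ_three] at hc
    have c0 := congrFun hc 0
    have c1 := congrFun hc 1
    have c2 := congrFun hc 2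
    have c3 := congrFun hc 3
    simp [Dat.vec, D.f_zero] at c0 c1 c2 c3
    have h2' : c 2 = 0 := by
      by_contra hne
      rcases c1 with h | h
      · exact hne h
      · rcases c2 with h' | h'
        · exact hne h'
        · exact hxy ⟨h', h⟩
    rw [h2'] at c0 c3
    simp at c0 c3
    intro i
    fin_cases i
    · exact c0
    · exact c3
    · exact h2'
  have key : Projectivization.Independent (fun i => g • p i) := by
    have : (fun i => g • p i) = fun i : Fin 3 => Projectivization.mk F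
        ((![![1, 0, 0, 0], D.vec 0 0, D.vec x y] : Fin 3 → Fin 4 → F) i) (hv i) := by
      funext i
      fin_cases i
      · exact e0
      · exact e1
      · exact e2
    rw [this]
    exact Projectivization.Independent.mk _ hv hl
  have := indep_smul g⁻¹ key
  simpa using this

end Suz
end Cfsg.Agent.Lib.Helper4
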