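import Cfsg.Agent.Lib.Helper4.Suz1

set_option autoImplicit false

namespace Cfsg.Agent.Lib.Helper4
namespace Suz

open Matrix
open scoped Pointwise

variable {F : Type*} [Field F] (D : Dat F)

/-- Linear independence of the functions `x`, `x²`, `σ x`, `x² σ x`. -/
def Dat.Indep : Prop :=
  ∀ A B C E : F, (∀ x, A * x + B * x ^ 2 + C * D.σ x + E * (x ^ 2 * D.σ x) = 0) →
    A = 0 ∧ B = 0 ∧ C = 0 ∧ E = 0

theorem Dat.pow_four_eq_one (D : Dat F) {t : F} (ht : t ^ 4 = 1) : t = 1 := by
  have h2 := D.two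
  have h : (t - 1) ^ 4 = 0 := by
    linear_combination ht + (1 - 2 * t ^ 3 + 3 * t ^ 2 - 2 * t) * h2
  exact sub_eq_zero.1 (pow_eq_zero_iff (by norm_num) |>.1 h)

theorem Dat.stab2 [Finite F] (hI : D.Indep) {g : SpecialLinearGroup (Fin 4) F} (hg : g ∈ D.G)
    (h1 : g • inf F = inf F) (h2 : g • D.pt 0 0 = D.pt 0 0) : ∃ k : Fˣ, g = D.h k := by
  have h2F := D.two
  obtain ⟨c0, hc0⟩ := exists_of_smul_mk_eq g e0_ne e0_ne h1
  have m00 : g.1 0 0 = c0 := by
    have := congrFun hc0 0
    simpa [Matrix.mulVec, dotProduct, Fin.sum_univ_four] using this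
  have m10 : g.1 1 0 = 0 := by
    have := congrFun hc0 1
    simpa [Matrix.mulVec, dotProduct, Fin.sum_univ_four] using this
  have m20 : g.1 2 0 = 0 := by
    have := congrFun hc0 2
    simpa [Matrix.mulVec, dotProduct, Fin.sum_univ_four] using this
  have m30 : g.1 3 0 = 0 := by
    have := congrFun hc0 3
    simpa [Matrix.mulVec, dotProduct, Fin.sum_univ_four] using this
  obtain ⟨c3, hc3⟩ := exists_of_smul_mk_eq g (D.vec_ne 0 0) (D.vec_ne 0 0) h2
  have m03 : g.1 0 3 = 0 := by
    have := congrFun hc3 0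
    simpa [Matrix.mulVec, dotProduct, Fin.sum_univ_four, Dat.vec, D.f_zero] using this
  have m13 : g.1 1 3 = 0 := by
    have := congrFun hc3 1
    simpa [Matrix.mulVec, dotProduct, Fin.sum_univ_four, Dat.vec, D.f_zero] using this
  have m23 : g.1 2 3 = 0 := by
    have := congrFun hc3 2
    simpa [Matrix.mulVec, dotProduct, Fin.sum_univ_four, Dat.vec, D.f_zero] using this
  have m33 : g.1 3 3 = c3 := by
    have := congrFun hc3 3
    simpa [Matrix.mulVec, dotProduct, Fin.sum_univ_four, Dat.vec, D.f_zero] using this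
  have hδ : g.1 3 3 ≠ 0 := by
    rw [m33]
    exact c3.ne_zero
  have hco : ∀ x y, ∃ x' y' l : F, l ≠ 0 ∧
      g.1 3 1 * y + g.1 3 2 * x + g.1 3 3 = l ∧
      g.1 2 1 * y + g.1 2 2 * x = l * x' ∧
      g.1 1 1 * y + g.1 1 2 * x = l * y' ∧
      g.1 0 0 * D.f x y + g.1 0 1 * y + g.1 0 2 * x = l * D.f x' y' := by
    intro x y
    rcases D.smul_mem hg (D.pt_mem x y) with e | ⟨x', y', e⟩
    · exfalso
      rw [← h1] at e
      exact D.pt_ne_inf x y (MulAction.injective g e)
    · obtain ⟨l, hl⟩ := exists_of_smul_mk_eq g (D.vec_ne x y) (D.vec_ne x' y') e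
      refine ⟨x', y', l, l.ne_zero, ?_, ?_, ?_, ?_⟩
      · have := congrFun hl 3
        simp [Matrix.mulVec, dotProduct, Fin.sum_univ_four, Dat.vec, m30] at this
        linear_combination this
      · have := congrFun hl 2
        simp [Matrix.mulVec, dotProduct, Fin.sum_univ_four, Dat.vec, m20, m23] at this
        linear_combination this
      · have := congrFun hl 1
        simp [Matrix.mulVec, dotProduct, Fin.sum_univ_four, Dat.vec, m10, m13] at this
        linear_combination this
      · have := congrFun hl 0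
        simp [Matrix.mulVec, dotProduct, Fin.sum_univ_four, Dat.vec, m03] at this
        linear_combination this
  have m31 : g.1 3 1 = 0 := by
    by_contra hne
    obtain ⟨x', y', l, hl, e3, -, -, -⟩ := hco 0 (-(g.1 3 3) / g.1 3 1)
    apply hl
    rw [← e3]
    field_simp
    ring
  have m32 : g.1 3 2 = 0 := by
    by_contra hne
    obtain ⟨x', y', l, hl, e3, -, -, -⟩ := hco (-(g.1 3 3) / g.1 3 2) 0
    apply hl
    rw [← e3]
    field_simp
    ring
  have hfun : ∀ x y, g.1 0 0 * D.f x y + g.1 0 1 * y + g.1 0 2 * x =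
      g.1 3 3 * D.f (g.1 2 2 / g.1 3 3 * x + g.1 2 1 / g.1 3 3 * y)
        (g.1 1 2 / g.1 3 3 * x + g.1 1 1 / g.1 3 3 * y) := by
    intro x y
    obtain ⟨x', y', l, hl, e3, e2, e1, e0⟩ := hco x y
    rw [m31, m32] at e3
    simp only [zero_mul, zero_add] at e3
    subst e3
    have ex : g.1 2 2 / g.1 3 3 * x + g.1 2 1 / g.1 3 3 * y = x' := by
      field_simp
      linear_combination e2
    have ey : g.1 1 2 / g.1 3 3 * x + g.1 1 1 / g.1 3 3 * y = y' := by
      field_simp
      linear_combination e1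
    rw [ex, ey]
    exact e0
  generalize ha : g.1 2 2 / g.1 3 3 = a at hfun
  generalize hb : g.1 2 1 / g.1 3 3 = b at hfun
  generalize hc : g.1 1 2 / g.1 3 3 = c at hfun
  generalize hd : g.1 1 1 / g.1 3 3 = d at hfun
  -- the case `y = 0`
  obtain ⟨m02, -, hc1, e00⟩ := hI (g.1 0 2) (-(g.1 3 3 * a * c)) (-(g.1 3 3 * D.σ c))
    (g.1 0 0 - g.1 3 3 * a ^ 2 * D.σ a) (fun x => by
      have := hfun x 0
      simp only [Dat.f, mul_zero, add_zero, map_zero, map_mul, map_add, zero_add] at this
      linear_combination this)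
  have hc0' : c = 0 := by
    have : D.σ c = 0 := by
      rcases mul_eq_zero.1 (neg_eq_zero.1 hc1) with h | h
      · exact absurd h hδ
      · exact h
    exact (map_eq_zero D.σ).1 this
  -- the case `x = 0`
  obtain ⟨m01, -, e00', hb1⟩ := hI (g.1 0 1) (-(g.1 3 3 * b * d)) (g.1 0 0 - g.1 3 3 * D.σ d)
    (-(g.1 3 3 * b ^ 2 * D.σ b)) (fun y => by
      have := hfun 0 y
      simp only [Dat.f, mul_zero, add_zero, map_zero, map_mul, map_add, zero_add, zero_mul,
        ne_eq, OfNat.ofNat_ne_zero, not_false_eq_true, zero_pow] at this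
      linear_combination this)
  have hb0 : b = 0 := by
    rcases mul_eq_zero.1 (neg_eq_zero.1 hb1) with h | h
    · rcases mul_eq_zero.1 h with h' | h'
      · exact absurd h' hδ
      · exact pow_eq_zero_iff (by norm_num) |>.1 h'
    · exact (map_eq_zero D.σ).1 h
  subst hc0' hb0
  have e11 := hfun 1 1
  simp only [Dat.f, mul_one, one_pow, map_one, zero_mul, add_zero, zero_add, mul_zero,
    one_mul] at e11
  rw [m01, m02] at e11
  have hg00 : g.1 0 0 ≠ 0 := by
    rw [m00]
    exact c0.ne_zero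
  have e00a : g.1 0 0 = g.1 3 3 * a ^ 2 * D.σ a := by linear_combination e00
  have e00d : g.1 0 0 = g.1 3 3 * D.σ d := by linear_combination e00'
  have e00ad : g.1 0 0 = g.1 3 3 * a * d := by
    linear_combination e11 - e00a - e00d
  have ha0 : a ≠ 0 := by
    rintro rfl
    apply hg00
    rw [e00ad]
    ring
  have hda : d = a * D.σ a := by
    have : g.1 3 3 * a * d = g.1 3 3 * a * (a * D.σ a) := by
      rw [← e00ad, e00a]
      ring
    exact mul_left_cancel₀ (mul_ne_zero hδ ha0) this
  have m22 : g.1 2 2 = g.1 3 3 * a := by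
    rw [← ha]
    field_simp
  have m11 : g.1 1 1 = g.1 3 3 * d := by
    rw [← hd]
    field_simp
  have m21 : g.1 2 1 = 0 := by
    rcases div_eq_zero_iff.1 hb with h | h
    · exact h
    · exact absurd h hδ
  have m12 : g.1 1 2 = 0 := by
    rcases div_eq_zero_iff.1 hc with h | h
    · exact h
    · exact absurd h hδ
  have hdet : g.1 0 0 * g.1 1 1 * g.1 2 2 * g.1 3 3 = 1 := by
    have hd' := g.2
    rw [Matrix.det_of_isUpperTriangular, Fin.prod_univ_four] at hd'
    · exact hd'
    · intro i j hij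
      fin_cases i <;> fin_cases j <;>
        first
          | exact absurd hij (by decide)
          | exact m10
          | exact m20
          | exact m30
          | exact m21
          | exact m31
          | exact m32
  have hτa : D.τ a ≠ 0 := (map_ne_zero D.τ).2 ha0
  have hτ2 := D.hτ a
  have ht : g.1 3 3 * a * D.τ a = 1 := by
    apply D.pow_four_eq_one
    have hdet' := hdet
    rw [e00a, m11, m22, hda, ← hτ2] at hdet'
    linear_combination hdet'
  have f33 : g.1 3 3 = (a * D.τ a)⁻¹ := by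
    field_simp
    linear_combination ht
  refine ⟨Units.mk0 a ha0, ?_⟩
  apply Subtype.ext
  ext i j
  fin_cases i <;> fin_cases j
  · show g.1 0 0 = a * D.τ a
    rw [e00a, ← hτ2, f33]
    field_simp
  · exact m01
  · exact m02
  · exact m03
  · exact m10
  · show g.1 1 1 = D.τ a
    rw [m11, hda, ← hτ2, f33]
    field_simp
  · exact m12
  · exact m13
  · exact m20
  · exact m21
  · show g.1 2 2 = (D.τ a)⁻¹
    rw [m22, f33]
    field_simp
  · exact m23
  · exact m30
  · exact m31
  · exact m32
  · exact f33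

end Suz
end Cfsg.Agent.Lib.Helper4
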