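import Cfsg.Agent.Lib.Helper4.Suz3

set_option autoImplicit false

namespace Cfsg.Agent.Lib.Helper4
namespace Suz

open Matrix
open scoped Pointwise

variable {F : Type*} [Field F] (D : Dat F)

theorem Dat.stab2_equiv [Finite F] (hI : D.Indep) :
    Nonempty (↥(MulAction.stabilizer D.G (inf F) ⊓ MulAction.stabilizer D.G (D.pt 0 0)) ≃* Fˣ) := by
  let φ : Fˣ →* ↥(MulAction.stabilizer D.G (inf F) ⊓ MulAction.stabilizer D.G (D.pt 0 0)) :=
    MonoidHom.mk' (fun k => ⟨⟨D.h k, D.h_mem k⟩, Subgroup.mem_inf.2 ⟨D.h_inf k, D.h_zero k⟩⟩)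
      (fun k k' => Subtype.ext (Subtype.ext (D.h_mul k k')))
  have hbij : Function.Bijective φ := by
    constructor
    · intro k k' e
      exact D.h_inj (congrArg (fun x => (x.1.1 : SpecialLinearGroup (Fin 4) F)) e)
    · rintro ⟨⟨g, hg⟩, hmem⟩
      obtain ⟨h1, h2⟩ := Subgroup.mem_inf.1 hmem
      obtain ⟨k, rfl⟩ := D.stab2 hI hg h1 h2
      exact ⟨k, rfl⟩
  exact ⟨(MulEquiv.ofBijective φ hbij).symm⟩

/-! ### The invariant form -/

/-- The matrix preserves the alternating form. -/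
def IsForm (M : Matrix (Fin 4) (Fin 4) F) : Prop := M.transpose * wMat F * M = wMat F

theorem IsForm.mul {M N : Matrix (Fin 4) (Fin 4) F} (hM : IsForm M) (hN : IsForm N) :
    IsForm (M * N) := by
  unfold IsForm at *
  rw [Matrix.transpose_mul]
  calc N.transpose * M.transpose * wMat F * (M * N)
      = N.transpose * (M.transpose * wMat F * M) * N := by simp only [Matrix.mul_assoc]
    _ = wMat F := by rw [hM, hN]

theorem isForm_w : IsForm (wMat F) := by
  unfold IsForm
  ext i j
  fin_cases i <;> fin_cases j <;>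
    simp [wMat, Matrix.mul_apply, Fin.sum_univ_four, Matrix.transpose_apply]

theorem Dat.isForm_h (k : Fˣ) : IsForm (D.hMat k) := by
  have h1 := D.τ_ne k
  have h2 := k.ne_zero
  unfold IsForm
  ext i j
  fin_cases i <;> fin_cases j <;>
    simp [wMat, Dat.hMat, Matrix.mul_apply, Fin.sum_univ_four, Matrix.transpose_apply]
  all_goals field_simp

theorem Dat.isForm_u (a b : F) : IsForm (D.uMat a b) := by
  have h2 := D.two
  unfold IsForm
  ext i j
  fin_cases i <;> fin_cases j <;>
    simp [wMat, Dat.uMat, Matrix.mul_apply, Fin.sum_univ_four, Matrix.transpose_apply] <;>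
    (ring_nf; simp [h2])

theorem Dat.isForm_of_mem [Finite F] (hI : D.Indep) {g : SpecialLinearGroup (Fin 4) F}
    (hg : g ∈ D.G) : IsForm g.1 := by
  rcases D.cases hI hg with ⟨a, b, k, rfl⟩ | ⟨a, b, c, d, k, rfl⟩
  · exact (D.isForm_u a b).mul (D.isForm_h k)
  · exact (((D.isForm_u a b).mul isForm_w).mul (D.isForm_u c d)).mul (D.isForm_h k)

end Suz
end Cfsg.Agent.Lib.Helper4
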