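import Cfsg.Agent.Lib.Helper4.Suz4

set_option autoImplicit false

namespace Cfsg.Agent.Lib.Helper4
namespace Suz

open Matrix
open scoped Pointwise

variable {F : Type*} [Field F] (D : Dat F)

theorem Dat.h_one : D.h 1 = 1 := by
  have e := D.h_mul 1 1
  rw [mul_one] at e
  exact mul_eq_left.1 e.symm

theorem Dat.mul_sigma_eq_one {k : F} (h : k * D.σ k = 1) : k = 1 := by
  have h1 : D.σ (k * D.σ k) = 1 := by rw [h, map_one]
  rw [map_mul, D.hσ] at h1
  linear_combination h1 - k * h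

theorem Dat.faithful [Finite F] (hI : D.Indep) {g : SpecialLinearGroup (Fin 4) F} (hg : g ∈ D.G)
    (h : ∀ p ∈ D.ovoid, g • p = p) : g = 1 := by
  obtain ⟨k, rfl⟩ := D.stab2 hI hg (h _ D.inf_mem) (h _ (D.pt_mem 0 0))
  have e := h _ (D.pt_mem 1 0)
  rw [D.h_pt] at e
  obtain ⟨e1, -⟩ := D.pt_inj e
  have hk : k = 1 := Units.ext (by simpa using e1)
  rw [hk, D.h_one]

theorem Dat.eq_of_act [Finite F] (hI : D.Indep) {g g' : SpecialLinearGroup (Fin 4) F}
    (hg : g ∈ D.G) (hg' : g' ∈ D.G) (hinf : g • inf F = g' • inf F)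
    (h : ∀ x y, g • D.pt x y = g' • D.pt x y) : g = g' := by
  have e := D.faithful hI (D.G.mul_mem (D.G.inv_mem hg') hg) (by
    rintro p (rfl | ⟨x, y, rfl⟩)
    · rw [mul_smul, hinf, inv_smul_smul]
    · rw [mul_smul, h, inv_smul_smul])
  exact (inv_mul_eq_one.1 e).symm

theorem Dat.u_mul [Finite F] (hI : D.Indep) (a b c d : F) :
    D.u a b * D.u c d = D.u (a + c) (b + d + D.σ a * c) := by
  apply D.eq_of_act hI (D.G.mul_mem (D.u_mem a b) (D.u_mem c d)) (D.u_mem _ _)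
  · rw [mul_smul, D.u_inf, D.u_inf, D.u_inf]
  · intro x y
    rw [mul_smul, D.u_pt, D.u_pt, D.u_pt]
    congr 1
    · ring
    · simp only [map_add]
      ring

theorem Dat.u_zero_zero [Finite F] (hI : D.Indep) : D.u 0 0 = 1 := by
  have e := D.u_mul hI 0 0 0 0
  simp only [add_zero, map_zero, mul_zero] at e
  exact mul_eq_left.1 e

theorem Dat.u_inv [Finite F] (hI : D.Indep) (a b : F) :
    (D.u a b)⁻¹ = D.u a (b + a * D.σ a) := by
  apply inv_eq_of_mul_eq_one_right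
  rw [D.u_mul hI, ← D.u_zero_zero hI]
  congr 1
  · exact D.add_self a
  · have h2 := D.two
    linear_combination (b + a * D.σ a) * h2

theorem Dat.h_u [Finite F] (hI : D.Indep) (k : Fˣ) (a b : F) :
    D.h k * D.u a b = D.u ((k : F) * a) ((k : F) * D.σ k * b) * D.h k := by
  apply D.eq_of_act hI (D.G.mul_mem (D.h_mem k) (D.u_mem a b))
    (D.G.mul_mem (D.u_mem _ _) (D.h_mem k))
  · rw [mul_smul, mul_smul, D.u_inf, D.h_inf, D.u_inf]
  · intro x y
    rw [mul_smul, mul_smul, D.u_pt, D.h_pt, D.h_pt, D.u_pt]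
    congr 1
    · ring
    · simp only [map_mul]
      ring

theorem w_mul_w : w F * w F = 1 := by
  apply Subtype.ext
  show wMat F * wMat F = 1
  ext i j
  fin_cases i <;> fin_cases j <;>
    simp [wMat, Matrix.mul_apply, Fin.sum_univ_four]

theorem Dat.w_h (k : Fˣ) : w F * D.h k = D.h k⁻¹ * w F := by
  have h1 := D.τ_ne k
  have h2 := k.ne_zero
  apply Subtype.ext
  show wMat F * D.hMat k = D.hMat k⁻¹ * wMat F
  ext i j
  fin_cases i <;> fin_cases j <;>
    simp [wMat, Dat.hMat, Matrix.mul_apply, Fin.sum_univ_four, mul_comm]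

/-! ### Generalities on regular normal subgroups -/

/-- An involution fixing exactly one point inverts a normal subgroup acting freely. -/
theorem inverts_of_fpf {G : Type*} [Group G] {Ω : Type*} [MulAction G Ω] (N : Subgroup G)
    [N.Normal] [Finite N] (o : Ω) (hreg : MulAction.stabilizer N o = ⊥) (s : G)
    (hs2 : s * s = 1) (hso : s • o = o) (hfix : ∀ x : Ω, s • x = x → x = o) (n : G)
    (hn : n ∈ N) : s * n * s⁻¹ = n⁻¹ := by
  have hsinv : s⁻¹ = s := inv_eq_of_mul_eq_one_left hs2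
  have hinj : Function.Injective (fun m : N =>
      (⟨m.1⁻¹ * (s * m.1 * s⁻¹), N.mul_mem (N.inv_mem m.2)
        (Subgroup.Normal.conj_mem inferInstance m.1 m.2 s)⟩ : N)) := by
    intro m m' e
    have e' : m.1⁻¹ * (s * m.1 * s⁻¹) = m'.1⁻¹ * (s * m'.1 * s⁻¹) := congrArg Subtype.val e
    have e3 : m.1⁻¹ * s * m.1 = m'.1⁻¹ * s * m'.1 := by
      have e4 := congrArg (fun z => z * s) e'
      simp only [mul_assoc, inv_mul_cancel, mul_one] at e4
      simpa [mul_assoc] using e4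
    have hcomm : (m'.1 * m.1⁻¹) * s = s * (m'.1 * m.1⁻¹) := by
      calc (m'.1 * m.1⁻¹) * s = m'.1 * (m.1⁻¹ * s * m.1) * m.1⁻¹ := by group
        _ = m'.1 * (m'.1⁻¹ * s * m'.1) * m.1⁻¹ := by rw [e3]
        _ = s * (m'.1 * m.1⁻¹) := by group
    have hfx : s • ((m'.1 * m.1⁻¹) • o) = (m'.1 * m.1⁻¹) • o := by
      rw [← mul_smul, ← hcomm, mul_smul, hso]
    have ho := hfix _ hfx
    have hmem : (⟨m'.1 * m.1⁻¹, N.mul_mem m'.2 (N.inv_mem m.2)⟩ : N) ∈
        MulAction.stabilizer N o := ho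
    rw [hreg, Subgroup.mem_bot] at hmem
    have h1 : m'.1 * m.1⁻¹ = 1 := congrArg Subtype.val hmem
    exact Subtype.ext (mul_inv_eq_one.1 h1).symm
  obtain ⟨m, hm⟩ := (Finite.injective_iff_surjective.1 hinj) ⟨n, hn⟩
  have hm' : m.1⁻¹ * (s * m.1 * s⁻¹) = n := congrArg Subtype.val hm
  have key : s⁻¹ * s⁻¹ = 1 := by rw [hsinv, hs2]
  rw [← hm']
  calc s * (m.1⁻¹ * (s * m.1 * s⁻¹)) * s⁻¹ = s * m.1⁻¹ * s * m.1 * (s⁻¹ * s⁻¹) := by group
    _ = s * m.1⁻¹ * s * m.1 := by rw [key, mul_one]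
    _ = s * m.1⁻¹ * s⁻¹ * m.1 := by rw [hsinv]
    _ = (m.1⁻¹ * (s * m.1 * s⁻¹))⁻¹ := by group

/-- Two involutions, each fixing exactly one common point, whose product moves a point, exclude
a regular normal subgroup. -/
theorem no_regular_of_two {G : Type*} [Group G] {Ω : Type*} [MulAction G Ω] (N : Subgroup G)
    [N.Normal] [Finite N] (htr : MulAction.IsPretransitive N Ω) (o : Ω)
    (hreg : MulAction.stabilizer N o = ⊥) (s t : G) (hs2 : s * s = 1) (ht2 : t * t = 1)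
    (hso : s • o = o) (hto : t • o = o) (hfs : ∀ x : Ω, s • x = x → x = o)
    (hft : ∀ x : Ω, t • x = x → x = o) (x : Ω) (hx : (s * t) • x ≠ x) : False := by
  obtain ⟨n, hn⟩ := MulAction.exists_smul_eq N o x
  have h1 := inverts_of_fpf N o hreg s hs2 hso hfs n.1 n.2
  have h2 := inverts_of_fpf N o hreg t ht2 hto hft n.1 n.2
  have hcomm : (s * t) * n.1 = n.1 * (s * t) := by
    have h3 : s * (t * n.1 * t⁻¹) * s⁻¹ = n.1 := by
      rw [h2]
      have : s * n.1⁻¹ * s⁻¹ = (s * n.1 * s⁻¹)⁻¹ := by group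
      rw [this, h1, inv_inv]
    calc (s * t) * n.1 = (s * (t * n.1 * t⁻¹) * s⁻¹) * (s * t) := by group
      _ = n.1 * (s * t) := by rw [h3]
  apply hx
  have hn' : n.1 • o = x := hn
  rw [← hn', ← mul_smul, hcomm, mul_smul, mul_smul, hto, hso]

end Suz
end Cfsg.Agent.Lib.Helper4
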