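import Cfsg.Agent.Lib.Helper4.Suz5
import Cfsg.Prelude.Def_LieExceptional

set_option autoImplicit false

namespace Cfsg.Agent.Lib.Helper4
namespace Suz

open Matrix
open scoped Pointwise

variable {F : Type*} [Field F] (D : Dat F)

theorem Dat.u0_sq [Finite F] (hI : D.Indep) (b : F) : D.u 0 b * D.u 0 b = 1 := by
  rw [D.u_mul hI, ← D.u_zero_zero hI]
  congr 1
  · simp
  · simp [D.add_self]

theorem Dat.u0_fix {b : F} (hb : b ≠ 0) {p : Projectivization F (Fin 4 → F)} (hp : p ∈ D.ovoid)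
    (h : D.u 0 b • p = p) : p = inf F := by
  rcases hp with rfl | ⟨x, y, rfl⟩
  · rfl
  · exfalso
    rw [D.u_pt] at h
    obtain ⟨-, e⟩ := D.pt_inj h
    simp at e
    exact hb e

theorem Dat.zassenhaus [Finite F] (hI : D.Indep) (k0 : F) (hk0 : k0 ≠ 0) (hk1 : k0 ≠ 1) :
    Cfsg.IsZassenhausGroup (MulAction.stabilizer (SpecialLinearGroup (Fin 4) F) D.ovoid)
      D.ovoid := by
  have hmem : ∀ g : MulAction.stabilizer (SpecialLinearGroup (Fin 4) F) D.ovoid, g.1 ∈ D.G :=
    fun g => g.2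
  refine ⟨⟨?_⟩, ?_, ?_, ?_, ?_⟩
  · -- faithful
    intro g g' h
    apply Subtype.ext
    apply D.eq_of_act hI (hmem g) (hmem g')
    · exact congrArg Subtype.val (h ⟨inf F, D.inf_mem⟩)
    · intro x y
      exact congrArg Subtype.val (h ⟨D.pt x y, D.pt_mem x y⟩)
  · -- doubly transitive
    rw [MulAction.is_two_pretransitive_iff]
    intro a b c d hab hcd
    obtain ⟨g1, hg1, e1, e1'⟩ := D.exists_two a.2 b.2 (fun h => hab (Subtype.ext h))
    obtain ⟨g2, hg2, e2, e2'⟩ := D.exists_two c.2 d.2 (fun h => hcd (Subtype.ext h))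
    refine ⟨⟨g2⁻¹ * g1, D.G.mul_mem (D.G.inv_mem hg2) hg1⟩, Subtype.ext ?_, Subtype.ext ?_⟩
    · show (g2⁻¹ * g1) • a.1 = c.1
      rw [mul_smul, e1, inv_smul_eq_iff, e2]
    · show (g2⁻¹ * g1) • b.1 = d.1
      rw [mul_smul, e1', inv_smul_eq_iff, e2']
  · -- three fixed points
    intro g a b c hab hbc hac ha hb hc
    obtain ⟨t, ht, e1, e2⟩ := D.exists_two a.2 b.2 (fun h => hab (Subtype.ext h))
    have ha' : g.1 • a.1 = a.1 := congrArg Subtype.val ha
    have hb' : g.1 • b.1 = b.1 := congrArg Subtype.val hb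
    have hc' : g.1 • c.1 = c.1 := congrArg Subtype.val hc
    obtain ⟨k, hk⟩ := D.stab2 hI (g := t * g.1 * t⁻¹)
      (D.G.mul_mem (D.G.mul_mem ht (hmem g)) (D.G.inv_mem ht))
      (by rw [mul_smul, mul_smul, ← e1, inv_smul_smul, ha'])
      (by rw [mul_smul, mul_smul, ← e2, inv_smul_smul, hb'])
    have hk1' : k = 1 := by
      rcases D.smul_mem ht c.2 with e | ⟨x, y, e⟩
      · exfalso
        rw [← e1] at e
        exact hac (Subtype.ext (MulAction.injective t e)).symm
      · have hxy : ¬ (x = 0 ∧ y = 0) := by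
          rintro ⟨rfl, rfl⟩
          rw [← e2] at e
          exact hbc (Subtype.ext (MulAction.injective t e)).symm
        have e3 : D.h k • D.pt x y = D.pt x y := by
          rw [← hk, ← e, mul_smul, mul_smul, inv_smul_smul, hc']
        rw [D.h_pt] at e3
        obtain ⟨ex, ey⟩ := D.pt_inj e3
        by_cases hx : x = 0
        · have hy : y ≠ 0 := fun hy => hxy ⟨hx, hy⟩
          have h1 : (k : F) * D.σ k = 1 := mul_right_cancel₀ hy (by rw [one_mul]; exact ey)
          exact Units.ext (D.mul_sigma_eq_one h1)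
        · exact Units.ext (mul_right_cancel₀ hx (by rw [Units.val_one, one_mul]; exact ex))
    rw [hk1', D.h_one] at hk
    apply Subtype.ext
    have e4 : g.1 = t⁻¹ * (t * g.1 * t⁻¹) * t := by group
    rw [e4, hk]
    show t⁻¹ * 1 * t = 1
    group
  · -- an element with two fixed points
    refine ⟨⟨D.h (Units.mk0 k0 hk0), D.h_mem _⟩, ?_, ⟨inf F, D.inf_mem⟩,
      ⟨D.pt 0 0, D.pt_mem 0 0⟩, ?_, Subtype.ext (D.h_inf _), Subtype.ext (D.h_zero _)⟩
    · intro h
      have h' : D.h (Units.mk0 k0 hk0) = 1 := congrArg Subtype.val h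
      rw [← D.h_one] at h'
      exact hk1 (congrArg Units.val (D.h_inj h'))
    · intro h
      exact D.pt_ne_inf 0 0 (congrArg Subtype.val h).symm
  · -- no regular normal subgroup
    intro N hN htr
    by_contra hcon
    push Not at hcon
    have hk01 : k0 + 1 ≠ 0 := by
      intro h
      apply hk1
      have h2 := D.two
      linear_combination h - h2
    refine no_regular_of_two N htr (⟨inf F, D.inf_mem⟩ : D.ovoid)
      (hcon ⟨inf F, D.inf_mem⟩) ⟨D.u 0 1, D.u_mem 0 1⟩ ⟨D.u 0 k0, D.u_mem 0 k0⟩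
      (Subtype.ext (D.u0_sq hI 1)) (Subtype.ext (D.u0_sq hI k0))
      (Subtype.ext (D.u_inf 0 1)) (Subtype.ext (D.u_inf 0 k0)) ?_ ?_
      ⟨D.pt 0 0, D.pt_mem 0 0⟩ ?_
    · intro x hx
      exact Subtype.ext (D.u0_fix one_ne_zero x.2 (congrArg Subtype.val hx))
    · intro x hx
      exact Subtype.ext (D.u0_fix hk0 x.2 (congrArg Subtype.val hx))
    · intro h
      have h' : (D.u 0 1 * D.u 0 k0) • D.pt 0 0 = D.pt 0 0 := congrArg Subtype.val h
      rw [mul_smul, D.u_pt, D.u_pt] at h'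
      obtain ⟨-, e⟩ := D.pt_inj h'
      simp at e
      exact hk01 e

end Suz
end Cfsg.Agent.Lib.Helper4
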