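import Cfsg.Agent.Lib.Helper4.Suz6

set_option autoImplicit false

namespace Cfsg.Agent.Lib.Helper4
namespace Suz

open Matrix
open scoped Pointwise
open scoped commutatorElement

/-- A perfect group which is the product of every non-trivial normal subgroup with a fixed
solvable subgroup is simple. -/
theorem simple_of_perfect_solvable {A : Type*} [Group A] (S B : Subgroup A) (hBS : B ≤ S)
    [Group.IsSolvable B] (hnt : ∃ x ∈ S, x ≠ 1) (hperf : commutator S = ⊤)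
    (hfac : ∀ N : Subgroup S, N.Normal → N ≠ ⊥ → ∀ g : S, ∃ n ∈ N, (n⁻¹ * g : S).1 ∈ B) :
    IsSimpleGroup S := by
  have hnon : Nontrivial S := by
    obtain ⟨x, hx, hx1⟩ := hnt
    exact ⟨⟨⟨x, hx⟩, 1, fun h => hx1 (congrArg Subtype.val h)⟩⟩
  refine { toNontrivial := hnon, eq_bot_or_eq_top_of_normal := fun N hN => ?_ }
  by_cases hN0 : N = ⊥
  · exact Or.inl hN0
  right
  have hf : Function.Surjective ((QuotientGroup.mk' N).comp (Subgroup.inclusion hBS)) := by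
    intro q
    obtain ⟨g, rfl⟩ := QuotientGroup.mk_surjective q
    obtain ⟨n, hn, hb⟩ := hfac N hN hN0 g
    refine ⟨⟨(n⁻¹ * g : S).1, hb⟩, ?_⟩
    show (QuotientGroup.mk (n⁻¹ * g) : S ⧸ N) = QuotientGroup.mk g
    rw [QuotientGroup.eq]
    have e : (n⁻¹ * g)⁻¹ * g = g⁻¹ * n * g⁻¹⁻¹ := by group
    rw [e]
    exact hN.conj_mem n hn g⁻¹
  have hsolv : Group.IsSolvable (S ⧸ N) := Group.isSolvable_of_surjective hf
  have hrange : Subgroup.map (QuotientGroup.mk' N) ⊤ = ⊤ := by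
    rw [← MonoidHom.range_eq_map]
    exact MonoidHom.range_eq_top.2 (QuotientGroup.mk'_surjective N)
  have hperfQ : commutator (S ⧸ N) = ⊤ := by
    have h1 : Subgroup.map (QuotientGroup.mk' N) (commutator S) = commutator (S ⧸ N) := by
      rw [commutator_def, commutator_def, Subgroup.map_commutator, hrange]
    rw [← h1, hperf, hrange]
  by_contra hne
  have hnt' : Nontrivial (S ⧸ N) := by
    rw [← not_subsingleton_iff_nontrivial]
    exact fun hs => hne (QuotientGroup.subgroup_eq_top_of_subsingleton N hs)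
  exact (Group.IsSolvable.commutator_lt_top_of_nontrivial (S ⧸ N)).ne hperfQ

variable {F : Type*} [Field F] (D : Dat F)

theorem Dat.exists_sq (D : Dat F) [Finite F] (x : F) : ∃ y, y ^ 2 = x := by
  have hs : Function.Surjective D.σ := Finite.injective_iff_surjective.1 D.σ.injective
  obtain ⟨y1, rfl⟩ := hs x
  obtain ⟨y, rfl⟩ := hs y1
  exact ⟨y, (D.hσ y).symm⟩

theorem Dat.h_inv (k : Fˣ) : (D.h k)⁻¹ = D.h k⁻¹ := by
  apply inv_eq_of_mul_eq_one_right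
  rw [← D.h_mul, mul_inv_cancel, D.h_one]

/-- The image in the matrix group of the commutator subgroup. -/
def Dat.C : Subgroup (SpecialLinearGroup (Fin 4) F) := (commutator D.G).map D.G.subtype

theorem Dat.comm_mem_C {x y : SpecialLinearGroup (Fin 4) F} (hx : x ∈ D.G) (hy : y ∈ D.G) :
    x * y * x⁻¹ * y⁻¹ ∈ D.C := by
  refine ⟨⁅(⟨x, hx⟩ : D.G), ⟨y, hy⟩⁆, ?_, rfl⟩
  rw [commutator_def]
  exact Subgroup.commutator_mem_commutator (Subgroup.mem_top _) (Subgroup.mem_top _)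

theorem Dat.h_mem_C [Finite F] (k : Fˣ) : D.h k ∈ D.C := by
  obtain ⟨y, hy⟩ := D.exists_sq ((k⁻¹ : Fˣ) : F)
  have hy0 : y ≠ 0 := by
    rintro rfl
    have h0 := (k⁻¹ : Fˣ).ne_zero
    apply h0
    rw [← hy]
    simp
  have hjj : Units.mk0 y hy0 * Units.mk0 y hy0 = k⁻¹ := by
    apply Units.ext
    rw [Units.val_mul, Units.val_mk0, ← hy, pow_two]
  have hj : (Units.mk0 y hy0)⁻¹ * (Units.mk0 y hy0)⁻¹ = k := by
    rw [← mul_inv, hjj, inv_inv]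
  have e : w F * D.h (Units.mk0 y hy0) * (w F)⁻¹ * (D.h (Units.mk0 y hy0))⁻¹ = D.h k := by
    rw [D.w_h, mul_assoc (D.h (Units.mk0 y hy0)⁻¹), mul_inv_cancel, mul_one, D.h_inv, ← D.h_mul,
      hj]
  rw [← e]
  exact D.comm_mem_C D.w_mem (D.h_mem _)

theorem Dat.comm_h_u [Finite F] (hI : D.Indep) (k : Fˣ) (c d : F) :
    D.h k * D.u c d * (D.h k)⁻¹ * (D.u c d)⁻¹ =
      D.u ((k : F) * c + c)
        ((k : F) * D.σ k * d + (d + c * D.σ c) + D.σ ((k : F) * c) * c) := by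
  rw [D.h_u hI, mul_assoc (D.u _ _), mul_inv_cancel, mul_one, D.u_inv hI, D.u_mul hI]

theorem Dat.u0_mem_C [Finite F] (hI : D.Indep) (k0 : F) (hk0 : k0 ≠ 0) (hk1 : k0 ≠ 1) (e : F) :
    D.u 0 e ∈ D.C := by
  have hne : k0 * D.σ k0 + 1 ≠ 0 := by
    intro h
    apply hk1
    apply D.mul_sigma_eq_one
    have h2 := D.two
    linear_combination h - h2
  have key := D.comm_h_u hI (Units.mk0 k0 hk0) 0 (e / (k0 * D.σ k0 + 1))
  have e1 : D.u 0 e = D.h (Units.mk0 k0 hk0) * D.u 0 (e / (k0 * D.σ k0 + 1)) *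
      (D.h (Units.mk0 k0 hk0))⁻¹ * (D.u 0 (e / (k0 * D.σ k0 + 1)))⁻¹ := by
    rw [key]
    congr 1
    · simp
    · simp only [Units.val_mk0, mul_zero, map_zero, add_zero]
      field_simp
  rw [e1]
  exact D.comm_mem_C (D.h_mem _) (D.u_mem _ _)

theorem Dat.u_mem_C [Finite F] (hI : D.Indep) (k0 : F) (hk0 : k0 ≠ 0) (hk1 : k0 ≠ 1) (a b : F) :
    D.u a b ∈ D.C := by
  have hne : k0 + 1 ≠ 0 := by
    intro h
    apply hk1
    have h2 := D.two
    linear_combination h - h2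
  have key := D.comm_h_u hI (Units.mk0 k0 hk0) (a / (k0 + 1)) 0
  have e1 : ((Units.mk0 k0 hk0 : Fˣ) : F) * (a / (k0 + 1)) + a / (k0 + 1) = a := by
    rw [Units.val_mk0]
    field_simp
  rw [e1] at key
  obtain ⟨b0, hb0⟩ : ∃ b0, D.h (Units.mk0 k0 hk0) * D.u (a / (k0 + 1)) 0 *
      (D.h (Units.mk0 k0 hk0))⁻¹ * (D.u (a / (k0 + 1)) 0)⁻¹ = D.u a b0 := ⟨_, key⟩
  have h1 : D.u a b0 ∈ D.C := by
    rw [← hb0]
    exact D.comm_mem_C (D.h_mem _) (D.u_mem _ _)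
  have h2 := D.C.mul_mem h1 (D.u0_mem_C hI k0 hk0 hk1 (b - b0))
  rw [D.u_mul hI] at h2
  have e2 : D.u a b = D.u (a + 0) (b0 + (b - b0) + D.σ a * 0) := by
    congr 1 <;> ring
  rw [e2]
  exact h2

theorem Dat.w_mem_C [Finite F] (hI : D.Indep) (k0 : F) (hk0 : k0 ≠ 0) (hk1 : k0 ≠ 1) :
    w F ∈ D.C := by
  have hg : w F * D.u 1 0 * (w F)⁻¹ ∈ D.C := by
    have e : w F * D.u 1 0 * (w F)⁻¹ =
        (w F * D.u 1 0 * (w F)⁻¹ * (D.u 1 0)⁻¹) * D.u 1 0 := by group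
    rw [e]
    exact D.C.mul_mem (D.comm_mem_C D.w_mem (D.u_mem 1 0)) (D.u_mem_C hI k0 hk0 hk1 1 0)
  have hgG : w F * D.u 1 0 * (w F)⁻¹ ∈ D.G :=
    D.G.mul_mem (D.G.mul_mem D.w_mem (D.u_mem 1 0)) (D.G.inv_mem D.w_mem)
  have hinfne : (w F * D.u 1 0 * (w F)⁻¹) • inf F ≠ inf F := by
    have hwinv : (w F)⁻¹ = w F := inv_eq_of_mul_eq_one_left w_mul_w
    have hf : D.f 1 0 ≠ 0 := by simp [Dat.f]
    rw [hwinv, mul_smul, mul_smul, D.w_inf, D.u_zero, D.w_pt 1 0 hf]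
    exact D.pt_ne_inf _ _
  rcases D.cases hI hgG with ⟨a, b, k, e⟩ | ⟨a, b, c, d, k, e⟩
  · exfalso
    apply hinfne
    rw [e, D.uh_inf]
  · have e' : w F = (D.u a b)⁻¹ * (w F * D.u 1 0 * (w F)⁻¹) * (D.h k)⁻¹ * (D.u c d)⁻¹ := by
      rw [e]
      group
    rw [e']
    exact D.C.mul_mem (D.C.mul_mem (D.C.mul_mem (D.C.inv_mem (D.u_mem_C hI k0 hk0 hk1 a b)) hg)
      (D.C.inv_mem (D.h_mem_C k))) (D.C.inv_mem (D.u_mem_C hI k0 hk0 hk1 c d))

theorem Dat.perfect [Finite F] (hI : D.Indep) (k0 : F) (hk0 : k0 ≠ 0) (hk1 : k0 ≠ 1) :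
    commutator D.G = ⊤ := by
  rw [eq_top_iff]
  intro x _
  have hx : x.1 ∈ D.C := by
    rcases D.cases hI x.2 with ⟨a, b, k, e⟩ | ⟨a, b, c, d, k, e⟩
    · rw [e]
      exact D.C.mul_mem (D.u_mem_C hI k0 hk0 hk1 a b) (D.h_mem_C k)
    · rw [e]
      exact D.C.mul_mem (D.C.mul_mem (D.C.mul_mem (D.u_mem_C hI k0 hk0 hk1 a b)
        (D.w_mem_C hI k0 hk0 hk1)) (D.u_mem_C hI k0 hk0 hk1 c d)) (D.h_mem_C k)
  obtain ⟨y, hy, e⟩ := hx
  have hyx : y = x := Subtype.ext e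
  rw [← hyx]
  exact hy

end Suz
end Cfsg.Agent.Lib.Helper4
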