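import Cfsg.Agent.Lib.Helper4.Suz7

set_option autoImplicit false

namespace Cfsg.Agent.Lib.Helper4
namespace Suz

open Matrix
open scoped Pointwise

variable {F : Type*} [Field F] (D : Dat F)

/-- The stabiliser of the point at infinity. -/
def Dat.B : Subgroup (SpecialLinearGroup (Fin 4) F) :=
  D.G ⊓ MulAction.stabilizer (SpecialLinearGroup (Fin 4) F) (inf F)

theorem Dat.mem_B [Finite F] (hI : D.Indep) {g : SpecialLinearGroup (Fin 4) F} :
    g ∈ D.B ↔ ∃ a b k, g = D.u a b * D.h k := by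
  constructor
  · intro hg
    obtain ⟨h1, h2⟩ := Subgroup.mem_inf.1 hg
    exact D.stab_inf hI h1 h2
  · rintro ⟨a, b, k, rfl⟩
    exact Subgroup.mem_inf.2 ⟨D.uh_mem a b k, D.uh_inf a b k⟩

theorem Dat.uh_row3 (a b : F) (k : Fˣ) :
    (D.u a b * D.h k).1 3 0 = 0 ∧ (D.u a b * D.h k).1 3 1 = 0 ∧ (D.u a b * D.h k).1 3 2 = 0 ∧
      (D.u a b * D.h k).1 3 3 = ((k : F) * D.τ k)⁻¹ := by
  refine ⟨?_, ?_, ?_, ?_⟩
  · show (D.uMat a b * D.hMat k) 3 0 = _
    simp [Dat.uMat, Dat.hMat, Matrix.mul_apply, Fin.sum_univ_four]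
  · show (D.uMat a b * D.hMat k) 3 1 = _
    simp [Dat.uMat, Dat.hMat, Matrix.mul_apply, Fin.sum_univ_four]
  · show (D.uMat a b * D.hMat k) 3 2 = _
    simp [Dat.uMat, Dat.hMat, Matrix.mul_apply, Fin.sum_univ_four]
  · show (D.uMat a b * D.hMat k) 3 3 = _
    simp [Dat.uMat, Dat.hMat, Matrix.mul_apply, Fin.sum_univ_four]

/-- The eigenvalue character of the point stabiliser. -/
def Dat.chi [Finite F] (hI : D.Indep) : D.B →* F where
  toFun g := g.1.1 3 3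
  map_one' := by simp
  map_mul' g g' := by
    obtain ⟨a, b, k, e⟩ := (D.mem_B hI).1 g.2
    show (g.1.1 * g'.1.1) 3 3 = g.1.1 3 3 * g'.1.1 3 3
    rw [Matrix.mul_apply, Fin.sum_univ_four]
    obtain ⟨r0, r1, r2, -⟩ := D.uh_row3 a b k
    rw [← e] at r0 r1 r2
    rw [r0, r1, r2]
    ring

theorem Dat.sq_eq_one (D : Dat F) {x : F} (h : x ^ 2 = 1) : x = 1 := by
  have h2 := D.two
  have h' : (x - 1) ^ 2 = 0 := by linear_combination h + (1 - x) * h2
  exact sub_eq_zero.1 (pow_eq_zero_iff (by norm_num) |>.1 h')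

theorem Dat.mul_tau_eq_one {k : F} (h : k * D.τ k = 1) : k = 1 := by
  have h1 : k ^ 2 * D.σ k = 1 := by
    rw [← D.hτ]
    linear_combination (k * D.τ k + 1) * h
  have h2 : D.σ (k ^ 2 * D.σ k) = 1 := by rw [h1, map_one]
  rw [map_mul, map_pow, D.hσ] at h2
  apply D.mul_sigma_eq_one
  apply D.sq_eq_one
  linear_combination h2

theorem Dat.u_pow_four [Finite F] (hI : D.Indep) (a b : F) : D.u a b ^ 4 = 1 := by
  have h2 : D.u a b ^ 2 = D.u 0 (D.σ a * a) := by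
    rw [pow_two, D.u_mul hI]
    congr 1
    · exact D.add_self a
    · rw [D.add_self b, zero_add]
  calc D.u a b ^ 4 = (D.u a b ^ 2) ^ 2 := by rw [← pow_mul]
    _ = 1 := by rw [h2, pow_two, D.u0_sq hI]

theorem Dat.B_solvable [Finite F] (hI : D.Indep) : Group.IsSolvable D.B := by
  have hker : ∀ x : (D.chi hI).toHomUnits.ker, ∃ a b, x.1.1 = D.u a b := by
    intro x
    obtain ⟨a, b, k, e⟩ := (D.mem_B hI).1 x.1.2
    have h1 : (D.chi hI).toHomUnits x.1 = 1 := x.2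
    have h2 : (D.chi hI) x.1 = 1 := by
      have := congrArg Units.val h1
      rwa [MonoidHom.coe_toHomUnits] at this
    have h3 : x.1.1.1 3 3 = 1 := h2
    rw [e, (D.uh_row3 a b k).2.2.2] at h3
    have hk : k = 1 := by
      apply Units.ext
      apply D.mul_tau_eq_one
      exact inv_eq_one.1 h3
    refine ⟨a, b, ?_⟩
    rw [e, hk, D.h_one, mul_one]
  have hp : IsPGroup 2 (D.chi hI).toHomUnits.ker := by
    intro x
    refine ⟨2, ?_⟩
    obtain ⟨a, b, e⟩ := hker x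
    apply Subtype.ext
    apply Subtype.ext
    show x.1.1 ^ 2 ^ 2 = 1
    rw [e]
    exact D.u_pow_four hI a b
  have hnil : Group.IsNilpotent (D.chi hI).toHomUnits.ker := hp.isNilpotent
  exact Group.isSolvable_of_ker_le_range (D.chi hI).toHomUnits.ker.subtype (D.chi hI).toHomUnits
    (by rw [Subgroup.range_subtype])

theorem Dat.exists_map2 [Finite F] {p q p' q' : Projectivization F (Fin 4 → F)}
    (hp : p ∈ D.ovoid) (hq : q ∈ D.ovoid) (hp' : p' ∈ D.ovoid) (hq' : q' ∈ D.ovoid)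
    (hpq : p ≠ q) (hpq' : p' ≠ q') : ∃ g ∈ D.G, g • p = p' ∧ g • q = q' := by
  obtain ⟨g1, hg1, e1, e1'⟩ := D.exists_two hp hq hpq
  obtain ⟨g2, hg2, e2, e2'⟩ := D.exists_two hp' hq' hpq'
  refine ⟨g2⁻¹ * g1, D.G.mul_mem (D.G.inv_mem hg2) hg1, ?_, ?_⟩
  · rw [mul_smul, e1, inv_smul_eq_iff, e2]
  · rw [mul_smul, e1', inv_smul_eq_iff, e2']

theorem Dat.fac [Finite F] (hI : D.Indep) (N : Subgroup D.G) (hN : N.Normal) (hN0 : N ≠ ⊥)
    (g : D.G) : ∃ n ∈ N, (n⁻¹ * g : D.G).1 ∈ D.B := by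
  by_cases hg : g.1 • inf F = inf F
  · exact ⟨1, N.one_mem, by
      rw [inv_one, one_mul]
      exact Subgroup.mem_inf.2 ⟨g.2, hg⟩⟩
  · obtain ⟨n0, hne⟩ := Subgroup.ne_bot_iff_exists_ne_one.1 hN0
    have hex : ∃ p ∈ D.ovoid, n0.1.1 • p ≠ p := by
      by_contra hcon
      push Not at hcon
      exact hne (Subtype.ext (Subtype.ext (D.faithful hI n0.1.2 hcon)))
    obtain ⟨p, hp, hpne⟩ := hex
    obtain ⟨t, ht, e1, e2⟩ := D.exists_map2 hp (D.smul_mem n0.1.2 hp) D.inf_mem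
      (D.smul_mem g.2 D.inf_mem) (Ne.symm hpne) (Ne.symm hg)
    refine ⟨(⟨t, ht⟩ : D.G) * n0.1 * (⟨t, ht⟩ : D.G)⁻¹, hN.conj_mem n0.1 n0.2 _, ?_⟩
    refine Subgroup.mem_inf.2 ⟨(_ : D.G).2, ?_⟩
    rw [MulAction.mem_stabilizer_iff]
    show ((t * n0.1.1 * t⁻¹)⁻¹ * g.1) • inf F = inf F
    rw [mul_smul, inv_smul_eq_iff, mul_smul, mul_smul, ← e1, inv_smul_smul, e2, e1]

theorem Dat.simple [Finite F] (hI : D.Indep) (k0 : F) (hk0 : k0 ≠ 0) (hk1 : k0 ≠ 1) :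
    IsSimpleGroup D.G := by
  have := D.B_solvable hI
  refine simple_of_perfect_solvable D.G D.B inf_le_left
    ⟨D.h (Units.mk0 k0 hk0), D.h_mem _, ?_⟩ (D.perfect hI k0 hk0 hk1) (D.fac hI)
  intro h
  rw [← D.h_one] at h
  exact hk1 (congrArg Units.val (D.h_inj h))

end Suz
end Cfsg.Agent.Lib.Helper4
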