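import Cfsg.Agent.Lib.Helper4.Suz8

set_option autoImplicit false

namespace Cfsg.Agent.Lib.Helper4
namespace Suz

open Matrix
open scoped Pointwise
open scoped commutatorElement

variable {F : Type*} [Field F] (D : Dat F)

/-- The unipotent subgroup. -/
def Dat.U [Finite F] (hI : D.Indep) : Subgroup (SpecialLinearGroup (Fin 4) F) where
  carrier := {g | ∃ a b, g = D.u a b}
  mul_mem' := by
    rintro _ _ ⟨a, b, rfl⟩ ⟨c, d, rfl⟩
    exact ⟨_, _, D.u_mul hI a b c d⟩
  one_mem' := ⟨0, 0, (D.u_zero_zero hI).symm⟩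
  inv_mem' := by
    rintro _ ⟨a, b, rfl⟩
    exact ⟨_, _, D.u_inv hI a b⟩

theorem Dat.u_inj {a b a' b' : F} (h : D.u a b = D.u a' b') : a = a' ∧ b = b' := by
  have e := congrArg (fun g => g • D.pt 0 0) h
  simp only [D.u_zero] at e
  exact D.pt_inj e

theorem Dat.U_le_G [Finite F] (hI : D.Indep) : D.U hI ≤ D.G := by
  rintro _ ⟨a, b, rfl⟩
  exact D.u_mem a b

theorem Dat.card_U [Fintype F] (hI : D.Indep) : Nat.card (D.U hI) = Fintype.card F ^ 2 := by
  have hbij : Function.Bijective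
      (fun p : F × F => (⟨D.u p.1 p.2, ⟨p.1, p.2, rfl⟩⟩ : D.U hI)) := by
    constructor
    · rintro ⟨a, b⟩ ⟨a', b'⟩ e
      obtain ⟨rfl, rfl⟩ := D.u_inj (congrArg Subtype.val e)
      rfl
    · rintro ⟨_, a, b, rfl⟩
      exact ⟨(a, b), rfl⟩
  rw [← Nat.card_congr (Equiv.ofBijective _ hbij), Nat.card_prod, Nat.card_eq_fintype_card]
  ring

theorem Dat.exponent_U [Finite F] (hI : D.Indep) : Monoid.exponent (D.U hI) = 4 := by
  apply Nat.dvd_antisymm
  · rw [Monoid.exponent_dvd_iff_forall_pow_eq_one]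
    rintro ⟨_, a, b, rfl⟩
    apply Subtype.ext
    exact D.u_pow_four hI a b
  · have ho : orderOf (⟨D.u 1 0, ⟨1, 0, rfl⟩⟩ : D.U hI) = 2 ^ (1 + 1) := by
      apply orderOf_eq_prime_pow
      · intro h
        have h' : D.u 1 0 ^ 2 ^ 1 = 1 := congrArg Subtype.val h
        rw [pow_one, pow_two, D.u_mul hI, ← D.u_zero_zero hI] at h'
        obtain ⟨-, e⟩ := D.u_inj h'
        simp at e
      · apply Subtype.ext
        exact D.u_pow_four hI 1 0
    have hdvd := Monoid.order_dvd_exponent (⟨D.u 1 0, ⟨1, 0, rfl⟩⟩ : D.U hI)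
    rw [ho] at hdvd
    exact hdvd

theorem Dat.mem_center_U [Finite F] (hI : D.Indep) (k0 : F) (hk0 : k0 ≠ 0) (hk1 : k0 ≠ 1)
    (x : D.U hI) : x ∈ Subgroup.center (D.U hI) ↔ ∃ b, x.1 = D.u 0 b := by
  obtain ⟨_, a, b, rfl⟩ := x
  rw [Subgroup.mem_center_iff]
  constructor
  · intro h
    have h1 := h ⟨D.u 1 0, ⟨1, 0, rfl⟩⟩
    have h1' : D.u 1 0 * D.u a b = D.u a b * D.u 1 0 := congrArg Subtype.val h1
    rw [D.u_mul hI, D.u_mul hI] at h1'
    obtain ⟨-, e1⟩ := D.u_inj h1'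
    have hk := h ⟨D.u k0 0, ⟨k0, 0, rfl⟩⟩
    have hk' : D.u k0 0 * D.u a b = D.u a b * D.u k0 0 := congrArg Subtype.val hk
    rw [D.u_mul hI, D.u_mul hI] at hk'
    obtain ⟨-, e2⟩ := D.u_inj hk'
    simp only [map_one, zero_add, add_zero, one_mul, mul_one] at e1 e2
    have e1' : D.σ a = a := by linear_combination -e1
    have ha : a = 0 := by
      by_contra ha
      have e3 : D.σ k0 = k0 := by
        have e4 : D.σ k0 * a = k0 * a := by linear_combination e2 + k0 * e1'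
        exact mul_right_cancel₀ ha e4
      have e5 : k0 * (k0 - 1) = 0 := by
        have e6 : k0 ^ 2 = k0 := by
          rw [← D.hσ, e3, e3]
        linear_combination e6
      rcases mul_eq_zero.1 e5 with h0 | h0
      · exact hk0 h0
      · exact hk1 (sub_eq_zero.1 h0)
    exact ⟨b, by rw [ha]⟩
  · rintro ⟨b', e⟩ g
    obtain ⟨ha, -⟩ := D.u_inj e
    subst ha
    obtain ⟨_, c, d, rfl⟩ := g
    apply Subtype.ext
    show D.u c d * D.u 0 b = D.u 0 b * D.u c d
    rw [D.u_mul hI, D.u_mul hI]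
    congr 1
    · ring
    · simp
      ring

theorem Dat.comm_U [Finite F] (hI : D.Indep) (a b c d : F) :
    ∃ e, D.u a b * D.u c d * (D.u a b)⁻¹ * (D.u c d)⁻¹ = D.u 0 e := by
  have key : a + c + a + c = 0 := by
    have h2 := D.two
    linear_combination (a + c) * h2
  rw [D.u_inv hI, D.u_inv hI, D.u_mul hI, D.u_mul hI, D.u_mul hI, key]
  exact ⟨_, rfl⟩

theorem Dat.comm_U' [Finite F] (hI : D.Indep) (a c : F) :
    D.u a 0 * D.u c 0 * (D.u a 0)⁻¹ * (D.u c 0)⁻¹ = D.u 0 (D.σ a * c + D.σ c * a) := by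
  have h2 := D.two
  rw [D.u_inv hI, D.u_inv hI, D.u_mul hI, D.u_mul hI, D.u_mul hI]
  congr 1
  · linear_combination (a + c) * h2
  · simp only [map_add, zero_add, add_zero]
    rw [← sub_eq_zero]
    ring_nf
    simp [h2]

theorem Dat.exists_mul_sigma (D : Dat F) [Finite F] (e : F) : ∃ a, a * D.σ a = e := by
  have hinj : Function.Injective (fun a : F => a * D.σ a) := by
    intro a a' h
    have h' : a * D.σ a = a' * D.σ a' := h
    by_cases ha' : a' = 0
    · rw [ha'] at h' ⊢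
      simp only [map_zero, mul_zero] at h'
      rcases mul_eq_zero.1 h' with h0 | h0
      · exact h0
      · exact (map_eq_zero D.σ).1 h0
    · have hσa' : D.σ a' ≠ 0 := (map_ne_zero D.σ).2 ha'
      have h1 : (a / a') * D.σ (a / a') = 1 := by
        rw [map_div₀]
        field_simp
        linear_combination h'
      have h2 := D.mul_sigma_eq_one h1
      field_simp at h2
      exact h2
  exact Finite.injective_iff_surjective.1 hinj e

theorem Dat.center_eq_comm_U [Finite F] (hI : D.Indep) (k0 : F) (hk0 : k0 ≠ 0) (hk1 : k0 ≠ 1) :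
    Subgroup.center (D.U hI) = commutator (D.U hI) := by
  have hne : D.σ k0 + k0 ≠ 0 := by
    intro h
    have e3 : D.σ k0 = k0 := by
      have h2 := D.two
      linear_combination h - k0 * h2
    have e5 : k0 * (k0 - 1) = 0 := by
      have e6 : k0 ^ 2 = k0 := by
        rw [← D.hσ, e3, e3]
      linear_combination e6
    rcases mul_eq_zero.1 e5 with h0 | h0
    · exact hk0 h0
    · exact hk1 (sub_eq_zero.1 h0)
  apply le_antisymm
  · intro x hx
    obtain ⟨e, he⟩ := (D.mem_center_U hI k0 hk0 hk1 x).1 hx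
    obtain ⟨a, ha⟩ := D.exists_mul_sigma (e / (D.σ k0 + k0))
    have hx' : x = ⁅(⟨D.u a 0, ⟨a, 0, rfl⟩⟩ : D.U hI), ⟨D.u (a * k0) 0, ⟨a * k0, 0, rfl⟩⟩⁆ := by
      apply Subtype.ext
      rw [he]
      show D.u 0 e = D.u a 0 * D.u (a * k0) 0 * (D.u a 0)⁻¹ * (D.u (a * k0) 0)⁻¹
      rw [D.comm_U' hI]
      congr 1
      rw [map_mul]
      field_simp at ha
      linear_combination -ha
    rw [hx', commutator_def]
    exact Subgroup.commutator_mem_commutator (Subgroup.mem_top _) (Subgroup.mem_top _)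
  · rw [commutator_def, Subgroup.commutator_le]
    rintro ⟨_, a, b, rfl⟩ - ⟨_, c, d, rfl⟩ -
    rw [D.mem_center_U hI k0 hk0 hk1]
    obtain ⟨e, he⟩ := D.comm_U hI a b c d
    exact ⟨e, he⟩

theorem Dat.card_center_U [Fintype F] (hI : D.Indep) (k0 : F) (hk0 : k0 ≠ 0) (hk1 : k0 ≠ 1) :
    Nat.card (Subgroup.center (D.U hI)) = Fintype.card F := by
  have hbij : Function.Bijective (fun b : F =>
      (⟨⟨D.u 0 b, ⟨0, b, rfl⟩⟩, (D.mem_center_U hI k0 hk0 hk1 _).2 ⟨b, rfl⟩⟩ :
        Subgroup.center (D.U hI))) := by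
    constructor
    · intro b b' e
      have e' : D.u 0 b = D.u 0 b' :=
        congrArg (fun x : Subgroup.center (D.U hI) => (x.1.1 : SpecialLinearGroup (Fin 4) F)) e
      exact (D.u_inj e').2
    · rintro ⟨x, hx⟩
      obtain ⟨b, hb⟩ := (D.mem_center_U hI k0 hk0 hk1 x).1 hx
      exact ⟨b, Subtype.ext (Subtype.ext hb.symm)⟩
  rw [← Nat.card_congr (Equiv.ofBijective _ hbij), Nat.card_eq_fintype_card]

end Suz
end Cfsg.Agent.Lib.Helper4
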