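import Cfsg.Agent.Lib.Helper4.Suz1
import Cfsg.Prelude.Def_LieExceptional

set_option autoImplicit false

namespace Cfsg.Agent.Lib.Helper4
namespace Suz

open Matrix
open scoped Pointwise

theorem char2_of_card {F : Type*} [Field F] [Fintype F] {m : ℕ}
    (hF : Fintype.card F = 2 ^ (2 * m + 1)) : CharP F 2 := by
  obtain ⟨p, hp⟩ := CharP.exists F
  have hpp : Fact p.Prime := ⟨CharP.char_is_prime F p⟩
  obtain ⟨n, hpn, hc⟩ := FiniteField.card F p
  rw [hF] at hc
  have h1 : p ∣ 2 ^ (2 * m + 1) := by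
    rw [hc]
    exact dvd_pow_self p n.ne_zero
  have h2 : p = 2 := (Nat.prime_dvd_prime_iff_eq hpn Nat.prime_two).1 (hpn.dvd_of_dvd_pow h1)
  subst h2
  exact hp

/-- The Tits endomorphism of a field with `2^(2m+1)` elements. -/
noncomputable def dat {F : Type*} [Field F] [Fintype F] {m : ℕ}
    (hF : Fintype.card F = 2 ^ (2 * m + 1)) : Dat F :=
  haveI := char2_of_card hF
  { σ := iterateFrobenius F 2 (m + 1)
    τ := iterateFrobenius F 2 m
    hσ := fun x => by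
      simp only [iterateFrobenius_def]
      rw [← pow_mul, ← pow_add, show m + 1 + (m + 1) = (2 * m + 1) + 1 by ring, pow_succ, pow_mul,
        ← hF, FiniteField.pow_card]
    hτ := fun x => by
      simp only [iterateFrobenius_def]
      rw [← pow_mul, ← pow_succ]
    two := CharTwo.two_eq_zero }

theorem dat_σ {F : Type*} [Field F] [Fintype F] {m : ℕ}
    (hF : Fintype.card F = 2 ^ (2 * m + 1)) (x : F) : (dat hF).σ x = x ^ 2 ^ (m + 1) := by
  rfl

theorem dat_τ {F : Type*} [Field F] [Fintype F] {m : ℕ}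
    (hF : Fintype.card F = 2 ^ (2 * m + 1)) (x : F) : (dat hF).τ x = x ^ 2 ^ m := by
  rfl

theorem dat_vec {F : Type*} [Field F] [Fintype F] {m : ℕ}
    (hF : Fintype.card F = 2 ^ (2 * m + 1)) (x y : F) :
    (![x * y + x ^ (2 ^ (m + 1) + 2) + y ^ (2 ^ (m + 1)), y, x, 1] : Fin 4 → F) =
      (dat hF).vec x y := by
  rw [Dat.vec, Dat.f, dat_σ, dat_σ, pow_add]
  ring_nf

theorem ovoid_eq {F : Type*} [Field F] [Fintype F] {m : ℕ}
    (hF : Fintype.card F = 2 ^ (2 * m + 1)) : Cfsg.suzukiOvoid F m = (dat hF).ovoid := by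
  ext p
  constructor
  · rintro ⟨v, hv, rfl, (rfl | ⟨x, y, rfl⟩)⟩
    · exact Or.inl rfl
    · refine Or.inr ⟨x, y, ?_⟩
      rw [Dat.pt, Projectivization.mk_eq_mk_iff']
      exact ⟨1, by rw [one_smul, dat_vec]⟩
  · rintro (rfl | ⟨x, y, rfl⟩)
    · exact ⟨![1, 0, 0, 0], e0_ne, rfl, Or.inl rfl⟩
    · exact ⟨(dat hF).vec x y, (dat hF).vec_ne x y, rfl, Or.inr ⟨x, y, (dat_vec hF x y).symm⟩⟩

theorem Sz_eq {F : Type*} [Field F] [Fintype F] {m : ℕ}
    (hF : Fintype.card F = 2 ^ (2 * m + 1)) : Cfsg.Sz F m = (dat hF).G := by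
  rw [Dat.G, ← ovoid_eq hF]

theorem inf_eq (F : Type*) [Field F] : Cfsg.suzukiPointInfinity F = inf F := rfl

theorem zero_eq {F : Type*} [Field F] (D : Dat F) : Cfsg.suzukiPointZero F = D.pt 0 0 := by
  rw [Cfsg.suzukiPointZero, Dat.pt, Projectivization.mk_eq_mk_iff']
  refine ⟨1, ?_⟩
  rw [one_smul, Dat.vec, D.f_zero]

end Suz
end Cfsg.Agent.Lib.Helper4
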