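import Cfsg.Agent.Lib.Helper4.Punct3
import Cfsg.Prelude.Def_SporadicCombinatorics

set_option autoImplicit false

namespace Cfsg.Agent.Lib.Helper4
namespace Sx

open Pointwise Golay

theorem tet_disjoint {S : Finset (Finset GolayPt)} (hS : S ∈ sextets) {t u : Finset GolayPt}
    (ht : t ∈ S) (hu : u ∈ S) (hne : t ≠ u) : Disjoint t u := by
  have h8 := (hS.2.2 t ht u hu hne).2
  rw [← Finset.card_union_eq_card_add_card, h8, hS.2.1 t ht, hS.2.1 u hu]

theorem sextet_unique {S S' : Finset (Finset GolayPt)} (hS : S ∈ sextets) (hS' : S' ∈ sextets)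
    {t : Finset GolayPt} (ht : t ∈ S) (ht' : t ∈ S') : S = S' := by
  classical
  have h5 := Punct.ncard_through t (hS.2.1 t ht)
  have key : ∀ {A : Finset (Finset GolayPt)}, A ∈ sextets → t ∈ A →
      ((fun u => t ∪ u) '' ((A.erase t : Finset (Finset GolayPt)) : Set (Finset GolayPt)))
        = {o | o ∈ octads ∧ t ⊆ o} := by
    intro A hA htA
    apply Set.eq_of_subset_of_ncard_le
    · rintro _ ⟨u, hu, rfl⟩
      rw [Finset.mem_coe, Finset.mem_erase] at hu
      exact ⟨hA.2.2 t htA u hu.2 (Ne.symm hu.1), Finset.subset_union_left⟩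
    · rw [h5, Set.InjOn.ncard_image, Set.ncard_coe_finset, Finset.card_erase_of_mem htA, hA.1]
      intro u hu u' hu' e
      rw [Finset.mem_coe, Finset.mem_erase] at hu hu'
      have d1 := tet_disjoint hA htA hu.2 (Ne.symm hu.1)
      have d2 := tet_disjoint hA htA hu'.2 (Ne.symm hu'.1)
      have e' : t ∪ u = t ∪ u' := e
      rw [← Finset.union_sdiff_cancel_left d1, ← Finset.union_sdiff_cancel_left d2, e']
    · exact Set.toFinite _
  have sub : ∀ {A B : Finset (Finset GolayPt)}, A ∈ sextets → B ∈ sextets → t ∈ A → t ∈ B →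
      A ⊆ B := by
    intro A B hA hB htA htB u hu
    by_cases hut : u = t
    · rw [hut]
      exact htB
    · have h1 : t ∪ u ∈ (fun u => t ∪ u) ''
          ((A.erase t : Finset (Finset GolayPt)) : Set (Finset GolayPt)) :=
        ⟨u, by rw [Finset.mem_coe, Finset.mem_erase]; exact ⟨hut, hu⟩, rfl⟩
      rw [key hA htA, ← key hB htB] at h1
      obtain ⟨u', hu', e⟩ := h1
      rw [Finset.mem_coe, Finset.mem_erase] at hu'
      have d1 := tet_disjoint hA htA hu (Ne.symm hut)
      have d2 := tet_disjoint hB htB hu'.2 (Ne.symm hu'.1)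
      have e' : t ∪ u' = t ∪ u := e
      have : u' = u := by
        rw [← Finset.union_sdiff_cancel_left d2, ← Finset.union_sdiff_cancel_left d1, e']
      rw [← this]
      exact hu'.2
  exact Finset.Subset.antisymm (sub hS hS' ht ht') (sub hS' hS ht' ht)

theorem smul_sextet {g : Equiv.Perm GolayPt} (hg : g ∈ M24) {S : Finset (Finset GolayPt)}
    (hS : S ∈ sextets) : g • S ∈ sextets := by
  refine ⟨by rw [Finset.card_smul_finset]; exact hS.1, ?_, ?_⟩
  · intro t ht
    obtain ⟨t0, ht0, rfl⟩ := Finset.mem_smul_finset.1 ht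
    rw [Finset.card_smul_finset]
    exact hS.2.1 t0 ht0
  · intro t ht u hu hne
    obtain ⟨t0, ht0, rfl⟩ := Finset.mem_smul_finset.1 ht
    obtain ⟨u0, hu0, rfl⟩ := Finset.mem_smul_finset.1 hu
    rw [← Finset.smul_finset_union]
    exact smul_mem_weight hg (hS.2.2 t0 ht0 u0 hu0 (fun e => hne (by rw [e])))

theorem exists_tet_pt {S : Finset (Finset GolayPt)} (hS : S ∈ sextets) (p : GolayPt) :
    ∃ t ∈ S, p ∈ t := by
  classical
  have hcard : (S.biUnion (fun t => t)).card = 24 := by
    rw [Finset.card_biUnion (fun t ht u hu hne => tet_disjoint hS ht hu hne),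
      Finset.sum_congr rfl (fun t ht => hS.2.1 t ht), Finset.sum_const, hS.1]
    rfl
  have huniv : S.biUnion (fun t => t) = Finset.univ :=
    Finset.eq_univ_of_card _ (by rw [hcard, card_pts])
  have : p ∈ S.biUnion (fun t => t) := by
    rw [huniv]
    exact Finset.mem_univ p
  obtain ⟨t, ht, hp⟩ := Finset.mem_biUnion.1 this
  exact ⟨t, ht, hp⟩

/-- The set system given by a list of masks. -/
def mkSys (L : List ℕ) : Finset (Finset GolayPt) :=
  L.toFinset.image (fun m => support₂ (word m))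

theorem mem_mkSys {L : List ℕ} {t : Finset GolayPt} :
    t ∈ mkSys L ↔ ∃ m ∈ L, support₂ (word m) = t := by
  simp [mkSys]

theorem support_or (a b : ℕ) :
    support₂ (word (a ||| b)) = support₂ (word a) ∪ support₂ (word b) := by
  ext p
  rw [Finset.mem_union, mem_support_word, mem_support_word, mem_support_word, Nat.testBit_or,
    Bool.or_eq_true]

/-- Check that a list of masks is a sextet. -/
def sextChk (L : List ℕ) : Bool :=
  and (and (and (Nat.beq L.length 6) (decide L.Nodup))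
    (L.all (fun a => and (Nat.blt a 16777216) (Nat.beq (pc a) 4))))
    (L.all (fun a => L.all (fun b => or (Nat.beq a b)
      (and (Nat.beq (red basisP (a ||| b)) 0) (Nat.beq (pc (a ||| b)) 8)))))

theorem mkSys_sextet {L : List ℕ} (h : sextChk L = true) : mkSys L ∈ sextets := by
  simp only [sextChk, Bool.and_eq_true, Nat.beq_eq, decide_eq_true_eq, List.all_eq_true,
    Nat.blt_eq, Bool.or_eq_true] at h
  obtain ⟨⟨⟨h6, hnd⟩, h4⟩, h8⟩ := h
  refine ⟨?_, ?_, ?_⟩
  · rw [mkSys, Finset.card_image_of_injOn, List.toFinset_card_of_nodup hnd, h6]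
    intro a ha b hb e
    rw [Finset.mem_coe, List.mem_toFinset] at ha hb
    exact word_inj (h4 a ha).1 (h4 b hb).1 e
  · intro t ht
    obtain ⟨a, ha, rfl⟩ := mem_mkSys.1 ht
    rw [card_support, hammingNorm_word]
    exact (h4 a ha).2
  · intro t ht u hu hne
    obtain ⟨a, ha, rfl⟩ := mem_mkSys.1 ht
    obtain ⟨b, hb, rfl⟩ := mem_mkSys.1 hu
    rcases h8 a ha b hb with e | ⟨e1, e2⟩
    · exact absurd (by rw [e]) hne
    · rw [← support_or]
      exact Stv.mask_octad _ e1 e2

/-- Some member of the second system meets some member of the first in `k` points. -/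
def PI (k : ℕ) (S X : Finset (Finset GolayPt)) : Prop :=
  ∃ t ∈ X, ∃ u ∈ S, (t ∩ u).card = k

theorem PI_smul {g : Equiv.Perm GolayPt} {S : Finset (Finset GolayPt)} (hg : g • S = S) (k : ℕ)
    (X : Finset (Finset GolayPt)) : PI k S (g • X) ↔ PI k S X := by
  constructor
  · rintro ⟨t, ht, u, hu, e⟩
    obtain ⟨t0, ht0, rfl⟩ := Finset.mem_smul_finset.1 ht
    rw [← hg] at hu
    obtain ⟨u0, hu0, rfl⟩ := Finset.mem_smul_finset.1 hu
    rw [Rk.card_inter_smul] at e
    exact ⟨t0, ht0, u0, hu0, e⟩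
  · rintro ⟨t, ht, u, hu, e⟩
    refine ⟨g • t, Finset.smul_mem_smul_finset ht, g • u, ?_, by rw [Rk.card_inter_smul]; exact e⟩
    rw [← hg]
    exact Finset.smul_mem_smul_finset hu

/-- Computable version of `PI` on lists of masks. -/
def anyInt (k : ℕ) (L0 L : List ℕ) : Bool :=
  L.any (fun a => L0.any (fun b => Nat.beq (pc (a &&& b)) k))

theorem anyInt_iff (k : ℕ) (L0 L : List ℕ) :
    anyInt k L0 L = true ↔ PI k (mkSys L0) (mkSys L) := by
  simp only [anyInt, List.any_eq_true, Nat.beq_eq, PI]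
  constructor
  · rintro ⟨a, ha, b, hb, e⟩
    exact ⟨_, mem_mkSys.2 ⟨a, ha, rfl⟩, _, mem_mkSys.2 ⟨b, hb, rfl⟩, by
      rw [Rk.card_inter_word]; exact e⟩
  · rintro ⟨t, ht, u, hu, e⟩
    obtain ⟨a, ha, rfl⟩ := mem_mkSys.1 ht
    obtain ⟨b, hb, rfl⟩ := mem_mkSys.1 hu
    rw [Rk.card_inter_word] at e
    exact ⟨a, ha, b, hb, e⟩

open Classical in
/-- The class of a set system relative to a fixed one. -/
noncomputable def cls (S X : Finset (Finset GolayPt)) : ℕ :=
  if PI 4 S X then 0 else if PI 3 S X then 2 else if PI 1 S X then 3 else 1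

/-- Computable version of the class. -/
def clsL (L0 L : List ℕ) : ℕ :=
  cond (anyInt 4 L0 L) 0 (cond (anyInt 3 L0 L) 2 (cond (anyInt 1 L0 L) 3 1))

theorem cls_mkSys (L0 L : List ℕ) : cls (mkSys L0) (mkSys L) = clsL L0 L := by
  have h4 := anyInt_iff 4 L0 L
  have h3 := anyInt_iff 3 L0 L
  have h1 := anyInt_iff 1 L0 L
  unfold cls clsL
  cases e4 : anyInt 4 L0 L <;> cases e3 : anyInt 3 L0 L <;> cases e1 : anyInt 1 L0 L <;>
    simp [e4, e3, e1] at h4 h3 h1 <;> simp [h4, h3, h1]

theorem cls_smul {g : Equiv.Perm GolayPt} {S : Finset (Finset GolayPt)} (hg : g • S = S)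
    (X : Finset (Finset GolayPt)) : cls S (g • X) = cls S X := by
  unfold cls
  rw [PI_smul hg 4 X, PI_smul hg 3 X, PI_smul hg 1 X]

end Sx
end Cfsg.Agent.Lib.Helper4
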