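import Cfsg.Agent.Lib.Helper4.Sx1

set_option autoImplicit false

namespace Cfsg.Agent.Lib.Helper4
namespace Sx

open Pointwise Golay

/-- The standard sextet, as masks. -/
def S0L : List ℕ := [15, 5264, 622848, 3416064, 4196928, 8536096]

/-- Representatives of the three other classes of sextets. -/
def R1L : List ℕ := [147, 5132, 272448, 737280, 7340544, 8421664]

def R2L : List ℕ := [23, 5256, 786976, 1065280, 2263040, 12656640]

def R3L : List ℕ := [51, 786948, 1188864, 2162760, 4216832, 8421760]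

/-- Representative of a class. -/
def repL : ℕ → List ℕ := fun c => cond (Nat.beq c 1) R1L (cond (Nat.beq c 2) R2L (cond (Nat.beq c 3) R3L S0L))

set_option maxRecDepth 100000 in
theorem rep_ok : ∀ c < 4, sextChk (repL c) = true ∧ clsL S0L (repL c) = c := by decide +kernel

/-- The standard sextet. -/
def S0 : Finset (Finset GolayPt) := mkSys S0L

theorem S0_sextet : S0 ∈ sextets := mkSys_sextet (rep_ok 0 (by norm_num)).1

theorem rep_sextet (c : ℕ) (hc : c < 4) : mkSys (repL c) ∈ sextets := mkSys_sextet (rep_ok c hc).1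

theorem cls_rep (c : ℕ) (hc : c < 4) : cls S0 (mkSys (repL c)) = c := by
  rw [S0, cls_mkSys]
  exact (rep_ok c hc).2

/-- Check of a table entry `(m, c, l, l')`: a code automorphism stabilising the standard sextet
and carrying a tetrad of the representative of class `c` to the tetrad `m`. -/
def sxChk (e : ℕ × ℕ × List ℕ × List ℕ) : Bool :=
  and (and (chk e.2.2.1 e.2.2.2) (memChk e.2.2.1))
    (and (S0L.any (fun b => Nat.beq (pmL e.2.2.1 15) b))
      (and ((repL e.2.1).any (fun b => Nat.beq (pmL e.2.2.1 e.1) b)) (Nat.blt e.2.1 4)))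

theorem smul_S0_of_mem {g : Equiv.Perm GolayPt} (hg : g ∈ M24) {b : ℕ} (hb : b ∈ S0L)
    (h : g • support₂ (word b) = support₂ (word 15)) : g • S0 = S0 := by
  apply sextet_unique (smul_sextet hg S0_sextet) S0_sextet (t := support₂ (word 15))
  · rw [← h]
    exact Finset.smul_mem_smul_finset (mem_mkSys.2 ⟨b, hb, rfl⟩)
  · exact mem_mkSys.2 ⟨15, by decide, rfl⟩

theorem sx_spec (e : ℕ × ℕ × List ℕ × List ℕ) (h : sxChk e = true) :
    e.2.1 < 4 ∧ ∃ g ∈ M24, g • S0 = S0 ∧ support₂ (word e.1) ∈ g • mkSys (repL e.2.1) := by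
  simp only [sxChk, Bool.and_eq_true, List.any_eq_true, Nat.beq_eq, Nat.blt_eq] at h
  obtain ⟨⟨hc, hm⟩, ⟨b, hb, e1⟩, ⟨b', hb', e2⟩, h4⟩ := h
  refine ⟨h4, mkPerm e.2.2.1 e.2.2.2 hc, mkPerm_mem _ _ _ hm, ?_, ?_⟩
  · exact smul_S0_of_mem (mkPerm_mem _ _ _ hm) hb (smul_support_word hc e1)
  · rw [← smul_support_word hc e2]
    exact Finset.smul_mem_smul_finset (mem_mkSys.2 ⟨b', hb', rfl⟩)

end Sx
end Cfsg.Agent.Lib.Helper4
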