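import Cfsg.Agent.Lib.Helper4.SxT1
import Cfsg.Agent.Lib.Helper4.SxT2
import Cfsg.Agent.Lib.Helper4.SxT3
import Cfsg.Agent.Lib.Helper4.SxT4
import Cfsg.Agent.Lib.Helper4.SxT5
import Cfsg.Agent.Lib.Helper4.SxT6

set_option autoImplicit false

namespace Cfsg.Agent.Lib.Helper4
namespace Sx

open Pointwise Golay

/-- Bucketed table of elements of the stabiliser of the standard sextet. -/
def bkS : List (List (ℕ × ℕ × List ℕ × List ℕ)) :=
  bkS1 ++ (bkS2 ++ (bkS3 ++ (bkS4 ++ (bkS5 ++ bkS6))))

/-- Table of elements of the stabiliser of the standard sextet. -/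
def tblS : List (ℕ × ℕ × List ℕ × List ℕ) := bkS.flatten

theorem tblS_ok : tblS.all sxChk = true := by
  apply Rk.all_flatten'
  rw [bkS, List.all_append, List.all_append, List.all_append, List.all_append, List.all_append,
    bkS1_ok, bkS2_ok, bkS3_ok, bkS4_ok, bkS5_ok, bkS6_ok]
  rfl

theorem tblS_ok' (e : ℕ × ℕ × List ℕ × List ℕ) (he : e ∈ tblS) : sxChk e = true := by
  have h := tblS_ok
  rw [List.all_eq_true] at h
  exact h e he

/-- The mask of a tetrad through the first point. -/
def tmask (i j k : ℕ) : ℕ := 2 ^ 0 ||| 2 ^ i ||| 2 ^ j ||| 2 ^ k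

set_option maxRecDepth 100000 in
theorem bkS_complete : (List.range 24).all (fun i => (List.range 24).all (fun j =>
    (List.range 24).all (fun k =>
      or (or (Nat.beq i 0) (or (Nat.beq j 0) (Nat.beq k 0)))
        (or (or (Nat.beq i j) (or (Nat.beq i k) (Nat.beq j k)))
          ((bkS.getD (tmask i j k % 67) []).any (fun e => Nat.beq e.1 (tmask i j k))))))) = true := by
  decide +kernel

theorem support_tmask (i j k : ℕ) (x y z : GolayPt) (hi : code x = i) (hj : code y = j)
    (hk : code z = k) : support₂ (word (tmask i j k)) = {pt 0, x, y, z} := by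
  ext p
  rw [mem_support_word, tmask, Nat.testBit_or, Nat.testBit_or, Nat.testBit_or,
    Nat.testBit_two_pow, Nat.testBit_two_pow, Nat.testBit_two_pow, Nat.testBit_two_pow]
  simp only [Bool.or_eq_true, decide_eq_true_eq, Finset.mem_insert, Finset.mem_singleton]
  have hc : ∀ q : GolayPt, ∀ n, code q = n → (n = code p ↔ p = q) := by
    intro q n hq
    constructor
    · intro h
      rw [← pt_code p, ← h, ← hq, pt_code]
    · intro h
      rw [h, hq]
  rw [hc (pt 0) 0 (code_pt 0 (by norm_num)), hc x i hi, hc y j hj, hc z k hk]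
  tauto

theorem beq_false {a b : ℕ} (h : a ≠ b) : Nat.beq a b = false := by
  cases hb : Nat.beq a b
  · rfl
  · exact absurd (Nat.eq_of_beq_eq_true hb) h

theorem mem_flatten_of_getD {α : Type*} {L : List (List α)} {i : ℕ} {x : α}
    (hx : x ∈ L.getD i []) : x ∈ L.flatten := by
  rw [List.mem_flatten]
  by_cases hi : i < L.length
  · refine ⟨L.getD i [], ?_, hx⟩
    rw [List.getD_eq_getElem _ _ hi]
    exact List.getElem_mem hi
  · rw [List.getD_eq_default _ _ (by omega)] at hx
    simp at hx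

theorem code_ne {a b : GolayPt} (h : a ≠ b) : code a ≠ code b := by
  intro e
  apply h
  rw [← pt_code a, ← pt_code b, e]

/-- Every tetrad through the first point is a key of the table. -/
theorem exists_entry (t : Finset GolayPt) (ht : t.card = 4) (h0 : pt 0 ∈ t) :
    ∃ e ∈ tblS, support₂ (word e.1) = t := by
  classical
  have h3 : (t.erase (pt 0)).card = 3 := by rw [Finset.card_erase_of_mem h0, ht]
  obtain ⟨x, y, z, hxy, hxz, hyz, e⟩ := Finset.card_eq_three.1 h3
  have ht' : t = {pt 0, x, y, z} := by rw [← e, Finset.insert_erase h0]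
  have hx : x ≠ pt 0 := by
    have : x ∈ t.erase (pt 0) := by rw [e]; simp
    exact (Finset.mem_erase.1 this).1
  have hy : y ≠ pt 0 := by
    have : y ∈ t.erase (pt 0) := by rw [e]; simp
    exact (Finset.mem_erase.1 this).1
  have hz : z ≠ pt 0 := by
    have : z ∈ t.erase (pt 0) := by rw [e]; simp
    exact (Finset.mem_erase.1 this).1
  have c0 : code (pt 0) = 0 := code_pt 0 (by norm_num)
  have hcomp := bkS_complete
  simp only [List.all_eq_true, List.mem_range] at hcomp
  have h1 := hcomp (code x) (code_lt x) (code y) (code_lt y) (code z) (code_lt z)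
  have hx0 : Nat.beq (code x) 0 = false := beq_false (by rw [← c0]; exact code_ne hx)
  have hy0 : Nat.beq (code y) 0 = false := beq_false (by rw [← c0]; exact code_ne hy)
  have hz0 : Nat.beq (code z) 0 = false := beq_false (by rw [← c0]; exact code_ne hz)
  simp only [hx0, hy0, hz0, beq_false (code_ne hxy), beq_false (code_ne hxz),
    beq_false (code_ne hyz), Bool.or_self, Bool.false_or, List.any_eq_true, Nat.beq_eq] at h1
  obtain ⟨e', he', he1⟩ := h1
  refine ⟨e', mem_flatten_of_getD he', ?_⟩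
  rw [he1, ht']
  exact support_tmask _ _ _ x y z rfl rfl rfl

/-- Every sextet is the image of a class representative under an element of the stabiliser of
the standard sextet. -/
theorem exists_class {X : Finset (Finset GolayPt)} (hX : X ∈ sextets) :
    ∃ c < 4, ∃ g ∈ M24, g • S0 = S0 ∧ g • mkSys (repL c) = X := by
  obtain ⟨t, ht, h0⟩ := exists_tet_pt hX (pt 0)
  obtain ⟨e, he, rfl⟩ := exists_entry t (hX.2.1 t ht) h0
  obtain ⟨h4, g, hg, gS, hmem⟩ := sx_spec e (tblS_ok' e he)
  exact ⟨e.2.1, h4, g, hg, gS, sextet_unique (smul_sextet hg (rep_sextet _ h4)) hX hmem ht⟩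

/-- The orbit relation of the stabiliser of a set system. -/
def Orb (S R Z : Finset (Finset GolayPt)) : Prop := ∃ g ∈ M24, g • S = S ∧ g • R = Z

theorem class_eq {X : Finset (Finset GolayPt)} (hX : X ∈ sextets) {c : ℕ} (hc : c < 4) :
    Orb S0 (mkSys (repL c)) X ↔ cls S0 X = c := by
  constructor
  · rintro ⟨g, hg, gS, rfl⟩
    rw [cls_smul gS, cls_rep c hc]
  · intro h
    obtain ⟨c', hc', g, hg, gS, rfl⟩ := exists_class hX
    rw [cls_smul gS, cls_rep c' hc'] at h
    subst h
    exact ⟨g, hg, gS, rfl⟩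

/-- The sextet through the tetrad of a mask. -/
noncomputable def sxOf (m : ℕ) : Finset (Finset GolayPt) :=
  Classical.epsilon (fun X => X ∈ sextets ∧ support₂ (word m) ∈ X)

theorem sxOf_spec {m : ℕ} (h : ∃ X, X ∈ sextets ∧ support₂ (word m) ∈ X) :
    sxOf m ∈ sextets ∧ support₂ (word m) ∈ sxOf m :=
  Classical.epsilon_spec h

theorem sxOf_eq {m : ℕ} {X : Finset (Finset GolayPt)} (hX : X ∈ sextets)
    (hm : support₂ (word m) ∈ X) : sxOf m = X := by
  have h := sxOf_spec ⟨X, hX, hm⟩
  exact sextet_unique h.1 hX h.2 hm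

/-- Boolean duplicate-freeness check. -/
def nodupB : List ℕ → Bool
  | [] => true
  | a :: l => and (l.all (fun b => not (Nat.beq a b))) (nodupB l)

theorem nodupB_spec : ∀ l : List ℕ, nodupB l = true → l.Nodup
  | [], _ => List.nodup_nil
  | a :: l, h => by
    rw [nodupB, Bool.and_eq_true, List.all_eq_true] at h
    refine List.nodup_cons.2 ⟨fun ha => ?_, nodupB_spec l h.2⟩
    have h1 := h.1 a ha
    rw [Nat.beq_refl] at h1
    exact absurd h1 (by decide)

set_option maxRecDepth 100000 in
theorem bk_keys : (List.range 67).all (fun i =>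
    and (nodupB ((bkS.getD i []).map (fun e => e.1)))
      ((bkS.getD i []).all (fun e => Nat.beq (e.1 % 67) i))) = true := by decide +kernel

set_option maxRecDepth 100000 in
theorem bkS_length : bkS.length = 67 := by decide +kernel

theorem keys_nodup : (tblS.map (fun e => e.1)).Nodup := by
  have hb := bk_keys
  simp only [List.all_eq_true, List.mem_range, Bool.and_eq_true, Nat.beq_eq] at hb
  rw [tblS, List.map_flatten, List.nodup_flatten]
  constructor
  · intro l hl
    rw [List.mem_map] at hl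
    obtain ⟨b, hb', rfl⟩ := hl
    obtain ⟨i, hi, rfl⟩ := List.getElem_of_mem hb'
    have h1 := (hb i (by rw [← bkS_length]; exact hi)).1
    rw [List.getD_eq_getElem _ _ hi] at h1
    exact nodupB_spec _ h1
  · rw [List.pairwise_map, List.pairwise_iff_getElem]
    intro i j hi hj hij m hm1 hm2
    rw [List.mem_map] at hm1 hm2
    obtain ⟨e1, he1, rfl⟩ := hm1
    obtain ⟨e2, he2, h12⟩ := hm2
    have h1 := (hb i (by rw [← bkS_length]; exact hi)).2 e1
      (by rw [List.getD_eq_getElem _ _ hi]; exact he1)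
    have h2 := (hb j (by rw [← bkS_length]; exact hj)).2 e2
      (by rw [List.getD_eq_getElem _ _ hj]; exact he2)
    rw [h12] at h2
    omega

set_option maxRecDepth 100000 in
theorem keys_ok : tblS.all (fun e => and (Nat.blt e.1 16777216) (e.1.testBit 0)) = true := by
  decide +kernel

theorem class_image (c : ℕ) :
    {X | X ∈ sextets ∧ cls S0 X = c} = sxOf '' {m | ∃ e ∈ tblS, e.1 = m ∧ e.2.1 = c} := by
  ext X
  constructor
  · rintro ⟨hX, hcls⟩
    obtain ⟨t, ht, h0⟩ := exists_tet_pt hX (pt 0)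
    obtain ⟨e, he, rfl⟩ := exists_entry t (hX.2.1 t ht) h0
    refine ⟨e.1, ⟨e, he, rfl, ?_⟩, sxOf_eq hX ht⟩
    obtain ⟨h4, g, hg, gS, hmem⟩ := sx_spec e (tblS_ok' e he)
    have : X = g • mkSys (repL e.2.1) :=
      sextet_unique hX (smul_sextet hg (rep_sextet _ h4)) ht hmem
    rw [this, cls_smul gS, cls_rep _ h4] at hcls
    exact hcls
  · rintro ⟨m, ⟨e, he, rfl, rfl⟩, rfl⟩
    obtain ⟨h4, g, hg, gS, hmem⟩ := sx_spec e (tblS_ok' e he)
    have hs := smul_sextet hg (rep_sextet _ h4)
    rw [sxOf_eq hs hmem]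
    exact ⟨hs, by rw [cls_smul gS, cls_rep _ h4]⟩

theorem sxOf_injOn : Set.InjOn sxOf {m | ∃ e ∈ tblS, e.1 = m} := by
  rintro m ⟨e, he, rfl⟩ m' ⟨e', he', rfl⟩ h
  have hk := keys_ok
  rw [List.all_eq_true] at hk
  have k1 := hk e he
  have k2 := hk e' he'
  simp only [Bool.and_eq_true, Nat.blt_eq] at k1 k2
  obtain ⟨h4, g, hg, gS, hmem⟩ := sx_spec e (tblS_ok' e he)
  obtain ⟨h4', g', hg', gS', hmem'⟩ := sx_spec e' (tblS_ok' e' he')
  have hs := smul_sextet hg (rep_sextet _ h4)
  have hs' := smul_sextet hg' (rep_sextet _ h4')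
  have e1 := sxOf_eq hs hmem
  have e2 := sxOf_eq hs' hmem'
  rw [e1, e2] at h
  rw [← h] at hmem'
  by_contra hne
  have hsup : support₂ (word e.1) ≠ support₂ (word e'.1) :=
    fun hh => hne (word_inj k1.1 k2.1 hh)
  have hd := tet_disjoint hs hmem hmem' hsup
  have p1 : pt 0 ∈ support₂ (word e.1) := by
    rw [mem_support_word, code_pt 0 (by norm_num)]
    exact k1.2
  have p2 : pt 0 ∈ support₂ (word e'.1) := by
    rw [mem_support_word, code_pt 0 (by norm_num)]
    exact k2.2
  exact Finset.disjoint_left.1 hd p1 p2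

theorem ncard_class (c : ℕ) : {X | X ∈ sextets ∧ cls S0 X = c}.ncard
    = ((tblS.filter (fun e => Nat.beq e.2.1 c)).map (fun e => e.1)).length := by
  rw [class_image c, Set.InjOn.ncard_image (sxOf_injOn.mono (fun m hm => by
    obtain ⟨e, he, h1, -⟩ := hm
    exact ⟨e, he, h1⟩))]
  have : {m | ∃ e ∈ tblS, e.1 = m ∧ e.2.1 = c}
      = ((((tblS.filter (fun e => Nat.beq e.2.1 c)).map (fun e => e.1)).toFinset : Finset ℕ) :
        Set ℕ) := by
    ext m
    simp only [Set.mem_ofPred_eq, Finset.mem_coe, List.mem_toFinset, List.mem_map,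
      List.mem_filter, Nat.beq_eq]
    constructor
    · rintro ⟨e, he, h1, h2⟩
      exact ⟨e, ⟨he, h2⟩, h1⟩
    · rintro ⟨e, ⟨he, h2⟩, h1⟩
      exact ⟨e, he, h1, h2⟩
  rw [this, Set.ncard_coe_finset, List.toFinset_card_of_nodup
    (keys_nodup.sublist (List.Sublist.map _ List.filter_sublist))]

set_option maxRecDepth 100000 in
theorem counts : ∀ c < 4, ((tblS.filter (fun e => Nat.beq e.2.1 c)).map (fun e => e.1)).length
    = [1, 90, 240, 1440].getD c 0 := by decide +kernel

end Sx
end Cfsg.Agent.Lib.Helper4
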