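import Cfsg.Agent.Lib.Helper4.Sx3

set_option autoImplicit false

namespace Cfsg.Agent.Lib.Helper4
namespace Sx

open Pointwise Golay

theorem mem_orbit_iff (S R Z : Finset (Finset GolayPt)) :
    Z ∈ MulAction.orbit ↥(MulAction.stabilizer M24 S) R ↔ Orb S R Z := by
  constructor
  · rintro ⟨g, rfl⟩
    exact ⟨g.1.1, g.1.2, g.2, rfl⟩
  · rintro ⟨g, hg, gS, rfl⟩
    exact ⟨⟨⟨g, hg⟩, gS⟩, rfl⟩

theorem orb_symm {S R Z : Finset (Finset GolayPt)} (h : Orb S R Z) : Orb S Z R := by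
  obtain ⟨g, hg, gS, rfl⟩ := h
  refine ⟨g⁻¹, M24.inv_mem hg, ?_, inv_smul_smul g R⟩
  rw [inv_smul_eq_iff, gS]

theorem orb_sextet {S R Z : Finset (Finset GolayPt)} (hR : R ∈ sextets) (h : Orb S R Z) :
    Z ∈ sextets := by
  obtain ⟨g, hg, -, rfl⟩ := h
  exact smul_sextet hg hR

theorem orb_transport {h : Equiv.Perm GolayPt} (hh : h ∈ M24) (S R Z : Finset (Finset GolayPt)) :
    Orb S (h⁻¹ • R) Z ↔ Orb (h • S) R (h • Z) := by
  constructor
  · rintro ⟨g, hg, gS, rfl⟩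
    refine ⟨h * g * h⁻¹, M24.mul_mem (M24.mul_mem hh hg) (M24.inv_mem hh), ?_, ?_⟩
    · rw [mul_smul, mul_smul, inv_smul_smul, gS]
    · rw [mul_smul, mul_smul]
  · rintro ⟨g, hg, gS, e⟩
    refine ⟨h⁻¹ * g * h, M24.mul_mem (M24.mul_mem (M24.inv_mem hh) hg) hh, ?_, ?_⟩
    · rw [mul_smul, mul_smul, gS, inv_smul_smul]
    · rw [mul_smul, mul_smul, smul_inv_smul, e, inv_smul_smul]

/-- Four points can be moved to the first four points. -/
theorem tet_std (t : Finset GolayPt) (ht : t.card = 4) :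
    ∃ h ∈ M24, h • t = support₂ (word 15) := by
  obtain ⟨a, b, c, d, hab, hac, had, hbc, hbd, hcd, rfl⟩ := Finset.card_eq_four.1 ht
  obtain ⟨h, hh, ha, hb, hc, hd⟩ := Stv.map4 a b c d (pt 0) (pt 1) (pt 2) (pt 3)
    (by simp [hab, hac, had, hbc, hbd, hcd]) (by decide)
  refine ⟨h, hh, ?_⟩
  apply Finset.eq_of_subset_of_card_le
  · intro x hx
    obtain ⟨y, hy, rfl⟩ := Finset.mem_smul_finset.1 hx
    simp only [Finset.mem_insert, Finset.mem_singleton] at hy
    rw [mem_support_word, Equiv.Perm.smul_def]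
    rcases hy with rfl | rfl | rfl | rfl
    · rw [ha, code_pt 0 (by norm_num)]
      decide
    · rw [hb, code_pt 1 (by norm_num)]
      decide
    · rw [hc, code_pt 2 (by norm_num)]
      decide
    · rw [hd, code_pt 3 (by norm_num)]
      decide
  · rw [card_support, hammingNorm_word, Finset.card_smul_finset, ht]
    decide

/-- The group is transitive on sextets. -/
theorem exists_std {S : Finset (Finset GolayPt)} (hS : S ∈ sextets) : ∃ h ∈ M24, h • S = S0 := by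
  obtain ⟨t, ht, -⟩ := exists_tet_pt hS (pt 0)
  obtain ⟨h, hh, e⟩ := tet_std t (hS.2.1 t ht)
  refine ⟨h, hh, sextet_unique (smul_sextet hh hS) S0_sextet (t := support₂ (word 15)) ?_ ?_⟩
  · rw [← e]
    exact Finset.smul_mem_smul_finset ht
  · exact mem_mkSys.2 ⟨15, by decide, rfl⟩

theorem cls_lt (S X : Finset (Finset GolayPt)) : cls S X < 4 := by
  unfold cls
  split_ifs <;> norm_num

theorem orb_zero {Z : Finset (Finset GolayPt)} (h : Orb S0 (mkSys (repL 0)) Z) : Z = S0 := by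
  obtain ⟨g, hg, gS, rfl⟩ := h
  exact gS

/-- Check of a witness for a step between classes. -/
def witChk (c c' : ℕ) (w : List ℕ × List ℕ × ℕ × List ℕ × ℕ × List ℕ) : Bool :=
  and (and (and (chk w.1 w.2.1) (memChk w.1))
    (and (w.2.2.2.1.any (fun b => Nat.beq w.2.2.1 b)) (w.2.2.2.2.2.any (fun b => Nat.beq w.2.2.2.2.1 b))))
    (and (and (sextChk w.2.2.2.1) (sextChk w.2.2.2.2.2))
      (and (and (S0L.any (fun b => Nat.beq (pmL w.1 w.2.2.1) b))
        ((repL c).any (fun b => Nat.beq (pmL w.1 w.2.2.2.2.1) b)))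
        (and (Nat.beq (clsL S0L w.2.2.2.1) c) (Nat.beq (clsL S0L w.2.2.2.2.2) c'))))

theorem wit_spec (c c' : ℕ) (hc : c < 4) (hc' : c' < 4)
    (w : List ℕ × List ℕ × ℕ × List ℕ × ℕ × List ℕ) (h : witChk c c' w = true) :
    ∃ k ∈ M24, Orb S0 (mkSys (repL c)) (k • S0) ∧ Orb S0 (mkSys (repL c')) (k • mkSys (repL c)) := by
  simp only [witChk, Bool.and_eq_true, List.any_eq_true, Nat.beq_eq] at h
  obtain ⟨⟨⟨hchk, hm⟩, ⟨a1, ha1, e1⟩, ⟨a2, ha2, e2⟩⟩, ⟨hx, hy⟩, ⟨⟨b1, hb1, f1⟩, ⟨b2, hb2, f2⟩⟩,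
    hc1, hc2⟩ := h
  have hk := mkPerm_mem w.1 w.2.1 hchk hm
  have hxs := mkSys_sextet hx
  have hys := mkSys_sextet hy
  have ex : mkPerm w.1 w.2.1 hchk • S0 = mkSys w.2.2.2.1 := by
    apply sextet_unique (smul_sextet hk S0_sextet) hxs (t := support₂ (word w.2.2.1))
    · rw [← smul_support_word hchk f1]
      exact Finset.smul_mem_smul_finset (mem_mkSys.2 ⟨b1, hb1, rfl⟩)
    · exact mem_mkSys.2 ⟨a1, ha1, by rw [e1]⟩
  have ey : mkPerm w.1 w.2.1 hchk • mkSys (repL c) = mkSys w.2.2.2.2.2 := by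
    apply sextet_unique (smul_sextet hk (rep_sextet c hc)) hys (t := support₂ (word w.2.2.2.2.1))
    · rw [← smul_support_word hchk f2]
      exact Finset.smul_mem_smul_finset (mem_mkSys.2 ⟨b2, hb2, rfl⟩)
    · exact mem_mkSys.2 ⟨a2, ha2, by rw [e2]⟩
  refine ⟨mkPerm w.1 w.2.1 hchk, hk, ?_, ?_⟩
  · rw [ex, class_eq hxs hc, S0, cls_mkSys]
    exact hc1
  · rw [ey, class_eq hys hc', S0, cls_mkSys]
    exact hc2

set_option maxRecDepth 100000 in
theorem wit12 : witChk 1 2 ([21, 2, 13, 1, 5, 18, 6, 16, 23, 9, 19, 10, 17, 7, 3, 15, 14, 20, 12, 8, 22, 11, 4, 0], [23, 3, 1, 14, 22, 4, 6, 13, 19, 9, 11, 21, 18, 2, 16, 15, 7, 12, 5, 10, 17, 0, 20, 8], 1616, [1616, 720928, 1310729, 2105350, 4200576, 8438016], 5312, [5312, 663554, 1065224, 2162724, 4196880, 8683521]) = true := by decide +kernel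

set_option maxRecDepth 100000 in
theorem wit23 : witChk 2 3 ([1, 18, 15, 17, 20, 21, 19, 8, 22, 23, 5, 0, 2, 10, 3, 12, 6, 16, 7, 11, 9, 4, 13, 14], [11, 0, 12, 14, 21, 10, 16, 18, 7, 20, 13, 19, 15, 22, 23, 2, 17, 3, 1, 6, 4, 5, 8, 9], 1680, [1680, 425986, 1048868, 2179080, 4200512, 8921089], 25664, [25664, 69649, 131364, 1343490, 4719112, 10487936]) = true := by decide +kernel

set_option maxRecDepth 100000 in
theorem wit31 : witChk 3 1 ([15, 12, 1, 8, 7, 16, 10, 18, 22, 17, 13, 0, 3, 6, 5, 9, 4, 11, 23, 2, 20, 19, 14, 21], [11, 2, 19, 12, 16, 14, 13, 4, 3, 15, 6, 17, 1, 10, 22, 0, 5, 9, 7, 21, 20, 23, 8, 18], 37122, [37122, 148481, 270472, 2164768, 4194836, 9961536], 16425, [16425, 102528, 525584, 1058880, 6554112, 8519686]) = true := by decide +kernel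

/-- The facts about the action of a sextet stabiliser on sextets, for an arbitrary sextet. -/
theorem main {S : Finset (Finset GolayPt)} (hS : S ∈ sextets) :
    ∃ X : ℕ → Finset (Finset GolayPt), (∀ c, X c ∈ sextets) ∧
      {Z | Orb S (X 1) Z}.ncard = 90 ∧ {Z | Orb S (X 2) Z}.ncard = 240 ∧
      {Z | Orb S (X 3) Z}.ncard = 1440 ∧
      (∀ Z ∈ sextets, Z = S ∨ Orb S (X 1) Z ∨ Orb S (X 2) Z ∨ Orb S (X 3) Z) ∧
      (¬ Orb S (X 1) S) ∧
      (∃ k ∈ M24, Orb S (X 1) (k • S) ∧ Orb S (X 2) (k • X 1)) ∧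
      (∃ k ∈ M24, Orb S (X 2) (k • S) ∧ Orb S (X 3) (k • X 2)) ∧
      (∃ k ∈ M24, Orb S (X 3) (k • S) ∧ Orb S (X 1) (k • X 3)) := by
  obtain ⟨h, hh, hS0⟩ := exists_std hS
  have hi : h⁻¹ ∈ M24 := M24.inv_mem hh
  have hrep : ∀ c, mkSys (repL c) ∈ sextets := by
    intro c
    by_cases hc : c < 4
    · exact rep_sextet c hc
    · have : repL c = S0L := by
        unfold repL
        rw [beq_false (by omega), beq_false (by omega), beq_false (by omega)]
        rfl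
      rw [this]
      exact S0_sextet
  have key : ∀ c, ∀ Z, Orb S (h⁻¹ • mkSys (repL c)) Z ↔ Orb S0 (mkSys (repL c)) (h • Z) := by
    intro c Z
    rw [orb_transport hh, hS0]
  have hn : ∀ c, c < 4 → {Z | Orb S (h⁻¹ • mkSys (repL c)) Z}.ncard
      = [1, 90, 240, 1440].getD c 0 := by
    intro c hc
    rw [← counts c hc, ← ncard_class c]
    have : {Z | Orb S (h⁻¹ • mkSys (repL c)) Z}
        = (fun Y => h⁻¹ • Y) '' {X | X ∈ sextets ∧ cls S0 X = c} := by
      ext Z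
      simp only [Set.mem_ofPred_eq, Set.mem_image]
      rw [key]
      constructor
      · intro hZ
        exact ⟨h • Z, ⟨orb_sextet (rep_sextet c hc) hZ, (class_eq (orb_sextet (rep_sextet c hc) hZ)
          hc).1 hZ⟩, inv_smul_smul h Z⟩
      · rintro ⟨Y, ⟨hY, hcls⟩, rfl⟩
        rw [smul_inv_smul]
        exact (class_eq hY hc).2 hcls
    rw [this, Set.ncard_image_of_injective _ (MulAction.injective h⁻¹)]
  have wit : ∀ c c', (∃ k ∈ M24, Orb S0 (mkSys (repL c)) (k • S0) ∧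
      Orb S0 (mkSys (repL c')) (k • mkSys (repL c))) →
      ∃ k ∈ M24, Orb S (h⁻¹ • mkSys (repL c)) (k • S) ∧
        Orb S (h⁻¹ • mkSys (repL c')) (k • (h⁻¹ • mkSys (repL c))) := by
    rintro c c' ⟨k, hk, o1, o2⟩
    refine ⟨h⁻¹ * k * h, M24.mul_mem (M24.mul_mem hi hk) hh, ?_, ?_⟩
    · rw [key, mul_smul, mul_smul, smul_inv_smul, hS0]
      exact o1
    · rw [key, mul_smul, mul_smul, smul_inv_smul, smul_inv_smul]
      exact o2
  refine ⟨fun c => h⁻¹ • mkSys (repL c), fun c => smul_sextet hi (hrep c), hn 1 (by norm_num),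
    hn 2 (by norm_num), hn 3 (by norm_num), ?_, ?_, wit 1 2 (wit_spec 1 2 (by norm_num)
    (by norm_num) _ wit12), wit 2 3 (wit_spec 2 3 (by norm_num) (by norm_num) _ wit23),
    wit 3 1 (wit_spec 3 1 (by norm_num) (by norm_num) _ wit31)⟩
  · intro Z hZ
    have hZ' := smul_sextet hh hZ
    have hlt := cls_lt S0 (h • Z)
    have h0 := (class_eq hZ' (c := 0) (by norm_num)).2
    have h1 := (class_eq hZ' (c := 1) (by norm_num)).2
    have h2 := (class_eq hZ' (c := 2) (by norm_num)).2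
    have h3 := (class_eq hZ' (c := 3) (by norm_num)).2
    simp only [key]
    have hcases : cls S0 (h • Z) = 0 ∨ cls S0 (h • Z) = 1 ∨ cls S0 (h • Z) = 2 ∨
        cls S0 (h • Z) = 3 := by omega
    rcases hcases with e | e | e | e
    · left
      have := orb_zero (h0 e)
      rw [← hS0] at this
      exact MulAction.injective h this
    · exact Or.inr (Or.inl (h1 e))
    · exact Or.inr (Or.inr (Or.inl (h2 e)))
    · exact Or.inr (Or.inr (Or.inr (h3 e)))
  · rw [key, hS0, class_eq S0_sextet (by norm_num)]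
    have := cls_rep 0 (by norm_num)
    have e0 : mkSys (repL 0) = S0 := rfl
    rw [e0] at this
    rw [this]
    norm_num

end Sx
end Cfsg.Agent.Lib.Helper4
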