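import Cfsg.Agent.Lib.Helper4.Sy6

/-!
An abstract criterion for a Sylow 2-subgroup to be self-normalising, tailored to an extension
of a group of order 192 by the symmetric group on six letters.
-/

set_option autoImplicit false

namespace Cfsg.Agent.Lib.Helper4.Sy7

theorem eq_one_of_two_three {H : Type*} [Group H] (g : H) (j : ℕ) (h2 : g ^ 2 ^ j = 1)
    (h3 : g ^ 3 = 1) : g = 1 := by
  have d1 : orderOf g ∣ 2 ^ j := orderOf_dvd_of_pow_eq_one h2
  have d2 : orderOf g ∣ 3 := orderOf_dvd_of_pow_eq_one h3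
  have hc : Nat.Coprime (2 ^ j) 3 := Nat.Coprime.pow_left j (by decide)
  have h1 : orderOf g = 1 := Nat.eq_one_of_dvd_coprimes hc d1 d2
  exact orderOf_eq_one_iff.mp h1

theorem abstract_normalizer {H : Type*} [Group H] [Finite H] {α : Type*} [Fintype α]
    [DecidableEq α] (hα : Fintype.card α = 6) (π : H →* Equiv.Perm α)
    (hker : Nat.card ↥π.ker = 192) (hH : Nat.card H = 138240)
    (S : Subgroup H) (hS : Nat.card ↥S = 1024)
    (c s : H) (hc : π c = 1) (hc3 : c ^ 3 = 1) (hc1 : c ≠ 1) (hs : s * s = 1)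
    (hsc : s * c * s * c = 1)
    (n : H) (hn : n ∈ Subgroup.normalizer (S : Set H)) : n ∈ S := by
  classical
  have : Fact (Nat.Prime 2) := ⟨Nat.prime_two⟩
  let πS : ↥S →* Equiv.Perm α := π.comp S.subtype
  have h1 := Subgroup.card_eq_card_quotient_mul_card_subgroup πS.ker
  rw [Nat.card_congr (QuotientGroup.quotientKerEquivRange πS).toEquiv, hS] at h1
  have ha192 : Nat.card ↥πS.ker ∣ 192 := by
    rw [← hker]
    let j : ↥πS.ker →* ↥π.ker :=
      { toFun := fun x => ⟨((x : ↥S) : H), MonoidHom.mem_ker.mpr (MonoidHom.mem_ker.mp x.2)⟩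
        map_one' := rfl
        map_mul' := fun _ _ => rfl }
    apply Subgroup.card_dvd_of_injective j
    intro x y hxy
    apply Subtype.ext
    apply Subtype.ext
    exact congrArg (fun z : ↥π.ker => (z : H)) hxy
  have hb720 : Nat.card ↥πS.range ∣ 720 := by
    have h720 : Nat.card (Equiv.Perm α) = 720 := by
      rw [Nat.card_perm, Nat.card_eq_fintype_card, hα]; decide
    rw [← h720]
    exact Subgroup.card_subgroup_dvd_card _
  have ha64 : Nat.card ↥πS.ker ∣ 64 :=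
    Nat.dvd_gcd (m := 1024) (n := 192) (Dvd.intro_left _ h1.symm) ha192
  have hb16 : Nat.card ↥πS.range ∣ 16 :=
    Nat.dvd_gcd (m := 1024) (n := 720) (Dvd.intro _ h1.symm) hb720
  have hale : Nat.card ↥πS.ker ≤ 64 := Nat.le_of_dvd (by norm_num) ha64
  have hble : Nat.card ↥πS.range ≤ 16 := Nat.le_of_dvd (by norm_num) hb16
  have hb : Nat.card ↥πS.range = 16 := by
    generalize Nat.card ↥πS.range = b at h1 hble
    generalize Nat.card ↥πS.ker = a at h1 hale
    interval_cases b <;> omega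
  have ha : Nat.card ↥πS.ker = 64 := by rw [hb] at h1; omega
  have hnS : ∀ x : H, x ∈ S ↔ n * x * n⁻¹ ∈ S := Subgroup.mem_normalizer_iff.mp hn
  have hmemQ : π n ∈ πS.range := by
    apply Sy6.sylow_six hα πS.range hb (π n)
    rintro _ ⟨x, rfl⟩
    refine ⟨⟨n * x * n⁻¹, (hnS x).mp x.2⟩, ?_⟩
    show π (n * x * n⁻¹) = π n * π x * (π n)⁻¹
    rw [map_mul, map_mul, map_inv]
  obtain ⟨x, hx⟩ := hmemQ
  have hx' : π (x : H) = π n := hx
  have hk : (x : H)⁻¹ * n ∈ π.ker := by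
    rw [MonoidHom.mem_ker, map_mul, map_inv, hx', inv_mul_cancel]
  have hkN : (x : H)⁻¹ * n ∈ Subgroup.normalizer (S : Set H) :=
    Subgroup.mul_mem _ (Subgroup.inv_mem _ (Subgroup.le_normalizer x.2)) hn
  suffices hkS : (x : H)⁻¹ * n ∈ S by
    have h2 := S.mul_mem x.2 hkS
    rwa [mul_inv_cancel_left] at h2
  by_contra hkS
  let M : Subgroup H := π.ker ⊓ Subgroup.normalizer (S : Set H)
  let E : Subgroup H := (πS.ker).map S.subtype
  have hEcard : Nat.card ↥E = 64 := by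
    rw [← ha]
    exact (Nat.card_congr
      (πS.ker.equivMapOfInjective S.subtype S.subtype_injective).toEquiv).symm
  have hES : E ≤ S := by
    rintro _ ⟨y, -, rfl⟩
    exact y.2
  have hEM : E ≤ M := by
    rintro _ ⟨y, hy, rfl⟩
    exact ⟨MonoidHom.mem_ker.mpr (MonoidHom.mem_ker.mp hy), Subgroup.le_normalizer y.2⟩
  have hMker : M ≤ π.ker := inf_le_left
  have d1 : 64 ∣ Nat.card ↥M := by rw [← hEcard]; exact Subgroup.card_dvd_of_le hEM
  have d2 : Nat.card ↥M ∣ 192 := by rw [← hker]; exact Subgroup.card_dvd_of_le hMker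
  have hkM : (x : H)⁻¹ * n ∈ M := ⟨hk, hkN⟩
  have hMcard : Nat.card ↥M = 192 := by
    have hle : Nat.card ↥M ≤ 192 := Nat.le_of_dvd (by norm_num) d2
    obtain ⟨j, hj⟩ := d1
    obtain ⟨i, hi⟩ := d2
    have hj3 : j ≤ 3 := by omega
    interval_cases j
    · rw [hj] at hi; omega
    · exfalso
      have hEq : E = M := Subgroup.eq_of_le_of_card_ge hEM (by rw [hj, hEcard])
      exact hkS (hES (hEq ▸ hkM))
    · rw [hj] at hi; omega
    · rw [hj]
  have hMeq : M = π.ker := Subgroup.eq_of_le_of_card_ge hMker (by rw [hMcard, hker])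
  have hkerN : π.ker ≤ Subgroup.normalizer (S : Set H) := by
    rw [← hMeq]; exact inf_le_right
  have hSp : IsPGroup 2 ↥S := IsPGroup.of_card (n := 10) (by rw [hS]; norm_num)
  have hSi : ¬ 2 ∣ S.index := by
    have h := S.card_mul_index
    rw [hS, hH] at h
    omega
  have hzp : IsPGroup 2 ↥(Subgroup.zpowers s) := by
    have ho : orderOf s ∣ 2 := orderOf_dvd_of_pow_eq_one (by rw [pow_two]; exact hs)
    rcases (Nat.dvd_prime Nat.prime_two).mp ho with h | h
    · exact IsPGroup.of_card (n := 0) (by rw [Nat.card_zpowers, h]; norm_num)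
    · exact IsPGroup.of_card (n := 1) (by rw [Nat.card_zpowers, h]; norm_num)
  obtain ⟨P2, hP2⟩ := hzp.exists_le_sylow
  obtain ⟨a, ha2⟩ := MulAction.exists_smul_eq H (hSp.toSylow hSi) P2
  have hs1 : a⁻¹ * s * a ∈ S := by
    have h3 : s ∈ (P2 : Subgroup H) := hP2 (Subgroup.mem_zpowers s)
    rw [← ha2, Sylow.coe_subgroup_smul, Subgroup.mem_pointwise_smul_iff_inv_smul_mem,
      IsPGroup.toSylow_coe] at h3
    simpa [MulAut.smul_def] using h3
  have hc1N : a⁻¹ * c * a ∈ Subgroup.normalizer (S : Set H) := by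
    apply hkerN
    rw [MonoidHom.mem_ker, map_mul, map_mul, hc, mul_one, map_inv, inv_mul_cancel]
  have h5 := (Subgroup.mem_normalizer_iff.mp hc1N (a⁻¹ * s * a)).mp hs1
  have h6 := S.mul_mem (S.inv_mem hs1) h5
  have sinv : s⁻¹ = s := inv_eq_of_mul_eq_one_left hs
  have hscs : s * c * s = c⁻¹ := eq_inv_of_mul_eq_one_left hsc
  have e : (a⁻¹ * s * a)⁻¹ * (a⁻¹ * c * a * (a⁻¹ * s * a) * (a⁻¹ * c * a)⁻¹)
      = a⁻¹ * (s⁻¹ * c * s * c⁻¹) * a := by group
  rw [e, sinv, hscs] at h6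
  obtain ⟨j, hj⟩ := hSp ⟨_, h6⟩
  have hj' : (a⁻¹ * (c⁻¹ * c⁻¹) * a) ^ 2 ^ j = 1 := by
    have h7 := congrArg (fun y : ↥S => (y : H)) hj
    simpa using h7
  have hccc : c * c * c = 1 := by rw [← hc3, pow_succ, pow_two]
  have h3' : (a⁻¹ * (c⁻¹ * c⁻¹) * a) ^ 3 = 1 := by
    have e3 : (a⁻¹ * (c⁻¹ * c⁻¹) * a) ^ 3
        = a⁻¹ * ((c * c * c)⁻¹ * (c * c * c)⁻¹) * a := by
      rw [pow_succ, pow_two]; group
    rw [e3, hccc]; group
  have h7 := eq_one_of_two_three _ j hj' h3'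
  apply hc1
  have h8 : c⁻¹ * c⁻¹ = 1 := by
    have e8 : c⁻¹ * c⁻¹ = a * (a⁻¹ * (c⁻¹ * c⁻¹) * a) * a⁻¹ := by group
    rw [e8, h7]; group
  have e9 : c = c ^ 3 * (c⁻¹ * c⁻¹) := by group
  rw [e9, hc3, h8, mul_one]

end Cfsg.Agent.Lib.Helper4.Sy7
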