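import Cfsg.Agent.S1551
import Cfsg.Agent.S1552
import Cfsg.Agent.Lib.Helper4.Gq1
import Cfsg.Agent.Lib.Helper4.Sy7

/-!
Sylow 2-subgroups of the group of the length-24 code are self-normalising.
-/

set_option autoImplicit false
open scoped Pointwise
open Cfsg

namespace Cfsg.Agent.Lib.Helper4.Sy2

open Cfsg.Agent.Lib.Helper4 Cfsg.Agent.Lib.Helper4.Golay Cfsg.Agent.Lib.Helper4.Sx
  Cfsg.Agent.Lib.Helper4.Gq

/-- An element of order three fixing every tetrad of the standard sextet. -/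
def cL : List ℕ :=
  [3, 1, 0, 2, 7, 17, 11, 10, 8, 6, 4, 9, 12, 13, 14, 16, 19, 23, 20, 15, 21, 18, 22, 5]

def cL' : List ℕ :=
  [2, 1, 3, 0, 10, 23, 9, 4, 8, 11, 7, 6, 12, 13, 14, 19, 15, 5, 21, 16, 18, 20, 22, 17]

/-- An involution of the sextet stabiliser inverting it. -/
def sL : List ℕ :=
  [16, 8, 19, 15, 20, 6, 5, 18, 1, 17, 21, 23, 13, 12, 22, 3, 0, 9, 7, 2, 4, 10, 14, 11]

set_option maxRecDepth 100000 in
theorem c_chk : chk cL cL' = true ∧ memChk cL = true ∧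
    (S0L.all (fun b => Nat.beq (pmL cL b) b)) = true := by decide +kernel

set_option maxRecDepth 100000 in
theorem s_chk : chk sL sL = true ∧ memChk sL = true ∧
    (S0L.all (fun a => S0L.contains (pmL sL a))) = true ∧
    (S0L.all (fun b => S0L.any (fun a => Nat.beq (pmL sL a) b))) = true := by decide +kernel

def c0 : Equiv.Perm GolayPt := mkPerm cL cL' c_chk.1

def s0 : Equiv.Perm GolayPt := mkPerm sL sL s_chk.1

theorem c0_mem : c0 ∈ M24 := mkPerm_mem _ _ _ c_chk.2.1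

theorem s0_mem : s0 ∈ M24 := mkPerm_mem _ _ _ s_chk.2.1

theorem c0_fix {t : Finset GolayPt} (ht : t ∈ S0) : c0 • t = t := by
  obtain ⟨b, hb, rfl⟩ := mem_mkSys.1 ht
  have h := c_chk.2.2
  rw [List.all_eq_true] at h
  exact smul_support_word c_chk.1 (Nat.eq_of_beq_eq_true (h b hb))

theorem c0_stab : c0 • S0 = S0 := by
  ext t
  constructor
  · intro h
    obtain ⟨v, hv, rfl⟩ := Finset.mem_smul_finset.1 h
    rw [c0_fix hv]
    exact hv
  · intro h
    exact Finset.mem_smul_finset.2 ⟨t, h, c0_fix h⟩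

theorem s0_stab : s0 • S0 = S0 := by
  obtain ⟨h1, -, h3, h4⟩ := s_chk
  rw [List.all_eq_true] at h3 h4
  ext t
  constructor
  · intro h
    obtain ⟨v, hv, rfl⟩ := Finset.mem_smul_finset.1 h
    obtain ⟨b, hb, rfl⟩ := mem_mkSys.1 hv
    have h5 := h4 b hb
    rw [List.any_eq_true] at h5
    obtain ⟨a, ha, hab⟩ := h5
    have h6 : s0 • support₂ (word b) = support₂ (word a) :=
      smul_support_word h1 (Nat.eq_of_beq_eq_true hab)
    rw [h6]
    exact mem_mkSys.2 ⟨a, ha, rfl⟩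
  · intro h
    obtain ⟨a, ha, rfl⟩ := mem_mkSys.1 h
    have h6 : pmL sL a ∈ S0L := by
      have h5 := h3 a ha
      simpa using h5
    exact Finset.mem_smul_finset.2
      ⟨support₂ (word (pmL sL a)), mem_mkSys.2 ⟨_, h6, rfl⟩, smul_support_word h1 rfl⟩

set_option maxRecDepth 100000 in
theorem rel_c3 : c0 * c0 * c0 = 1 := by
  apply toL_injective
  rw [toL_mul, toL_mul, toL_one, c0, toL_mkPerm]
  decide +kernel

theorem c0_ne : c0 ≠ 1 := by
  intro h
  have h1 := congrArg toL h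
  rw [toL_one, c0, toL_mkPerm] at h1
  exact absurd h1 (by decide)

set_option maxRecDepth 100000 in
theorem rel_s2 : s0 * s0 = 1 := by
  apply toL_injective
  rw [toL_mul, toL_one, s0, toL_mkPerm]
  decide +kernel

set_option maxRecDepth 100000 in
theorem rel_inv : s0 * c0 * s0 * c0 = 1 := by
  apply toL_injective
  rw [toL_mul, toL_mul, toL_mul, toL_one, c0, s0, toL_mkPerm, toL_mkPerm]
  decide +kernel

theorem card_sylow (S : Sylow 2 ↥M24) : Nat.card ↥(S : Subgroup ↥M24) = 1024 := by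
  have : Fact (Nat.Prime 2) := ⟨Nat.prime_two⟩
  obtain ⟨k, hk⟩ := IsPGroup.iff_card.mp S.isPGroup'
  have h1 := (S : Subgroup ↥M24).card_mul_index
  have h2 : ¬ 2 ∣ (S : Subgroup ↥M24).index := S.not_dvd_index
  rw [hk, card_M24] at h1
  rcases Nat.lt_or_ge k 10 with h | h
  · exfalso
    interval_cases k <;> omega
  · rcases Nat.lt_or_ge 10 k with h' | h'
    · exfalso
      obtain ⟨j, rfl⟩ : ∃ j, k = 11 + j := ⟨k - 11, by omega⟩
      rw [pow_add] at h1
      have h3 : 2048 * (2 ^ j * (S : Subgroup ↥M24).index) = 244823040 := by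
        rw [← h1]; ring
      omega
    · have h3 : k = 10 := by omega
      rw [hk, h3]; norm_num

theorem exists_fixed_sextet (S : Sylow 2 ↥M24) : ∃ X ∈ sextets,
    ∀ s ∈ (S : Subgroup ↥M24), (s : Equiv.Perm GolayPt) • X = X := by
  classical
  have : Fact (Nat.Prime 2) := ⟨Nat.prime_two⟩
  let A : SubMulAction ↥(S : Subgroup ↥M24) (Finset (Finset GolayPt)) :=
    ⟨sextets, fun c {X} hX => smul_sextet c.1.2 hX⟩
  have hmod := S.isPGroup'.card_modEq_card_fixedPoints (↥A)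
  have hcard : Nat.card ↥A = 1771 := by
    rw [← Cfsg.Agent.S1550.result.2]
    exact Nat.card_coe_set_eq sextets
  rw [hcard] at hmod
  have hne : Nat.card (MulAction.fixedPoints ↥(S : Subgroup ↥M24) ↥A) ≠ 0 := by
    intro h
    rw [h] at hmod
    exact absurd hmod (by decide)
  obtain ⟨⟨⟨X, hX⟩, hfix⟩⟩ := (Nat.card_ne_zero.mp hne).1
  refine ⟨X, hX, fun s hs => ?_⟩
  exact congrArg Subtype.val (hfix ⟨s, hs⟩)

/-- The stabiliser of the standard sextet. -/
abbrev H0 : Subgroup ↥M24 := MulAction.stabilizer ↥M24 S0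

theorem mem_H0 (g : ↥M24) : g ∈ H0 ↔ (g : Equiv.Perm GolayPt) • S0 = S0 := by
  rw [MulAction.mem_stabilizer_iff]
  rfl

theorem tetHom_surj : Function.Surjective (Cfsg.Agent.S1551.tetHom S0) := by
  intro e
  obtain ⟨g, hg, h⟩ := Cfsg.Agent.S1551.part1 S0_sextet e
  refine ⟨⟨g, hg⟩, ?_⟩
  apply Equiv.ext
  intro t
  apply Subtype.ext
  rw [Cfsg.Agent.S1551.tetHom_apply]
  exact h t

theorem card_ker : Nat.card ↥(Cfsg.Agent.S1551.tetHom S0).ker = 192 := by
  have h1 := Subgroup.card_eq_card_quotient_mul_card_subgroup (Cfsg.Agent.S1551.tetHom S0).ker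
  rw [Nat.card_congr (QuotientGroup.quotientKerEquivOfSurjective _ tetHom_surj).toEquiv,
    Nat.card_perm, Cfsg.Agent.S1551.card_stab S0_sextet] at h1
  have h6 : Nat.card ↥S0 = 6 := by
    rw [Nat.card_eq_fintype_card, Fintype.card_coe]; exact S0_sextet.1
  rw [h6] at h1
  have h720 : (6 : ℕ).factorial = 720 := by decide
  rw [h720] at h1
  omega

/-- A Sylow 2-subgroup fixing the standard sextet is self-normalising. -/
theorem normalizer_le_of_fix (S : Sylow 2 ↥M24)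
    (hfix : ∀ s ∈ (S : Subgroup ↥M24), (s : Equiv.Perm GolayPt) • S0 = S0)
    (n : ↥M24) (hn : n ∈ Subgroup.normalizer ((S : Subgroup ↥M24) : Set ↥M24)) :
    n ∈ (S : Subgroup ↥M24) := by
  classical
  have hSH : (S : Subgroup ↥M24) ≤ H0 := fun s hs => (mem_H0 s).mpr (hfix s hs)
  have hcS := card_sylow S
  have hcH : Nat.card ↥H0 = 138240 := Cfsg.Agent.S1551.card_stab S0_sextet
  have hS' : Nat.card ↥((S : Subgroup ↥M24).subgroupOf H0) = 1024 := by
    rw [← hcS]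
    exact Nat.card_congr (Subgroup.subgroupOfEquivOfLe hSH).toEquiv
  have hnH : n ∈ H0 := by
    by_contra hnH
    have hX' : (n : Equiv.Perm GolayPt) • S0 ∈ sextets := smul_sextet n.2 S0_sextet
    have hne : (n : Equiv.Perm GolayPt) • S0 ≠ S0 := fun h => hnH ((mem_H0 n).mpr h)
    obtain ⟨X1, -, X2, -, X3, -, n1, n2, n3, hcov, -⟩ := Cfsg.Agent.S1552.result S0 S0_sextet
    have hfix' : ∀ x : ↥H0, (x : ↥M24) ∈ (S : Subgroup ↥M24) →
        x • ((n : Equiv.Perm GolayPt) • S0) = (n : Equiv.Perm GolayPt) • S0 := by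
      intro x hx
      have h1 : n⁻¹ * (x : ↥M24) * n ∈ (S : Subgroup ↥M24) := by
        have h2 := (Subgroup.mem_normalizer_iff.mp (Subgroup.inv_mem _ hn) (x : ↥M24)).mp hx
        rwa [inv_inv] at h2
      have h3 := hfix _ h1
      show ((x : ↥M24) : Equiv.Perm GolayPt) • ((n : Equiv.Perm GolayPt) • S0)
        = (n : Equiv.Perm GolayPt) • S0
      have h4 : ((n⁻¹ * (x : ↥M24) * n : ↥M24) : Equiv.Perm GolayPt)
          = (n : Equiv.Perm GolayPt)⁻¹ * ((x : ↥M24) : Equiv.Perm GolayPt)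
            * (n : Equiv.Perm GolayPt) := rfl
      rw [h4, mul_smul, mul_smul] at h3
      have h5 := congrArg (fun Z => (n : Equiv.Perm GolayPt) • Z) h3
      simp only [smul_inv_smul] at h5
      exact h5
    have horb : ∀ Xi : Finset (Finset GolayPt),
        (n : Equiv.Perm GolayPt) • S0 ∈ MulAction.orbit ↥H0 Xi →
        Nat.card ↥H0 = (MulAction.orbit ↥H0 Xi).ncard *
          Nat.card ↥(MulAction.stabilizer ↥H0 ((n : Equiv.Perm GolayPt) • S0)) := by
      intro Xi h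
      rw [← MulAction.orbit_eq_iff.mpr h]
      exact card_orbit_mul_stab (G := ↥H0) _
    have hdvd : 1024 ∣
        Nat.card ↥(MulAction.stabilizer ↥H0 ((n : Equiv.Perm GolayPt) • S0)) := by
      rw [← hS']
      apply Subgroup.card_dvd_of_le
      intro x hx
      rw [MulAction.mem_stabilizer_iff]
      exact hfix' x (Subgroup.mem_subgroupOf.mp hx)
    rw [hcov] at hX'
    simp only [Set.mem_union, Set.mem_singleton_iff] at hX'
    obtain ⟨m, hm⟩ := hdvd
    rcases hX' with ((h | h) | h) | h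
    · exact hne h
    · have h9 := horb X1 h
      rw [hcH, n1, hm] at h9
      omega
    · have h9 := horb X2 h
      rw [hcH, n2, hm] at h9
      omega
    · have h9 := horb X3 h
      rw [hcH, n3, hm] at h9
      omega
  have hmain := Sy7.abstract_normalizer (H := ↥H0) (α := ↥S0)
    (by rw [Fintype.card_coe]; exact S0_sextet.1)
    (Cfsg.Agent.S1551.tetHom S0) card_ker hcH ((S : Subgroup ↥M24).subgroupOf H0) hS'
    ⟨⟨c0, c0_mem⟩, (mem_H0 _).mpr c0_stab⟩ ⟨⟨s0, s0_mem⟩, (mem_H0 _).mpr s0_stab⟩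
    (by
      apply Equiv.ext
      intro t
      apply Subtype.ext
      rw [Cfsg.Agent.S1551.tetHom_apply]
      exact c0_fix t.2)
    (by
      apply Subtype.ext
      apply Subtype.ext
      show c0 ^ 3 = 1
      rw [pow_succ, pow_two]
      exact rel_c3)
    (by
      intro h
      exact c0_ne (congrArg (fun z : ↥H0 => ((z : ↥M24) : Equiv.Perm GolayPt)) h))
    (Subtype.ext (Subtype.ext rel_s2))
    (Subtype.ext (Subtype.ext rel_inv))
    ⟨n, hnH⟩
    (by
      rw [Subgroup.mem_normalizer_iff]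
      intro x
      rw [Subgroup.mem_subgroupOf, Subgroup.mem_subgroupOf]
      exact Subgroup.mem_normalizer_iff.mp hn x)
  exact Subgroup.mem_subgroupOf.mp hmain

/-- Sylow 2-subgroups of the group of the length-24 code are self-normalising. -/
theorem sylow_self_normalizing (S : Sylow 2 ↥M24) :
    Subgroup.normalizer ((S : Subgroup ↥M24) : Set ↥M24) = (S : Subgroup ↥M24) := by
  apply le_antisymm _ Subgroup.le_normalizer
  intro n hn
  obtain ⟨X, hX, hfix⟩ := exists_fixed_sextet S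
  obtain ⟨h, hh, e⟩ := exists_std hX
  have hmem : ∀ y : ↥M24, y ∈ (((⟨h, hh⟩ : ↥M24) • S : Sylow 2 ↥M24) : Subgroup ↥M24) ↔
      (⟨h, hh⟩ : ↥M24)⁻¹ * y * ⟨h, hh⟩ ∈ (S : Subgroup ↥M24) := by
    intro y
    rw [Sylow.coe_subgroup_smul, Subgroup.mem_pointwise_smul_iff_inv_smul_mem]
    simp [MulAut.smul_def]
  have h1 : (⟨h, hh⟩ : ↥M24) * n * (⟨h, hh⟩ : ↥M24)⁻¹ ∈
      (((⟨h, hh⟩ : ↥M24) • S : Sylow 2 ↥M24) : Subgroup ↥M24) := by
    apply normalizer_le_of_fix ((⟨h, hh⟩ : ↥M24) • S)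
    · intro y hy
      have h2 := hfix _ ((hmem y).mp hy)
      have h4 : (((⟨h, hh⟩ : ↥M24)⁻¹ * y * ⟨h, hh⟩ : ↥M24) : Equiv.Perm GolayPt)
          = h⁻¹ * (y : Equiv.Perm GolayPt) * h := rfl
      rw [h4, mul_smul, mul_smul, e] at h2
      have h5 := congrArg (fun Z => h • Z) h2
      simp only [smul_inv_smul] at h5
      rw [e] at h5
      exact h5
    · rw [Subgroup.mem_normalizer_iff]
      intro y
      rw [hmem, hmem]
      have h6 := Subgroup.mem_normalizer_iff.mp hn ((⟨h, hh⟩ : ↥M24)⁻¹ * y * ⟨h, hh⟩)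
      have e6 : (⟨h, hh⟩ : ↥M24)⁻¹ * ((⟨h, hh⟩ : ↥M24) * n * (⟨h, hh⟩ : ↥M24)⁻¹ * y *
          ((⟨h, hh⟩ : ↥M24) * n * (⟨h, hh⟩ : ↥M24)⁻¹)⁻¹) * ⟨h, hh⟩
          = n * ((⟨h, hh⟩ : ↥M24)⁻¹ * y * ⟨h, hh⟩) * n⁻¹ := by group
      rw [e6]
      exact h6
  rw [hmem] at h1
  have e7 : (⟨h, hh⟩ : ↥M24)⁻¹ * ((⟨h, hh⟩ : ↥M24) * n * (⟨h, hh⟩ : ↥M24)⁻¹) * ⟨h, hh⟩ = n := by
    group
  rw [e7] at h1
  exact h1

end Cfsg.Agent.Lib.Helper4.Sy2
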