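import Mathlib

/-!
Sylow 2-subgroups of the symmetric group on six letters are self-normalising.
-/

set_option autoImplicit false
open scoped Pointwise

namespace Cfsg.Agent.Lib.Helper4.Sy6

def A6 : Finset (Finset (Fin 6)) := {{0, 1}, {2, 3}}
def B6 : Finset (Fin 6) := {4, 5}

def memQ (g : Equiv.Perm (Fin 6)) : Bool :=
  decide (g • A6 = A6) && decide (g • B6 = B6)

def gen : Fin 4 → Equiv.Perm (Fin 6)
  | 0 => Equiv.swap 0 1
  | 1 => Equiv.swap 2 3
  | 2 => Equiv.swap 0 2 * Equiv.swap 1 3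
  | 3 => Equiv.swap 4 5

set_option maxRecDepth 100000 in
theorem gen_mem : ∀ i : Fin 4, memQ (gen i) = true := by decide +kernel

set_option maxRecDepth 100000 in
theorem norm_chk : ∀ g : Equiv.Perm (Fin 6),
    (∀ i : Fin 4, memQ (g * gen i * g⁻¹) = true) → memQ g = true := by decide +kernel

set_option maxRecDepth 100000 in
theorem card_chk : Fintype.card {g : Equiv.Perm (Fin 6) // memQ g = true} = 16 := by
  decide +kernel

/-- An explicit Sylow 2-subgroup of the symmetric group on six letters. -/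
def Q0 : Subgroup (Equiv.Perm (Fin 6)) :=
  MulAction.stabilizer (Equiv.Perm (Fin 6)) A6 ⊓ MulAction.stabilizer (Equiv.Perm (Fin 6)) B6

theorem mem_Q0 (g : Equiv.Perm (Fin 6)) : g ∈ Q0 ↔ memQ g = true := by
  unfold Q0 memQ
  rw [Subgroup.mem_inf, MulAction.mem_stabilizer_iff, MulAction.mem_stabilizer_iff]
  simp

theorem card_Q0 : Nat.card ↥Q0 = 16 := by
  rw [← card_chk, ← Nat.card_eq_fintype_card]
  exact Nat.card_congr (Equiv.subtypeEquivRight mem_Q0)

theorem sylow6 (Q : Subgroup (Equiv.Perm (Fin 6))) (hQ : Nat.card ↥Q = 16)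
    (g : Equiv.Perm (Fin 6)) (hg : ∀ q ∈ Q, g * q * g⁻¹ ∈ Q) : g ∈ Q := by
  have : Fact (Nat.Prime 2) := ⟨Nat.prime_two⟩
  have hS : ∀ K : Subgroup (Equiv.Perm (Fin 6)), Nat.card ↥K = 16 →
      ∃ P : Sylow 2 (Equiv.Perm (Fin 6)), (P : Subgroup (Equiv.Perm (Fin 6))) = K := by
    intro K hK
    have hp : IsPGroup 2 ↥K := IsPGroup.of_card (n := 4) (by rw [hK]; norm_num)
    have hidx : ¬ 2 ∣ K.index := by
      have h := K.card_mul_index
      have h720 : Nat.card (Equiv.Perm (Fin 6)) = 720 := by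
        rw [Nat.card_perm, Nat.card_fin]; decide
      rw [hK, h720] at h
      omega
    exact ⟨hp.toSylow hidx, IsPGroup.toSylow_coe hp hidx⟩
  obtain ⟨P, hP⟩ := hS Q hQ
  obtain ⟨P0, hP0⟩ := hS Q0 card_Q0
  obtain ⟨c, hc⟩ := MulAction.exists_smul_eq (Equiv.Perm (Fin 6)) P0 P
  have hmem : ∀ x, x ∈ Q ↔ c⁻¹ * x * c ∈ Q0 := by
    intro x
    rw [← hP, ← hc, ← hP0, Sylow.coe_subgroup_smul,
      Subgroup.mem_pointwise_smul_iff_inv_smul_mem]
    simp [MulAut.smul_def]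
  rw [hmem, mem_Q0]
  apply norm_chk
  intro i
  rw [← mem_Q0]
  have h1 : c * gen i * c⁻¹ ∈ Q := by
    rw [hmem]
    have e : c⁻¹ * (c * gen i * c⁻¹) * c = gen i := by group
    rw [e]
    exact (mem_Q0 _).mpr (gen_mem i)
  have h2 := hg _ h1
  rw [hmem] at h2
  have e : c⁻¹ * g * c * gen i * (c⁻¹ * g * c)⁻¹ = c⁻¹ * (g * (c * gen i * c⁻¹) * g⁻¹) * c := by
    group
  rw [e]
  exact h2

/-- A subgroup of order 16 of the symmetric group on a six-element type is self-normalising. -/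
theorem sylow_six {α : Type*} [Fintype α] [DecidableEq α] (hα : Fintype.card α = 6)
    (Q : Subgroup (Equiv.Perm α)) (hQ : Nat.card ↥Q = 16) (g : Equiv.Perm α)
    (hg : ∀ q ∈ Q, g * q * g⁻¹ ∈ Q) : g ∈ Q := by
  let e : α ≃ Fin 6 := Fintype.equivFinOfCardEq hα
  let E : Equiv.Perm α ≃* Equiv.Perm (Fin 6) := e.permCongrHom
  have h := sylow6 (Q.map E.toMonoidHom) (by
    rw [← hQ]
    exact (Nat.card_congr (Q.equivMapOfInjective E.toMonoidHom E.injective).toEquiv).symm)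
    (E g) (by
      rintro _ ⟨q, hq, rfl⟩
      refine ⟨g * q * g⁻¹, hg q hq, ?_⟩
      simp)
  obtain ⟨q, hq, hqe⟩ := h
  have h2 : q = g := E.injective hqe
  rw [← h2]
  exact hq

end Cfsg.Agent.Lib.Helper4.Sy6
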