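import Cfsg.Agent.Lib.Helper4.Sx1
import Cfsg.Agent.Lib.Helper4.Rk8

set_option autoImplicit false

namespace Cfsg.Agent.Lib.Helper4
namespace Tr

open Pointwise Golay Sx

theorem card_oct {T : Finset (Finset GolayPt)} (hT : T ∈ trios) {o : Finset GolayPt}
    (ho : o ∈ T) : o.card = 8 := (hT.2.1 o ho).2

theorem exists_oct_pt {T : Finset (Finset GolayPt)} (hT : T ∈ trios) (p : GolayPt) :
    ∃ o ∈ T, p ∈ o := by
  classical
  have hcard : (T.biUnion (fun t => t)).card = 24 := by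
    rw [Finset.card_biUnion (fun t ht u hu hne => hT.2.2 t ht u hu hne),
      Finset.sum_congr rfl (fun t ht => card_oct hT ht), Finset.sum_const, hT.1]
    rfl
  have huniv : T.biUnion (fun t => t) = Finset.univ :=
    Finset.eq_univ_of_card _ (by rw [hcard, card_pts])
  have : p ∈ T.biUnion (fun t => t) := by
    rw [huniv]
    exact Finset.mem_univ p
  obtain ⟨t, ht, hp⟩ := Finset.mem_biUnion.1 this
  exact ⟨t, ht, hp⟩

theorem trio_mem {T : Finset (Finset GolayPt)} (hT : T ∈ trios) {o1 o2 : Finset GolayPt}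
    (h1 : o1 ∈ T) (h2 : o2 ∈ T) (hne : o1 ≠ o2) {o : Finset GolayPt} (ho : o ∈ T) :
    o = o1 ∨ o = o2 ∨ o = (o1 ∪ o2)ᶜ := by
  classical
  by_cases e1 : o = o1
  · exact Or.inl e1
  by_cases e2 : o = o2
  · exact Or.inr (Or.inl e2)
  refine Or.inr (Or.inr ?_)
  have d1 := hT.2.2 o ho o1 h1 e1
  have d2 := hT.2.2 o ho o2 h2 e2
  have d12 := hT.2.2 o1 h1 o2 h2 hne
  apply Finset.eq_of_subset_of_card_le
  · intro x hx
    rw [Finset.mem_compl, Finset.mem_union]
    rintro (h | h)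
    · exact Finset.disjoint_left.1 d1 hx h
    · exact Finset.disjoint_left.1 d2 hx h
  · rw [Finset.card_compl, Finset.card_union_eq_card_add_card.2 d12, card_oct hT h1,
      card_oct hT h2, card_oct hT ho, card_pts]

/-- A trio is determined by two of its members. -/
theorem trio_unique {T T' : Finset (Finset GolayPt)} (hT : T ∈ trios) (hT' : T' ∈ trios)
    {o1 o2 : Finset GolayPt} (h1 : o1 ∈ T) (h2 : o2 ∈ T) (hne : o1 ≠ o2) (h1' : o1 ∈ T')
    (h2' : o2 ∈ T') : T = T' := by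
  classical
  have key : ∀ {A : Finset (Finset GolayPt)}, A ∈ trios → o1 ∈ A → o2 ∈ A →
      A = {o1, o2, (o1 ∪ o2)ᶜ} := by
    intro A hA a1 a2
    apply Finset.eq_of_subset_of_card_le
    · intro o ho
      rw [Finset.mem_insert, Finset.mem_insert, Finset.mem_singleton]
      exact trio_mem hA a1 a2 hne ho
    · rw [hA.1]
      exact Finset.card_le_three
  rw [key hT h1 h2, key hT' h1' h2']

theorem smul_trio {g : Equiv.Perm GolayPt} (hg : g ∈ M24) {T : Finset (Finset GolayPt)}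
    (hT : T ∈ trios) : g • T ∈ trios := by
  refine ⟨by rw [Finset.card_smul_finset]; exact hT.1, ?_, ?_⟩
  · intro t ht
    obtain ⟨t0, ht0, rfl⟩ := Finset.mem_smul_finset.1 ht
    exact smul_mem_weight hg (hT.2.1 t0 ht0)
  · intro t ht u hu hne
    obtain ⟨t0, ht0, rfl⟩ := Finset.mem_smul_finset.1 ht
    obtain ⟨u0, hu0, rfl⟩ := Finset.mem_smul_finset.1 hu
    rw [Rk.disjoint_smul_iff]
    exact hT.2.2 t0 ht0 u0 hu0 (fun e => hne (by rw [e]))

/-- Check that a list of masks is a trio. -/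
def trioChk (L : List ℕ) : Bool :=
  and (and (and (Nat.beq L.length 3) (decide L.Nodup))
    (L.all (fun a => and (Nat.blt a 16777216)
      (and (Nat.beq (red basisP a) 0) (Nat.beq (pc a) 8)))))
    (L.all (fun a => L.all (fun b => or (Nat.beq a b) (Nat.beq (pc (a &&& b)) 0))))

theorem trioChk_lt {L : List ℕ} (h : trioChk L = true) : ∀ a ∈ L, a < 16777216 := by
  simp only [trioChk, Bool.and_eq_true, Nat.beq_eq, decide_eq_true_eq, List.all_eq_true,
    Nat.blt_eq, Bool.or_eq_true] at h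
  exact fun a ha => (h.1.2 a ha).1

theorem mkSys_trio {L : List ℕ} (h : trioChk L = true) : mkSys L ∈ trios := by
  simp only [trioChk, Bool.and_eq_true, Nat.beq_eq, decide_eq_true_eq, List.all_eq_true,
    Nat.blt_eq, Bool.or_eq_true] at h
  obtain ⟨⟨⟨h3, hnd⟩, h8⟩, hd⟩ := h
  refine ⟨?_, ?_, ?_⟩
  · rw [mkSys, Finset.card_image_of_injOn, List.toFinset_card_of_nodup hnd, h3]
    intro a ha b hb e
    rw [Finset.mem_coe, List.mem_toFinset] at ha hb
    exact word_inj (h8 a ha).1 (h8 b hb).1 e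
  · intro t ht
    obtain ⟨a, ha, rfl⟩ := mem_mkSys.1 ht
    exact Stv.mask_octad _ (h8 a ha).2.1 (h8 a ha).2.2
  · intro t ht u hu hne
    obtain ⟨a, ha, rfl⟩ := mem_mkSys.1 ht
    obtain ⟨b, hb, rfl⟩ := mem_mkSys.1 hu
    rcases hd a ha b hb with e | e
    · exact absurd (by rw [e]) hne
    · rw [Finset.disjoint_iff_inter_eq_empty, ← Finset.card_eq_zero, Rk.card_inter_word]
      exact e

theorem smul_mkSys {g : Equiv.Perm GolayPt} (hg : g ∈ M24) {L L' : List ℕ}
    (hL : mkSys L ∈ trios) (hL' : trioChk L' = true) {a b : ℕ} (ha : a ∈ L') (hb : b ∈ L')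
    (hab : a ≠ b) (h1 : ∃ x ∈ L, g • support₂ (word x) = support₂ (word a))
    (h2 : ∃ y ∈ L, g • support₂ (word y) = support₂ (word b)) : g • mkSys L = mkSys L' := by
  obtain ⟨x, hx, e1⟩ := h1
  obtain ⟨y, hy, e2⟩ := h2
  apply trio_unique (smul_trio hg hL) (mkSys_trio hL') (o1 := support₂ (word a))
    (o2 := support₂ (word b))
  · rw [← e1]
    exact Finset.smul_mem_smul_finset (mem_mkSys.2 ⟨x, hx, rfl⟩)
  · rw [← e2]
    exact Finset.smul_mem_smul_finset (mem_mkSys.2 ⟨y, hy, rfl⟩)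
  · intro e
    exact hab (word_inj (trioChk_lt hL' a ha) (trioChk_lt hL' b hb) e)
  · exact mem_mkSys.2 ⟨a, ha, rfl⟩
  · exact mem_mkSys.2 ⟨b, hb, rfl⟩

/-- The permutation given by a list carries the first system of masks to the second: two
distinct members of the second are images of members of the first. -/
def mapChk (l : List ℕ) (L L' : List ℕ) : Bool :=
  L'.any (fun a => L'.any (fun b => and (not (Nat.beq a b))
    (and (L.any (fun x => Nat.beq (pmL l a) x)) (L.any (fun y => Nat.beq (pmL l b) y)))))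

theorem map_spec {l l' : List ℕ} (hc : chk l l' = true) (hm : memChk l = true) {L L' : List ℕ}
    (hL : mkSys L ∈ trios) (hL' : trioChk L' = true) (h : mapChk l L L' = true) :
    mkPerm l l' hc • mkSys L = mkSys L' := by
  simp only [mapChk, List.any_eq_true, Bool.and_eq_true, Nat.beq_eq] at h
  obtain ⟨a, ha, b, hb, hab, ⟨x, hx, e1⟩, ⟨y, hy, e2⟩⟩ := h
  refine smul_mkSys (mkPerm_mem l l' hc hm) hL hL' ha hb ?_ ⟨x, hx, smul_support_word hc e1⟩
    ⟨y, hy, smul_support_word hc e2⟩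
  rintro rfl
  rw [Nat.beq_refl] at hab
  exact absurd hab (by decide)

open Classical in
/-- The class of a set system relative to a fixed one (for trios). -/
noncomputable def clsT (S X : Finset (Finset GolayPt)) : ℕ :=
  if PI 8 S X then (if PI 4 S X then 1 else 0)
  else if PI 2 S X then (if PI 0 S X then 3 else 4) else 2

/-- Computable version of the class. -/
def clsTL (L0 L : List ℕ) : ℕ :=
  cond (anyInt 8 L0 L) (cond (anyInt 4 L0 L) 1 0)
    (cond (anyInt 2 L0 L) (cond (anyInt 0 L0 L) 3 4) 2)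

theorem clsT_mkSys (L0 L : List ℕ) : clsT (mkSys L0) (mkSys L) = clsTL L0 L := by
  have h8 := anyInt_iff 8 L0 L
  have h4 := anyInt_iff 4 L0 L
  have h2 := anyInt_iff 2 L0 L
  have h0 := anyInt_iff 0 L0 L
  unfold clsT clsTL
  cases e8 : anyInt 8 L0 L <;> cases e4 : anyInt 4 L0 L <;> cases e2 : anyInt 2 L0 L <;>
    cases e0 : anyInt 0 L0 L <;>
    simp [e8, e4, e2, e0] at h8 h4 h2 h0 <;> simp [h8, h4, h2, h0]

theorem clsT_smul {g : Equiv.Perm GolayPt} {S : Finset (Finset GolayPt)} (hg : g • S = S)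
    (X : Finset (Finset GolayPt)) : clsT S (g • X) = clsT S X := by
  unfold clsT
  rw [PI_smul hg 8 X, PI_smul hg 4 X, PI_smul hg 2 X, PI_smul hg 0 X]

theorem clsT_lt (S X : Finset (Finset GolayPt)) : clsT S X < 5 := by
  unfold clsT
  split_ifs <;> norm_num

/-- The first position at which a mask has no bit. -/
def fo (a : ℕ) : ℕ := ((List.range 24).find? (fun i => not (a.testBit i))).getD 0

theorem and_eq_zero {a b : ℕ} (ha : a < 16777216)
    (h : Disjoint (support₂ (word a)) (support₂ (word b))) : a &&& b = 0 := by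
  apply word_inj (lt_of_le_of_lt Nat.and_le_left ha) (by norm_num)
  rw [← Rk.inter_word, Finset.disjoint_iff_inter_eq_empty.1 h]
  ext p
  rw [mem_support_word]
  simp

theorem beq_false {a b : ℕ} (h : a ≠ b) : Nat.beq a b = false := by
  cases hb : Nat.beq a b
  · rfl
  · exact absurd (Nat.eq_of_beq_eq_true hb) h

theorem mem_flatten_of_getD {α : Type*} {L : List (List α)} {i : ℕ} {x : α}
    (hx : x ∈ L.getD i []) : x ∈ L.flatten := by
  rw [List.mem_flatten]
  by_cases hi : i < L.length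
  · refine ⟨L.getD i [], ?_, hx⟩
    rw [List.getD_eq_getElem _ _ hi]
    exact List.getElem_mem hi
  · rw [List.getD_eq_default _ _ (by omega)] at hx
    simp at hx

/-- The orbit relation of the stabiliser of a set system. -/
def Orb (S R Z : Finset (Finset GolayPt)) : Prop := ∃ g ∈ M24, g • S = S ∧ g • R = Z

theorem mem_orbit_iff (S R Z : Finset (Finset GolayPt)) :
    Z ∈ MulAction.orbit ↥(MulAction.stabilizer M24 S) R ↔ Orb S R Z := by
  constructor
  · rintro ⟨g, rfl⟩
    exact ⟨g.1.1, g.1.2, g.2, rfl⟩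
  · rintro ⟨g, hg, gS, rfl⟩
    exact ⟨⟨⟨g, hg⟩, gS⟩, rfl⟩

theorem orb_symm {S R Z : Finset (Finset GolayPt)} (h : Orb S R Z) : Orb S Z R := by
  obtain ⟨g, hg, gS, rfl⟩ := h
  refine ⟨g⁻¹, M24.inv_mem hg, ?_, inv_smul_smul g R⟩
  rw [inv_smul_eq_iff, gS]

theorem orb_trio {S R Z : Finset (Finset GolayPt)} (hR : R ∈ trios) (h : Orb S R Z) :
    Z ∈ trios := by
  obtain ⟨g, hg, -, rfl⟩ := h
  exact smul_trio hg hR

theorem orb_transport {h : Equiv.Perm GolayPt} (hh : h ∈ M24) (S R Z : Finset (Finset GolayPt)) :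
    Orb S (h⁻¹ • R) Z ↔ Orb (h • S) R (h • Z) := by
  constructor
  · rintro ⟨g, hg, gS, rfl⟩
    refine ⟨h * g * h⁻¹, M24.mul_mem (M24.mul_mem hh hg) (M24.inv_mem hh), ?_, ?_⟩
    · rw [mul_smul, mul_smul, inv_smul_smul, gS]
    · rw [mul_smul, mul_smul]
  · rintro ⟨g, hg, gS, e⟩
    refine ⟨h⁻¹ * g * h, M24.mul_mem (M24.mul_mem (M24.inv_mem hh) hg) hh, ?_, ?_⟩
    · rw [mul_smul, mul_smul, gS, inv_smul_smul]
    · rw [mul_smul, mul_smul, smul_inv_smul, e, inv_smul_smul]

/-- Boolean duplicate-freeness check for pairs. -/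
def nodupB2 : List (ℕ × ℕ) → Bool
  | [] => true
  | a :: l => and (l.all (fun b => not (and (Nat.beq a.1 b.1) (Nat.beq a.2 b.2)))) (nodupB2 l)

theorem nodupB2_spec : ∀ l : List (ℕ × ℕ), nodupB2 l = true → l.Nodup
  | [], _ => List.nodup_nil
  | a :: l, h => by
    rw [nodupB2, Bool.and_eq_true, List.all_eq_true] at h
    refine List.nodup_cons.2 ⟨fun ha => ?_, nodupB2_spec l h.2⟩
    have h1 := h.1 a ha
    rw [Nat.beq_refl, Nat.beq_refl] at h1
    exact absurd h1 (by decide)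

end Tr
end Cfsg.Agent.Lib.Helper4
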