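import Cfsg.Agent.Lib.Helper4.LeechGen2
import Cfsg.Agent.Lib.Helper4.LeechCross2

set_option autoImplicit false

namespace Cfsg.Agent.Lib.Helper4
namespace Xi

open Cfsg Cfsg.Agent.Lib.Helper28 Cfsg.Agent.Lib.Helper4.Golay

/-- The tetrad index of each point (a partition into six tetrads). -/
def tauL : List ℕ := [0, 0, 0, 0, 1, 2, 3, 1, 4, 3, 1, 3, 1, 5, 2, 4, 4, 2, 5, 4, 5, 5, 3, 2]

def tau (p : GolayPt) : ℕ := tauL.getD (code p) 0

/-- The sum of the coordinates over the tetrad of `i`. -/
def tsum (x : GolayPt → ℤ) (i : GolayPt) : ℤ := ∑ j, if tau j = tau i then x j else 0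

def sg (i : GolayPt) : ℤ := if tau i = 0 then -1 else 1

theorem tsum_add (a b : GolayPt → ℤ) (i : GolayPt) : tsum (a + b) i = tsum a i + tsum b i := by
  unfold tsum
  rw [← Finset.sum_add_distrib]
  apply Finset.sum_congr rfl
  intro j _
  rw [Pi.add_apply]
  split_ifs <;> simp

/-- Twice the extra automorphism, as an additive map of integer vectors. -/
def E2 : (GolayPt → ℤ) →+ (GolayPt → ℤ) where
  toFun x := fun i => sg i * (2 * x i - tsum x i)
  map_zero' := by
    funext i
    simp [tsum]
  map_add' := by
    intro a b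
    funext i
    rw [Pi.add_apply, tsum_add, Pi.add_apply]
    ring

theorem E2_apply (x : GolayPt → ℤ) (i : GolayPt) : E2 x i = sg i * (2 * x i - tsum x i) := rfl

/-- A certificate for membership in twice the lattice. -/
def inD (w : GolayPt → ℤ) (m : ℤ) (a : ℕ) : Prop :=
  (∀ i, w i % 4 = (2 * m) % 4) ∧ (∀ i, word a i = 1 ↔ (w i - 2 * m) % 8 = 4) ∧
    red basisP a = 0 ∧ (∑ i, w i) % 16 = (8 * m) % 16

instance (w : GolayPt → ℤ) (m : ℤ) (a : ℕ) : Decidable (inD w m a) := by
  unfold inD
  infer_instance

theorem word_mem_of_red {a : ℕ} (h : red basisP a = 0) : word a ∈ golayCode := by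
  rw [golay_eq]
  apply red_sound basisP _ _ basisP_mem
  rw [h, word_zero]
  exact Submodule.zero_mem _

theorem mem_D_of_inD {w : GolayPt → ℤ} {m : ℤ} {a : ℕ} (h : inD w m a) : w ∈ LeechCross.D := by
  obtain ⟨h1, h2, h3, h4⟩ := h
  rw [LeechCross.mem_D]
  refine ⟨fun i => w i / 2, ?_, ?_⟩
  · refine Leech.mem_leech_of_struct _ m (fun i => (w i - 2 * m) / 4) (fun i => ?_) ?_ ?_
    · have := h1 i
      omega
    · have e : zword (fun i => (w i - 2 * m) / 4) = word a := by
        funext i
        have h1i := h1 i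
        rcases z2_cases (word a i) with h0 | h0
        · rw [h0]
          refine (Leech.zword_eq_zero _ i).2 ?_
          have h2i : ¬ (w i - 2 * m) % 8 = 4 := fun hc => by
            have := (h2 i).2 hc
            rw [h0] at this
            exact absurd this (by decide)
          show (2 : ℤ) ∣ (w i - 2 * m) / 4
          omega
        · rw [h0]
          refine (Leech.zword_eq_one _ i).2 ?_
          have h2i := (h2 i).1 h0
          show ¬ (2 : ℤ) ∣ (w i - 2 * m) / 4
          omega
      rw [e]
      exact word_mem_of_red h3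
    · have e : ∑ i, w i = 2 * ∑ i, w i / 2 := by
        rw [Finset.mul_sum]
        apply Finset.sum_congr rfl
        intro i _
        have := h1 i
        omega
      rw [e] at h4
      unfold Int.ModEq
      omega
  · funext i
    rw [Pi.smul_apply, two_nsmul]
    have := h1 i
    omega

set_option maxRecDepth 100000 in
theorem chk_v0 : inD (E2 LeechGen.v0) 1 8241104 := by decide +kernel

set_option maxRecDepth 100000 in
theorem chk_e8 : inD (E2 (LeechGen.e8 none)) 0 0 := by decide +kernel

set_option maxRecDepth 100000 in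
theorem chk_qq : ∀ k : GolayPt, ∃ a ∈ [0, 8536111, 8541360, 9158944, 11952160, 12733024],
    inD (E2 (LeechGen.qq k)) 0 a := by decide +kernel

set_option maxRecDepth 100000 in
theorem chk_oct : ∀ b ∈ basis, ∃ ma ∈ ([(1, 16514578), (0, 4299781), (1, 15723732),
    (1, 10484440), (0, 4196943), (0, 4788761), (0, 4755660), (0, 12604486), (0, 5279),
    (1, 16766657), (0, 12720156), (0, 4346506)] : List (ℤ × ℕ)),
    inD (E2 (LeechGen.oct b)) ma.1 ma.2 := by decide +kernel

/-- The doubled map sends the lattice into twice the lattice. -/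
theorem E2_mem {x : GolayPt → ℤ} (hx : x ∈ leechLattice) : E2 x ∈ LeechCross.D := by
  have h : leechLattice ≤ LeechCross.D.comap E2 := by
    apply LeechGen.gen_le'
    · exact mem_D_of_inD chk_v0
    · intro b hb
      obtain ⟨ma, -, h⟩ := chk_oct b hb
      exact mem_D_of_inD h
    · intro k
      obtain ⟨a, -, h⟩ := chk_qq k
      exact mem_D_of_inD h
    · exact mem_D_of_inD chk_e8
  exact h hx

end Xi
end Cfsg.Agent.Lib.Helper4
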