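import Cfsg.Agent.Lib.Helper4.Xi1

set_option autoImplicit false

namespace Cfsg.Agent.Lib.Helper4
namespace Xi

open Cfsg Cfsg.Agent.Lib.Helper28 Cfsg.Agent.Lib.Helper4.Golay Finset

theorem tau_mem : ∀ i : GolayPt, tau i ∈ Finset.range 6 := by decide

theorem tet_card : ∀ a ∈ Finset.range 6, #(Finset.univ.filter (fun i : GolayPt => tau i = a)) = 4 := by
  decide

theorem sg_sq (i : GolayPt) : sg i ^ 2 = 1 := by
  unfold sg
  split_ifs <;> norm_num

theorem tsum_eq (x : GolayPt → ℤ) (i : GolayPt) :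
    tsum x i = ∑ j ∈ Finset.univ.filter (fun j : GolayPt => tau j = tau i), x j := by
  unfold tsum
  rw [Finset.sum_filter]

/-- The doubled map multiplies sums of squares by four. -/
theorem sqNorm_E2 (x : GolayPt → ℤ) : sqNorm (E2 x) = 4 * sqNorm x := by
  unfold sqNorm
  have h1 : ∀ i, E2 x i ^ 2 = (2 * x i - tsum x i) ^ 2 := by
    intro i
    rw [E2_apply, mul_pow, sg_sq, one_mul]
  rw [Finset.sum_congr rfl (fun i _ => h1 i)]
  rw [← Finset.sum_fiberwise_of_maps_to (fun i _ => tau_mem i) (fun i => (2 * x i - tsum x i) ^ 2),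
    ← Finset.sum_fiberwise_of_maps_to (fun i _ => tau_mem i) (fun i => x i ^ 2), Finset.mul_sum]
  apply Finset.sum_congr rfl
  intro a ha
  have h2 : ∀ i ∈ Finset.univ.filter (fun i : GolayPt => tau i = a),
      (2 * x i - tsum x i) ^ 2 = 4 * x i ^ 2 - 4 * (∑ j ∈ Finset.univ.filter (fun j : GolayPt => tau j = a), x j) * x i +
        (∑ j ∈ Finset.univ.filter (fun j : GolayPt => tau j = a), x j) ^ 2 := by
    intro i hi
    rw [tsum_eq, (Finset.mem_filter.1 hi).2]
    ring
  rw [Finset.sum_congr rfl h2, Finset.sum_add_distrib, Finset.sum_sub_distrib, ← Finset.mul_sum,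
    ← Finset.mul_sum, Finset.sum_const, tet_card a ha]
  simp only [nsmul_eq_mul, Nat.cast_ofNat]
  ring

/-- The extra automorphism on lattice vectors. -/
noncomputable def xiV (v : leechLattice) : leechLattice :=
  ⟨Classical.choose (LeechCross.mem_D.1 (E2_mem v.2)),
    (Classical.choose_spec (LeechCross.mem_D.1 (E2_mem v.2))).1⟩

theorem xiV_spec (v : leechLattice) :
    E2 (v : GolayPt → ℤ) = 2 • ((xiV v : leechLattice) : GolayPt → ℤ) :=
  (Classical.choose_spec (LeechCross.mem_D.1 (E2_mem v.2))).2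

theorem xiV_spec' (v : leechLattice) (i : GolayPt) :
    2 * ((xiV v : leechLattice) : GolayPt → ℤ) i = E2 (v : GolayPt → ℤ) i := by
  rw [xiV_spec v, Pi.smul_apply, two_nsmul]
  ring

/-- Computing the extra automorphism on an explicit vector. -/
theorem xiV_eq (v w : leechLattice)
    (h : ∀ i, E2 (v : GolayPt → ℤ) i = 2 * (w : GolayPt → ℤ) i) : xiV v = w := by
  apply Subtype.ext
  funext i
  have h1 := xiV_spec' v i
  rw [h i] at h1
  omega

theorem xiV_add (v w : leechLattice) : xiV (v + w) = xiV v + xiV w := by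
  apply Subtype.ext
  funext i
  have h1 := xiV_spec' (v + w) i
  have h2 := xiV_spec' v i
  have h3 := xiV_spec' w i
  rw [AddSubgroup.coe_add, map_add, Pi.add_apply] at h1
  rw [AddSubgroup.coe_add, Pi.add_apply]
  omega

theorem xiV_norm (v : leechLattice) :
    sqNorm ((xiV v : leechLattice) : GolayPt → ℤ) = sqNorm (v : GolayPt → ℤ) := by
  have h1 := sqNorm_E2 (v : GolayPt → ℤ)
  rw [xiV_spec v, sqNorm_two_nsmul] at h1
  omega

theorem xiV_inj : Function.Injective xiV := by
  intro v w h
  have h1 : E2 (v : GolayPt → ℤ) = E2 (w : GolayPt → ℤ) := by rw [xiV_spec v, xiV_spec w, h]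
  have h2 : E2 ((v : GolayPt → ℤ) - (w : GolayPt → ℤ)) = 0 := by rw [map_sub, h1, sub_self]
  have h3 := sqNorm_E2 ((v : GolayPt → ℤ) - (w : GolayPt → ℤ))
  rw [h2, LeechCross.sqNorm_zero] at h3
  have h4 : (v : GolayPt → ℤ) - (w : GolayPt → ℤ) = 0 := LeechCross.eq_zero_of_sqNorm (by omega)
  exact Subtype.ext (sub_eq_zero.1 h4)

/-- The extra automorphism as an additive map. -/
noncomputable def xiHom : leechLattice →+ leechLattice := AddMonoidHom.mk' xiV xiV_add

theorem xiV_surj : Function.Surjective xiV := by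
  -- the minimal vectors
  set M : Set leechLattice := {v | sqNorm (v : GolayPt → ℤ) = 32} with hM
  have hfin : M.Finite := by
    have : M = Subtype.val ⁻¹' {x : GolayPt → ℤ | x ∈ leechLattice ∧ sqNorm x = 32} := by
      ext v
      simp only [hM, Set.mem_ofPred_eq, Set.mem_preimage]
      exact ⟨fun h => ⟨v.2, h⟩, fun h => h.2⟩
    rw [this]
    exact Set.Finite.preimage Subtype.val_injective.injOn LeechCross.fin32
  have hsurj := Set.surj_on_of_inj_on_of_ncard_le (s := M) (t := M) (fun v _ => xiV v)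
    (fun v hv => by
      show sqNorm ((xiV v : leechLattice) : GolayPt → ℤ) = 32
      rw [xiV_norm]
      exact hv)
    (fun v w _ _ h => xiV_inj h) le_rfl hfin
  -- the range contains the minimal vectors, hence everything
  have hle : leechLattice ≤ xiHom.range.map leechLattice.subtype := by
    have hcl : AddSubgroup.closure {x : GolayPt → ℤ | x ∈ leechLattice ∧ sqNorm x = 32} ≤
        xiHom.range.map leechLattice.subtype := by
      rw [AddSubgroup.closure_le]
      rintro x ⟨hx, hn⟩
      obtain ⟨v, -, hv⟩ := hsurj ⟨x, hx⟩ hn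
      exact ⟨⟨x, hx⟩, ⟨v, hv.symm⟩, rfl⟩
    intro x hx
    apply hcl
    rw [LeechGen.gen_min]
    exact hx
  intro w
  obtain ⟨r, ⟨v, hv⟩, hr⟩ := hle w.2
  refine ⟨v, ?_⟩
  have : r = w := Subtype.ext hr
  rw [← this]
  exact hv

/-- The extra automorphism as a bijection of the lattice. -/
noncomputable def xiP : Equiv.Perm leechLattice := Equiv.ofBijective xiV ⟨xiV_inj, xiV_surj⟩

theorem xiP_apply (v : leechLattice) : xiP v = xiV v := rfl

theorem xiP_mem : xiP ∈ Co0 := ⟨fun v w => xiV_add v w, fun v => xiV_norm v⟩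

end Xi
end Cfsg.Agent.Lib.Helper4
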